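import Mathlib

/-!
# The disjoint-union atlas of an open cover and closed subschemes of it (helper16)
-/

set_option autoImplicit false

namespace Groth.Agent.Lib.Helper16.AttrAtlas

universe u
open CategoryTheory Limits AlgebraicGeometry

variable {X : Scheme.{u}} (𝒱 : Scheme.OpenCover.{u} X)

/-- The atlas `∐ Xᵢ ⟶ X`. -/
noncomputable abbrev atlas : (∐ 𝒱.X) ⟶ X := Sigma.desc 𝒱.f

instance : Flat (atlas 𝒱) :=
  IsZariskiLocalAtSource.sigmaDesc (P := @Flat) (fun _ => inferInstance)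

instance : Surjective (atlas 𝒱) := by
  refine ⟨fun x => ?_⟩
  obtain ⟨i, y, rfl⟩ := 𝒱.exists_eq x
  refine ⟨Sigma.ι 𝒱.X i y, ?_⟩
  rw [← Scheme.Hom.comp_apply, Sigma.ι_desc]

theorem isOpenMap_atlas : IsOpenMap (atlas 𝒱).base := by
  haveI : UniversallyOpen (atlas 𝒱) :=
    IsZariskiLocalAtSource.sigmaDesc (P := @UniversallyOpen) (fun _ => inferInstance)
  exact (atlas 𝒱).isOpenMap

variable {Z : 𝒱.I₀ → Scheme.{u}} (j : ∀ i, Z i ⟶ 𝒱.X i)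

/-- The disjoint union of the maps `jᵢ`. -/
noncomputable abbrev sigmaMap : (∐ Z) ⟶ (∐ 𝒱.X) := Limits.Sigma.map j

theorem preimage_opensRange (i : 𝒱.I₀) :
    (sigmaMap 𝒱 j) ⁻¹ᵁ (Sigma.ι 𝒱.X i).opensRange = (Sigma.ι Z i).opensRange := by
  ext z
  constructor
  · intro hz
    obtain ⟨k, z', rfl⟩ := (sigmaOpenCover Z).exists_eq z
    change Sigma.ι Z k z' ∈ _
    have h1 : (sigmaMap 𝒱 j) (Sigma.ι Z k z') = Sigma.ι 𝒱.X k (j k z') := by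
      rw [← Scheme.Hom.comp_apply, ← Scheme.Hom.comp_apply, Sigma.ι_map]
    have hz' : (sigmaMap 𝒱 j) (Sigma.ι Z k z') ∈ (Sigma.ι 𝒱.X i).opensRange := hz
    rw [h1] at hz'
    by_cases hki : k = i
    · subst hki
      exact ⟨z', rfl⟩
    · exfalso
      have hd := disjoint_opensRange_sigmaι 𝒱.X k i hki
      have : Sigma.ι 𝒱.X k (j k z') ∈ (Sigma.ι 𝒱.X k).opensRange ⊓ (Sigma.ι 𝒱.X i).opensRange :=
        ⟨⟨_, rfl⟩, hz'⟩
      rw [disjoint_iff.mp hd] at this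
      exact this
  · rintro ⟨z', rfl⟩
    show (sigmaMap 𝒱 j) (Sigma.ι Z i z') ∈ (Sigma.ι 𝒱.X i).opensRange
    rw [← Scheme.Hom.comp_apply, Sigma.ι_map, Scheme.Hom.comp_apply]
    exact ⟨_, rfl⟩

theorem isPullback_sigmaMap (i : 𝒱.I₀) :
    IsPullback (j i) (Sigma.ι Z i) (Sigma.ι 𝒱.X i) (sigmaMap 𝒱 j) :=
  IsOpenImmersion.isPullback (j i) (Sigma.ι Z i) (Sigma.ι 𝒱.X i) (sigmaMap 𝒱 j)
    (Sigma.ι_map _ _) (preimage_opensRange 𝒱 j i)

instance [∀ i, IsClosedImmersion (j i)] : IsClosedImmersion (sigmaMap 𝒱 j) := by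
  rw [IsZariskiLocalAtTarget.iff_of_openCover (P := @IsClosedImmersion) (sigmaOpenCover 𝒱.X)]
  intro i
  let e := (isPullback_sigmaMap 𝒱 j i).flip.isoPullback
  have he : e.hom ≫ pullback.snd (sigmaMap 𝒱 j) (Sigma.ι 𝒱.X i) = j i :=
    (isPullback_sigmaMap 𝒱 j i).flip.isoPullback_hom_snd
  have h2 : pullback.snd (sigmaMap 𝒱 j) (Sigma.ι 𝒱.X i) = e.inv ≫ j i := by
    rw [← he, Iso.inv_hom_id_assoc]
  show IsClosedImmersion (pullback.snd (sigmaMap 𝒱 j) (Sigma.ι 𝒱.X i))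
  rw [h2]
  infer_instance

/-- A map to the atlas factors through the disjoint union of the `Zᵢ` if it does so locally. -/
theorem exists_factor [∀ i, IsClosedImmersion (j i)] {T : Scheme.{u}} (u : T ⟶ ∐ 𝒱.X)
    (z : ∀ i, pullback u (Sigma.ι 𝒱.X i) ⟶ Z i)
    (hz : ∀ i, z i ≫ j i = pullback.snd u (Sigma.ι 𝒱.X i)) :
    ∃ t : T ⟶ ∐ Z, t ≫ sigmaMap 𝒱 j = u := by
  let 𝒲 := (sigmaOpenCover 𝒱.X).pullback₁ u
  have key : ∀ i : 𝒱.I₀, (z i ≫ Sigma.ι Z i) ≫ sigmaMap 𝒱 j =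
      pullback.fst u (Sigma.ι 𝒱.X i) ≫ u := by
    intro i
    rw [Category.assoc, Sigma.ι_map, ← Category.assoc, hz, pullback.condition]
  have hc : ∀ i k : 𝒱.I₀,
      pullback.fst (pullback.fst u (Sigma.ι 𝒱.X i)) (pullback.fst u (Sigma.ι 𝒱.X k)) ≫
        (z i ≫ Sigma.ι Z i) =
      pullback.snd (pullback.fst u (Sigma.ι 𝒱.X i)) (pullback.fst u (Sigma.ι 𝒱.X k)) ≫
        (z k ≫ Sigma.ι Z k) := by
    intro i k
    rw [← cancel_mono (sigmaMap 𝒱 j)]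
    have e1 := key i
    have e2 := key k
    simp only [Category.assoc] at e1 e2 ⊢
    rw [e1, e2]
    exact pullback.condition_assoc _
  refine ⟨Scheme.Cover.glueMorphisms 𝒲 (fun i => z i ≫ Sigma.ι Z i) hc, ?_⟩
  refine Scheme.Cover.hom_ext 𝒲 _ _ ?_
  intro i
  rw [← Category.assoc, Scheme.Cover.ι_glueMorphisms 𝒲]
  exact key i

/-- Conversely, a factorization gives local factorizations. -/
theorem exists_local_factor {T : Scheme.{u}} (u : T ⟶ ∐ 𝒱.X) (t : T ⟶ ∐ Z)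
    (ht : t ≫ sigmaMap 𝒱 j = u) (i : 𝒱.I₀) :
    ∃ z : pullback u (Sigma.ι 𝒱.X i) ⟶ Z i, z ≫ j i = pullback.snd u (Sigma.ι 𝒱.X i) := by
  have hcond : pullback.snd u (Sigma.ι 𝒱.X i) ≫ Sigma.ι 𝒱.X i =
      (pullback.fst u (Sigma.ι 𝒱.X i) ≫ t) ≫ sigmaMap 𝒱 j := by
    rw [Category.assoc, ht, pullback.condition]
  exact ⟨(isPullback_sigmaMap 𝒱 j i).lift _ _ hcond, (isPullback_sigmaMap 𝒱 j i).lift_fst _ _ hcond⟩

end Groth.Agent.Lib.Helper16.AttrAtlas
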