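import Mathlib
import Groth.Prelude.Def_Magnet

/-!
# Equivariant maps out of a monoid `B` under a monoid morphism `π : A ⟶ B` (helper16)

If `π ▷ T` and `A ◁ (π ▷ T)` are epimorphic with respect to maps into `X`, equivariant maps
`B ⊗ T ⟶ X` are the same as points `x : T ⟶ X` whose orbit map `A ⊗ T ⟶ X` extends along
`π ▷ T`.  A monomorphism `j : Z ⟶ X` through which exactly those points factor represents the
functor of equivariant maps.
-/

set_option autoImplicit false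

namespace Groth.Agent.Lib.Helper16.ExtCat

universe v₁ u₁
open CategoryTheory Limits MonoidalCategory CartesianMonoidalCategory MonObj Opposite Magnet

variable {C : Type u₁} [Category.{v₁} C] [CartesianMonoidalCategory C] {A B X : C} [MonObj A]
  [MonObj B] (π : A ⟶ B) [IsMonHom π] (a : MonAct A X)

/-- the orbit map of `x` extends along `π` -/
def Ext {T : C} (x : T ⟶ X) : Prop :=
  ∃ φ : B ⊗ T ⟶ X, (π ▷ T) ≫ φ = (A ◁ x) ≫ a.act

theorem Ext.comp {T T' : C} {x : T ⟶ X} (h : Ext π a x) (t : T' ⟶ T) : Ext π a (t ≫ x) := by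
  obtain ⟨φ, hφ⟩ := h
  refine ⟨(B ◁ t) ≫ φ, ?_⟩
  rw [← whisker_exchange_assoc, hφ, MonoidalCategory.whiskerLeft_comp, Category.assoc]

theorem orbit_eq {T : C} (φ : B ⊗ T ⟶ X)
    (hφ : MonAct.IsEquivariant (((MonAct.regular B).restrict π).prod (MonAct.trivial A T)) a φ) :
    (π ▷ T) ≫ φ = (A ◁ (lift (toUnit T ≫ η[B]) (𝟙 T) ≫ φ)) ≫ a.act := by
  rw [MonAct.mem_eqvHom_iff] at hφ
  apply hom_ext_lift₂
  intro T' g t
  have h1 := hφ T' g (1 : T' ⟶ B) t
  have h2 : lift g (1 : T' ⟶ B) ≫ ((MonAct.regular B).restrict π).act = g ≫ π := by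
    rw [MonAct.lift_restrict_act, MonAct.lift_regular_act, _root_.mul_one]
  rw [h2] at h1
  rw [lift_whiskerRight_assoc, h1, lift_whiskerLeft_assoc]
  congr 2
  rw [← Category.assoc]
  congr 1
  apply CartesianMonoidalCategory.hom_ext
  · rw [lift_fst, Category.assoc, lift_fst, Hom.one_def, ← Category.assoc]
    congr 1
    exact toUnit_unique _ _
  · rw [lift_snd, Category.assoc, lift_snd, Category.comp_id]

theorem equivariant_of_orbit {T : C}
    (hepi2 : ∀ (ψ₁ ψ₂ : A ⊗ (B ⊗ T) ⟶ X),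
      (A ◁ (π ▷ T)) ≫ ψ₁ = (A ◁ (π ▷ T)) ≫ ψ₂ → ψ₁ = ψ₂)
    (x : T ⟶ X) (φ : B ⊗ T ⟶ X) (hφ : (π ▷ T) ≫ φ = (A ◁ x) ≫ a.act) :
    MonAct.IsEquivariant (((MonAct.regular B).restrict π).prod (MonAct.trivial A T)) a φ := by
  unfold MonAct.IsEquivariant
  apply hepi2
  apply hom_ext_lift₂
  intro T' g z
  have hz : z = lift (z ≫ fst A T) (z ≫ snd A T) := (lift_comp_fst_snd z).symm
  set h := z ≫ fst A T
  set t := z ≫ snd A T
  have e0 : z ≫ (π ▷ T) = lift (h ≫ π) t := by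
    rw [hz, lift_whiskerRight]
  have e1 : lift g z ≫ (A ◁ (π ▷ T)) = lift g (lift (h ≫ π) t) := by
    rw [lift_whiskerLeft, e0]
  have e3 : lift (g * h) t ≫ (π ▷ T) ≫ φ = lift (g * h) (t ≫ x) ≫ a.act := by
    rw [hφ, lift_whiskerLeft_assoc]
  rw [reassoc_of% e1, reassoc_of% e1, MonAct.lift_prod_act_assoc, MonAct.lift_trivial_act,
    MonAct.lift_restrict_act, MonAct.lift_regular_act, ← MonObj.mul_comp]
  rw [lift_whiskerLeft_assoc]
  have e4 : lift (h ≫ π) t ≫ φ = lift h (t ≫ x) ≫ a.act := by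
    have : lift (h ≫ π) t = lift h t ≫ (π ▷ T) := by rw [lift_whiskerRight]
    rw [this, Category.assoc, hφ, lift_whiskerLeft_assoc]
  rw [e4, ← MonAct.lift_mul_act, ← e3, lift_whiskerRight_assoc]

theorem eval_eq {T : C} (x : T ⟶ X) (φ : B ⊗ T ⟶ X) (hφ : (π ▷ T) ≫ φ = (A ◁ x) ≫ a.act) :
    lift (toUnit T ≫ η[B]) (𝟙 T) ≫ φ = x := by
  have h1 : lift (toUnit T ≫ η[B]) (𝟙 T) = lift (1 : T ⟶ A) (𝟙 T) ≫ (π ▷ T) := by
    rw [lift_whiskerRight, MonObj.one_comp, Hom.one_def]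
  rw [h1, Category.assoc, hφ, lift_whiskerLeft_assoc, Category.id_comp, MonAct.lift_one_act]

/-- A monomorphism through which exactly the extendable points factor represents the functor
of equivariant maps. -/
theorem exists_representableBy {Z : C} (j : Z ⟶ X) [Mono j]
    (hepi : ∀ (T : C) (φ₁ φ₂ : B ⊗ T ⟶ X), (π ▷ T) ≫ φ₁ = (π ▷ T) ≫ φ₂ → φ₁ = φ₂)
    (hepi2 : ∀ (T : C) (ψ₁ ψ₂ : A ⊗ (B ⊗ T) ⟶ X),
      (A ◁ (π ▷ T)) ≫ ψ₁ = (A ◁ (π ▷ T)) ≫ ψ₂ → ψ₁ = ψ₂)
    (h : ∀ {T : C} (x : T ⟶ X), Ext π a x ↔ ∃ z : T ⟶ Z, z ≫ j = x) :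
    ∃ e : (MonAct.eqvHom ((MonAct.regular B).restrict π) a).RepresentableBy Z,
      ∀ (T : C) (z : T ⟶ Z),
        (MonAct.eqvHom.evalAt ((MonAct.regular B).restrict π) a η[B]).app (op T)
          (e.homEquiv z) = z ≫ j := by
  have hext : ∀ {T : C} (z : T ⟶ Z), Ext π a (z ≫ j) := fun z => (h _).2 ⟨z, rfl⟩
  have hfac : ∀ {T : C} (φ : (MonAct.eqvHom ((MonAct.regular B).restrict π) a).obj (op T)),
      ∃ z : T ⟶ Z, z ≫ j = lift (toUnit T ≫ η[B]) (𝟙 T) ≫ φ.1 := fun φ =>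
    (h _).1 ⟨φ.1, orbit_eq π a φ.1 φ.2⟩
  refine ⟨{
    homEquiv := fun {T} =>
      { toFun := fun z => ⟨(hext z).choose,
          equivariant_of_orbit π a (hepi2 T) (z ≫ j) _ (hext z).choose_spec⟩
        invFun := fun φ => (hfac φ).choose
        left_inv := fun z => by
          have h1 := (hfac ⟨(hext z).choose,
            equivariant_of_orbit π a (hepi2 T) (z ≫ j) _ (hext z).choose_spec⟩).choose_spec
          exact (cancel_mono j).1 (h1.trans (eval_eq π a (z ≫ j) _ (hext z).choose_spec))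
        right_inv := fun φ => by
          apply Subtype.ext
          apply hepi T
          rw [(hext (hfac φ).choose).choose_spec, (hfac φ).choose_spec]
          exact (orbit_eq π a φ.1 φ.2).symm }
    homEquiv_comp := fun {T T'} t z => by
      apply Subtype.ext
      apply hepi T
      show (π ▷ T) ≫ (hext (t ≫ z)).choose = (π ▷ T) ≫ (B ◁ t) ≫ (hext z).choose
      rw [(hext (t ≫ z)).choose_spec, ← whisker_exchange_assoc, (hext z).choose_spec,
        Category.assoc, MonoidalCategory.whiskerLeft_comp, Category.assoc] }, ?_⟩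
  intro T z
  exact eval_eq π a (z ≫ j) _ (hext z).choose_spec

end Groth.Agent.Lib.Helper16.ExtCat
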