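import Mathlib
import Groth.Prelude.Def_Magnet2
import Groth.Agent.Lib.Helper16.ExtCat

/-!
# Zariski locality for maps out of `G ⊗ T` in `Over S` (helper16)

For an open cover `𝒲` of `T.left`, the objects `G ⊗ Tᵢ` cover `G ⊗ T`: maps out of `G ⊗ T` are
determined on, and can be glued from, the `G ⊗ Tᵢ`.  As an application the property that the orbit
map of a point extends along a monoid morphism is Zariski local.
-/

set_option autoImplicit false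

namespace Groth.Agent.Lib.Helper16.AttrCover

universe u
open CategoryTheory Limits MonoidalCategory CartesianMonoidalCategory AlgebraicGeometry MonObj
open Magnet Groth.Agent.Lib.Helper16.ExtCat

variable {S : Scheme.{u}}

/-- The member `Tᵢ` of an open cover of `T`, as an object over `S`. -/
abbrev res (T : Over S) (𝒲 : T.left.OpenCover) (i : 𝒲.I₀) : Over S := Over.mk (𝒲.f i ≫ T.hom)

/-- The inclusion `Tᵢ ⟶ T`. -/
abbrev resι (T : Over S) (𝒲 : T.left.OpenCover) (i : 𝒲.I₀) : res T 𝒲 i ⟶ T :=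
  Over.homMk (𝒲.f i) rfl

theorem openCoverOfRight_f (G T : Over S) (𝒲 : T.left.OpenCover) (i : 𝒲.I₀) :
    (Scheme.Pullback.openCoverOfRight 𝒲 G.hom T.hom).f i = (G ◁ resι T 𝒲 i).left := by
  apply pullback.hom_ext
  · have h3 : (G ◁ resι T 𝒲 i).left ≫ pullback.fst G.hom T.hom =
        pullback.fst G.hom (res T 𝒲 i).hom :=
      congrArg (fun m => m.left) (whiskerLeft_fst G (resι T 𝒲 i))
    refine Eq.trans ?_ h3.symm
    exact (pullback.lift_fst _ _ _).trans (Category.comp_id _)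
  · have h3 : (G ◁ resι T 𝒲 i).left ≫ pullback.snd G.hom T.hom =
        pullback.snd G.hom (res T 𝒲 i).hom ≫ (resι T 𝒲 i).left :=
      congrArg (fun m => m.left) (whiskerLeft_snd G (resι T 𝒲 i))
    refine Eq.trans ?_ h3.symm
    exact pullback.lift_snd _ _ _

/-- The open cover of `G ⊗ T` by the `G ⊗ Tᵢ`. -/
noncomputable def cov (G T : Over S) (𝒲 : T.left.OpenCover) : (G ⊗ T).left.OpenCover :=
  Scheme.Cover.copy (Scheme.Pullback.openCoverOfRight 𝒲 G.hom T.hom) 𝒲.I₀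
    (fun i => (G ⊗ res T 𝒲 i).left) (fun i => (G ◁ resι T 𝒲 i).left) (Equiv.refl _)
    (fun _ => Iso.refl _) (fun i => by
      rw [← openCoverOfRight_f]
      exact (Category.id_comp _).symm)

/-- Gluing morphisms over a base. -/
theorem glue_over {Y X B : Scheme.{u}} (𝒰 : Y.OpenCover) (p : Y ⟶ B) (q : X ⟶ B)
    (f : ∀ i, 𝒰.X i ⟶ X)
    (hc : ∀ i j, pullback.fst (𝒰.f i) (𝒰.f j) ≫ f i = pullback.snd (𝒰.f i) (𝒰.f j) ≫ f j)
    (hq : ∀ i, f i ≫ q = 𝒰.f i ≫ p) :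
    ∃ Φ : Y ⟶ X, Φ ≫ q = p ∧ ∀ i, 𝒰.f i ≫ Φ = f i := by
  refine ⟨𝒰.glueMorphisms f hc, ?_, fun i => 𝒰.ι_glueMorphisms f hc i⟩
  refine Scheme.Cover.hom_ext 𝒰 _ _ ?_
  intro i
  rw [← Category.assoc, 𝒰.ι_glueMorphisms f hc i, hq]

/-- Maps out of `G ⊗ T` are determined on the `G ⊗ Tᵢ`. -/
theorem hom_ext_cover (G T : Over S) (𝒲 : T.left.OpenCover) {X : Over S} (f₁ f₂ : G ⊗ T ⟶ X)
    (h : ∀ i, (G ◁ resι T 𝒲 i) ≫ f₁ = (G ◁ resι T 𝒲 i) ≫ f₂) : f₁ = f₂ := by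
  apply Over.OverMorphism.ext
  refine Scheme.Cover.hom_ext (cov G T 𝒲) _ _ ?_
  intro (i : 𝒲.I₀)
  exact congrArg (fun m => m.left) (h i)

/-- Maps out of the `G ⊗ Tᵢ` which agree on overlaps glue. -/
theorem exists_glue (G T : Over S) (𝒲 : T.left.OpenCover) {X : Over S}
    (φ : ∀ i, G ⊗ res T 𝒲 i ⟶ X)
    (hcompat : ∀ (i j : 𝒲.I₀) (W : Over S) (g₁ : W ⟶ G ⊗ res T 𝒲 i) (g₂ : W ⟶ G ⊗ res T 𝒲 j),
      g₁ ≫ (G ◁ resι T 𝒲 i) = g₂ ≫ (G ◁ resι T 𝒲 j) → g₁ ≫ φ i = g₂ ≫ φ j) :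
    ∃ Φ : G ⊗ T ⟶ X, ∀ i, (G ◁ resι T 𝒲 i) ≫ Φ = φ i := by
  have hc : ∀ i j : 𝒲.I₀,
      pullback.fst (G ◁ resι T 𝒲 i).left (G ◁ resι T 𝒲 j).left ≫ (φ i).left =
      pullback.snd (G ◁ resι T 𝒲 i).left (G ◁ resι T 𝒲 j).left ≫ (φ j).left := by
    intro i j
    let W : Over S := Over.mk (pullback.fst (G ◁ resι T 𝒲 i).left (G ◁ resι T 𝒲 j).left ≫
      (G ⊗ res T 𝒲 i).hom)
    let g₁ : W ⟶ G ⊗ res T 𝒲 i :=
      Over.homMk (pullback.fst (G ◁ resι T 𝒲 i).left (G ◁ resι T 𝒲 j).left) rfl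
    have hw : pullback.snd (G ◁ resι T 𝒲 i).left (G ◁ resι T 𝒲 j).left ≫
        (G ⊗ res T 𝒲 j).hom =
        pullback.fst (G ◁ resι T 𝒲 i).left (G ◁ resι T 𝒲 j).left ≫ (G ⊗ res T 𝒲 i).hom := by
      rw [← Over.w (G ◁ resι T 𝒲 j), ← Over.w (G ◁ resι T 𝒲 i),
        ← Category.assoc, ← Category.assoc, pullback.condition]
    let g₂ : W ⟶ G ⊗ res T 𝒲 j :=
      Over.homMk (pullback.snd (G ◁ resι T 𝒲 i).left (G ◁ resι T 𝒲 j).left) hw
    have h12 : g₁ ≫ (G ◁ resι T 𝒲 i) = g₂ ≫ (G ◁ resι T 𝒲 j) := by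
      apply Over.OverMorphism.ext
      exact pullback.condition
    exact congrArg (fun m => m.left) (hcompat i j W g₁ g₂ h12)
  obtain ⟨Φ₀, hw, hΦ₀⟩ := glue_over (cov G T 𝒲) (G ⊗ T).hom X.hom (fun i => (φ i).left) hc
    (fun i => by
      show (φ i).left ≫ X.hom = (G ◁ resι T 𝒲 i).left ≫ (G ⊗ T).hom
      rw [Over.w, Over.w])
  refine ⟨Over.homMk Φ₀ hw, fun i => ?_⟩
  apply Over.OverMorphism.ext
  exact hΦ₀ i

section Ext

variable {A B X : Over S} [MonObj A] [MonObj B] (π : A ⟶ B) [IsMonHom π] (a : MonAct A X)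

/-- The extension property of orbit maps is Zariski local on the source of the point. -/
theorem ext_of_cover
    (hepi : ∀ (T : Over S) (φ₁ φ₂ : B ⊗ T ⟶ X), (π ▷ T) ≫ φ₁ = (π ▷ T) ≫ φ₂ → φ₁ = φ₂)
    {T : Over S} (𝒲 : T.left.OpenCover) (x : T ⟶ X)
    (h : ∀ i, Ext π a (resι T 𝒲 i ≫ x)) : Ext π a x := by
  choose φ hφ using h
  have hcompat : ∀ (i j : 𝒲.I₀) (W : Over S) (g₁ : W ⟶ B ⊗ res T 𝒲 i)
      (g₂ : W ⟶ B ⊗ res T 𝒲 j),
      g₁ ≫ (B ◁ resι T 𝒲 i) = g₂ ≫ (B ◁ resι T 𝒲 j) → g₁ ≫ φ i = g₂ ≫ φ j := by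
    intro i j W g₁ g₂ h12
    have hb : g₁ ≫ fst B (res T 𝒲 i) = g₂ ≫ fst B (res T 𝒲 j) := by
      have := congrArg (fun m => m ≫ fst B T) h12
      simpa only [Category.assoc, whiskerLeft_fst] using this
    have ht : (g₁ ≫ snd B (res T 𝒲 i)) ≫ resι T 𝒲 i =
        (g₂ ≫ snd B (res T 𝒲 j)) ≫ resι T 𝒲 j := by
      have := congrArg (fun m => m ≫ snd B T) h12
      simpa only [Category.assoc, whiskerLeft_snd] using this
    set b := g₁ ≫ fst B (res T 𝒲 i) with hbdef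
    set ti := g₁ ≫ snd B (res T 𝒲 i) with htidef
    set tj := g₂ ≫ snd B (res T 𝒲 j) with htjdef
    have e1 : g₁ = lift b (𝟙 W) ≫ (B ◁ ti) := by
      rw [lift_whiskerLeft, Category.id_comp]
      exact (lift_comp_fst_snd g₁).symm
    have e2 : g₂ = lift b (𝟙 W) ≫ (B ◁ tj) := by
      rw [lift_whiskerLeft, Category.id_comp, hb]
      exact (lift_comp_fst_snd g₂).symm
    have e3 : (B ◁ ti) ≫ φ i = (B ◁ tj) ≫ φ j := by
      apply hepi W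
      rw [← whisker_exchange_assoc, ← whisker_exchange_assoc, hφ, hφ,
        ← MonoidalCategory.whiskerLeft_comp_assoc, ← MonoidalCategory.whiskerLeft_comp_assoc,
        ← Category.assoc, ← Category.assoc, ht]
    rw [e1, e2, Category.assoc, Category.assoc, e3]
  obtain ⟨Φ, hΦ⟩ := exists_glue B T 𝒲 φ hcompat
  refine ⟨Φ, ?_⟩
  apply hom_ext_cover A T 𝒲
  intro i
  rw [whisker_exchange_assoc, hΦ, hφ, MonoidalCategory.whiskerLeft_comp, Category.assoc]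

end Ext

section Swap

universe v₁ u₁

variable {C : Type u₁} [Category.{v₁} C] [CartesianMonoidalCategory C]

/-- swap the first two factors of a triple product -/
def sw (P Q R : C) : P ⊗ (Q ⊗ R) ⟶ Q ⊗ (P ⊗ R) :=
  lift (snd _ _ ≫ fst _ _) (lift (fst _ _) (snd _ _ ≫ snd _ _))

theorem sw_sw (P Q R : C) : sw P Q R ≫ sw Q P R = 𝟙 _ := by
  apply CartesianMonoidalCategory.hom_ext
  · simp [sw]
  · apply CartesianMonoidalCategory.hom_ext <;> simp [sw]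

theorem whiskerRight_sw {A B : C} (π : A ⟶ B) (P T : C) :
    (π ▷ (P ⊗ T)) ≫ sw B P T = sw A P T ≫ (P ◁ (π ▷ T)) := by
  apply CartesianMonoidalCategory.hom_ext
  · simp [sw]
  · apply CartesianMonoidalCategory.hom_ext <;> simp [sw]

theorem hepi2_of_hepi {A B X : C} (π : A ⟶ B)
    (hepi : ∀ (T : C) (φ₁ φ₂ : B ⊗ T ⟶ X), (π ▷ T) ≫ φ₁ = (π ▷ T) ≫ φ₂ → φ₁ = φ₂)
    (T : C) (ψ₁ ψ₂ : A ⊗ (B ⊗ T) ⟶ X)
    (h : (A ◁ (π ▷ T)) ≫ ψ₁ = (A ◁ (π ▷ T)) ≫ ψ₂) : ψ₁ = ψ₂ := by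
  have h1 : sw B A T ≫ ψ₁ = sw B A T ≫ ψ₂ := by
    apply hepi (A ⊗ T)
    rw [← Category.assoc, ← Category.assoc, whiskerRight_sw, Category.assoc, Category.assoc, h]
  have h2 := congrArg (fun m => sw A B T ≫ m) h1
  simpa only [← Category.assoc, sw_sw, Category.id_comp] using h2

end Swap

end Groth.Agent.Lib.Helper16.AttrCover
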