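import Mathlib

/-!
# The pullback of an ideal sheaf on affine opens (helper16)

* `appLE_specMap_fromSpec`: sections of `Spec.map ψ ≫ hU.fromSpec` over `U`.
* `ideal_comap_of_le`: for `f : Y ⟶ X`, an ideal sheaf `𝓘` on `X`, affine opens `V ⊆ X` and
  `U₀ ⊆ f⁻¹ V`, `(𝓘.comap f)(U₀) = 𝓘(V) · Γ(Y, U₀)`.
-/

set_option autoImplicit false

namespace Groth.Agent.Lib.Helper16.ClosedDescentComap

universe u
open CategoryTheory Limits AlgebraicGeometry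

/-- The sections over `U` of a morphism `Spec R ⟶ Y` factoring through the affine open `U`. -/
theorem appLE_specMap_fromSpec {Y : Scheme.{u}} {U : Y.Opens} (hU : IsAffineOpen U)
    {R : CommRingCat.{u}} (ψ : Γ(Y, U) ⟶ R)
    (e : (⊤ : (Spec R).Opens) ≤ (Spec.map ψ ≫ hU.fromSpec) ⁻¹ᵁ U) :
    (Spec.map ψ ≫ hU.fromSpec).appLE U ⊤ e = ψ ≫ (Scheme.ΓSpecIso R).inv := by
  apply Spec.map_injective
  rw [← cancel_mono hU.fromSpec]
  rw [IsAffineOpen.SpecMap_appLE_fromSpec (Spec.map ψ ≫ hU.fromSpec) hU (isAffineOpen_top _) e]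
  rw [IsAffineOpen.fromSpec_top, Scheme.isoSpec_Spec_inv, Spec.map_comp, Category.assoc]

/-- The kernel of the sections over `U` of `Spec.map ψ ≫ hU.fromSpec` is contained in `ker ψ`. -/
theorem ker_app_specMap_fromSpec_le {Y : Scheme.{u}} {U : Y.Opens} (hU : IsAffineOpen U)
    {R : CommRingCat.{u}} (ψ : Γ(Y, U) ⟶ R) :
    RingHom.ker ((Spec.map ψ ≫ hU.fromSpec).app U).hom ≤ RingHom.ker ψ.hom := by
  intro b hb
  have e : (⊤ : (Spec R).Opens) ≤ (Spec.map ψ ≫ hU.fromSpec) ⁻¹ᵁ U := by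
    rw [Scheme.Hom.comp_preimage, hU.fromSpec_preimage_self]
    exact le_rfl
  have h1 := appLE_specMap_fromSpec hU ψ e
  have h2 : ((Spec.map ψ ≫ hU.fromSpec).appLE U ⊤ e).hom b = 0 := by
    rw [Scheme.Hom.appLE, CommRingCat.hom_comp, RingHom.comp_apply]
    rw [RingHom.mem_ker] at hb
    rw [hb, map_zero]
  rw [h1, CommRingCat.hom_comp, RingHom.comp_apply] at h2
  rw [RingHom.mem_ker]
  have hinj : Function.Injective (Scheme.ΓSpecIso R).inv.hom :=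
    (ConcreteCategory.bijective_of_isIso (Scheme.ΓSpecIso R).inv).1
  exact hinj (by rw [h2, map_zero])

/-- One inclusion: `𝓘(V) · Γ(Y, U₀) ≤ (𝓘.comap f)(U₀)`. -/
theorem map_ideal_le_ideal_comap {X Y : Scheme.{u}} (f : Y ⟶ X) (𝓘 : X.IdealSheafData)
    (V : X.affineOpens) (U₀ : Y.affineOpens) (h : U₀.1 ≤ f ⁻¹ᵁ V.1) :
    (𝓘.ideal V).map (f.appLE V.1 U₀.1 h).hom ≤ (𝓘.comap f).ideal U₀ := by
  rw [Ideal.map_le_iff_le_comap]
  intro a ha
  set K := 𝓘.comap f with hK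
  rw [Ideal.mem_comap, ← K.ker_subschemeι_app U₀, RingHom.mem_ker]
  have h1 : 𝓘 ≤ K.map f := 𝓘.le_map_comap f
  have h2 : a ∈ RingHom.ker ((K.subschemeι ≫ f).app V.1).hom :=
    Scheme.Hom.ideal_ker_le (K.subschemeι ≫ f) V (h1 V ha)
  rw [RingHom.mem_ker] at h2
  have h3 : f.appLE V.1 U₀.1 h ≫ K.subschemeι.app U₀.1 =
      (K.subschemeι ≫ f).app V.1 ≫ K.subscheme.presheaf.map
        (homOfLE (show K.subschemeι ⁻¹ᵁ U₀.1 ≤ (K.subschemeι ≫ f) ⁻¹ᵁ V.1 from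
          fun x hx => h hx)).op := by
    rw [Scheme.Hom.app_eq_appLE, Scheme.Hom.appLE_comp_appLE, Scheme.Hom.app_eq_appLE,
      Scheme.Hom.appLE_map]
  have h4 := congrArg (fun m => m.hom a) h3
  simp only [CommRingCat.hom_comp, RingHom.comp_apply] at h4
  rw [h4, h2, map_zero]

/-- The other inclusion: `(𝓘.comap f)(U₀) ≤ 𝓘(V) · Γ(Y, U₀)`. -/
theorem ideal_comap_le_map_ideal {X Y : Scheme.{u}} (f : Y ⟶ X) (𝓘 : X.IdealSheafData)
    (V : X.affineOpens) (U₀ : Y.affineOpens) (h : U₀.1 ≤ f ⁻¹ᵁ V.1) :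
    (𝓘.comap f).ideal U₀ ≤ (𝓘.ideal V).map (f.appLE V.1 U₀.1 h).hom := by
  set φ := (f.appLE V.1 U₀.1 h).hom with hφ
  set J₀ := (𝓘.ideal V).map φ with hJ₀
  let q : Γ(Y, U₀.1) ⟶ CommRingCat.of (Γ(Y, U₀.1) ⧸ J₀) :=
    CommRingCat.ofHom (Ideal.Quotient.mk J₀)
  have hU₀ : IsAffineOpen U₀.1 := U₀.2
  have hV : IsAffineOpen V.1 := V.2
  let h₀ : Spec (CommRingCat.of (Γ(Y, U₀.1) ⧸ J₀)) ⟶ Y := Spec.map q ≫ hU₀.fromSpec
  -- `𝓘.comap f ≤ h₀.ker`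
  have hle : 𝓘.comap f ≤ h₀.ker := by
    rw [← Scheme.IdealSheafData.le_map_iff_comap_le, Scheme.IdealSheafData.map_ker]
    let qV : Γ(X, V.1) ⟶ CommRingCat.of (Γ(X, V.1) ⧸ 𝓘.ideal V) :=
      CommRingCat.ofHom (Ideal.Quotient.mk (𝓘.ideal V))
    let qm : CommRingCat.of (Γ(X, V.1) ⧸ 𝓘.ideal V) ⟶ CommRingCat.of (Γ(Y, U₀.1) ⧸ J₀) :=
      CommRingCat.ofHom (Ideal.quotientMap J₀ φ Ideal.le_comap_map)
    have hq : f.appLE V.1 U₀.1 h ≫ q = qV ≫ qm := by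
      ext a
      simp [q, qV, qm, φ]
    have hfac : h₀ ≫ f = (Spec.map qm ≫ 𝓘.subschemeCover.f V) ≫ 𝓘.subschemeι := by
      have e1 : 𝓘.subschemeCover.f V ≫ 𝓘.subschemeι = Spec.map qV ≫ hV.fromSpec := by
        rw [Scheme.IdealSheafData.subschemeCover_map_subschemeι,
          Scheme.IdealSheafData.glueDataObjι_ι]
      have e2 : Spec.map (f.appLE V.1 U₀.1 h) ≫ hV.fromSpec = hU₀.fromSpec ≫ f :=
        IsAffineOpen.SpecMap_appLE_fromSpec f hV hU₀ h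
      calc h₀ ≫ f = Spec.map q ≫ (hU₀.fromSpec ≫ f) := Category.assoc _ _ _
        _ = Spec.map q ≫ (Spec.map (f.appLE V.1 U₀.1 h) ≫ hV.fromSpec) := by rw [e2]
        _ = Spec.map (f.appLE V.1 U₀.1 h ≫ q) ≫ hV.fromSpec := by
            rw [Spec.map_comp, Category.assoc]
        _ = Spec.map (qV ≫ qm) ≫ hV.fromSpec := by rw [hq]
        _ = Spec.map qm ≫ (Spec.map qV ≫ hV.fromSpec) := by
            rw [Spec.map_comp, Category.assoc]
        _ = Spec.map qm ≫ (𝓘.subschemeCover.f V ≫ 𝓘.subschemeι) :=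
            congrArg (fun m => Spec.map qm ≫ m) e1.symm
        _ = _ := (Category.assoc _ _ _).symm
    rw [hfac]
    calc 𝓘 = 𝓘.subschemeι.ker := 𝓘.ker_subschemeι.symm
      _ ≤ _ := Scheme.Hom.le_ker_comp _ _
  refine (hle U₀).trans ?_
  refine (Scheme.Hom.ideal_ker_le h₀ U₀).trans ?_
  refine (ker_app_specMap_fromSpec_le hU₀ q).trans ?_
  intro b hb
  rw [RingHom.mem_ker] at hb
  exact Ideal.Quotient.eq_zero_iff_mem.mp hb

/-- The pullback of an ideal sheaf on affine opens. -/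
theorem ideal_comap_of_le {X Y : Scheme.{u}} (f : Y ⟶ X) (𝓘 : X.IdealSheafData)
    (V : X.affineOpens) (U₀ : Y.affineOpens) (h : U₀.1 ≤ f ⁻¹ᵁ V.1) :
    (𝓘.comap f).ideal U₀ = (𝓘.ideal V).map (f.appLE V.1 U₀.1 h).hom :=
  le_antisymm (ideal_comap_le_map_ideal f 𝓘 V U₀ h) (map_ideal_le_ideal_comap f 𝓘 V U₀ h)

end Groth.Agent.Lib.Helper16.ClosedDescentComap
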