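import Mathlib
import Groth.Agent.Lib.Helper16.ClosedDescentAlg
import Groth.Agent.Lib.Helper16.ClosedDescentComap

/-!
# Effective descent of closed subschemes along flat, open, surjective morphisms (helper16)

Let `f : U ⟶ X` be a flat surjective morphism of schemes whose underlying map is open (e.g. an
fppf or étale covering), and `I'` an ideal sheaf on `U` whose two pullbacks to `U ×[X] U` agree.
Then `I'` is the pullback of a (unique) ideal sheaf on `X` (`exists_comap_eq`).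
-/

set_option autoImplicit false

namespace Groth.Agent.Lib.Helper16.ClosedDescent

universe u
open CategoryTheory Limits AlgebraicGeometry
open Groth.Agent.Lib.Helper16.ClosedDescentAlg Groth.Agent.Lib.Helper16.ClosedDescentComap

variable {U X : Scheme.{u}} (f : U ⟶ X) (I' : U.IdealSheafData)

/-- The descent condition: the two pullbacks of `I'` to `U ×[X] U` agree. -/
def Desc : Prop := I'.comap (pullback.fst f f) = I'.comap (pullback.snd f f)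

variable {f I'}

/-- Under the descent condition, the pullbacks of `I'` along two maps equalized by `f` agree. -/
theorem Desc.comap_eq (hd : Desc f I') {P : Scheme.{u}} (r₁ r₂ : P ⟶ U)
    (h : r₁ ≫ f = r₂ ≫ f) : I'.comap r₁ = I'.comap r₂ := by
  have e1 : r₁ = pullback.lift r₁ r₂ h ≫ pullback.fst f f := (pullback.lift_fst _ _ _).symm
  have e2 : r₂ = pullback.lift r₁ r₂ h ≫ pullback.snd f f := (pullback.lift_snd _ _ _).symm
  calc I'.comap r₁ = I'.comap (pullback.lift r₁ r₂ h ≫ pullback.fst f f) := by rw [← e1]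
    _ = (I'.comap (pullback.fst f f)).comap (pullback.lift r₁ r₂ h) :=
        Scheme.IdealSheafData.comap_comp _ _ _
    _ = (I'.comap (pullback.snd f f)).comap (pullback.lift r₁ r₂ h) := by rw [hd]
    _ = I'.comap (pullback.lift r₁ r₂ h ≫ pullback.snd f f) :=
        (Scheme.IdealSheafData.comap_comp _ _ _).symm
    _ = I'.comap r₂ := by rw [← e2]

/-- Ring-level form of `Desc.comap_eq` on affine opens. -/
theorem Desc.map_ideal_eq (hd : Desc f I') {P : Scheme.{u}} (r₁ r₂ : P ⟶ U)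
    (h : r₁ ≫ f = r₂ ≫ f) (P₀ : P.affineOpens) (U₁ U₂ : U.affineOpens)
    (h₁ : P₀.1 ≤ r₁ ⁻¹ᵁ U₁.1) (h₂ : P₀.1 ≤ r₂ ⁻¹ᵁ U₂.1) :
    (I'.ideal U₁).map (r₁.appLE U₁.1 P₀.1 h₁).hom =
      (I'.ideal U₂).map (r₂.appLE U₂.1 P₀.1 h₂).hom := by
  rw [← ideal_comap_of_le r₁ I' U₁ P₀ h₁, ← ideal_comap_of_le r₂ I' U₂ P₀ h₂,
    hd.comap_eq r₁ r₂ h]

/-- `appLE` only depends on the morphism up to equality. -/
theorem appLE_congr_hom {Y Z : Scheme.{u}} {g₁ g₂ : Y ⟶ Z} (h : g₁ = g₂) (V : Z.Opens)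
    (W : Y.Opens) (e₁ : W ≤ g₁ ⁻¹ᵁ V) (e₂ : W ≤ g₂ ⁻¹ᵁ V) :
    g₁.appLE V W e₁ = g₂.appLE V W e₂ := by
  subst h; rfl

/-- Key lemma: a section `a` over an affine open `V ⊆ X` whose pullbacks to a family of affine
opens of `U` covering `V` lie in `I'`, has all its pullbacks to affine opens over `V` in `I'`. -/
theorem mem_ideal_of_cover [Flat f] (hd : Desc f I') (V : X.affineOpens) (a : Γ(X, V.1))
    (hcov : ∀ x ∈ V.1, ∃ (U₁ : U.affineOpens) (h₁ : U₁.1 ≤ f ⁻¹ᵁ V.1),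
      (∃ u ∈ U₁.1, f.base u = x) ∧ (f.appLE V.1 U₁.1 h₁).hom a ∈ I'.ideal U₁)
    (U₀ : U.affineOpens) (h₀ : U₀.1 ≤ f ⁻¹ᵁ V.1) :
    (f.appLE V.1 U₀.1 h₀).hom a ∈ I'.ideal U₀ := by
  have hU₀ : IsAffineOpen U₀.1 := U₀.2
  apply mem_of_flat_cover
  intro q hq
  have hqp : q.IsPrime := hq.isPrime
  let 𝔮 : PrimeSpectrum Γ(U, U₀.1) := ⟨q, hqp⟩
  let u₀ : U := hU₀.fromSpec.base 𝔮
  have hu₀ : u₀ ∈ U₀.1 := by
    have h1 : u₀ ∈ Set.range hU₀.fromSpec.base := ⟨𝔮, rfl⟩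
    rw [hU₀.range_fromSpec] at h1
    exact h1
  have hprime : hU₀.primeIdealOf ⟨u₀, hu₀⟩ = 𝔮 := by
    apply hU₀.fromSpec.isOpenEmbedding.injective
    rw [hU₀.fromSpec_primeIdealOf]
  obtain ⟨U₁, h₁, ⟨u₁, hu₁, hfu⟩, ha⟩ := hcov (f.base u₀) (h₀ hu₀)
  have hU₁ : IsAffineOpen U₁.1 := U₁.2
  obtain ⟨z, hz1, hz2⟩ :=
    Scheme.Pullback.exists_preimage_pullback (f := f) (g := f) u₀ u₁ hfu.symm
  let W : (pullback f f).Opens := pullback.fst f f ⁻¹ᵁ U₀.1 ⊓ pullback.snd f f ⁻¹ᵁ U₁.1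
  have hzW : z ∈ W := by
    refine ⟨?_, ?_⟩
    · show (pullback.fst f f).base z ∈ U₀.1
      rw [hz1]; exact hu₀
    · show (pullback.snd f f).base z ∈ U₁.1
      rw [hz2]; exact hu₁
  obtain ⟨_, ⟨P₀, hP₀, rfl⟩, hzP₀, hP₀W⟩ :=
    (pullback f f).isBasis_affineOpens.exists_subset_of_mem_open hzW W.isOpen
  have hle₁ : P₀ ≤ pullback.fst f f ⁻¹ᵁ U₀.1 := fun p hp => (hP₀W hp).1
  have hle₂ : P₀ ≤ pullback.snd f f ⁻¹ᵁ U₁.1 := fun p hp => (hP₀W hp).2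
  have hP₀' : IsAffineOpen P₀ := hP₀
  refine ⟨Γ(pullback f f, P₀), inferInstance,
    ((pullback.fst f f).appLE U₀.1 P₀ hle₁).hom.toAlgebra, ?_, ?_, ?_⟩
  · exact Scheme.Hom.flat_appLE (pullback.fst f f) hU₀ hP₀' hle₁
  · show ((pullback.fst f f).appLE U₀.1 P₀ hle₁).hom ((f.appLE V.1 U₀.1 h₀).hom a) ∈
      (I'.ideal U₀).map ((pullback.fst f f).appLE U₀.1 P₀ hle₁).hom
    rw [hd.map_ideal_eq (pullback.fst f f) (pullback.snd f f) pullback.condition ⟨P₀, hP₀⟩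
      U₀ U₁ hle₁ hle₂]
    have e1 : ((pullback.fst f f).appLE U₀.1 P₀ hle₁).hom ((f.appLE V.1 U₀.1 h₀).hom a) =
        ((pullback.snd f f).appLE U₁.1 P₀ hle₂).hom ((f.appLE V.1 U₁.1 h₁).hom a) := by
      have e2 := Scheme.Hom.appLE_comp_appLE (pullback.fst f f) f V.1 U₀.1 P₀ h₀ hle₁
      have e3 := Scheme.Hom.appLE_comp_appLE (pullback.snd f f) f V.1 U₁.1 P₀ h₁ hle₂
      have e4 := appLE_congr_hom (pullback.condition (f := f) (g := f)) V.1 P₀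
        (hle₁.trans ((TopologicalSpace.Opens.map (pullback.fst f f).base).map (homOfLE h₀)).le)
        (hle₂.trans ((TopologicalSpace.Opens.map (pullback.snd f f).base).map (homOfLE h₁)).le)
      have e5 := e2.trans (e4.trans e3.symm)
      have e6 := congrArg (fun m => m.hom a) e5
      simpa only [CommRingCat.hom_comp, RingHom.comp_apply] using e6
    rw [e1]
    exact Ideal.mem_map_of_mem _ ha
  · refine ⟨(hP₀'.primeIdealOf ⟨z, hzP₀⟩).asIdeal, (hP₀'.primeIdealOf ⟨z, hzP₀⟩).isPrime, ?_⟩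
    have e1 := IsAffineOpen.comap_primeIdealOf_appLE (f := pullback.fst f f) U₀.1 hU₀ P₀ hP₀'
      hle₁ hzP₀
    have e2 : hU₀.primeIdealOf ⟨(pullback.fst f f).base z, hle₁ hzP₀⟩ = 𝔮 := by
      rw [← hprime]
      congr 1
      exact Subtype.ext hz1
    rw [e2] at e1
    exact congrArg PrimeSpectrum.asIdeal e1

variable (f I') in
/-- The candidate descended ideal on an affine open `V ⊆ X`: sections all of whose pullbacks to
affine opens of `U` over `V` lie in `I'`. -/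
def ideal (V : X.affineOpens) : Ideal Γ(X, V.1) :=
  ⨅ (U₀ : U.affineOpens) (h : U₀.1 ≤ f ⁻¹ᵁ V.1), (I'.ideal U₀).comap (f.appLE V.1 U₀.1 h).hom

theorem mem_ideal_iff {V : X.affineOpens} {a : Γ(X, V.1)} :
    a ∈ ideal f I' V ↔ ∀ (U₀ : U.affineOpens) (h : U₀.1 ≤ f ⁻¹ᵁ V.1),
      (f.appLE V.1 U₀.1 h).hom a ∈ I'.ideal U₀ := by
  simp only [ideal, Submodule.mem_iInf, Ideal.mem_comap]

/-- Finitely many affine opens of `U` over `V` cover `V`, when `f` is open and surjective. -/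
theorem exists_finite_cover [Surjective f] (hopen : IsOpenMap f.base) (V : X.affineOpens) :
    ∃ s : Finset {U₀ : U.affineOpens // U₀.1 ≤ f ⁻¹ᵁ V.1},
      (V.1 : Set X) ⊆ ⋃ i ∈ s, f.base '' (i.1.1 : Set U) := by
  have hV : IsAffineOpen V.1 := V.2
  refine hV.isCompact.elim_finite_subcover
    (fun i : {U₀ : U.affineOpens // U₀.1 ≤ f ⁻¹ᵁ V.1} => f.base '' (i.1.1 : Set U))
    (fun i => hopen _ i.1.1.isOpen) ?_
  intro x hx
  obtain ⟨u, rfl⟩ := f.surjective x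
  have hu : u ∈ f ⁻¹ᵁ V.1 := hx
  obtain ⟨_, ⟨U₀, hU₀, rfl⟩, huU₀, hU₀V⟩ :=
    U.isBasis_affineOpens.exists_subset_of_mem_open hu (f ⁻¹ᵁ V.1).isOpen
  exact Set.mem_iUnion.mpr ⟨⟨⟨U₀, hU₀⟩, hU₀V⟩, ⟨u, huU₀, rfl⟩⟩

/-- Compatibility of the candidate ideal with basic opens. -/
theorem map_ideal_basicOpen [Flat f] [Surjective f] (hopen : IsOpenMap f.base) (hd : Desc f I')
    (V : X.affineOpens) (g : Γ(X, V.1)) :
    (ideal f I' V).map (X.presheaf.map (homOfLE (X.basicOpen_le g)).op).hom =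
      ideal f I' (X.affineBasicOpen g) := by
  have hV : IsAffineOpen V.1 := V.2
  apply le_antisymm
  · rw [Ideal.map_le_iff_le_comap]
    intro a ha
    rw [Ideal.mem_comap]
    refine (mem_ideal_iff (V := X.affineBasicOpen g)).2 ?_
    intro U₀ h
    have e1 := Scheme.Hom.map_appLE f (U := X.basicOpen g) (V := U₀.1) h
      (homOfLE (X.basicOpen_le g)).op
    have e2 := congrArg (fun m => m.hom a) e1
    simp only [CommRingCat.hom_comp, RingHom.comp_apply] at e2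
    change (f.appLE (X.basicOpen g) U₀.1 h).hom _ ∈ _
    rw [e2]
    exact mem_ideal_iff.1 ha U₀ _
  · intro c hc
    have hloc := hV.isLocalization_basicOpen g
    obtain ⟨a, ⟨_, n, rfl⟩, rfl⟩ := IsLocalization.exists_mk'_eq (.powers g) c
    refine (IsLocalization.mk'_mem_map_algebraMap_iff _ _ _ _ _).mpr ?_
    obtain ⟨s, hs⟩ := exists_finite_cover hopen V
    -- the key bound for each member of the cover
    have key : ∀ i : {U₀ : U.affineOpens // U₀.1 ≤ f ⁻¹ᵁ V.1}, ∃ N : ℕ,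
        ((f.appLE V.1 i.1.1 i.2).hom g) ^ N * (f.appLE V.1 i.1.1 i.2).hom a ∈ I'.ideal i.1 := by
      rintro ⟨U₁, h₁⟩
      have hU₁ : IsAffineOpen U₁.1 := U₁.2
      set g₁ := (f.appLE V.1 U₁.1 h₁).hom g with hg₁
      have hle : (U.affineBasicOpen g₁).1 ≤ f ⁻¹ᵁ (X.basicOpen g) := by
        show U.basicOpen g₁ ≤ _
        rw [hg₁]
        erw [Scheme.basicOpen_appLE]
        exact inf_le_right
      have hc1 := mem_ideal_iff.1 hc (U.affineBasicOpen g₁) hle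
      rw [← I'.map_ideal_basicOpen U₁ g₁] at hc1
      have hloc₁ := hU₁.isLocalization_basicOpen g₁
      -- the pulled back equation
      have hspec : IsLocalization.mk' Γ(X, X.basicOpen g) a
          (⟨g ^ n, n, rfl⟩ : Submonoid.powers g) *
          (X.presheaf.map (homOfLE (X.basicOpen_le g)).op).hom (g ^ n) =
          (X.presheaf.map (homOfLE (X.basicOpen_le g)).op).hom a :=
        IsLocalization.mk'_spec _ _ _
      have hres : ∀ y : Γ(X, V.1), (f.appLE (X.basicOpen g) (U.basicOpen g₁) hle).hom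
          ((X.presheaf.map (homOfLE (X.basicOpen_le g)).op).hom y) =
          (U.presheaf.map (homOfLE (U.basicOpen_le g₁)).op).hom
            ((f.appLE V.1 U₁.1 h₁).hom y) := by
        intro y
        have e1 := Scheme.Hom.map_appLE f (U := X.basicOpen g) (V := U.basicOpen g₁) hle
          (homOfLE (X.basicOpen_le g)).op
        have e2 := Scheme.Hom.appLE_map f (U := V.1) (V := U₁.1) h₁
          (homOfLE (U.basicOpen_le g₁)).op
        have e3 := congrArg (fun m => m.hom y) (e1.trans e2.symm)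
        simpa only [CommRingCat.hom_comp, RingHom.comp_apply] using e3
      have hmem : (U.presheaf.map (homOfLE (U.basicOpen_le g₁)).op).hom
          ((f.appLE V.1 U₁.1 h₁).hom a) ∈
          (I'.ideal U₁).map (U.presheaf.map (homOfLE (U.basicOpen_le g₁)).op).hom := by
        rw [← hres a, ← hspec, map_mul]
        exact Ideal.mul_mem_right _ _ hc1
      obtain ⟨m, ⟨N, rfl⟩, hm⟩ :=
        (IsLocalization.algebraMap_mem_map_algebraMap_iff (.powers g₁)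
          Γ(U, U.basicOpen g₁) (I'.ideal U₁) _).mp hmem
      exact ⟨N, hm⟩
    choose N hN using key
    refine ⟨g ^ (s.sup N), ⟨_, rfl⟩, ?_⟩
    rw [mem_ideal_iff]
    intro U₀ h₀
    refine mem_ideal_of_cover hd V _ ?_ U₀ h₀
    intro x hx
    obtain ⟨i, his, u, hu, rfl⟩ : ∃ i ∈ s, x ∈ f.base '' (i.1.1 : Set U) := by
      simpa only [Set.mem_iUnion, exists_prop] using hs hx
    refine ⟨i.1, i.2, ⟨u, hu, rfl⟩, ?_⟩
    rw [map_mul, map_pow]
    have hle : N i ≤ s.sup N := Finset.le_sup his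
    obtain ⟨d, hd'⟩ := Nat.exists_eq_add_of_le hle
    rw [hd', pow_add, mul_comm _ (_ ^ d), _root_.mul_assoc]
    exact Ideal.mul_mem_left _ _ (hN i)

variable (f I') in
/-- The descended ideal sheaf. -/
def descIdeal [Flat f] [Surjective f] (hopen : IsOpenMap f.base) (hd : Desc f I') :
    X.IdealSheafData where
  ideal := ideal f I'
  map_ideal_basicOpen := map_ideal_basicOpen hopen hd

open TensorProduct in
/-- Ring-level descent condition on a chart: the two extensions of `I'(U₀)` to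
`Γ(U₀) ⊗[Γ(V)] Γ(U₀)` agree. -/
theorem map_includeLeft_eq_map_includeRight (hd : Desc f I') (V : X.affineOpens)
    (U₀ : U.affineOpens) (h₀ : U₀.1 ≤ f ⁻¹ᵁ V.1) :
    letI : Algebra Γ(X, V.1) Γ(U, U₀.1) := (f.appLE V.1 U₀.1 h₀).hom.toAlgebra
    (I'.ideal U₀).map (Algebra.TensorProduct.includeLeft :
        Γ(U, U₀.1) →ₐ[Γ(X, V.1)] Γ(U, U₀.1) ⊗[Γ(X, V.1)] Γ(U, U₀.1)).toRingHom =
      (I'.ideal U₀).map (Algebra.TensorProduct.includeRight :
        Γ(U, U₀.1) →ₐ[Γ(X, V.1)] Γ(U, U₀.1) ⊗[Γ(X, V.1)] Γ(U, U₀.1)).toRingHom := by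
  letI : Algebra Γ(X, V.1) Γ(U, U₀.1) := (f.appLE V.1 U₀.1 h₀).hom.toAlgebra
  have hU₀ : IsAffineOpen U₀.1 := U₀.2
  have hV : IsAffineOpen V.1 := V.2
  let C : CommRingCat.{u} := CommRingCat.of (Γ(U, U₀.1) ⊗[Γ(X, V.1)] Γ(U, U₀.1))
  let i₁ : Γ(U, U₀.1) ⟶ C := CommRingCat.ofHom (Algebra.TensorProduct.includeLeft :
    Γ(U, U₀.1) →ₐ[Γ(X, V.1)] Γ(U, U₀.1) ⊗[Γ(X, V.1)] Γ(U, U₀.1)).toRingHom
  let i₂ : Γ(U, U₀.1) ⟶ C := CommRingCat.ofHom (Algebra.TensorProduct.includeRight :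
    Γ(U, U₀.1) →ₐ[Γ(X, V.1)] Γ(U, U₀.1) ⊗[Γ(X, V.1)] Γ(U, U₀.1)).toRingHom
  have hi : f.appLE V.1 U₀.1 h₀ ≫ i₁ = f.appLE V.1 U₀.1 h₀ ≫ i₂ := by
    ext a
    show ((f.appLE V.1 U₀.1 h₀).hom a) ⊗ₜ[Γ(X, V.1)] (1 : Γ(U, U₀.1)) =
      (1 : Γ(U, U₀.1)) ⊗ₜ[Γ(X, V.1)] ((f.appLE V.1 U₀.1 h₀).hom a)
    have e : (f.appLE V.1 U₀.1 h₀).hom a = a • (1 : Γ(U, U₀.1)) := by
      rw [Algebra.smul_def, mul_one]; rfl
    rw [e, TensorProduct.smul_tmul]
  let r₁ : Spec C ⟶ U := Spec.map i₁ ≫ hU₀.fromSpec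
  let r₂ : Spec C ⟶ U := Spec.map i₂ ≫ hU₀.fromSpec
  have hr : r₁ ≫ f = r₂ ≫ f := by
    have e2 : Spec.map (f.appLE V.1 U₀.1 h₀) ≫ hV.fromSpec = hU₀.fromSpec ≫ f :=
      IsAffineOpen.SpecMap_appLE_fromSpec f hV hU₀ h₀
    calc r₁ ≫ f = Spec.map i₁ ≫ (hU₀.fromSpec ≫ f) := Category.assoc _ _ _
      _ = Spec.map (f.appLE V.1 U₀.1 h₀ ≫ i₁) ≫ hV.fromSpec := by
          rw [← e2, Spec.map_comp, Category.assoc]
      _ = Spec.map (f.appLE V.1 U₀.1 h₀ ≫ i₂) ≫ hV.fromSpec := by rw [hi]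
      _ = Spec.map i₂ ≫ (hU₀.fromSpec ≫ f) := by
          rw [← e2, Spec.map_comp, Category.assoc]
      _ = r₂ ≫ f := (Category.assoc _ _ _).symm
  have e₁ : (⊤ : (Spec C).Opens) ≤ r₁ ⁻¹ᵁ U₀.1 := by
    rw [Scheme.Hom.comp_preimage, hU₀.fromSpec_preimage_self]; exact le_rfl
  have e₂ : (⊤ : (Spec C).Opens) ≤ r₂ ⁻¹ᵁ U₀.1 := by
    rw [Scheme.Hom.comp_preimage, hU₀.fromSpec_preimage_self]; exact le_rfl
  have key := hd.map_ideal_eq r₁ r₂ hr ⟨⊤, isAffineOpen_top _⟩ U₀ U₀ e₁ e₂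
  rw [appLE_specMap_fromSpec hU₀ i₁ e₁, appLE_specMap_fromSpec hU₀ i₂ e₂] at key
  simp only [CommRingCat.hom_comp] at key
  rw [← Ideal.map_map, ← Ideal.map_map] at key
  have hid : (Scheme.ΓSpecIso C).hom.hom.comp (Scheme.ΓSpecIso C).inv.hom = RingHom.id _ := by
    rw [← CommRingCat.hom_comp, Iso.inv_hom_id]; rfl
  have hinj : ∀ J₁ J₂ : Ideal C, J₁.map (Scheme.ΓSpecIso C).inv.hom =
      J₂.map (Scheme.ΓSpecIso C).inv.hom → J₁ = J₂ := by
    intro J₁ J₂ h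
    have h2 := congrArg (Ideal.map (Scheme.ΓSpecIso C).hom.hom) h
    rw [Ideal.map_map, Ideal.map_map, hid, Ideal.map_id, Ideal.map_id] at h2
    exact h2
  exact hinj _ _ key

open TensorProduct in
/-- On a chart `U₀ ⟶ V` which is surjective, the pullback of the descended ideal sheaf agrees
with `I'`. -/
theorem ideal_comap_descIdeal [Flat f] [Surjective f] (hopen : IsOpenMap f.base)
    (hd : Desc f I') (V : X.affineOpens) (U₀ : U.affineOpens) (h₀ : U₀.1 ≤ f ⁻¹ᵁ V.1)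
    (hsurj : (V.1 : Set X) ⊆ f.base '' (U₀.1 : Set U)) :
    ((descIdeal f I' hopen hd).comap f).ideal U₀ = I'.ideal U₀ := by
  rw [ideal_comap_of_le f _ V U₀ h₀]
  show (ideal f I' V).map (f.appLE V.1 U₀.1 h₀).hom = I'.ideal U₀
  have hU₀ : IsAffineOpen U₀.1 := U₀.2
  have hV : IsAffineOpen V.1 := V.2
  apply le_antisymm
  · rw [Ideal.map_le_iff_le_comap]
    intro a ha
    exact mem_ideal_iff.1 ha U₀ h₀
  · intro b hb
    letI : Algebra Γ(X, V.1) Γ(U, U₀.1) := (f.appLE V.1 U₀.1 h₀).hom.toAlgebra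
    haveI : Module.Flat Γ(X, V.1) Γ(U, U₀.1) := Scheme.Hom.flat_appLE f hV hU₀ h₀
    -- the kernel of `Γ(V) → Γ(U₀)/I'(U₀)` is the candidate ideal
    have hker : RingHom.ker (algebraMap Γ(X, V.1) (Γ(U, U₀.1) ⧸ I'.ideal U₀)) =
        ideal f I' V := by
      ext a
      rw [RingHom.mem_ker]
      have e : algebraMap Γ(X, V.1) (Γ(U, U₀.1) ⧸ I'.ideal U₀) a =
          Ideal.Quotient.mk (I'.ideal U₀) ((f.appLE V.1 U₀.1 h₀).hom a) := rfl
      rw [e, Ideal.Quotient.eq_zero_iff_mem]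
      constructor
      · intro ha
        rw [mem_ideal_iff]
        intro U₁ h₁
        refine mem_ideal_of_cover hd V a ?_ U₁ h₁
        intro x hx
        obtain ⟨u, hu, rfl⟩ := hsurj hx
        exact ⟨U₀, h₀, ⟨u, hu, rfl⟩, ha⟩
      · intro ha
        exact mem_ideal_iff.1 ha U₀ h₀
    have hzero : (1 : Γ(U, U₀.1) ⧸ I'.ideal U₀) ⊗ₜ[Γ(X, V.1)] b = 0 := by
      let Θ : Γ(U, U₀.1) ⊗[Γ(X, V.1)] Γ(U, U₀.1) →ₐ[Γ(X, V.1)]
          (Γ(U, U₀.1) ⧸ I'.ideal U₀) ⊗[Γ(X, V.1)] Γ(U, U₀.1) :=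
        Algebra.TensorProduct.map (Ideal.Quotient.mkₐ Γ(X, V.1) (I'.ideal U₀))
          (AlgHom.id Γ(X, V.1) Γ(U, U₀.1))
      have h1 : Θ ((1 : Γ(U, U₀.1)) ⊗ₜ[Γ(X, V.1)] b) =
          (1 : Γ(U, U₀.1) ⧸ I'.ideal U₀) ⊗ₜ[Γ(X, V.1)] b := by
        simp [Θ]
      have h2 : (1 : Γ(U, U₀.1)) ⊗ₜ[Γ(X, V.1)] b ∈
          (I'.ideal U₀).map (Algebra.TensorProduct.includeLeft :
            Γ(U, U₀.1) →ₐ[Γ(X, V.1)] Γ(U, U₀.1) ⊗[Γ(X, V.1)] Γ(U, U₀.1)).toRingHom := by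
        rw [map_includeLeft_eq_map_includeRight hd V U₀ h₀]
        exact Ideal.mem_map_of_mem _ hb
      have h3 : (I'.ideal U₀).map (Algebra.TensorProduct.includeLeft :
            Γ(U, U₀.1) →ₐ[Γ(X, V.1)] Γ(U, U₀.1) ⊗[Γ(X, V.1)] Γ(U, U₀.1)).toRingHom ≤
          RingHom.ker Θ.toRingHom := by
        rw [Ideal.map_le_iff_le_comap]
        intro x hx
        rw [Ideal.mem_comap, RingHom.mem_ker]
        show Θ (x ⊗ₜ[Γ(X, V.1)] (1 : Γ(U, U₀.1))) = 0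
        have : Ideal.Quotient.mk (I'.ideal U₀) x = 0 := Ideal.Quotient.eq_zero_iff_mem.mpr hx
        simp [Θ, this]
      rw [← h1]
      exact h3 h2
    have := mem_map_of_tmul_eq_zero (A := Γ(X, V.1)) (D := Γ(U, U₀.1) ⧸ I'.ideal U₀)
      (B := Γ(U, U₀.1)) b hzero
    rw [hker] at this
    exact this

/-- **Effective descent for ideal sheaves** along a flat, open, surjective morphism. -/
theorem comap_descIdeal [Flat f] [Surjective f] (hopen : IsOpenMap f.base)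
    (hd : Desc f I') : (descIdeal f I' hopen hd).comap f = I' := by
  -- charts: affine opens of `U` mapping onto an affine open of `X`
  let ι := {p : U.affineOpens × X.affineOpens // p.1.1 ≤ f ⁻¹ᵁ p.2.1 ∧
    (p.2.1 : Set X) ⊆ f.base '' (p.1.1 : Set U)}
  refine Scheme.IdealSheafData.ext_of_iSup_eq_top (fun i : ι => i.1.1) ?_ ?_
  · rw [eq_top_iff]
    intro u _
    -- construct a chart around `u`
    obtain ⟨_, ⟨V₁, hV₁, rfl⟩, hxV₁, -⟩ :=
      X.isBasis_affineOpens.exists_subset_of_mem_open (Set.mem_univ (f.base u)) isOpen_univ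
    have hu : u ∈ f ⁻¹ᵁ V₁ := hxV₁
    obtain ⟨_, ⟨U₁, hU₁, rfl⟩, huU₁, hU₁V₁⟩ :=
      U.isBasis_affineOpens.exists_subset_of_mem_open hu (f ⁻¹ᵁ V₁).isOpen
    have hV₁' : IsAffineOpen V₁ := hV₁
    have hU₁' : IsAffineOpen U₁ := hU₁
    -- the open image of `U₁`
    let O : X.Opens := ⟨f.base '' (U₁ : Set U), hopen _ U₁.isOpen⟩
    have hxO : f.base u ∈ O := ⟨u, huU₁, rfl⟩
    obtain ⟨g, hgO, hxg⟩ := hV₁'.exists_basicOpen_le (V := O) ⟨f.base u, hxO⟩ hxV₁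
    let g₁ := (f.appLE V₁ U₁ hU₁V₁).hom g
    have hbo : U.basicOpen g₁ = U₁ ⊓ f ⁻¹ᵁ (X.basicOpen g) := Scheme.basicOpen_appLE f U₁ V₁ _ g
    refine TopologicalSpace.Opens.mem_iSup.mpr
      ⟨⟨(U.affineBasicOpen (U := ⟨U₁, hU₁⟩) g₁, X.affineBasicOpen (U := ⟨V₁, hV₁⟩) g),
        ?_, ?_⟩, ?_⟩
    · show U.basicOpen g₁ ≤ f ⁻¹ᵁ (X.basicOpen g)
      rw [hbo]; exact inf_le_right
    · intro x hx
      have hx' : x ∈ X.basicOpen g := hx
      obtain ⟨u', hu', rfl⟩ := hgO hx'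
      refine ⟨u', ?_, rfl⟩
      show u' ∈ U.basicOpen g₁
      rw [hbo]
      exact ⟨hu', hx'⟩
    · show u ∈ U.basicOpen g₁
      rw [hbo]
      exact ⟨huU₁, hxg⟩
  · rintro ⟨⟨U₀, V⟩, h₀, hsurj⟩
    exact ideal_comap_descIdeal hopen hd V U₀ h₀ hsurj

/-- Existence form. -/
theorem exists_comap_eq [Flat f] [Surjective f] (hopen : IsOpenMap f.base)
    (hd : Desc f I') : ∃ 𝓘 : X.IdealSheafData, 𝓘.comap f = I' :=
  ⟨_, comap_descIdeal hopen hd⟩

/-- A flat surjective morphism has trivial kernel ideal sheaf. -/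
theorem ker_eq_bot_of_flat_of_surjective {P T : Scheme.{u}} (p : P ⟶ T) [Flat p] [Surjective p] :
    p.ker = ⊥ := by
  rw [← le_bot_iff]
  intro V
  refine (Scheme.Hom.ideal_ker_le p V).trans ?_
  intro a ha
  rw [RingHom.mem_ker] at ha
  show a ∈ (⊥ : Ideal Γ(T, V.1))
  have hV : IsAffineOpen V.1 := V.2
  apply mem_of_flat_cover
  intro q hq
  have hqp : q.IsPrime := hq.isPrime
  let 𝔮 : PrimeSpectrum Γ(T, V.1) := ⟨q, hqp⟩
  let v : T := hV.fromSpec.base 𝔮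
  have hv : v ∈ V.1 := by
    have h1 : v ∈ Set.range hV.fromSpec.base := ⟨𝔮, rfl⟩
    rw [hV.range_fromSpec] at h1
    exact h1
  have hprime : hV.primeIdealOf ⟨v, hv⟩ = 𝔮 := by
    apply hV.fromSpec.isOpenEmbedding.injective
    rw [hV.fromSpec_primeIdealOf]
  obtain ⟨z, hz⟩ := p.surjective v
  have hzV : z ∈ p ⁻¹ᵁ V.1 := by
    show p.base z ∈ V.1
    rw [hz]; exact hv
  obtain ⟨_, ⟨P₀, hP₀, rfl⟩, hzP₀, hP₀V⟩ :=
    P.isBasis_affineOpens.exists_subset_of_mem_open hzV (p ⁻¹ᵁ V.1).isOpen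
  have hle : P₀ ≤ p ⁻¹ᵁ V.1 := hP₀V
  have hP₀' : IsAffineOpen P₀ := hP₀
  refine ⟨Γ(P, P₀), inferInstance, (p.appLE V.1 P₀ hle).hom.toAlgebra, ?_, ?_, ?_⟩
  · exact Scheme.Hom.flat_appLE p hV hP₀' hle
  · show (p.appLE V.1 P₀ hle).hom a ∈ _
    have : (p.appLE V.1 P₀ hle).hom a = 0 := by
      rw [Scheme.Hom.appLE, CommRingCat.hom_comp, RingHom.comp_apply, ha, map_zero]
    rw [this]
    exact Ideal.zero_mem _
  · refine ⟨(hP₀'.primeIdealOf ⟨z, hzP₀⟩).asIdeal, (hP₀'.primeIdealOf ⟨z, hzP₀⟩).isPrime, ?_⟩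
    have e1 := IsAffineOpen.comap_primeIdealOf_appLE (f := p) V.1 hV P₀ hP₀' hle hzP₀
    have e2 : hV.primeIdealOf ⟨p.base z, hle hzP₀⟩ = 𝔮 := by
      rw [← hprime]
      congr 1
      exact Subtype.ext hz
    rw [e2] at e1
    exact congrArg PrimeSpectrum.asIdeal e1

/-- A closed immersion through which a flat surjective morphism factors is an isomorphism. -/
theorem isIso_of_flat_surjective_factor {P Z T : Scheme.{u}} (p : P ⟶ T) [Flat p] [Surjective p]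
    (c : Z ⟶ T) [IsClosedImmersion c] (r : P ⟶ Z) (h : r ≫ c = p) : IsIso c := by
  rw [IsClosedImmersion.isIso_iff_ker_eq_bot, ← le_bot_iff,
    ← ker_eq_bot_of_flat_of_surjective p, ← h]
  exact Scheme.Hom.le_ker_comp r c

end Groth.Agent.Lib.Helper16.ClosedDescent
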