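import Mathlib
import Groth.Agent.Lib.Helper16.ClosedDescent

/-!
# Descent of closed loci along flat, open, surjective atlases (helper16)

Let `Pr` be a property of points of an `S`-scheme `X`, stable under precomposition.  If
`f : U ⟶ X` is a flat, open, surjective morphism such that the points `u` of `U` with `Pr (u ≫ f)`
are those of a closed subscheme, and `Pr` descends along base changes of `f`, then the points of
`X` with `Pr` are those of a closed subscheme.
-/

set_option autoImplicit false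

namespace Groth.Agent.Lib.Helper16.AttrDescent

universe u
open CategoryTheory Limits AlgebraicGeometry
open Groth.Agent.Lib.Helper16.ClosedDescent

variable {S : Scheme.{u}} {X U : Over S} (Pr : ∀ {T : Over S}, (T ⟶ X) → Prop)
  (hcomp : ∀ {T T' : Over S} (x : T ⟶ X) (t : T' ⟶ T), Pr x → Pr (t ≫ x))
  (f : U ⟶ X) (I' : U.left.IdealSheafData)
  (hI' : ∀ {T : Over S} (u : T ⟶ U),
    Pr (u ≫ f) ↔ ∃ t : T.left ⟶ I'.subscheme, t ≫ I'.subschemeι = u.left)
  (hdesc : ∀ {T : Over S} (x : T ⟶ X),
    Pr ((Over.homMk (pullback.fst x.left f.left) rfl :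
      Over.mk (pullback.fst x.left f.left ≫ T.hom) ⟶ T) ≫ x) → Pr x)

include hI' in
/-- Half of the descent condition. -/
theorem comap_le_comap {P : Scheme.{u}} (r₁ r₂ : P ⟶ U.left)
    (h : r₁ ≫ f.left = r₂ ≫ f.left) : I'.comap r₂ ≤ I'.comap r₁ := by
  set K := I'.comap r₁ with hK
  rw [← Scheme.IdealSheafData.le_map_iff_comap_le]
  have hU : f.left ≫ X.hom = U.hom := Over.w f
  have hr : r₂ ≫ U.hom = r₁ ≫ U.hom := by
    rw [← hU, reassoc_of% h]
  let T : Over S := Over.mk (K.subschemeι ≫ r₁ ≫ U.hom)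
  let u₁ : T ⟶ U := Over.homMk (K.subschemeι ≫ r₁) (by simp [T])
  let u₂ : T ⟶ U := Over.homMk (K.subschemeι ≫ r₂) (by simp [T, hr])
  have hu : u₁ ≫ f = u₂ ≫ f := by
    apply Over.OverMorphism.ext
    show (K.subschemeι ≫ r₁) ≫ f.left = (K.subschemeι ≫ r₂) ≫ f.left
    rw [Category.assoc, Category.assoc, h]
  have h1 : Pr (u₁ ≫ f) := by
    rw [hI']
    refine ⟨(I'.comapIso r₁).hom ≫ pullback.snd _ _, ?_⟩
    show _ = K.subschemeι ≫ r₁
    rw [Category.assoc, ← pullback.condition, ← Category.assoc,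
      Scheme.IdealSheafData.comapIso_hom_fst]
  have h2 : Pr (u₂ ≫ f) := hu ▸ h1
  obtain ⟨t, ht⟩ := (hI' u₂).1 h2
  have ht' : t ≫ I'.subschemeι = K.subschemeι ≫ r₂ := ht
  rw [Scheme.IdealSheafData.map, ← ht']
  calc I' = I'.subschemeι.ker := I'.ker_subschemeι.symm
    _ ≤ _ := Scheme.Hom.le_ker_comp _ _

include hI' in
theorem desc : Desc f.left I' :=
  le_antisymm
    (comap_le_comap Pr f I' hI' _ _ pullback.condition.symm)
    (comap_le_comap Pr f I' hI' _ _ pullback.condition)

include hcomp hI' hdesc in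
/-- **Main theorem**. -/
theorem exists_closed [Flat f.left] [Surjective f.left] (hopen : IsOpenMap f.left.base) :
    ∃ (W : Over S) (i : W ⟶ X), IsClosedImmersion i.left ∧
      ∀ {T : Over S} (x : T ⟶ X), Pr x ↔ ∃ w : T ⟶ W, w ≫ i = x := by
  have hd : Desc f.left I' := desc Pr f I' hI'
  set 𝓘 := descIdeal f.left I' hopen hd with h𝓘def
  have h𝓘 : 𝓘.comap f.left = I' := comap_descIdeal hopen hd
  let W : Over S := Over.mk (𝓘.subschemeι ≫ X.hom)
  let i : W ⟶ X := Over.homMk 𝓘.subschemeι rfl
  have hU : f.left ≫ X.hom = U.hom := Over.w f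
  -- the base change of `f` along a point
  have cover : ∀ {T : Over S} (x : T ⟶ X), ∃ (π₂ : Over.mk (pullback.fst x.left f.left ≫ T.hom) ⟶ U),
      π₂.left = pullback.snd x.left f.left ∧
      π₂ ≫ f = (Over.homMk (pullback.fst x.left f.left) rfl :
        Over.mk (pullback.fst x.left f.left ≫ T.hom) ⟶ T) ≫ x := by
    intro T x
    have hx : x.left ≫ X.hom = T.hom := Over.w x
    refine ⟨Over.homMk (pullback.snd _ _) ?_, rfl, ?_⟩
    · show pullback.snd x.left f.left ≫ U.hom = pullback.fst x.left f.left ≫ T.hom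
      rw [← hU, ← hx, ← Category.assoc, ← Category.assoc, pullback.condition]
    · apply Over.OverMorphism.ext
      show pullback.snd x.left f.left ≫ f.left = pullback.fst x.left f.left ≫ x.left
      exact pullback.condition.symm
  -- the inclusion of `W` has the property
  have hPi : Pr i := by
    apply hdesc
    obtain ⟨π₂, hπ₂, hπ⟩ := cover i
    rw [← hπ, hI']
    have hcond : pullback.snd i.left f.left ≫ f.left =
        pullback.fst i.left f.left ≫ 𝓘.subschemeι := pullback.condition.symm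
    have key : ∀ K : U.left.IdealSheafData, K = 𝓘.comap f.left →
        ∃ t' : pullback i.left f.left ⟶ K.subscheme, t' ≫ K.subschemeι = π₂.left := by
      rintro _ rfl
      refine ⟨pullback.lift (pullback.snd i.left f.left) (pullback.fst i.left f.left) hcond ≫
        (𝓘.comapIso f.left).inv, ?_⟩
      rw [Category.assoc, Scheme.IdealSheafData.comapIso_inv_subschemeι, pullback.lift_fst, hπ₂]
    exact key I' h𝓘.symm
  refine ⟨W, i, inferInstanceAs (IsClosedImmersion 𝓘.subschemeι), ?_⟩
  intro T x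
  constructor
  · intro hx
    obtain ⟨π₂, hπ₂, hπ⟩ := cover x
    have h1 : Pr (π₂ ≫ f) := hπ ▸ hcomp x _ hx
    obtain ⟨t', ht'⟩ := (hI' π₂).1 h1
    rw [hπ₂] at ht'
    have hle : 𝓘 ≤ I'.map f.left := by
      rw [Scheme.IdealSheafData.le_map_iff_comap_le, h𝓘]
    let sm := Scheme.IdealSheafData.subschemeMap I' 𝓘 f.left hle
    have hsm : sm ≫ 𝓘.subschemeι = I'.subschemeι ≫ f.left :=
      Scheme.IdealSheafData.subschemeMap_subschemeι I' 𝓘 f.left hle
    have hcond : pullback.fst x.left f.left ≫ x.left = (t' ≫ sm) ≫ 𝓘.subschemeι := by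
      rw [pullback.condition, Category.assoc, hsm, reassoc_of% ht']
    let c := pullback.fst x.left 𝓘.subschemeι
    haveI : IsIso c := isIso_of_flat_surjective_factor (pullback.fst x.left f.left) c
      (pullback.lift (pullback.fst x.left f.left) (t' ≫ sm) hcond) (pullback.lift_fst _ _ _)
    have hw : (inv c ≫ pullback.snd x.left 𝓘.subschemeι) ≫ 𝓘.subschemeι = x.left := by
      rw [Category.assoc, ← pullback.condition, IsIso.inv_hom_id_assoc]
    refine ⟨Over.homMk (inv c ≫ pullback.snd x.left 𝓘.subschemeι) ?_, ?_⟩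
    · show (inv c ≫ pullback.snd x.left 𝓘.subschemeι) ≫ 𝓘.subschemeι ≫ X.hom = T.hom
      rw [← Category.assoc, hw, Over.w x]
    · apply Over.OverMorphism.ext
      exact hw
  · rintro ⟨w, rfl⟩
    exact hcomp i w hPi

end Groth.Agent.Lib.Helper16.AttrDescent
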