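import Mathlib
import Groth.Prelude.Def_Magnet
import Groth.Agent.Lib.Helper16.ExtCat

/-!
# Equivariant maps out of a quotient monoid versus fixed points of the kernel (helper16)

Abstract comparison: for a monoid morphism `π : A ⟶ B` with "kernel" `κ : K ⟶ A`, equivariant maps
`B ⊗ T ⟶ X` (for `A` acting on `B` through `π`) correspond to the `K`-fixed points of `X`, as soon
as the points with extendable orbit map are exactly the `K`-fixed points.
-/

set_option autoImplicit false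

namespace Groth.Agent.Lib.Helper16.AttrFixCat

universe v₁ u₁
open CategoryTheory Limits MonoidalCategory CartesianMonoidalCategory MonObj Opposite Magnet
open Groth.Agent.Lib.Helper16.ExtCat

section Mon

variable {C : Type u₁} [Category.{v₁} C] [CartesianMonoidalCategory C] {A B K X : C} [MonObj A]
  [MonObj B] [MonObj K] (π : A ⟶ B) [IsMonHom π] (κ : K ⟶ A) [IsMonHom κ] (a : MonAct A X)

/-- `x` is fixed by `K` (acting through `κ`) -/
def Fix {T : C} (x : T ⟶ X) : Prop :=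
  ∀ (T' : C) (t : T' ⟶ T) (g : T' ⟶ K), lift g (t ≫ x) ≫ (a.restrict κ).act = t ≫ x

theorem fix_of_ext (hκπ : κ ≫ π = toUnit K ≫ η[B]) {T : C} (x : T ⟶ X) (h : Ext π a x) :
    Fix κ a x := by
  obtain ⟨φ, hφ⟩ := h
  intro T' t g
  have key : ∀ d : T' ⟶ A, lift d (t ≫ x) ≫ a.act = lift (d ≫ π) t ≫ φ := by
    intro d
    have h1 : lift d (t ≫ x) = lift d t ≫ (A ◁ x) := by rw [lift_whiskerLeft]
    have h2 : lift (d ≫ π) t = lift d t ≫ (π ▷ T) := by rw [lift_whiskerRight]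
    rw [h1, h2, Category.assoc, Category.assoc, hφ]
  rw [MonAct.lift_restrict_act, key]
  have h3 : t ≫ x = lift ((1 : T' ⟶ A) ≫ π) t ≫ φ := by
    rw [← key, MonAct.lift_one_act]
  have h4 : (g ≫ κ) ≫ π = (1 : T' ⟶ A) ≫ π := by
    rw [Category.assoc, hκπ, MonObj.one_comp, Hom.one_def, ← Category.assoc]
    congr 1
    exact toUnit_unique _ _
  rw [h3, h4]

theorem exists_iso_fixedPsh
    (hepi : ∀ (T : C) (φ₁ φ₂ : B ⊗ T ⟶ X), (π ▷ T) ≫ φ₁ = (π ▷ T) ≫ φ₂ → φ₁ = φ₂)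
    (hepi2 : ∀ (T : C) (ψ₁ ψ₂ : A ⊗ (B ⊗ T) ⟶ X),
      (A ◁ (π ▷ T)) ≫ ψ₁ = (A ◁ (π ▷ T)) ≫ ψ₂ → ψ₁ = ψ₂)
    (h : ∀ {T : C} (x : T ⟶ X), Ext π a x ↔ Fix κ a x) :
    ∃ e : MonAct.eqvHom ((MonAct.regular B).restrict π) a ≅ MonAct.fixedPsh (a.restrict κ),
      e.hom ≫ MonAct.fixedPshι _ =
        MonAct.eqvHom.evalAt ((MonAct.regular B).restrict π) a η[B] := by
  have hext : ∀ {T : C} (x : (MonAct.fixedPsh (a.restrict κ)).obj (op T)), Ext π a x.1 :=
    fun x => (h _).2 x.2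
  have hfix : ∀ {T : C} (φ : (MonAct.eqvHom ((MonAct.regular B).restrict π) a).obj (op T)),
      Fix κ a (lift (toUnit T ≫ η[B]) (𝟙 T) ≫ φ.1) := fun φ =>
    (h _).1 ⟨φ.1, orbit_eq π a φ.1 φ.2⟩
  let E : ∀ T : Cᵒᵖ, (MonAct.eqvHom ((MonAct.regular B).restrict π) a).obj T ≃
      (MonAct.fixedPsh (a.restrict κ)).obj T := fun T =>
    { toFun := fun φ => ⟨lift (toUnit (unop T) ≫ η[B]) (𝟙 (unop T)) ≫ φ.1, hfix φ⟩
      invFun := fun x => ⟨(hext x).choose,
        equivariant_of_orbit π a (hepi2 (unop T)) x.1 _ (hext x).choose_spec⟩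
      left_inv := fun φ => by
        apply Subtype.ext
        apply hepi (unop T)
        have h1 := (hext (T := unop T)
          ⟨lift (toUnit (unop T) ≫ η[B]) (𝟙 (unop T)) ≫ φ.1, hfix φ⟩).choose_spec
        exact h1.trans (orbit_eq π a φ.1 φ.2).symm
      right_inv := fun x => by
        apply Subtype.ext
        exact eval_eq π a x.1 _ (hext x).choose_spec }
  refine ⟨NatIso.ofComponents (fun T => (E T).toIso) ?_, ?_⟩
  · intro T T' t
    apply ConcreteCategory.hom_ext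
    intro φ
    apply Subtype.ext
    show lift (toUnit (unop T') ≫ η[B]) (𝟙 (unop T')) ≫ (B ◁ t.unop) ≫ φ.1 =
      t.unop ≫ lift (toUnit (unop T) ≫ η[B]) (𝟙 (unop T)) ≫ φ.1
    rw [lift_whiskerLeft_assoc, comp_lift_assoc, Category.id_comp, Category.comp_id,
      ← Category.assoc t.unop]
    congr 3
    exact toUnit_unique _ _
  · ext T φ
    rfl

end Mon

section Grp

variable {C : Type u₁} [Category.{v₁} C] [CartesianMonoidalCategory C] {A B K X : C} [GrpObj A]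
  [MonObj B] [MonObj K] (π : A ⟶ B) [IsMonHom π] (κ : K ⟶ A) [IsMonHom κ] (a : MonAct A X)

theorem orbit_coequalizes
    (hker : ∀ (P : C) (d : P ⟶ A), d ≫ π = toUnit P ≫ η[B] → ∃ k : P ⟶ K, k ≫ κ = d)
    {T : C} (x : T ⟶ X) (hx : Fix κ a x) {Q : C} (G₁ G₂ : Q ⟶ A ⊗ T)
    (hG : G₁ ≫ (π ▷ T) = G₂ ≫ (π ▷ T)) :
    G₁ ≫ (A ◁ x) ≫ a.act = G₂ ≫ (A ◁ x) ≫ a.act := by
  have e1 : G₁ = lift (G₁ ≫ fst A T) (G₁ ≫ snd A T) := (lift_comp_fst_snd G₁).symm
  have e2 : G₂ = lift (G₂ ≫ fst A T) (G₂ ≫ snd A T) := (lift_comp_fst_snd G₂).symm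
  set g₁ := G₁ ≫ fst A T
  set g₂ := G₂ ≫ fst A T
  set t₁ := G₁ ≫ snd A T
  set t₂ := G₂ ≫ snd A T
  have hfst : g₁ ≫ π = g₂ ≫ π := by
    have := congrArg (fun m => m ≫ fst B T) hG
    simp only [Category.assoc, whiskerRight_fst] at this
    simpa only [← Category.assoc] using this
  have hsnd : t₁ = t₂ := by
    have := congrArg (fun m => m ≫ snd B T) hG
    simpa only [Category.assoc, whiskerRight_snd] using this
  have hd : (g₂⁻¹ * g₁) ≫ π = toUnit Q ≫ η[B] := by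
    rw [MonObj.mul_comp, hfst, ← MonObj.mul_comp, inv_mul_cancel, MonObj.one_comp, Hom.one_def]
  obtain ⟨k, hk⟩ := hker Q _ hd
  have hg : g₁ = g₂ * (g₂⁻¹ * g₁) := by rw [mul_inv_cancel_left]
  have h3 : lift (g₂⁻¹ * g₁) (t₂ ≫ x) ≫ a.act = t₂ ≫ x := by
    rw [← hk, ← MonAct.lift_restrict_act]
    exact hx Q t₂ k
  rw [e1, e2, lift_whiskerLeft_assoc, lift_whiskerLeft_assoc, hsnd, hg, MonAct.lift_mul_act, h3]

end Grp

end Groth.Agent.Lib.Helper16.AttrFixCat
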