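import Mathlib
import Groth.Prelude.Def_Magnet2

/-!
# Ring-level facts about `R[N] → R[M]` for a submonoid `N ⊆ M` (helper16)

The monoid algebra `R[M]` is projective over `R` and the map `R[N] → R[M]` induced by an injective
monoid morphism has an `R`-linear retraction.  We transport these facts to global sections of
spectra.
-/

set_option autoImplicit false

namespace Groth.Agent.Lib.Helper16.AttrRing

universe u
open CategoryTheory AlgebraicGeometry

section Alg

variable (R : Type u) [CommRing R] {M N : Type} [Monoid M] [Monoid N] (f : N →* M)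

/-- The linear retraction of `R[N] → R[M]`. -/
noncomputable def retr (hf : Function.Injective f) : MonoidAlgebra R M →ₗ[R] MonoidAlgebra R N :=
  (MonoidAlgebra.coeffLinearEquiv R).symm.toLinearMap ∘ₗ Finsupp.lcomapDomain f hf ∘ₗ
    (MonoidAlgebra.coeffLinearEquiv R).toLinearMap

theorem retr_map (hf : Function.Injective f) (x : MonoidAlgebra R N) :
    retr R f hf (MonoidAlgebra.mapDomainBialgHom R f x) = x := by
  apply MonoidAlgebra.coeff_injective
  show Finsupp.comapDomain f (Finsupp.mapDomain f x.coeff) _ = x.coeff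
  exact Finsupp.comapDomain_mapDomain f hf x.coeff

instance : Module.Projective R (MonoidAlgebra R M) :=
  Module.Projective.of_equiv' (MonoidAlgebra.coeffLinearEquiv R).symm

end Alg

section Transport

variable {K₀ G₀ M₀ : Type u} [CommRing K₀] [CommRing G₀] [CommRing M₀] [Algebra K₀ G₀]
  [Algebra K₀ M₀]

/-- Projectivity of global sections of the spectrum. -/
theorem projective_Γ [Module.Projective K₀ G₀] :
    letI := (Spec.map (CommRingCat.ofHom (algebraMap K₀ G₀))).appTop.hom.toAlgebra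
    Module.Projective Γ(Spec (CommRingCat.of K₀), ⊤) Γ(Spec (CommRingCat.of G₀), ⊤) := by
  letI := (Spec.map (CommRingCat.ofHom (algebraMap K₀ G₀))).appTop.hom.toAlgebra
  let σ : K₀ →+* Γ(Spec (CommRingCat.of K₀), ⊤) := (Scheme.ΓSpecIso (CommRingCat.of K₀)).inv.hom
  let σ' : Γ(Spec (CommRingCat.of K₀), ⊤) →+* K₀ := (Scheme.ΓSpecIso (CommRingCat.of K₀)).hom.hom
  haveI : RingHomInvPair σ σ' :=
    ⟨by
      ext c
      exact congrArg (fun m => m.hom c) (Scheme.ΓSpecIso (CommRingCat.of K₀)).inv_hom_id,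
     by
      ext c
      exact congrArg (fun m => m.hom c) (Scheme.ΓSpecIso (CommRingCat.of K₀)).hom_inv_id⟩
  haveI : RingHomInvPair σ' σ :=
    ⟨by
      ext c
      exact congrArg (fun m => m.hom c) (Scheme.ΓSpecIso (CommRingCat.of K₀)).hom_inv_id,
     by
      ext c
      exact congrArg (fun m => m.hom c) (Scheme.ΓSpecIso (CommRingCat.of K₀)).inv_hom_id⟩
  have hnat := Scheme.ΓSpecIso_inv_naturality (CommRingCat.ofHom (algebraMap K₀ G₀))
  let e₂ : G₀ ≃ₛₗ[σ] Γ(Spec (CommRingCat.of G₀), ⊤) :=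
    { toFun := (Scheme.ΓSpecIso (CommRingCat.of G₀)).inv.hom
      map_add' := fun x y => map_add _ x y
      map_smul' := fun c x => by
        show (Scheme.ΓSpecIso (CommRingCat.of G₀)).inv.hom (c • x) =
          (Spec.map (CommRingCat.ofHom (algebraMap K₀ G₀))).appTop.hom (σ c) *
            (Scheme.ΓSpecIso (CommRingCat.of G₀)).inv.hom x
        rw [Algebra.smul_def, map_mul]
        congr 1
        exact congrArg (fun m => m.hom c) hnat
      invFun := (Scheme.ΓSpecIso (CommRingCat.of G₀)).hom.hom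
      left_inv := fun x =>
        congrArg (fun m => m.hom x) (Scheme.ΓSpecIso (CommRingCat.of G₀)).inv_hom_id
      right_inv := fun x =>
        congrArg (fun m => m.hom x) (Scheme.ΓSpecIso (CommRingCat.of G₀)).hom_inv_id }
  exact Module.Projective.of_equiv e₂

/-- Transport of a linear retraction to global sections of spectra. -/
theorem retraction_Γ (ι₀ : M₀ →ₐ[K₀] G₀) (ρ : G₀ →ₗ[K₀] M₀) (hρ : ∀ x, ρ (ι₀ x) = x) :
    ∃ r₀ : Γ(Spec (CommRingCat.of G₀), ⊤) → Γ(Spec (CommRingCat.of M₀), ⊤),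
      (∀ x y, r₀ (x + y) = r₀ x + r₀ y) ∧
      (∀ (c : Γ(Spec (CommRingCat.of K₀), ⊤)) x,
        r₀ ((Spec.map (CommRingCat.ofHom (algebraMap K₀ G₀))).appTop.hom c * x) =
          (Spec.map (CommRingCat.ofHom (algebraMap K₀ M₀))).appTop.hom c * r₀ x) ∧
      ∀ m, r₀ ((Spec.map (CommRingCat.ofHom ι₀.toRingHom)).appTop.hom m) = m := by
  have hG := Scheme.ΓSpecIso_naturality (CommRingCat.ofHom (algebraMap K₀ G₀))
  have hM := Scheme.ΓSpecIso_inv_naturality (CommRingCat.ofHom (algebraMap K₀ M₀))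
  have hι := Scheme.ΓSpecIso_naturality (CommRingCat.ofHom ι₀.toRingHom)
  refine ⟨fun x => (Scheme.ΓSpecIso (CommRingCat.of M₀)).inv.hom
    (ρ ((Scheme.ΓSpecIso (CommRingCat.of G₀)).hom.hom x)), ?_, ?_, ?_⟩
  · intro x y
    simp only [map_add]
  · intro c x
    have h1 : (Scheme.ΓSpecIso (CommRingCat.of G₀)).hom.hom
        ((Spec.map (CommRingCat.ofHom (algebraMap K₀ G₀))).appTop.hom c) =
        algebraMap K₀ G₀ ((Scheme.ΓSpecIso (CommRingCat.of K₀)).hom.hom c) :=
      congrArg (fun m => m.hom c) hG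
    have h2 : (Scheme.ΓSpecIso (CommRingCat.of M₀)).inv.hom
        (algebraMap K₀ M₀ ((Scheme.ΓSpecIso (CommRingCat.of K₀)).hom.hom c)) =
        (Spec.map (CommRingCat.ofHom (algebraMap K₀ M₀))).appTop.hom
          ((Scheme.ΓSpecIso (CommRingCat.of K₀)).inv.hom
            ((Scheme.ΓSpecIso (CommRingCat.of K₀)).hom.hom c)) :=
      congrArg (fun m => m.hom ((Scheme.ΓSpecIso (CommRingCat.of K₀)).hom.hom c)) hM
    have h3 : (Scheme.ΓSpecIso (CommRingCat.of K₀)).inv.hom
        ((Scheme.ΓSpecIso (CommRingCat.of K₀)).hom.hom c) = c :=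
      congrArg (fun m => m.hom c) (Scheme.ΓSpecIso (CommRingCat.of K₀)).hom_inv_id
    rw [h3] at h2
    show (Scheme.ΓSpecIso (CommRingCat.of M₀)).inv.hom
      (ρ ((Scheme.ΓSpecIso (CommRingCat.of G₀)).hom.hom (_ * x))) = _
    rw [map_mul, h1, ← Algebra.smul_def, map_smul, Algebra.smul_def, map_mul, h2]
  · intro m
    have h1 : (Scheme.ΓSpecIso (CommRingCat.of G₀)).hom.hom
        ((Spec.map (CommRingCat.ofHom ι₀.toRingHom)).appTop.hom m) =
        ι₀ ((Scheme.ΓSpecIso (CommRingCat.of M₀)).hom.hom m) :=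
      congrArg (fun f => f.hom m) hι
    show (Scheme.ΓSpecIso (CommRingCat.of M₀)).inv.hom
      (ρ ((Scheme.ΓSpecIso (CommRingCat.of G₀)).hom.hom _)) = m
    rw [h1, hρ]
    exact congrArg (fun f => f.hom m) (Scheme.ΓSpecIso (CommRingCat.of M₀)).hom_inv_id

end Transport

section AMon

open Magnet

variable (M : Type) [AddCommMonoid M] (N : AddSubmonoid M)

theorem projective_amon :
    letI := (AMon (ULift.{u} ℤ) M).hom.appTop.hom.toAlgebra
    Module.Projective Γ(Spec (CommRingCat.of (ULift.{u} ℤ)), ⊤)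
      Γ((AMon (ULift.{u} ℤ) M).left, ⊤) :=
  projective_Γ (K₀ := ULift.{u} ℤ) (G₀ := MonoidAlgebra (ULift.{u} ℤ) (Multiplicative M))

theorem retraction_amon :
    ∃ r₀ : Γ((AMon (ULift.{u} ℤ) M).left, ⊤) → Γ((AMon (ULift.{u} ℤ) ↥N).left, ⊤),
      (∀ x y, r₀ (x + y) = r₀ x + r₀ y) ∧
      (∀ (c : Γ(Spec (CommRingCat.of (ULift.{u} ℤ)), ⊤)) x,
        r₀ ((AMon (ULift.{u} ℤ) M).hom.appTop.hom c * x) =
          (AMon (ULift.{u} ℤ) ↥N).hom.appTop.hom c * r₀ x) ∧
      ∀ m, r₀ ((AMon.map (ULift.{u} ℤ) N.subtype).left.appTop.hom m) = m := by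
  have hinj : Function.Injective (AddMonoidHom.toMultiplicative N.subtype) :=
    fun a b h => Subtype.ext h
  exact retraction_Γ (K₀ := ULift.{u} ℤ)
    (MonoidAlgebra.mapDomainBialgHom (ULift.{u} ℤ)
      (AddMonoidHom.toMultiplicative N.subtype)).toAlgHom
    (retr (ULift.{u} ℤ) (AddMonoidHom.toMultiplicative N.subtype) hinj)
    (retr_map (ULift.{u} ℤ) (AddMonoidHom.toMultiplicative N.subtype) hinj)

end AMon

end Groth.Agent.Lib.Helper16.AttrRing
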