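import Mathlib

/-!
# Extension ideals (helper16)

Let `ι : HM → HG` be an injective map of `k`-algebras admitting a `k`-linear retraction, with `HG`
projective over `k`, and let `α : C → HG ⊗[k] C` be a `k`-algebra map.  The *extension ideal*
`extIdeal ι α ⊆ C` is generated by the slices `(ℓ ⊗ id)(α c)` for `ℓ` a linear functional on `HG`
vanishing on `HM`.  For a `k`-algebra map `ξ : C → R`, the ideal dies under `ξ` iff
`(id ⊗ ξ) ∘ α` takes values in the image of `HM ⊗ R`.
-/

set_option autoImplicit false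

namespace Groth.Agent.Lib.Helper16.ExtAlg

universe u
open TensorProduct

section Alg

variable {k : Type u} [CommRing k] {HM HG C R : Type u} [CommRing HM] [CommRing HG] [CommRing C]
  [CommRing R] [Algebra k HM] [Algebra k HG] [Algebra k C] [Algebra k R]

/-- the slice map `ℓ ⊗ id : HG ⊗ R → R` -/
noncomputable def slice (R : Type u) [CommRing R] [Algebra k R] (ℓ : HG →ₗ[k] k) :
    HG ⊗[k] R →ₗ[k] R :=
  (TensorProduct.lid k R).toLinearMap ∘ₗ LinearMap.rTensor R ℓ

@[simp] theorem slice_tmul (ℓ : HG →ₗ[k] k) (h : HG) (r : R) :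
    slice R ℓ (h ⊗ₜ[k] r) = ℓ h • r := by
  simp [slice]

theorem slice_map (ξ : C →ₐ[k] R) (ℓ : HG →ₗ[k] k) (z : HG ⊗[k] C) :
    ξ (slice C ℓ z) = slice R ℓ (Algebra.TensorProduct.map (AlgHom.id k HG) ξ z) := by
  induction z using TensorProduct.induction_on with
  | zero => simp
  | tmul h c => simp
  | add x y hx hy => simp only [map_add, hx, hy]

theorem slice_rTensor {H' : Type u} [AddCommGroup H'] [Module k H'] (f : H' →ₗ[k] HG)
    (ℓ : HG →ₗ[k] k) (w : H' ⊗[k] R) :
    slice R ℓ (LinearMap.rTensor R f w) =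
      ((TensorProduct.lid k R).toLinearMap ∘ₗ LinearMap.rTensor R (ℓ ∘ₗ f)) w := by
  induction w using TensorProduct.induction_on with
  | zero => simp
  | tmul h c => simp
  | add x y hx hy => simp only [map_add, hx, hy]

theorem slice_sub (ℓ₁ ℓ₂ : HG →ₗ[k] k) (z : HG ⊗[k] R) :
    slice R (ℓ₁ - ℓ₂) z = slice R ℓ₁ z - slice R ℓ₂ z := by
  induction z using TensorProduct.induction_on with
  | zero => simp
  | tmul h c => simp [sub_smul]
  | add x y hx hy => simp only [map_add, hx, hy]; abel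

theorem eq_zero_of_slice [Module.Projective k HG] (w : HG ⊗[k] R)
    (h : ∀ ℓ : HG →ₗ[k] k, slice R ℓ w = 0) : w = 0 := by
  classical
  obtain ⟨s, hs⟩ := (inferInstance : Module.Projective k HG).out
  -- `s : HG →ₗ (HG →₀ k)` is a section of the linear combination map
  have hinj : Function.Injective (LinearMap.rTensor R s) := by
    have hleft : (LinearMap.rTensor R (Finsupp.linearCombination k id)) ∘ₗ (LinearMap.rTensor R s)
        = LinearMap.id := by
      rw [← LinearMap.rTensor_comp]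
      have : (Finsupp.linearCombination k id) ∘ₗ s = (LinearMap.id : HG →ₗ[k] HG) := by
        ext x
        exact hs x
      rw [this, LinearMap.rTensor_id]
    intro a b hab
    have := congrArg (LinearMap.rTensor R (Finsupp.linearCombination k id)) hab
    rw [← LinearMap.comp_apply, ← LinearMap.comp_apply, hleft] at this
    exact this
  apply hinj
  rw [map_zero]
  apply (TensorProduct.finsuppScalarLeft k R HG).injective
  rw [map_zero]
  ext x
  have key : ∀ w : HG ⊗[k] R, (TensorProduct.finsuppScalarLeft k R HG (LinearMap.rTensor R s w)) x =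
      slice R ((Finsupp.lapply x) ∘ₗ s) w := by
    intro w
    induction w using TensorProduct.induction_on with
    | zero => simp
    | tmul h c => simp [TensorProduct.finsuppScalarLeft_apply_tmul_apply]
    | add a b ha hb => simp only [map_add, Finsupp.add_apply, ha, hb]
  rw [key, h]
  rfl

theorem mem_range_iff (ι : HM →ₐ[k] HG) (r : HG →ₗ[k] HM) (hr : ∀ m, r (ι m) = m)
    [Module.Projective k HG] (z : HG ⊗[k] R) :
    z ∈ (Algebra.TensorProduct.map ι (AlgHom.id k R)).range ↔
      ∀ ℓ : HG →ₗ[k] k, (∀ m, ℓ (ι m) = 0) → slice R ℓ z = 0 := by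
  have hmap : ∀ w : HM ⊗[k] R, Algebra.TensorProduct.map ι (AlgHom.id k R) w =
      LinearMap.rTensor R ι.toLinearMap w := by
    intro w
    induction w using TensorProduct.induction_on with
    | zero => simp
    | tmul h c => simp
    | add a b ha hb => simp only [map_add, ha, hb]
  constructor
  · rintro ⟨w, hw⟩ ℓ hℓ
    have hw' : z = Algebra.TensorProduct.map ι (AlgHom.id k R) w := hw.symm
    rw [hw', hmap, slice_rTensor]
    have : ℓ ∘ₗ ι.toLinearMap = 0 := by
      ext m
      exact hℓ m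
    rw [this, LinearMap.rTensor_zero]
    simp
  · intro h
    let E : HG ⊗[k] R := LinearMap.rTensor R (ι.toLinearMap ∘ₗ r) z
    have hz : z - E = 0 := by
      apply eq_zero_of_slice
      intro ℓ'
      have h1 : slice R ℓ' E = slice R (ℓ' ∘ₗ (ι.toLinearMap ∘ₗ r)) z := by
        rw [slice_rTensor]
        rfl
      rw [map_sub, h1, ← slice_sub]
      apply h
      intro m
      simp [hr]
    have hE : E = Algebra.TensorProduct.map ι (AlgHom.id k R) (LinearMap.rTensor R r z) := by
      rw [hmap, ← LinearMap.comp_apply, ← LinearMap.rTensor_comp]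
    rw [sub_eq_zero] at hz
    rw [hz, hE]
    exact ⟨_, rfl⟩

/-- the extension ideal -/
def extIdeal (ι : HM →ₐ[k] HG) (α : C →ₐ[k] HG ⊗[k] C) : Ideal C :=
  Ideal.span {a | ∃ (c : C) (ℓ : HG →ₗ[k] k), (∀ m, ℓ (ι m) = 0) ∧ slice C ℓ (α c) = a}

theorem map_extIdeal_eq_bot_iff (ι : HM →ₐ[k] HG) (r : HG →ₗ[k] HM) (hr : ∀ m, r (ι m) = m)
    [Module.Projective k HG] (α : C →ₐ[k] HG ⊗[k] C) (ξ : C →ₐ[k] R) :
    (extIdeal ι α).map ξ = ⊥ ↔
      ∀ c, (Algebra.TensorProduct.map (AlgHom.id k HG) ξ) (α c) ∈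
        (Algebra.TensorProduct.map ι (AlgHom.id k R)).range := by
  rw [Ideal.map_eq_bot_iff_le_ker, extIdeal, Ideal.span_le]
  constructor
  · intro h c
    rw [mem_range_iff ι r hr]
    intro ℓ hℓ
    rw [← slice_map]
    have := h ⟨c, ℓ, hℓ, rfl⟩
    rwa [SetLike.mem_coe, RingHom.mem_ker] at this
  · rintro h a ⟨c, ℓ, hℓ, rfl⟩
    rw [SetLike.mem_coe, RingHom.mem_ker]
    have h1 := slice_map ξ ℓ (α c)
    rw [h1]
    exact (mem_range_iff ι r hr _).1 (h c) ℓ hℓ

end Alg

theorem projective_of_isField {K V : Type u} [CommRing K] (hK : IsField K) [AddCommGroup V]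
    [Module K V] : Module.Projective K V := by
  letI := hK.toField
  exact Module.Projective.of_free

theorem exists_leftInverse_of_isField {K V W : Type u} [CommRing K] (hK : IsField K)
    [AddCommGroup V] [Module K V] [AddCommGroup W] [Module K W] (f : V →ₗ[K] W)
    (hf : Function.Injective f) : ∃ r : W →ₗ[K] V, ∀ v, r (f v) = v := by
  letI := hK.toField
  obtain ⟨r, hr⟩ := f.exists_leftInverse_of_injective (LinearMap.ker_eq_bot.2 hf)
  exact ⟨r, fun v => LinearMap.congr_fun hr v⟩

section Cat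

open CategoryTheory Limits

variable {K HM HG C : CommRingCat.{u}} (κM : K ⟶ HM) (κG : K ⟶ HG) (κC : K ⟶ C) (ι : HM ⟶ HG)
  (hι : κM ≫ ι = κG) {PX : CommRingCat.{u}} (a₁ : HG ⟶ PX) (a₂ : C ⟶ PX)
  (hPX : IsPushout κG κC a₁ a₂) (υ : C ⟶ PX) (hυ : κC ≫ υ = κG ≫ a₁)

include hι hPX hυ in
/-- Categorical form of the extension ideal: all tensor products are given as abstract pushouts
of commutative rings. -/
theorem exists_extIdeal (hK : IsField K) (hinj : Function.Injective ι.hom) :
    ∃ J : Ideal C, ∀ ⦃R DG DM : CommRingCat.{u}⦄ (κR : K ⟶ R) (ξ : C ⟶ R) (_ : κC ≫ ξ = κR)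
      (g₁ : HG ⟶ DG) (g₂ : R ⟶ DG) (_ : IsPushout κG κR g₁ g₂)
      (m₁ : HM ⟶ DM) (m₂ : R ⟶ DM) (_ : IsPushout κM κR m₁ m₂)
      (ιR : DM ⟶ DG) (_ : m₁ ≫ ιR = ι ≫ g₁) (_ : m₂ ≫ ιR = g₂)
      (β : PX ⟶ DG) (_ : a₁ ≫ β = g₁) (_ : a₂ ≫ β = ξ ≫ g₂),
      J.map ξ.hom = ⊥ ↔ ∀ c, (υ ≫ β).hom c ∈ ιR.hom.range := by
  letI algG := κG.hom.toAlgebra
  letI algM := κM.hom.toAlgebra
  letI algC := κC.hom.toAlgebra
  let ιa : HM →ₐ[K] HG :=
    { ι.hom with
      commutes' := fun c => by
        show ι.hom (κM.hom c) = κG.hom c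
        rw [← hι]
        rfl }
  haveI : Module.Projective K HG := projective_of_isField hK
  obtain ⟨r, hr⟩ := exists_leftInverse_of_isField hK ιa.toLinearMap hinj
  let eX := (CommRingCat.isPushout_tensorProduct K HG C).isoIsPushout HG C hPX
  have heX1 : CommRingCat.ofHom (Algebra.TensorProduct.includeLeftRingHom : HG →+* HG ⊗[K] C) ≫
      eX.hom = a₁ := IsPushout.inl_isoIsPushout_hom _ _ _ _
  have heX2 : CommRingCat.ofHom
      (Algebra.TensorProduct.includeRight.toRingHom : C →+* HG ⊗[K] C) ≫ eX.hom = a₂ :=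
    IsPushout.inr_isoIsPushout_hom _ _ _ _
  let α : C →ₐ[K] HG ⊗[K] C :=
    { (υ ≫ eX.inv).hom with
      commutes' := fun c => by
        show eX.inv.hom (υ.hom (κC.hom c)) = _
        have h1 : υ.hom (κC.hom c) = a₁.hom (κG.hom c) := by
          have := congrArg (fun f => f.hom c) hυ
          exact this
        rw [h1, ← heX1]
        show eX.inv.hom (eX.hom.hom ((κG.hom c) ⊗ₜ[K] (1 : C))) = _
        have h2 : ∀ z, eX.inv.hom (eX.hom.hom z) = z := fun z => by
          have := congrArg (fun f => f.hom z) eX.hom_inv_id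
          exact this
        rw [h2]
        rfl }
  have hα : ∀ c, eX.hom.hom (α c) = υ.hom c := by
    intro c
    show eX.hom.hom (eX.inv.hom (υ.hom c)) = _
    have := congrArg (fun f => f.hom (υ.hom c)) eX.inv_hom_id
    exact this
  refine ⟨extIdeal ιa α, ?_⟩
  intro R DG DM κR ξ hξ g₁ g₂ hDG m₁ m₂ hDM ιR hιR1 hιR2 β hβ1 hβ2
  letI algR := κR.hom.toAlgebra
  let ξa : C →ₐ[K] R :=
    { ξ.hom with
      commutes' := fun c => by
        show ξ.hom (κC.hom c) = κR.hom c
        rw [← hξ]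
        rfl }
  let eG := (CommRingCat.isPushout_tensorProduct K HG R).isoIsPushout HG R hDG
  have heG1 : CommRingCat.ofHom (Algebra.TensorProduct.includeLeftRingHom : HG →+* HG ⊗[K] R) ≫
      eG.hom = g₁ := IsPushout.inl_isoIsPushout_hom _ _ _ _
  have heG2 : CommRingCat.ofHom
      (Algebra.TensorProduct.includeRight.toRingHom : R →+* HG ⊗[K] R) ≫ eG.hom = g₂ :=
    IsPushout.inr_isoIsPushout_hom _ _ _ _
  let eM := (CommRingCat.isPushout_tensorProduct K HM R).isoIsPushout HM R hDM
  have heM1 : CommRingCat.ofHom (Algebra.TensorProduct.includeLeftRingHom : HM →+* HM ⊗[K] R) ≫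
      eM.hom = m₁ := IsPushout.inl_isoIsPushout_hom _ _ _ _
  have heM2 : CommRingCat.ofHom
      (Algebra.TensorProduct.includeRight.toRingHom : R →+* HM ⊗[K] R) ≫ eM.hom = m₂ :=
    IsPushout.inr_isoIsPushout_hom _ _ _ _
  -- compatibility of `β` with `id ⊗ ξ`
  have c1 : eX.hom ≫ β = CommRingCat.ofHom
      (Algebra.TensorProduct.map (AlgHom.id K HG) ξa).toRingHom ≫ eG.hom := by
    apply (CommRingCat.isPushout_tensorProduct K HG C).hom_ext
    · rw [← Category.assoc, heX1, hβ1, ← heG1, ← Category.assoc]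
      congr 1
      ext h
      show (h ⊗ₜ[K] (1 : R)) = Algebra.TensorProduct.map (AlgHom.id K HG) ξa (h ⊗ₜ[K] (1 : C))
      simp
    · rw [← Category.assoc, heX2, hβ2, ← heG2, ← Category.assoc, ← Category.assoc]
      congr 1
  -- compatibility of `ιR` with `ι ⊗ id`
  have c2 : eM.hom ≫ ιR = CommRingCat.ofHom
      (Algebra.TensorProduct.map ιa (AlgHom.id K R)).toRingHom ≫ eG.hom := by
    apply (CommRingCat.isPushout_tensorProduct K HM R).hom_ext
    · rw [← Category.assoc, heM1, hιR1, ← heG1, ← Category.assoc, ← Category.assoc]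
      congr 1
    · rw [← Category.assoc, heM2, hιR2, ← heG2, ← Category.assoc]
      congr 1
      ext c
      show ((1 : HG) ⊗ₜ[K] c) =
        Algebra.TensorProduct.map ιa (AlgHom.id K R) ((1 : HM) ⊗ₜ[K] c)
      simp
  have c1' : ∀ z : HG ⊗[K] C, β.hom (eX.hom.hom z) =
      eG.hom.hom (Algebra.TensorProduct.map (AlgHom.id K HG) ξa z) := fun z =>
    congrArg (fun f => f.hom z) c1
  have c2' : ∀ w : HM ⊗[K] R, ιR.hom (eM.hom.hom w) =
      eG.hom.hom (Algebra.TensorProduct.map ιa (AlgHom.id K R) w) := fun w =>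
    congrArg (fun f => f.hom w) c2
  have hGinj : Function.Injective eG.hom.hom := (ConcreteCategory.bijective_of_isIso eG.hom).1
  have hMsurj : Function.Surjective eM.hom.hom := (ConcreteCategory.bijective_of_isIso eM.hom).2
  have hrange : ∀ z : HG ⊗[K] R, eG.hom.hom z ∈ ιR.hom.range ↔
      z ∈ (Algebra.TensorProduct.map ιa (AlgHom.id K R)).range := by
    intro z
    constructor
    · rintro ⟨w', hw'⟩
      obtain ⟨w, rfl⟩ := hMsurj w'
      rw [c2'] at hw'
      exact ⟨w, hGinj hw'⟩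
    · rintro ⟨w, hw⟩
      refine ⟨eM.hom.hom w, ?_⟩
      rw [c2']
      exact congrArg _ hw
  have hmain := map_extIdeal_eq_bot_iff ιa r hr α ξa
  have hJ : (extIdeal ιa α).map ξ.hom = (extIdeal ιa α).map ξa := rfl
  rw [hJ, hmain]
  constructor
  · intro h c
    have := (hrange _).2 (h c)
    rw [← c1', hα] at this
    exact this
  · intro h c
    rw [← hrange, ← c1', hα]
    exact h c

end Cat

end Groth.Agent.Lib.Helper16.ExtAlg
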