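import Mathlib
import Groth.Agent.Lib.Helper16.ExtAlg

/-!
# Extension ideals, general base ring (helper16)

Version of `ExtAlg.exists_extIdeal` over an arbitrary base ring, assuming projectivity and a
linear retraction; and injectivity of the induced map on pushouts.
-/

set_option autoImplicit false

namespace Groth.Agent.Lib.Helper16.ExtAlg

universe u
open TensorProduct

section Cat2

open CategoryTheory Limits

variable {K HM HG C : CommRingCat.{u}} (κM : K ⟶ HM) (κG : K ⟶ HG) (κC : K ⟶ C) (ι : HM ⟶ HG)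
  (hι : κM ≫ ι = κG) {PX : CommRingCat.{u}} (a₁ : HG ⟶ PX) (a₂ : C ⟶ PX)
  (hPX : IsPushout κG κC a₁ a₂) (υ : C ⟶ PX) (hυ : κC ≫ υ = κG ≫ a₁)

include hι hPX hυ in
/-- Categorical form of the extension ideal: all tensor products are given as abstract pushouts
of commutative rings. -/
theorem exists_extIdeal' (hproj : letI := κG.hom.toAlgebra; Module.Projective K HG)
    (hret : ∃ r₀ : HG → HM, (∀ x y, r₀ (x + y) = r₀ x + r₀ y) ∧
      (∀ (c : K) x, r₀ (κG.hom c * x) = κM.hom c * r₀ x) ∧ ∀ m, r₀ (ι.hom m) = m) :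
    ∃ J : Ideal C, ∀ ⦃R DG DM : CommRingCat.{u}⦄ (κR : K ⟶ R) (ξ : C ⟶ R) (_ : κC ≫ ξ = κR)
      (g₁ : HG ⟶ DG) (g₂ : R ⟶ DG) (_ : IsPushout κG κR g₁ g₂)
      (m₁ : HM ⟶ DM) (m₂ : R ⟶ DM) (_ : IsPushout κM κR m₁ m₂)
      (ιR : DM ⟶ DG) (_ : m₁ ≫ ιR = ι ≫ g₁) (_ : m₂ ≫ ιR = g₂)
      (β : PX ⟶ DG) (_ : a₁ ≫ β = g₁) (_ : a₂ ≫ β = ξ ≫ g₂),
      J.map ξ.hom = ⊥ ↔ ∀ c, (υ ≫ β).hom c ∈ ιR.hom.range := by
  letI algG := κG.hom.toAlgebra
  letI algM := κM.hom.toAlgebra
  letI algC := κC.hom.toAlgebra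
  let ιa : HM →ₐ[K] HG :=
    { ι.hom with
      commutes' := fun c => by
        show ι.hom (κM.hom c) = κG.hom c
        rw [← hι]
        rfl }
  haveI : Module.Projective K HG := hproj
  obtain ⟨r₀, hr1, hr2, hr3⟩ := hret
  let r : HG →ₗ[K] HM :=
    { toFun := r₀
      map_add' := hr1
      map_smul' := fun c x => by
        show r₀ (c • x) = c • r₀ x
        rw [Algebra.smul_def, Algebra.smul_def]
        exact hr2 c x }
  have hr : ∀ m, r (ιa m) = m := hr3
  let eX := (CommRingCat.isPushout_tensorProduct K HG C).isoIsPushout HG C hPX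
  have heX1 : CommRingCat.ofHom (Algebra.TensorProduct.includeLeftRingHom : HG →+* HG ⊗[K] C) ≫
      eX.hom = a₁ := IsPushout.inl_isoIsPushout_hom _ _ _ _
  have heX2 : CommRingCat.ofHom
      (Algebra.TensorProduct.includeRight.toRingHom : C →+* HG ⊗[K] C) ≫ eX.hom = a₂ :=
    IsPushout.inr_isoIsPushout_hom _ _ _ _
  let α : C →ₐ[K] HG ⊗[K] C :=
    { (υ ≫ eX.inv).hom with
      commutes' := fun c => by
        show eX.inv.hom (υ.hom (κC.hom c)) = _
        have h1 : υ.hom (κC.hom c) = a₁.hom (κG.hom c) := by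
          have := congrArg (fun f => f.hom c) hυ
          exact this
        rw [h1, ← heX1]
        show eX.inv.hom (eX.hom.hom ((κG.hom c) ⊗ₜ[K] (1 : C))) = _
        have h2 : ∀ z, eX.inv.hom (eX.hom.hom z) = z := fun z => by
          have := congrArg (fun f => f.hom z) eX.hom_inv_id
          exact this
        rw [h2]
        rfl }
  have hα : ∀ c, eX.hom.hom (α c) = υ.hom c := by
    intro c
    show eX.hom.hom (eX.inv.hom (υ.hom c)) = _
    have := congrArg (fun f => f.hom (υ.hom c)) eX.inv_hom_id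
    exact this
  refine ⟨extIdeal ιa α, ?_⟩
  intro R DG DM κR ξ hξ g₁ g₂ hDG m₁ m₂ hDM ιR hιR1 hιR2 β hβ1 hβ2
  letI algR := κR.hom.toAlgebra
  let ξa : C →ₐ[K] R :=
    { ξ.hom with
      commutes' := fun c => by
        show ξ.hom (κC.hom c) = κR.hom c
        rw [← hξ]
        rfl }
  let eG := (CommRingCat.isPushout_tensorProduct K HG R).isoIsPushout HG R hDG
  have heG1 : CommRingCat.ofHom (Algebra.TensorProduct.includeLeftRingHom : HG →+* HG ⊗[K] R) ≫
      eG.hom = g₁ := IsPushout.inl_isoIsPushout_hom _ _ _ _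
  have heG2 : CommRingCat.ofHom
      (Algebra.TensorProduct.includeRight.toRingHom : R →+* HG ⊗[K] R) ≫ eG.hom = g₂ :=
    IsPushout.inr_isoIsPushout_hom _ _ _ _
  let eM := (CommRingCat.isPushout_tensorProduct K HM R).isoIsPushout HM R hDM
  have heM1 : CommRingCat.ofHom (Algebra.TensorProduct.includeLeftRingHom : HM →+* HM ⊗[K] R) ≫
      eM.hom = m₁ := IsPushout.inl_isoIsPushout_hom _ _ _ _
  have heM2 : CommRingCat.ofHom
      (Algebra.TensorProduct.includeRight.toRingHom : R →+* HM ⊗[K] R) ≫ eM.hom = m₂ :=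
    IsPushout.inr_isoIsPushout_hom _ _ _ _
  -- compatibility of `β` with `id ⊗ ξ`
  have c1 : eX.hom ≫ β = CommRingCat.ofHom
      (Algebra.TensorProduct.map (AlgHom.id K HG) ξa).toRingHom ≫ eG.hom := by
    apply (CommRingCat.isPushout_tensorProduct K HG C).hom_ext
    · rw [← Category.assoc, heX1, hβ1, ← heG1, ← Category.assoc]
      congr 1
      ext h
      show (h ⊗ₜ[K] (1 : R)) = Algebra.TensorProduct.map (AlgHom.id K HG) ξa (h ⊗ₜ[K] (1 : C))
      simp
    · rw [← Category.assoc, heX2, hβ2, ← heG2, ← Category.assoc, ← Category.assoc]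
      congr 1
  -- compatibility of `ιR` with `ι ⊗ id`
  have c2 : eM.hom ≫ ιR = CommRingCat.ofHom
      (Algebra.TensorProduct.map ιa (AlgHom.id K R)).toRingHom ≫ eG.hom := by
    apply (CommRingCat.isPushout_tensorProduct K HM R).hom_ext
    · rw [← Category.assoc, heM1, hιR1, ← heG1, ← Category.assoc, ← Category.assoc]
      congr 1
    · rw [← Category.assoc, heM2, hιR2, ← heG2, ← Category.assoc]
      congr 1
      ext c
      show ((1 : HG) ⊗ₜ[K] c) =
        Algebra.TensorProduct.map ιa (AlgHom.id K R) ((1 : HM) ⊗ₜ[K] c)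
      simp
  have c1' : ∀ z : HG ⊗[K] C, β.hom (eX.hom.hom z) =
      eG.hom.hom (Algebra.TensorProduct.map (AlgHom.id K HG) ξa z) := fun z =>
    congrArg (fun f => f.hom z) c1
  have c2' : ∀ w : HM ⊗[K] R, ιR.hom (eM.hom.hom w) =
      eG.hom.hom (Algebra.TensorProduct.map ιa (AlgHom.id K R) w) := fun w =>
    congrArg (fun f => f.hom w) c2
  have hGinj : Function.Injective eG.hom.hom := (ConcreteCategory.bijective_of_isIso eG.hom).1
  have hMsurj : Function.Surjective eM.hom.hom := (ConcreteCategory.bijective_of_isIso eM.hom).2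
  have hrange : ∀ z : HG ⊗[K] R, eG.hom.hom z ∈ ιR.hom.range ↔
      z ∈ (Algebra.TensorProduct.map ιa (AlgHom.id K R)).range := by
    intro z
    constructor
    · rintro ⟨w', hw'⟩
      obtain ⟨w, rfl⟩ := hMsurj w'
      rw [c2'] at hw'
      exact ⟨w, hGinj hw'⟩
    · rintro ⟨w, hw⟩
      refine ⟨eM.hom.hom w, ?_⟩
      rw [c2']
      exact congrArg _ hw
  have hmain := map_extIdeal_eq_bot_iff ιa r hr α ξa
  have hJ : (extIdeal ιa α).map ξ.hom = (extIdeal ιa α).map ξa := rfl
  rw [hJ, hmain]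
  constructor
  · intro h c
    have := (hrange _).2 (h c)
    rw [← c1', hα] at this
    exact this
  · intro h c
    rw [← hrange, ← c1', hα]
    exact h c


include hι in
/-- A linear retraction of `ι` makes the induced map on pushouts injective. -/
theorem injective_of_retraction
    (hret : ∃ r₀ : HG → HM, (∀ x y, r₀ (x + y) = r₀ x + r₀ y) ∧
      (∀ (c : K) x, r₀ (κG.hom c * x) = κM.hom c * r₀ x) ∧ ∀ m, r₀ (ι.hom m) = m)
    {R DG DM : CommRingCat.{u}} (κR : K ⟶ R)
    (g₁ : HG ⟶ DG) (g₂ : R ⟶ DG) (hDG : IsPushout κG κR g₁ g₂)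
    (m₁ : HM ⟶ DM) (m₂ : R ⟶ DM) (hDM : IsPushout κM κR m₁ m₂)
    (ιR : DM ⟶ DG) (hιR1 : m₁ ≫ ιR = ι ≫ g₁) (hιR2 : m₂ ≫ ιR = g₂) :
    Function.Injective ιR.hom := by
  letI algG := κG.hom.toAlgebra
  letI algM := κM.hom.toAlgebra
  letI algR := κR.hom.toAlgebra
  let ιa : HM →ₐ[K] HG :=
    { ι.hom with
      commutes' := fun c => by
        show ι.hom (κM.hom c) = κG.hom c
        rw [← hι]
        rfl }
  obtain ⟨r₀, hr1, hr2, hr3⟩ := hret
  let r : HG →ₗ[K] HM :=
    { toFun := r₀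
      map_add' := hr1
      map_smul' := fun c x => by
        show r₀ (c • x) = c • r₀ x
        rw [Algebra.smul_def, Algebra.smul_def]
        exact hr2 c x }
  let eG := (CommRingCat.isPushout_tensorProduct K HG R).isoIsPushout HG R hDG
  have heG1 : CommRingCat.ofHom (Algebra.TensorProduct.includeLeftRingHom : HG →+* HG ⊗[K] R) ≫
      eG.hom = g₁ := IsPushout.inl_isoIsPushout_hom _ _ _ _
  have heG2 : CommRingCat.ofHom
      (Algebra.TensorProduct.includeRight.toRingHom : R →+* HG ⊗[K] R) ≫ eG.hom = g₂ :=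
    IsPushout.inr_isoIsPushout_hom _ _ _ _
  let eM := (CommRingCat.isPushout_tensorProduct K HM R).isoIsPushout HM R hDM
  have heM1 : CommRingCat.ofHom (Algebra.TensorProduct.includeLeftRingHom : HM →+* HM ⊗[K] R) ≫
      eM.hom = m₁ := IsPushout.inl_isoIsPushout_hom _ _ _ _
  have heM2 : CommRingCat.ofHom
      (Algebra.TensorProduct.includeRight.toRingHom : R →+* HM ⊗[K] R) ≫ eM.hom = m₂ :=
    IsPushout.inr_isoIsPushout_hom _ _ _ _
  have c2 : eM.hom ≫ ιR = CommRingCat.ofHom
      (Algebra.TensorProduct.map ιa (AlgHom.id K R)).toRingHom ≫ eG.hom := by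
    apply (CommRingCat.isPushout_tensorProduct K HM R).hom_ext
    · rw [← Category.assoc, heM1, hιR1, ← heG1, ← Category.assoc, ← Category.assoc]
      congr 1
    · rw [← Category.assoc, heM2, hιR2, ← heG2, ← Category.assoc]
      congr 1
      ext c
      show (1 : HG) ⊗ₜ[K] c = Algebra.TensorProduct.map ιa (AlgHom.id K R) ((1 : HM) ⊗ₜ[K] c)
      simp
  have c2' : ∀ w : HM ⊗[K] R, ιR.hom (eM.hom.hom w) =
      eG.hom.hom (Algebra.TensorProduct.map ιa (AlgHom.id K R) w) := fun w =>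
    congrArg (fun f => f.hom w) c2
  have hGinj : Function.Injective eG.hom.hom := (ConcreteCategory.bijective_of_isIso eG.hom).1
  have hMsurj : Function.Surjective eM.hom.hom := (ConcreteCategory.bijective_of_isIso eM.hom).2
  have hmapinj : Function.Injective (Algebra.TensorProduct.map ιa (AlgHom.id K R)) := by
    have hleft : ∀ w : HM ⊗[K] R,
        LinearMap.rTensor R r (Algebra.TensorProduct.map ιa (AlgHom.id K R) w) = w := by
      intro w
      induction w using TensorProduct.induction_on with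
      | zero => simp
      | tmul h c =>
        simp only [Algebra.TensorProduct.map_tmul, LinearMap.rTensor_tmul, AlgHom.id_apply]
        show r₀ (ι.hom h) ⊗ₜ[K] c = h ⊗ₜ[K] c
        rw [hr3 h]
      | add a b ha hb => simp only [map_add, ha, hb]
    intro a b hab
    rw [← hleft a, ← hleft b, hab]
  intro a b hab
  obtain ⟨a', rfl⟩ := hMsurj a
  obtain ⟨b', rfl⟩ := hMsurj b
  rw [c2', c2'] at hab
  rw [hmapinj (hGinj hab)]

end Cat2

end Groth.Agent.Lib.Helper16.ExtAlg
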