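import Mathlib

/-!
# Coefficient ideals (helper16)

For a ring map `φ : A ⟶ B` with `B` projective over `A` and an ideal `I ⊆ B`, the coefficient
ideal `c(I) ⊆ A` is the smallest ideal `J` with `I ⊆ J B`; it satisfies: for every ring map
`ψ : A ⟶ C`, `I` dies in `B ⊗[A] C` iff `c(I)` dies in `C`.  `HasCoeff φ` packages the existence
of such ideals (in terms of arbitrary pushout squares of commutative rings).
-/

set_option autoImplicit false

namespace Groth.Agent.Lib.Helper16.RingCoeff

universe u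
open CategoryTheory Limits TensorProduct

section Alg

variable {A B C : Type u} [CommRing A] [CommRing B] [CommRing C] [Algebra A B] [Algebra A C]

/-- The coefficient ideal of an ideal of `B`: generated by the values of all `A`-linear
functionals on elements of `I`. -/
def coeffIdeal (A : Type u) {B : Type u} [CommRing A] [CommRing B] [Algebra A B] (I : Ideal B) :
    Ideal A :=
  Ideal.span {a | ∃ b ∈ I, ∃ l : B →ₗ[A] A, l b = a}

theorem tmul_one_eq_zero_iff [Module.Projective A B] (b : B) :
    (b ⊗ₜ[A] (1 : C) = 0) ↔ ∀ l : B →ₗ[A] A, algebraMap A C (l b) = 0 := by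
  constructor
  · intro h l
    let Φ : B ⊗[A] C →ₗ[A] C := (TensorProduct.lid A C).toLinearMap ∘ₗ LinearMap.rTensor C l
    have h1 : Φ (b ⊗ₜ[A] (1 : C)) = algebraMap A C (l b) := by
      simp [Φ, Algebra.smul_def]
    rw [← h1, h, map_zero]
  · intro h
    obtain ⟨s, hs⟩ := (inferInstance : Module.Projective A B).out
    have hb : b = Finsupp.linearCombination A id (s b) := (hs b).symm
    rw [hb, Finsupp.linearCombination_apply, Finsupp.sum, TensorProduct.sum_tmul]
    refine Finset.sum_eq_zero fun x _ => ?_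
    have h2 := h ((Finsupp.lapply x).comp s)
    simp only [LinearMap.comp_apply, Finsupp.lapply_apply] at h2
    rw [id, TensorProduct.smul_tmul, Algebra.smul_def, mul_one, h2, TensorProduct.tmul_zero]

theorem map_includeLeft_eq_bot_iff [Module.Projective A B] (I : Ideal B) :
    I.map (Algebra.TensorProduct.includeLeftRingHom : B →+* B ⊗[A] C) = ⊥ ↔
      (coeffIdeal A I).map (algebraMap A C) = ⊥ := by
  rw [Ideal.map_eq_bot_iff_le_ker, Ideal.map_eq_bot_iff_le_ker, coeffIdeal, Ideal.span_le]
  constructor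
  · rintro h a ⟨b, hb, l, rfl⟩
    have h1 : b ⊗ₜ[A] (1 : C) = 0 := by
      have := h hb
      rwa [RingHom.mem_ker] at this
    exact (tmul_one_eq_zero_iff (C := C) b).1 h1 l
  · intro h b hb
    rw [RingHom.mem_ker]
    show b ⊗ₜ[A] (1 : C) = 0
    rw [tmul_one_eq_zero_iff]
    intro l
    exact h ⟨b, hb, l, rfl⟩

end Alg

/-- `HasCoeff φ`: every ideal `I` of `B` has a coefficient ideal `J` in `A`: for every pushout
square on `φ` and `ψ : A ⟶ C`, `I` dies in the pushout iff `J` dies in `C`. -/
def HasCoeff {A B : CommRingCat.{u}} (φ : A ⟶ B) : Prop :=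
  ∀ I : Ideal B, ∃ J : Ideal A, ∀ ⦃C D : CommRingCat.{u}⦄ (ψ : A ⟶ C) (β : B ⟶ D) (γ : C ⟶ D),
    IsPushout φ ψ β γ → (I.map β.hom = ⊥ ↔ J.map ψ.hom = ⊥)

theorem hasCoeff_of_projective {A B : CommRingCat.{u}} (φ : A ⟶ B)
    (h : letI := φ.hom.toAlgebra; Module.Projective A B) : HasCoeff φ := by
  letI := φ.hom.toAlgebra
  intro I
  refine ⟨coeffIdeal A I, ?_⟩
  intro C D ψ β γ H
  letI := ψ.hom.toAlgebra
  let e := (CommRingCat.isPushout_tensorProduct A B C).isoIsPushout B C H
  have he : CommRingCat.ofHom (Algebra.TensorProduct.includeLeftRingHom : B →+* B ⊗[A] C) ≫ e.hom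
      = β := IsPushout.inl_isoIsPushout_hom _ _ _ _
  have h1 : I.map β.hom = ⊥ ↔
      I.map (Algebra.TensorProduct.includeLeftRingHom : B →+* B ⊗[A] C) = ⊥ := by
    rw [← he, CommRingCat.hom_comp, ← Ideal.map_map, CommRingCat.hom_ofHom]
    rw [Ideal.map_eq_bot_iff_le_ker (f := e.hom.hom)]
    have hinj : Function.Injective e.hom.hom :=
      (ConcreteCategory.bijective_of_isIso e.hom).1
    rw [(RingHom.injective_iff_ker_eq_bot _).1 hinj, le_bot_iff]
  rw [h1]
  exact map_includeLeft_eq_bot_iff (C := C) I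

end Groth.Agent.Lib.Helper16.RingCoeff
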