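import Mathlib
import Groth.Agent.Lib.Helper16.RingCoeff
import Groth.Agent.Lib.Helper16.ClosedDescentComap

/-!
# The universal vanishing locus along an affine morphism with coefficient ideals (helper16)

Let `p : P ⟶ X` be an affine morphism such that for every affine open `U ⊆ X` the ring map
`Γ(X, U) ⟶ Γ(P, p⁻¹U)` has coefficient ideals (`HasCoeff`, e.g. when `Γ(P, p⁻¹U)` is a
projective `Γ(X, U)`-module), and let `𝓔` be an ideal sheaf on `P`.  Then there is an ideal sheaf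
`coreIdeal` on `X` such that for every pullback square `q : T' ⟶ P`, `r : T' ⟶ T` of `p` along
`t : T ⟶ X`: `𝓔` pulls back to zero along `q` iff `coreIdeal` pulls back to zero along `t`
(`comap_eq_bot_iff`).
-/

set_option autoImplicit false

namespace Groth.Agent.Lib.Helper16.FixCore

universe u
open CategoryTheory Limits AlgebraicGeometry
open Groth.Agent.Lib.Helper16.RingCoeff Groth.Agent.Lib.Helper16.ClosedDescentComap

variable {P X : Scheme.{u}} (p : P ⟶ X) [IsAffineHom p] (𝓔 : P.IdealSheafData)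
  (hc : ∀ U : X.affineOpens, HasCoeff (p.app U.1))

/-- the affine open `p⁻¹ U` -/
def pre (U : X.affineOpens) : P.affineOpens := ⟨p ⁻¹ᵁ U.1, U.2.preimage p⟩

/-- the coefficient ideal on an affine open -/
noncomputable def cIdeal (U : X.affineOpens) : Ideal Γ(X, U.1) :=
  (hc U (𝓔.ideal (pre p U))).choose

theorem cIdeal_spec (U : X.affineOpens) ⦃C D : CommRingCat.{u}⦄ (ψ : Γ(X, U.1) ⟶ C)
    (β : Γ(P, p ⁻¹ᵁ U.1) ⟶ D) (γ : C ⟶ D) (H : IsPushout (p.app U.1) ψ β γ) :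
    (𝓔.ideal (pre p U)).map β.hom = ⊥ ↔ (cIdeal p 𝓔 hc U).map ψ.hom = ⊥ :=
  (hc U (𝓔.ideal (pre p U))).choose_spec ψ β γ H

theorem step1 {T T' : Scheme.{u}} {t : T ⟶ X} {q : T' ⟶ P} {r : T' ⟶ T} (H : IsPullback q r p t)
    (U : X.affineOpens) (W : T.affineOpens) (hW : W.1 ≤ t ⁻¹ᵁ U.1)
    (W' : T'.Opens) (hW' : W' = q ⁻¹ᵁ (pre p U).1 ⊓ r ⁻¹ᵁ W.1) (hq : W' ≤ q ⁻¹ᵁ (pre p U).1) :
    (𝓔.ideal (pre p U)).map (q.appLE (pre p U).1 W' hq).hom = ⊥ ↔
      (cIdeal p 𝓔 hc U).map (t.appLE U.1 W.1 hW).hom = ⊥ := by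
  have hiso := isIso_pushoutSection_of_isAffineOpen H hW (le_refl _) hW' U.2 W.2 (U.2.preimage p)
  have hpo := (isIso_pushoutSection_iff H hW (le_refl _) hW').1 hiso
  rw [← Scheme.Hom.app_eq_appLE] at hpo
  exact cIdeal_spec p 𝓔 hc U _ _ _ hpo

theorem preimage_eq_top {T T' : Scheme.{u}} {t : T ⟶ X} {q : T' ⟶ P} {r : T' ⟶ T}
    (w : q ≫ p = r ≫ t) (O : X.Opens) (h : (⊤ : T.Opens) ≤ t ⁻¹ᵁ O) :
    q ⁻¹ᵁ (p ⁻¹ᵁ O) = ⊤ := by
  rw [← Scheme.Hom.comp_preimage, w, Scheme.Hom.comp_preimage, top_le_iff.1 h]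
  rfl

theorem map_cIdeal_of_le (U V : X.affineOpens) (hVU : V.1 ≤ U.1) :
    (cIdeal p 𝓔 hc U).map (X.presheaf.map (homOfLE hVU).op).hom = cIdeal p 𝓔 hc V := by
  have hV : IsAffineOpen V.1 := V.2
  have key : ∀ J' : Ideal Γ(X, V.1),
      cIdeal p 𝓔 hc V ≤ J' ↔
        (cIdeal p 𝓔 hc U).map (X.presheaf.map (homOfLE hVU).op).hom ≤ J' := by
    intro J'
    let R : CommRingCat.{u} := CommRingCat.of (Γ(X, V.1) ⧸ J')
    let ψ' : Γ(X, V.1) ⟶ R := CommRingCat.ofHom (Ideal.Quotient.mk J')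
    let t : Spec R ⟶ X := Spec.map ψ' ≫ hV.fromSpec
    have H := IsPullback.of_hasPullback p t
    let Wtop : (Spec R).affineOpens := ⟨⊤, isAffineOpen_top _⟩
    have hWf : (⊤ : (Spec R).Opens) ≤ t ⁻¹ᵁ V.1 := by
      rw [Scheme.Hom.comp_preimage, hV.fromSpec_preimage_self]; exact le_rfl
    have hWU : (⊤ : (Spec R).Opens) ≤ t ⁻¹ᵁ U.1 := hWf.trans (t.preimage_mono hVU)
    have top1 : pullback.fst p t ⁻¹ᵁ (pre p V).1 = ⊤ := preimage_eq_top p H.w V.1 hWf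
    have top2 : pullback.fst p t ⁻¹ᵁ (pre p U).1 = ⊤ := preimage_eq_top p H.w U.1 hWU
    have hq1 : (⊤ : (pullback p t).Opens) ≤ pullback.fst p t ⁻¹ᵁ (pre p V).1 := by
      rw [top1]
    have hq2 : (⊤ : (pullback p t).Opens) ≤ pullback.fst p t ⁻¹ᵁ (pre p U).1 := by
      rw [top2]
    have e1 := step1 p 𝓔 hc H V Wtop hWf ⊤
      (by rw [top1]; exact (top_inf_eq _).symm) hq1
    have e2 := step1 p 𝓔 hc H U Wtop hWU ⊤
      (by rw [top2]; exact (top_inf_eq _).symm) hq2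
    -- left hand sides agree
    have hle : pre p V ≤ pre p U := p.preimage_mono hVU
    have hL : (𝓔.ideal (pre p V)).map
        ((pullback.fst p t).appLE (pre p V).1 ⊤ hq1).hom =
        (𝓔.ideal (pre p U)).map ((pullback.fst p t).appLE (pre p U).1 ⊤ hq2).hom := by
      rw [← 𝓔.map_ideal hle, Ideal.map_map, ← CommRingCat.hom_comp]
      congr 2
      exact Scheme.Hom.map_appLE (pullback.fst p t) hq1 (homOfLE hle).op
    -- right hand sides
    have hinj : Function.Injective (Scheme.ΓSpecIso R).inv.hom :=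
      (ConcreteCategory.bijective_of_isIso (Scheme.ΓSpecIso R).inv).1
    have hR1 : (cIdeal p 𝓔 hc V).map (t.appLE V.1 ⊤ hWf).hom = ⊥ ↔
        cIdeal p 𝓔 hc V ≤ J' := by
      rw [appLE_specMap_fromSpec hV ψ' hWf, CommRingCat.hom_comp, ← Ideal.map_map,
        Ideal.map_eq_bot_iff_of_injective hinj, Ideal.map_eq_bot_iff_le_ker]
      show _ ≤ RingHom.ker (Ideal.Quotient.mk J') ↔ _
      rw [Ideal.mk_ker]
    have hR2 : (cIdeal p 𝓔 hc U).map (t.appLE U.1 ⊤ hWU).hom = ⊥ ↔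
        (cIdeal p 𝓔 hc U).map (X.presheaf.map (homOfLE hVU).op).hom ≤ J' := by
      have e3 : t.appLE U.1 ⊤ hWU = X.presheaf.map (homOfLE hVU).op ≫
          t.appLE V.1 ⊤ hWf :=
        (Scheme.Hom.map_appLE t hWf (homOfLE hVU).op).symm
      rw [e3, appLE_specMap_fromSpec hV ψ' hWf, CommRingCat.hom_comp, CommRingCat.hom_comp,
        ← Ideal.map_map, ← Ideal.map_map,
        Ideal.map_eq_bot_iff_of_injective hinj, Ideal.map_eq_bot_iff_le_ker]
      show _ ≤ RingHom.ker (Ideal.Quotient.mk J') ↔ _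
      rw [Ideal.mk_ker]
    rw [← hR1, ← hR2, ← e1, ← e2, hL]
  exact le_antisymm ((key _).1 le_rfl) ((key _).2 le_rfl)

theorem map_cIdeal_basicOpen (U : X.affineOpens) (f : Γ(X, U.1)) :
    (cIdeal p 𝓔 hc U).map (X.presheaf.map (homOfLE (X.basicOpen_le f)).op).hom =
      cIdeal p 𝓔 hc (X.affineBasicOpen f) :=
  map_cIdeal_of_le p 𝓔 hc U (X.affineBasicOpen f) (X.basicOpen_le f)

/-- The universal vanishing ideal sheaf on `X`. -/
noncomputable def coreIdeal : X.IdealSheafData where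
  ideal := cIdeal p 𝓔 hc
  map_ideal_basicOpen := map_cIdeal_basicOpen p 𝓔 hc

/-- **Universal property**: for a pullback square of `p` along `t`, `𝓔` pulls back to zero on the
pullback iff `coreIdeal` pulls back to zero along `t`. -/
theorem comap_eq_bot_iff {T T' : Scheme.{u}} {t : T ⟶ X} {q : T' ⟶ P} {r : T' ⟶ T}
    (H : IsPullback q r p t) :
    𝓔.comap q = ⊥ ↔ (coreIdeal p 𝓔 hc).comap t = ⊥ := by
  haveI : IsAffineHom r := MorphismProperty.of_isPullback H (inferInstance : IsAffineHom p)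
  let ι := {c : T.affineOpens × X.affineOpens // c.1.1 ≤ t ⁻¹ᵁ c.2.1}
  let W' : ι → T'.affineOpens := fun c => ⟨r ⁻¹ᵁ c.1.1.1, c.1.1.2.preimage r⟩
  have hq : ∀ c : ι, (W' c).1 ≤ q ⁻¹ᵁ (pre p c.1.2).1 := by
    intro c
    show r ⁻¹ᵁ c.1.1.1 ≤ q ⁻¹ᵁ (p ⁻¹ᵁ c.1.2.1)
    rw [← Scheme.Hom.comp_preimage, H.w, Scheme.Hom.comp_preimage]
    exact r.preimage_mono c.2
  have hchart : ∀ c : ι, (𝓔.comap q).ideal (W' c) = ⊥ ↔
      ((coreIdeal p 𝓔 hc).comap t).ideal c.1.1 = ⊥ := by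
    intro c
    rw [ideal_comap_of_le q 𝓔 (pre p c.1.2) (W' c) (hq c),
      ideal_comap_of_le t (coreIdeal p 𝓔 hc) c.1.2 c.1.1 c.2]
    exact step1 p 𝓔 hc H c.1.2 c.1.1 c.2 (W' c).1 (inf_eq_right.2 (hq c)).symm (hq c)
  have hcov : ⨆ c : ι, (c.1.1.1 : T.Opens) = ⊤ := by
    rw [eq_top_iff]
    intro x _
    obtain ⟨_, ⟨U, hU, rfl⟩, hxU, -⟩ :=
      X.isBasis_affineOpens.exists_subset_of_mem_open (Set.mem_univ (t.base x)) isOpen_univ
    have hx : x ∈ t ⁻¹ᵁ U := hxU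
    obtain ⟨_, ⟨W, hW, rfl⟩, hxW, hWU⟩ :=
      T.isBasis_affineOpens.exists_subset_of_mem_open hx (t ⁻¹ᵁ U).isOpen
    exact TopologicalSpace.Opens.mem_iSup.mpr ⟨⟨(⟨W, hW⟩, ⟨U, hU⟩), hWU⟩, hxW⟩
  have hcov' : ⨆ c : ι, ((W' c).1 : T'.Opens) = ⊤ := by
    rw [eq_top_iff]
    intro y _
    have hy : r.base y ∈ (⨆ c : ι, (c.1.1.1 : T.Opens)) := by rw [hcov]; trivial
    obtain ⟨c, hc'⟩ := TopologicalSpace.Opens.mem_iSup.mp hy
    exact TopologicalSpace.Opens.mem_iSup.mpr ⟨c, hc'⟩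
  constructor
  · intro h
    refine Scheme.IdealSheafData.ext_of_iSup_eq_top (fun c : ι => c.1.1) hcov ?_
    intro c
    rw [(hchart c).1 (by rw [h]; rfl)]
    rfl
  · intro h
    refine Scheme.IdealSheafData.ext_of_iSup_eq_top W' hcov' ?_
    intro c
    rw [(hchart c).2 (by rw [h]; rfl)]
    rfl

end Groth.Agent.Lib.Helper16.FixCore
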