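import Mathlib
import Groth.Agent.Lib.Helper16.FixCore

/-!
# Closed subschemes of universal agreement of two maps `A ⊗ X ⟶ W` (helper16)

For `S`-schemes `A`, `X`, `W` with `A` affine over `S` and two morphisms `u v : A ⊗ X ⟶ W` whose
equalizer is a closed subscheme, if the coordinate rings of `A ×_S X` over affine opens of `X`
have coefficient ideals (e.g. are projective modules), then the subfunctor of `X` of points `x`
with `u (a, x) = v (a, x)` for all points `a` of `A` is represented by a closed subscheme.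
Applications: fixed points of actions, centralizers, transporters.
-/

set_option autoImplicit false

namespace Groth.Agent.Lib.Helper16.FixApp

universe u
open CategoryTheory Limits MonoidalCategory CartesianMonoidalCategory AlgebraicGeometry
open Groth.Agent.Lib.Helper16.RingCoeff Groth.Agent.Lib.Helper16.FixCore

variable {S : Scheme.{u}} {A X W : Over S} (u v : A ⊗ X ⟶ W)

/-- `x` is a point of universal agreement of `u` and `v`. -/
def Good {T : Over S} (x : T ⟶ X) : Prop :=
  ∀ (T' : Over S) (t : T' ⟶ T) (a : T' ⟶ A), lift a (t ≫ x) ≫ u = lift a (t ≫ x) ≫ v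

theorem good_iff {T : Over S} (x : T ⟶ X) : Good u v x ↔ (A ◁ x) ≫ u = (A ◁ x) ≫ v := by
  constructor
  · intro h
    have h1 := h (A ⊗ T) (snd A T) (fst A T)
    have h2 : lift (fst A T) (snd A T ≫ x) = A ◁ x := by
      apply CartesianMonoidalCategory.hom_ext <;> simp
    rwa [h2] at h1
  · intro h T' t a
    have h2 : lift a (t ≫ x) = lift a t ≫ (A ◁ x) := by
      apply CartesianMonoidalCategory.hom_ext <;> simp
    rw [h2, Category.assoc, Category.assoc, h]

theorem isPullback_whiskerLeft {T : Over S} (x : T ⟶ X) :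
    IsPullback (A ◁ x).left (snd A T).left (snd A X).left x.left := by
  have hR : IsPullback (fst A X).left (snd A X).left A.hom X.hom :=
    IsPullback.of_hasPullback A.hom X.hom
  have hC : IsPullback (fst A T).left (snd A T).left A.hom T.hom :=
    IsPullback.of_hasPullback A.hom T.hom
  refine IsPullback.of_right ?_ ?_ hR
  · have e1 : (A ◁ x).left ≫ (fst A X).left = (fst A T).left := by
      rw [← Over.comp_left, whiskerLeft_fst]
    have e2 : x.left ≫ X.hom = T.hom := Over.w x
    rw [e1, e2]
    exact hC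
  · rw [← Over.comp_left, ← Over.comp_left, whiskerLeft_snd]

theorem comap_eq_bot_iff_le_ker {Y Z : Scheme.{u}} (𝓘 : Z.IdealSheafData) (f : Y ⟶ Z) :
    𝓘.comap f = ⊥ ↔ 𝓘 ≤ f.ker := by
  rw [← le_bot_iff, ← Scheme.IdealSheafData.le_map_iff_comap_le, Scheme.IdealSheafData.map_bot]

set_option backward.isDefEq.respectTransparency false in
/-- The equalizer of two morphisms of `S`-schemes is an immersion. -/
theorem isImmersion_equalizer_left {Y Z : Over S} (f g : Y ⟶ Z) :
    IsImmersion (equalizer.ι f g).left := by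
  refine MorphismProperty.of_isPullback
    ((Limits.isPullback_equalizer_prod f g).map (Over.forget _)).flip ?_
  rw [← MorphismProperty.cancel_right_of_respectsIso @IsImmersion _
    (Over.prodLeftIsoPullback Z Z).hom]
  convert! (inferInstance : IsImmersion (pullback.diagonal Z.hom))
  ext1 <;> simp [← Over.comp_left]

/-- If the equalizer is a closed immersion, its ideal sheaf detects agreement. -/
theorem comp_eq_iff_of_isClosedImmersion {Y Z : Over S} (f g : Y ⟶ Z)
    [IsClosedImmersion (equalizer.ι f g).left] {Q : Scheme.{u}} (s : Q ⟶ Y.left) :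
    s ≫ f.left = s ≫ g.left ↔ (equalizer.ι f g).left.ker.comap s = ⊥ := by
  rw [comap_eq_bot_iff_le_ker]
  constructor
  · intro h
    let Q' : Over S := Over.mk (s ≫ Y.hom)
    let s' : Q' ⟶ Y := Over.homMk s rfl
    have h' : s' ≫ f = s' ≫ g := by
      apply Over.OverMorphism.ext
      exact h
    have hl : (equalizer.lift s' h').left ≫ (equalizer.ι f g).left = s := by
      rw [← Over.comp_left, equalizer.lift_ι]
      rfl
    rw [← hl]
    exact Scheme.Hom.le_ker_comp _ _
  · intro h
    have hl := IsClosedImmersion.lift_fac (equalizer.ι f g).left s h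
    rw [← hl, Category.assoc, Category.assoc]
    congr 1
    exact congrArg (fun m => m.left) (equalizer.condition f g)

section Main

variable [IsAffineHom A.hom] (𝓔 : (A ⊗ X).left.IdealSheafData)
  (h𝓔 : ∀ {Q : Scheme.{u}} (s : Q ⟶ (A ⊗ X).left), s ≫ u.left = s ≫ v.left ↔ 𝓔.comap s = ⊥)
  (hc : ∀ U : X.left.affineOpens, HasCoeff ((snd A X).left.app U.1))

instance isAffineHom_snd_left : IsAffineHom (snd A X).left :=
  MorphismProperty.of_isPullback (P := @IsAffineHom) (IsPullback.of_hasPullback A.hom X.hom)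
    (inferInstance : IsAffineHom A.hom)

include h𝓔 hc in
theorem exists_ideal :
    ∃ 𝓘 : X.left.IdealSheafData, ∀ {T : Over S} (x : T ⟶ X),
      Good u v x ↔ 𝓘.comap x.left = ⊥ := by
  refine ⟨coreIdeal (snd A X).left 𝓔 hc, ?_⟩
  intro T x
  rw [good_iff, ← comap_eq_bot_iff (snd A X).left 𝓔 hc (isPullback_whiskerLeft x), ← h𝓔]
  constructor
  · intro h
    exact congrArg (fun m => m.left) h
  · intro h
    apply Over.OverMorphism.ext
    exact h

include h𝓔 hc in
theorem exists_closed :
    ∃ (Z : Over S) (i : Z ⟶ X), IsClosedImmersion i.left ∧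
      ∀ {T : Over S} (x : T ⟶ X), (∃ z : T ⟶ Z, z ≫ i = x) ↔ Good u v x := by
  obtain ⟨𝓘, h𝓘⟩ := exists_ideal u v 𝓔 h𝓔 hc
  refine ⟨Over.mk (𝓘.subschemeι ≫ X.hom), Over.homMk 𝓘.subschemeι rfl,
    (inferInstance : IsClosedImmersion 𝓘.subschemeι), ?_⟩
  intro T x
  rw [h𝓘, comap_eq_bot_iff_le_ker]
  constructor
  · rintro ⟨z, rfl⟩
    show 𝓘 ≤ (z.left ≫ 𝓘.subschemeι).ker
    calc 𝓘 = 𝓘.subschemeι.ker := 𝓘.ker_subschemeι.symm
      _ ≤ _ := Scheme.Hom.le_ker_comp _ _
  · intro h
    have hle : 𝓘.subschemeι.ker ≤ x.left.ker := by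
      rw [Scheme.IdealSheafData.ker_subschemeι]; exact h
    let z₀ : T.left ⟶ 𝓘.subscheme := IsClosedImmersion.lift 𝓘.subschemeι x.left hle
    have hz₀ : z₀ ≫ 𝓘.subschemeι = x.left := IsClosedImmersion.lift_fac _ _ _
    refine ⟨Over.homMk z₀ ?_, ?_⟩
    · show z₀ ≫ 𝓘.subschemeι ≫ X.hom = T.hom
      rw [← Category.assoc, hz₀]
      exact Over.w x
    · apply Over.OverMorphism.ext
      exact hz₀

end Main

/-- Version with the equalizer hypothesis in the category of `S`-schemes. -/
theorem exists_closed_of_equalizer [IsAffineHom A.hom]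
    [IsClosedImmersion (equalizer.ι u v).left]
    (hc : ∀ U : X.left.affineOpens, HasCoeff ((snd A X).left.app U.1)) :
    ∃ (Z : Over S) (i : Z ⟶ X), IsClosedImmersion i.left ∧
      ∀ {T : Over S} (x : T ⟶ X), (∃ z : T ⟶ Z, z ≫ i = x) ↔ Good u v x :=
  exists_closed u v (equalizer.ι u v).left.ker
    (fun s => comp_eq_iff_of_isClosedImmersion u v s) hc

end Groth.Agent.Lib.Helper16.FixApp
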