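import Mathlib

/-!
# Polynomial algebra behind finite subgroup schemes of `𝔾_a` and `𝔾_m` (helper16)

* `GaGmAlg.additive_of_aeval_add`: if `f` monic and `f(x + y) = 0` in `K[x,y]/(f(x), f(y))`
  then `f` is an additive polynomial.
* `GaGmAlg.eq_X_pow_sub_one`: if `g` monic with `g(0) ≠ 0`, `g(1) = 0` and `g(x y) = 0` in
  `K[x,y]/(g(x), g(y))` then `g = X ^ n - 1`.
* flatness and surjectivity on spectra of the endomorphisms `X ↦ f` of `K[X]` and `T ↦ T ^ n` of
  `K[T;T⁻¹]`.
-/

set_option autoImplicit false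

namespace Groth.Agent.Lib.Helper16.GaGmAlg

open Polynomial

universe u v

section Additive

variable {K : Type u} [Field K]

theorem hasseDeriv_map {R : Type u} {S : Type v} [CommRing R] [CommRing S] (φ : R →+* S)
    (p : R[X]) (j : ℕ) : hasseDeriv j (p.map φ) = (hasseDeriv j p).map φ := by
  ext m
  simp [hasseDeriv_coeff]

/-- the key computation: if `f(x + Y) ≡ 0 mod f(Y)` over `B = K[x]/(f)`, then the higher Hasse
derivatives of `f` are constant and `f(0) = 0`. -/
theorem hasseDeriv_eq_of_aeval_add (f : K[X]) (hf : f.Monic) (hn : 0 < f.natDegree)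
    (h : aeval (AdjoinRoot.of (f.map (algebraMap K (AdjoinRoot f))) (AdjoinRoot.root f) +
      AdjoinRoot.root (f.map (algebraMap K (AdjoinRoot f)))) f = 0) :
    f.coeff 0 = 0 ∧ ∀ j, 0 < j → hasseDeriv j f = C (f.coeff j) := by
  set B := AdjoinRoot f with hB
  set x : B := AdjoinRoot.root f with hx
  set fB : B[X] := f.map (algebraMap K B) with hfB
  have hfBm : fB.Monic := hf.map _
  -- divisibility
  have hdvd : fB ∣ taylor x fB := by
    rw [← AdjoinRoot.mk_eq_zero, ← AdjoinRoot.aeval_eq, taylor_apply, aeval_comp, map_add, aeval_X,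
      aeval_C, hfB, aeval_map_algebraMap, add_comm]
    exact h
  have heq : taylor x fB = fB :=
    eq_of_monic_of_dvd_of_natDegree_le hfBm (by
      rw [Monic, leadingCoeff_taylor]; exact hfBm) hdvd (by rw [natDegree_taylor])
  have hcoef : ∀ j, f ∣ hasseDeriv j f - C (f.coeff j) := by
    intro j
    have h1 := congrArg (fun p => p.coeff j) heq
    simp only [taylor_coeff] at h1
    rw [hfB, hasseDeriv_map, eval_map_algebraMap, AdjoinRoot.aeval_eq, coeff_map] at h1
    rw [← AdjoinRoot.mk_eq_zero, map_sub, h1, AdjoinRoot.mk_C, AdjoinRoot.algebraMap_eq, sub_self]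
  constructor
  · have h0 := hcoef 0
    rw [hasseDeriv_zero', dvd_sub_self_left] at h0
    have := eq_zero_of_dvd_of_natDegree_lt h0 (by rw [natDegree_C]; exact hn)
    exact C_eq_zero.1 this
  · intro j hj
    have h1 := hcoef j
    have hlt : (hasseDeriv j f - C (f.coeff j)).natDegree < f.natDegree := by
      refine lt_of_le_of_lt (natDegree_sub_le _ _) ?_
      rw [natDegree_C, max_lt_iff]
      refine ⟨lt_of_le_of_lt (natDegree_hasseDeriv_le f j) ?_, hn⟩
      omega
    exact sub_eq_zero.1 (eq_zero_of_dvd_of_natDegree_lt h1 hlt)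

/-- an additive polynomial in the Hasse-derivative form is additive on every commutative ring -/
theorem eval₂_add_of_hasseDeriv (f : K[X]) (h0 : f.coeff 0 = 0)
    (hj : ∀ j, 0 < j → hasseDeriv j f = C (f.coeff j))
    {R : Type v} [CommRing R] (φ : K →+* R) (r s : R) :
    f.eval₂ φ (r + s) = f.eval₂ φ r + f.eval₂ φ s := by
  rw [← eval_map, ← eval_map, ← eval_map]
  have h1 : (f.map φ).eval (r + s) = (taylor s (f.map φ)).eval r := (taylor_eval s _ r).symm
  have h2 : (taylor s (f.map φ)).eval r =
      (∑ k ∈ Finset.range (f.map φ).natDegree, (f.map φ).coeff (k + 1) * r ^ (k + 1)) +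
        (f.map φ).eval s := by
    rw [eval_eq_sum_range, natDegree_taylor,
      Finset.sum_range_succ' (fun i => (taylor s (f.map φ)).coeff i * r ^ i),
      taylor_coeff_zero, pow_zero, mul_one]
    congr 1
    refine Finset.sum_congr rfl fun i _ => ?_
    rw [taylor_coeff, hasseDeriv_map, hj _ (Nat.succ_pos i), Polynomial.map_C, eval_C, coeff_map]
  have h3 : (f.map φ).eval r =
      ∑ k ∈ Finset.range (f.map φ).natDegree, (f.map φ).coeff (k + 1) * r ^ (k + 1) := by
    rw [eval_eq_sum_range (p := f.map φ) r,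
      Finset.sum_range_succ' (fun i => (f.map φ).coeff i * r ^ i), coeff_map, h0, map_zero,
      zero_mul, add_zero]
  rw [h1, h2, ← h3]

end Additive

section Multiplicative

variable {K : Type u} [Field K]

theorem isCoprime_X_of_coeff_zero_ne_zero (g : K[X]) (hc : g.coeff 0 ≠ 0) : IsCoprime g X := by
  refine ⟨C (g.coeff 0)⁻¹, - (C (g.coeff 0)⁻¹ * divX g), ?_⟩
  have h := divX_mul_X_add g
  calc C (g.coeff 0)⁻¹ * g + -(C (g.coeff 0)⁻¹ * divX g) * X
      = C (g.coeff 0)⁻¹ * (g - divX g * X) := by ring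
    _ = C (g.coeff 0)⁻¹ * C (g.coeff 0) := by
        congr 1
        exact sub_eq_of_eq_add' h.symm
    _ = 1 := by rw [← C_mul, inv_mul_cancel₀ hc, C_1]

/-- the key computation in the multiplicative case -/
theorem eq_X_pow_sub_one (g : K[X]) (hg : g.Monic) (hn : 0 < g.natDegree)
    (hc : g.coeff 0 ≠ 0) (h1 : g.eval 1 = 0)
    (h : aeval (AdjoinRoot.of (g.map (algebraMap K (AdjoinRoot g))) (AdjoinRoot.root g) *
      AdjoinRoot.root (g.map (algebraMap K (AdjoinRoot g)))) g = 0) :
    g = X ^ g.natDegree - 1 := by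
  set n := g.natDegree with hndef
  set B := AdjoinRoot g with hB
  set x : B := AdjoinRoot.root g with hx
  set gB : B[X] := g.map (algebraMap K B) with hgB
  have hgBm : gB.Monic := hg.map _
  haveI : Nontrivial B := AdjoinRoot.nontrivial g (by
    intro h0
    rw [degree_eq_natDegree hg.ne_zero] at h0
    have : (g.natDegree : WithBot ℕ) = (0 : ℕ) := h0
    rw [Nat.cast_inj] at this
    omega)
  have hgBdeg : gB.natDegree = n := hg.natDegree_map _
  set q : B[X] := gB.comp (C x * X) with hq
  have hdvd : gB ∣ q := by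
    rw [← AdjoinRoot.mk_eq_zero, ← AdjoinRoot.aeval_eq, hq, aeval_comp, map_mul, aeval_X,
      aeval_C, hgB, aeval_map_algebraMap]
    exact h
  have hqcoeff : ∀ j, q.coeff j = gB.coeff j * x ^ j := fun j => comp_C_mul_X_coeff
  -- q = C (x^n) * gB
  have hqeq : q = C (x ^ n) * gB := by
    by_contra hne
    have hne' : q - C (x ^ n) * gB ≠ 0 := sub_ne_zero.2 hne
    have hdvd' : gB ∣ q - C (x ^ n) * gB := dvd_sub hdvd (Dvd.intro_left _ rfl)
    refine hgBm.not_dvd_of_natDegree_lt hne' ?_ hdvd'
    rw [hgBdeg]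
    have hle : (q - C (x ^ n) * gB).natDegree ≤ n := by
      refine le_trans (natDegree_sub_le _ _) (max_le ?_ ?_)
      · refine le_trans natDegree_comp_le ?_
        rw [hgBdeg]
        calc n * (C x * X).natDegree ≤ n * 1 :=
              Nat.mul_le_mul_left _ ((natDegree_C_mul_le _ _).trans natDegree_X_le)
          _ = n := mul_one n
      · refine le_trans (natDegree_C_mul_le _ _) (le_of_eq hgBdeg)
    refine lt_of_le_of_ne hle fun heq => ?_
    have hlead : (q - C (x ^ n) * gB).coeff n = 0 := by
      rw [coeff_sub, hqcoeff, coeff_C_mul, ← hgBdeg, hgBm.coeff_natDegree]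
      ring
    have hlead' : (q - C (x ^ n) * gB).leadingCoeff = 0 := by
      rw [leadingCoeff, heq]; exact hlead
    exact hne' (leadingCoeff_eq_zero.1 hlead')
  -- coefficient comparison
  have hcoef : ∀ j, g.coeff j ≠ 0 → g ∣ X ^ j - X ^ n := by
    intro j hj
    have h2 := congrArg (fun p => p.coeff j) hqeq
    simp only [hqcoeff, coeff_C_mul] at h2
    rw [hgB, coeff_map, AdjoinRoot.algebraMap_eq] at h2
    have h3 : AdjoinRoot.mk g (C (g.coeff j) * (X ^ j - X ^ n)) = 0 := by
      rw [map_mul, map_sub, map_pow, map_pow, AdjoinRoot.mk_X, AdjoinRoot.mk_C, mul_sub, h2]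
      ring
    rw [AdjoinRoot.mk_eq_zero] at h3
    exact (IsUnit.dvd_mul_left (isUnit_C.2 (isUnit_iff_ne_zero.2 hj))).1 h3
  have hcop : IsCoprime g X := isCoprime_X_of_coeff_zero_ne_zero g hc
  have hmid : ∀ j, 0 < j → j < n → g.coeff j = 0 := by
    intro j hj0 hjn
    by_contra hne
    have h2 := hcoef j hne
    have h3 : X ^ j - X ^ n = X ^ j * (1 - X ^ (n - j) : K[X]) := by
      rw [mul_sub, mul_one, ← pow_add, Nat.add_sub_cancel' hjn.le]
    rw [h3] at h2
    have h4 : g ∣ (1 - X ^ (n - j) : K[X]) := (hcop.pow_right).dvd_of_dvd_mul_left h2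
    have h5 : (1 - X ^ (n - j) : K[X]).natDegree < g.natDegree := by
      refine lt_of_le_of_lt (natDegree_sub_le _ _) ?_
      rw [natDegree_one, natDegree_X_pow, max_lt_iff]
      exact ⟨hn, by omega⟩
    have h6 := eq_zero_of_dvd_of_natDegree_lt h4 h5
    have h7 := congrArg (fun p => p.coeff 0) h6
    simp only [coeff_sub, coeff_one_zero, coeff_X_pow, coeff_zero] at h7
    rw [if_neg (by omega), sub_zero] at h7
    exact one_ne_zero h7
  have hform : g = X ^ n + C (g.coeff 0) := by
    ext m
    rw [coeff_add, coeff_X_pow, coeff_C]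
    rcases Nat.lt_trichotomy m n with hm | hm | hm
    · rcases Nat.eq_zero_or_pos m with rfl | hm0
      · rw [if_neg (by omega), if_pos rfl, zero_add]
      · rw [hmid m hm0 hm, if_neg (by omega), if_neg (by omega), add_zero]
    · subst hm
      rw [if_pos rfl, if_neg (by omega), add_zero]
      exact hg.coeff_natDegree
    · rw [coeff_eq_zero_of_natDegree_lt hm, if_neg (by omega), if_neg (by omega), add_zero]
  have hc0 : g.coeff 0 = -1 := by
    have := h1
    rw [hform, eval_add, eval_pow, eval_X, one_pow, eval_C] at this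
    exact eq_neg_of_add_eq_zero_right this
  rw [hform, hc0, sub_eq_add_neg, C_neg, C_1]

/-- the minimal polynomial of a unit has non-zero constant coefficient -/
theorem minpoly_coeff_zero_ne_zero {B : Type v} [CommRing B] [Nontrivial B] [Algebra K B] (w : B)
    (hu : IsUnit w) (hint : IsIntegral K w) : (minpoly K w).coeff 0 ≠ 0 := by
  intro h0
  have h := divX_mul_X_add (minpoly K w)
  rw [h0, C_0, add_zero] at h
  have h1 : aeval w (divX (minpoly K w)) * w = 0 := by
    have := congrArg (aeval w) h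
    rwa [map_mul, aeval_X, minpoly.aeval] at this
  have h2 : aeval w (divX (minpoly K w)) = 0 := by
    obtain ⟨v, rfl⟩ := hu
    have := congrArg (· * (↑v⁻¹ : B)) h1
    simpa [mul_assoc] using this
  have h3 := minpoly.dvd K w h2
  have hpos := minpoly.natDegree_pos hint
  have h4 : (divX (minpoly K w)).natDegree < (minpoly K w).natDegree := by
    rw [natDegree_divX_eq_natDegree_tsub_one]
    omega
  have h5 := eq_zero_of_dvd_of_natDegree_lt h3 h4
  rw [h5, zero_mul] at h
  exact minpoly.ne_zero hint h.symm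

end Multiplicative

section Flat

/-- an injective ring map from a Dedekind domain to a domain is flat -/
theorem flat_of_injective {R : Type u} {S : Type v} [CommRing R] [IsDomain R] [IsDedekindDomain R]
    [CommRing S] [IsDomain S] (ψ : R →+* S) (hψ : Function.Injective ψ) : ψ.Flat := by
  letI := ψ.toAlgebra
  show Module.Flat R S
  haveI : Module.IsTorsionFree R S := .of_smul_eq_zero fun r m h => by
    rw [Algebra.smul_def, mul_eq_zero] at h
    rcases h with h | h
    · left
      exact (map_eq_zero_iff ψ hψ).1 h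
    · right
      exact h
  infer_instance

variable {K : Type u} [Field K]

/-- the endomorphism `X ↦ f` of `K[X]` -/
noncomputable def polyEnd (f : K[X]) : K[X] →+* K[X] := (aeval f : K[X] →ₐ[K] K[X]).toRingHom

theorem polyEnd_X (f : K[X]) : polyEnd f X = f := by
  simp [polyEnd]

theorem polyEnd_C (f : K[X]) (a : K) : polyEnd f (C a) = C a := by
  simp [polyEnd]

theorem polyEnd_injective (f : K[X]) (hn : 0 < f.natDegree) : Function.Injective (polyEnd f) := by
  rw [injective_iff_map_eq_zero]
  intro p hp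
  have h1 : p.comp f = 0 := by
    rw [comp_eq_aeval]
    exact hp
  rcases comp_eq_zero_iff.1 h1 with h | ⟨-, h⟩
  · exact h
  · exfalso
    rw [h, natDegree_C] at hn
    exact lt_irrefl _ hn

theorem polyEnd_flat (f : K[X]) (hn : 0 < f.natDegree) : (polyEnd f).Flat :=
  flat_of_injective _ (polyEnd_injective f hn)

theorem polyEnd_isIntegral (f : K[X]) (hf : f.Monic) (hn : 0 < f.natDegree) :
    (polyEnd f).IsIntegral := by
  letI := (polyEnd f).toAlgebra
  have halg : ∀ p : K[X], algebraMap K[X] K[X] p = polyEnd f p := fun _ => rfl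
  have hX : IsIntegral K[X] (X : K[X]) := by
    refine ⟨f.map (C : K →+* K[X]) - C X, ?_, ?_⟩
    · refine (hf.map _).sub_of_left ?_
      rw [degree_C (X_ne_zero), degree_eq_natDegree (hf.map _).ne_zero, hf.natDegree_map]
      exact_mod_cast hn
    · rw [eval₂_sub, eval₂_C, eval₂_map, halg, polyEnd_X]
      have : (algebraMap K[X] K[X]).comp (C : K →+* K[X]) = C := by
        ext a
        rw [RingHom.comp_apply, halg, polyEnd_C]
      rw [this, eval₂_C_X, sub_self]
  have hC : ∀ a : K, IsIntegral K[X] (C a : K[X]) := fun a => by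
    have := isIntegral_algebraMap (R := K[X]) (A := K[X]) (x := C a)
    rwa [halg, polyEnd_C] at this
  intro p
  show IsIntegral K[X] p
  induction p using Polynomial.induction_on' with
  | add p q hp hq => exact hp.add hq
  | monomial n a =>
    rw [← C_mul_X_pow_eq_monomial]
    exact (hC a).mul (hX.pow n)

theorem polyEnd_comap_surjective (f : K[X]) (hf : f.Monic) (hn : 0 < f.natDegree) :
    Function.Surjective (PrimeSpectrum.comap (polyEnd f)) :=
  (polyEnd_isIntegral f hf hn).comap_surjective (polyEnd_injective f hn)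

open LaurentPolynomial in
/-- the endomorphism `T ↦ T ^ n` of `K[T;T⁻¹]` -/
noncomputable def laurentEnd (n : ℕ) : K[T;T⁻¹] →+* K[T;T⁻¹] :=
  AddMonoidAlgebra.mapDomainRingHom K (nsmulAddMonoidHom n : ℤ →+ ℤ)

open LaurentPolynomial in
theorem laurentEnd_T (n : ℕ) (m : ℤ) : laurentEnd (K := K) n (T m) = T (n * m) := by
  show AddMonoidAlgebra.mapDomain (nsmulAddMonoidHom n : ℤ →+ ℤ) (AddMonoidAlgebra.single m 1) =
    AddMonoidAlgebra.single ((n : ℤ) * m) 1
  rw [AddMonoidAlgebra.mapDomain_single]
  congr 1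

open LaurentPolynomial in
theorem laurentEnd_C (n : ℕ) (a : K) :
    laurentEnd (K := K) n (LaurentPolynomial.C a) = LaurentPolynomial.C a := by
  show AddMonoidAlgebra.mapDomain (nsmulAddMonoidHom n : ℤ →+ ℤ) (AddMonoidAlgebra.single 0 a) =
    AddMonoidAlgebra.single 0 a
  rw [AddMonoidAlgebra.mapDomain_single]
  congr 1

open LaurentPolynomial in
theorem laurentEnd_injective (n : ℕ) (hn : 0 < n) :
    Function.Injective (laurentEnd (K := K) n) := by
  have hinj : Function.Injective (nsmulAddMonoidHom n : ℤ →+ ℤ) := by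
    intro a b hab
    simp only [nsmulAddMonoidHom_apply, nsmul_eq_mul] at hab
    exact mul_left_cancel₀ (by exact_mod_cast hn.ne') hab
  exact AddMonoidAlgebra.mapDomain_injective hinj

open LaurentPolynomial in
instance : IsDedekindDomain K[T;T⁻¹] :=
  IsLocalization.isDedekindDomain K[X] (M := Submonoid.powers (X : K[X]))
    (powers_le_nonZeroDivisors_of_noZeroDivisors X_ne_zero) K[T;T⁻¹]

theorem laurentEnd_flat (n : ℕ) (hn : 0 < n) : (laurentEnd (K := K) n).Flat :=
  flat_of_injective _ (laurentEnd_injective n hn)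

open LaurentPolynomial in
theorem laurentEnd_isIntegral (n : ℕ) (hn : 0 < n) : (laurentEnd (K := K) n).IsIntegral := by
  letI := (laurentEnd (K := K) n).toAlgebra
  have halg : ∀ p : K[T;T⁻¹], algebraMap K[T;T⁻¹] K[T;T⁻¹] p = laurentEnd n p := fun _ => rfl
  have hT : ∀ m : ℤ, IsIntegral K[T;T⁻¹] (T m : K[T;T⁻¹]) := by
    intro m
    refine ⟨X ^ n - Polynomial.C (T m), ?_, ?_⟩
    · refine (monic_X_pow n).sub_of_left ?_
      rw [degree_X_pow]
      refine lt_of_le_of_lt degree_C_le ?_
      exact_mod_cast hn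
    · rw [eval₂_sub, eval₂_pow, eval₂_X, Polynomial.eval₂_C, halg, laurentEnd_T, T_pow, sub_self]
  have hC : ∀ a : K, IsIntegral K[T;T⁻¹] (LaurentPolynomial.C a : K[T;T⁻¹]) := fun a => by
    have := isIntegral_algebraMap (R := K[T;T⁻¹]) (A := K[T;T⁻¹]) (x := LaurentPolynomial.C a)
    rwa [halg, laurentEnd_C] at this
  intro p
  show IsIntegral K[T;T⁻¹] p
  induction p using LaurentPolynomial.induction_on' with
  | add p q hp hq => exact hp.add hq
  | C_mul_T m a => exact (hC a).mul (hT m)

theorem laurentEnd_comap_surjective (n : ℕ) (hn : 0 < n) :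
    Function.Surjective (PrimeSpectrum.comap (laurentEnd (K := K) n)) :=
  (laurentEnd_isIntegral n hn).comap_surjective (laurentEnd_injective n hn)

end Flat

end Groth.Agent.Lib.Helper16.GaGmAlg
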