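import Mathlib
import Groth.Agent.Lib.Helper43.GaGm
import Groth.Agent.Lib.Helper16.GaGmAlg

/-!
# Points of affine schemes over a field cut out by one polynomial equation (helper16)

Generic scheme-theoretic glue for the study of finite subgroup schemes of `𝔾_a` and `𝔾_m`.
-/

set_option autoImplicit false

namespace Groth.Agent.Lib.Helper16.GaGmPts

open CategoryTheory MonoidalCategory CartesianMonoidalCategory MonObj GrpObj AlgebraicGeometry
  Limits Polynomial Groth.Agent.Lib.Helper43

universe u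

variable {K : Type u} [CommRing K]

/-- evaluation of a polynomial over `K` at a global function of a `K`-scheme -/
noncomputable def ev (T : Over (Spec (CommRingCat.of K))) (p : K[X]) (t : Γ(T.left, ⊤)) :
    Γ(T.left, ⊤) :=
  p.eval₂ (ptHom T.hom) t

theorem appTop_ev {T T' : Over (Spec (CommRingCat.of K))} (m : T' ⟶ T) (p : K[X])
    (t : Γ(T.left, ⊤)) :
    m.left.appTop (ev T p t) = ev T' p (m.left.appTop t) := by
  unfold ev
  have h1 : ptHom T'.hom = (m.left.appTop.hom).comp (ptHom T.hom) := by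
    rw [← ptHom_comp, Over.w]
  rw [h1]
  exact Polynomial.hom_eval₂ p (ptHom T.hom) m.left.appTop.hom t

theorem ev_add (T : Over (Spec (CommRingCat.of K))) (p q : K[X]) (t : Γ(T.left, ⊤)) :
    ev T (p + q) t = ev T p t + ev T q t := Polynomial.eval₂_add _ _

theorem ev_mul (T : Over (Spec (CommRingCat.of K))) (p q : K[X]) (t : Γ(T.left, ⊤)) :
    ev T (p * q) t = ev T p t * ev T q t := Polynomial.eval₂_mul _ _

theorem ev_X (T : Over (Spec (CommRingCat.of K))) (t : Γ(T.left, ⊤)) :
    ev T X t = t := Polynomial.eval₂_X _ _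

theorem ev_C (T : Over (Spec (CommRingCat.of K))) (a : K) (t : Γ(T.left, ⊤)) :
    ev T (C a) t = ptHom T.hom a := Polynomial.eval₂_C _ _

/-- the ring homomorphism `p ↦ p(t)` -/
noncomputable def evHom (T : Over (Spec (CommRingCat.of K))) (t : Γ(T.left, ⊤)) :
    K[X] →+* Γ(T.left, ⊤) :=
  Polynomial.eval₂RingHom (ptHom T.hom) t

theorem evHom_apply (T : Over (Spec (CommRingCat.of K))) (t : Γ(T.left, ⊤)) (p : K[X]) :
    evHom T t p = ev T p t := rfl

section TestObject

variable (R' : Type u) [CommRing R'] [Algebra K R']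

/-- the affine test object `Spec R'` over `Spec K` -/
noncomputable abbrev specOver : Over (Spec (CommRingCat.of K)) :=
  Over.mk (Spec.map (CommRingCat.ofHom (algebraMap K R')))

variable {R'}

/-- an element of `R'` as a global function on `Spec R'` -/
noncomputable def fn (r : R') : Γ((specOver (K := K) R').left, ⊤) :=
  (Scheme.ΓSpecIso (CommRingCat.of R')).inv r

theorem fn_injective : Function.Injective (fn (K := K) (R' := R')) := by
  intro a b h
  have := congrArg (Scheme.ΓSpecIso (CommRingCat.of R')).hom h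
  simpa [fn] using this

theorem ptHom_specOver (a : K) :
    ptHom (specOver (K := K) R').hom a = fn (algebraMap K R' a) := by
  have h3 : (specOver (K := K) R').hom =
      𝟙 _ ≫ Spec.map (CommRingCat.ofHom (algebraMap K R')) := by
    rw [Category.id_comp]
    rfl
  rw [h3, ptHom_comp_SpecMap]
  rfl

theorem ev_fn (p : K[X]) (r : R') :
    ev (specOver (K := K) R') p (fn r) = fn (aeval r p) := by
  unfold ev
  have h1 : ptHom (specOver (K := K) R').hom =
      ((Scheme.ΓSpecIso (CommRingCat.of R')).inv.hom).comp (algebraMap K R') := by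
    ext a
    exact ptHom_specOver a
  rw [h1]
  exact (Polynomial.hom_eval₂ p (algebraMap K R') (Scheme.ΓSpecIso (CommRingCat.of R')).inv.hom
    r).symm

end TestObject

section Affine

/-- morphisms into an affine scheme from ring homomorphisms on global sections -/
theorem exists_hom_appTop {T Y : Scheme.{u}} [IsAffine Y] (θ : Γ(Y, ⊤) →+* Γ(T, ⊤)) :
    ∃ g : T ⟶ Y, g.appTop.hom = θ := by
  refine ⟨T.toSpecΓ ≫ Spec.map (CommRingCat.ofHom θ) ≫ Y.isoSpec.inv, ?_⟩
  have h1 : Y.isoSpec.inv.appTop = (Scheme.ΓSpecIso Γ(Y, ⊤)).inv := by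
    have h0 : Y.isoSpec.hom.appTop ≫ Y.isoSpec.inv.appTop = 𝟙 _ := by
      rw [← Scheme.Hom.comp_appTop, Iso.inv_hom_id]
      rfl
    rw [Scheme.isoSpec_hom, Scheme.toSpecΓ_appTop] at h0
    exact (Iso.hom_comp_eq_id _).1 h0
  have h2 := ptHom_toSpecΓ_SpecMap (A := Γ(Y, ⊤)) (Z := T) θ
  refine Eq.trans ?_ h2
  rw [← Category.assoc, Scheme.Hom.comp_appTop, h1]
  rfl

/-- **universal property**: if `Γ(H)` is `K[X]/(f)` with generator `b₀`, then `T`-points of `H`
are the global functions on `T` killed by `f` -/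
theorem exists_hom_of_ev_eq_zero (H : Over (Spec (CommRingCat.of K))) [IsAffine H.left]
    (b₀ : Γ(H.left, ⊤)) (f : K[X])
    (hsurj : Function.Surjective (evHom H b₀))
    (hker : ∀ p : K[X], ev H p b₀ = 0 → f ∣ p)
    (T : Over (Spec (CommRingCat.of K))) (t : Γ(T.left, ⊤)) (ht : ev T f t = 0) :
    ∃ h : T ⟶ H, h.left.appTop b₀ = t := by
  have hle : RingHom.ker (evHom H b₀) ≤ RingHom.ker (evHom T t) := by
    intro p hp
    rw [RingHom.mem_ker, evHom_apply] at hp
    obtain ⟨q, rfl⟩ := hker p hp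
    rw [RingHom.mem_ker, map_mul, evHom_apply, ht, zero_mul]
  set θ : Γ(H.left, ⊤) →+* Γ(T.left, ⊤) :=
    (evHom H b₀).liftOfSurjective hsurj ⟨evHom T t, hle⟩ with hθ
  have hθc : ∀ p, θ (evHom H b₀ p) = evHom T t p := fun p =>
    RingHom.liftOfSurjective_comp_apply _ hsurj ⟨evHom T t, hle⟩ p
  obtain ⟨g, hg⟩ := exists_hom_appTop (T := T.left) (Y := H.left) θ
  have hw : g ≫ H.hom = T.hom := by
    apply ptHom_injective
    rw [ptHom_comp, hg]
    ext a
    rw [RingHom.comp_apply]
    have h1 := hθc (C a)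
    rw [evHom_apply, evHom_apply, ev_C, ev_C] at h1
    exact h1
  refine ⟨Over.homMk g hw, ?_⟩
  have h1 := hθc X
  rw [evHom_apply, evHom_apply, ev_X, ev_X] at h1
  rw [← h1, ← hg]
  rfl

end Affine

section Categorical

variable {C : Type*} [Category C] [CartesianMonoidalCategory C]

/-- a morphism of group objects which is multiplicative on the universal pair of points and
preserves the unit is a homomorphism -/
theorem isMonHom_of_mul {G G' : C} [MonObj G] [MonObj G'] (φ : G ⟶ G')
    (hmul : (fst G G * snd G G) ≫ φ = (fst G G ≫ φ) * (snd G G ≫ φ))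
    (hone : η[G] ≫ φ = η[G']) : IsMonHom φ where
  one_hom := hone
  mul_hom := by
    have h1 : μ[G] = fst G G * snd G G := by
      rw [Hom.mul_def, lift_fst_snd, Category.id_comp]
    rw [h1, hmul, Hom.mul_def]
    congr 1
    ext <;> simp

/-- kernel criterion via points -/
theorem isKernel_of_up {S : Scheme.{u}} {G H : Over S} [GrpObj G] (i : H ⟶ G) [Mono i]
    (φ : G ⟶ G) (hcomm : i ≫ φ = toUnit H ≫ η[G])
    (hup : ∀ (T : Over S) (x : T ⟶ G), x ≫ φ = toUnit T ≫ η[G] → ∃ h : T ⟶ H, h ≫ i = x) :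
    AlgGrp.IsKernel i φ := by
  have hc : ∀ s : PullbackCone φ η[G], s.fst ≫ φ = toUnit s.pt ≫ η[G] := fun s => by
    rw [s.condition]
    congr 1
    exact toUnit_unique _ _
  refine ⟨⟨hcomm⟩, ⟨PullbackCone.IsLimit.mk _ (fun s => (hup s.pt s.fst (hc s)).choose)
    (fun s => (hup s.pt s.fst (hc s)).choose_spec) (fun s => toUnit_unique _ _)
    (fun s m hm1 _ => ?_)⟩⟩
  rw [← cancel_mono i, hm1, (hup s.pt s.fst (hc s)).choose_spec]

end Categorical

section Field

variable {k : Type u} [Field k]

theorem finite_ptHom (H : Over (Spec (CommRingCat.of k))) [IsFinite H.hom] :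
    (ptHom H.hom).Finite := by
  have h1 : H.hom.appTop.hom.Finite := Scheme.Hom.finite_appTop H.hom
  have h2 : ptHom H.hom = (H.hom.appTop.hom).comp (Scheme.ΓSpecIso (CommRingCat.of k)).inv.hom :=
    rfl
  rw [h2]
  refine h1.comp (RingHom.Finite.of_surjective _ ?_)
  exact (ConcreteCategory.bijective_of_isIso (Scheme.ΓSpecIso (CommRingCat.of k)).inv).2

theorem nontrivial_of_section (H : Over (Spec (CommRingCat.of k))) (s : 𝟙_ _ ⟶ H) :
    Nontrivial Γ(H.left, ⊤) := by
  have h0 : Nontrivial Γ(Spec (CommRingCat.of k), ⊤) :=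
    (Scheme.ΓSpecIso (CommRingCat.of k)).commRingCatIsoToRingEquiv.symm.injective.nontrivial
  have h1 : Nontrivial Γ((𝟙_ (Over (Spec (CommRingCat.of k)))).left, ⊤) := h0
  exact RingHom.domain_nontrivial s.left.appTop.hom

/-- a closed immersion into the affine line gives a generator of the coordinate ring -/
theorem surjective_evHom_of_isClosedImmersion (H : Over (Spec (CommRingCat.of k)))
    (b₀ : Γ(H.left, ⊤)) (jL : H.left ⟶ Spec (CommRingCat.of k[X])) [IsClosedImmersion jL]
    (hjw : jL ≫ Spec.map (CommRingCat.ofHom (C : k →+* k[X])) = H.hom)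
    (hX : ptHom jL X = b₀) : Function.Surjective (evHom H b₀) := by
  have h1 : evHom H b₀ = ptHom jL := by
    apply Polynomial.ringHom_ext
    · intro a
      rw [evHom_apply, ev_C, ← hjw, ptHom_comp_SpecMap]
      rfl
    · rw [evHom_apply, ev_X, hX]
  rw [h1]
  have h2 : Function.Surjective jL.appTop.hom := (IsClosedImmersion.isAffine_surjective_of_isAffine jL).2
  have h3 : ptHom jL = (jL.appTop.hom).comp (Scheme.ΓSpecIso (CommRingCat.of k[X])).inv.hom := rfl
  rw [h3]
  exact h2.comp (ConcreteCategory.bijective_of_isIso (Scheme.ΓSpecIso (CommRingCat.of k[X])).inv).2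

end Field

end Groth.Agent.Lib.Helper16.GaGmPts
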