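import Mathlib
import Groth.Prelude.Def_Magnet2
import Groth.Agent.Lib.Helper16.ExtAlg
import Groth.Agent.Lib.Helper16.ExtCat
import Groth.Agent.Lib.Helper16.FixFinite
import Groth.Agent.Lib.Helper16.GaGmPts

/-!
# Points whose orbit map extends along a scheme-theoretically dominant map, over a field (helper16)
-/

set_option autoImplicit false

namespace Groth.Agent.Lib.Helper16.ExtGeom

universe u
open CategoryTheory Limits MonoidalCategory CartesianMonoidalCategory AlgebraicGeometry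
open Groth.Agent.Lib.Helper16.ExtAlg

/-- Global sections of a fibre product of affine schemes form a pushout. -/
theorem isPushout_appTop {X Y S T : Scheme.{u}} {f : T ⟶ S} {g : Y ⟶ X} {iX : X ⟶ S} {iY : Y ⟶ T}
    (H : IsPullback g iY iX f) [IsAffine S] [IsAffine T] [IsAffine X] :
    IsPushout iX.appTop f.appTop g.appTop iY.appTop := by
  have hUY : (⊤ : Y.Opens) = g ⁻¹ᵁ (⊤ : X.Opens) ⊓ iY ⁻¹ᵁ (⊤ : T.Opens) := by
    rw [Scheme.Hom.preimage_top, Scheme.Hom.preimage_top, top_inf_eq]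
  have hiso := isIso_pushoutSection_of_isAffineOpen H (US := ⊤) (UT := ⊤) (UX := ⊤)
    le_top le_top hUY (isAffineOpen_top _) (isAffineOpen_top _) (isAffineOpen_top _)
  have hpo := (isIso_pushoutSection_iff H le_top le_top hUY).1 hiso
  have e : ∀ {P Q : Scheme.{u}} (h : P ⟶ Q), h.appLE ⊤ ⊤ le_top = h.appTop := by
    intro P Q h
    rw [Scheme.Hom.appTop, ← Scheme.Hom.appLE_eq_app]
    rfl
  rwa [e, e, e, e] at hpo

/-- Maps into an affine scheme are determined on a scheme-theoretically dominant quasi-compact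
subobject. -/
theorem eq_of_schemeTheoreticallyDominant {P Q Y : Scheme.{u}} (f : P ⟶ Q)
    [IsSchemeTheoreticallyDominant f] [QuasiCompact f] [IsAffine Y] (g₁ g₂ : Q ⟶ Y)
    (h : f ≫ g₁ = f ≫ g₂) : g₁ = g₂ := by
  apply ext_of_isAffine
  have h1 : g₁.appTop ≫ f.appTop = g₂.appTop ≫ f.appTop := by
    rw [← Scheme.Hom.comp_appTop, ← Scheme.Hom.comp_appTop, h]
  ext c
  apply f.app_injective ⊤
  exact congrArg (fun m => m.hom c) h1

/-- Lifting a map into an affine scheme along a scheme-theoretically dominant quasi-compact map,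
given that the map on global sections takes values in the image. -/
theorem exists_lift_of_range {P Q Y : Scheme.{u}} [IsAffine Y] (f : P ⟶ Q)
    [IsSchemeTheoreticallyDominant f] [QuasiCompact f] (o : P ⟶ Y)
    (h : ∀ c, o.appTop.hom c ∈ f.appTop.hom.range) : ∃ φ : Q ⟶ Y, f ≫ φ = o := by
  have hinj : Function.Injective f.appTop.hom := f.app_injective ⊤
  let e : Γ(Q, ⊤) ≃+* f.appTop.hom.range :=
    RingEquiv.ofBijective f.appTop.hom.rangeRestrict
      ⟨fun a b hab => hinj (congrArg Subtype.val hab), f.appTop.hom.rangeRestrict_surjective⟩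
  let ψ : Γ(Y, ⊤) →+* Γ(Q, ⊤) :=
    (e.symm : f.appTop.hom.range →+* Γ(Q, ⊤)).comp (o.appTop.hom.codRestrict _ h)
  have hψ : ∀ c, f.appTop.hom (ψ c) = o.appTop.hom c := by
    intro c
    have h1 : e (ψ c) = o.appTop.hom.codRestrict _ h c := e.apply_symm_apply _
    have h2 := congrArg Subtype.val h1
    exact h2
  obtain ⟨φ, hφ⟩ := Groth.Agent.Lib.Helper16.GaGmPts.exists_hom_appTop ψ
  refine ⟨φ, ext_of_isAffine ?_⟩
  rw [Scheme.Hom.comp_appTop]
  ext c
  show f.appTop.hom (φ.appTop.hom c) = o.appTop.hom c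
  rw [hφ, hψ]

section Field

variable {k : Type u} [Field k]

theorem isField_Γ : IsField Γ((Spec (CommRingCat.of k)), ⊤) :=
  MulEquiv.isField (Field.toIsField k)
    (Scheme.ΓSpecIso (CommRingCat.of k)).commRingCatIsoToRingEquiv.toMulEquiv

variable {M G X : Over (Spec (CommRingCat.of k))} (i : G ⟶ M)

theorem std_whiskerRight [IsSchemeTheoreticallyDominant i.left] [QuasiCompact i.left]
    (T : Over (Spec (CommRingCat.of k))) :
    IsSchemeTheoreticallyDominant (i ▷ T).left ∧ QuasiCompact (i ▷ T).left := by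
  have sq := (Groth.Agent.Lib.Helper16.FixFinite.isPullback_whiskerRight i T).flip
  have hfl : Flat (fst M T).left :=
    MorphismProperty.of_isPullback (P := @Flat)
      (IsPullback.of_hasPullback M.hom T.hom).flip (inferInstance : Flat T.hom)
  exact ⟨IsSchemeTheoreticallyDominant.of_isPullback sq,
    MorphismProperty.of_isPullback (P := @QuasiCompact) sq (inferInstance : QuasiCompact i.left)⟩

theorem std_whiskerLeft {P Q : Over (Spec (CommRingCat.of k))} (x : P ⟶ Q) [IsSchemeTheoreticallyDominant x.left]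
    [QuasiCompact x.left] (A : Over (Spec (CommRingCat.of k))) :
    IsSchemeTheoreticallyDominant (A ◁ x).left ∧ QuasiCompact (A ◁ x).left := by
  have sq := (Groth.Agent.Lib.Helper16.FixApp.isPullback_whiskerLeft (A := A) x).flip
  have hfl : Flat (snd A Q).left :=
    MorphismProperty.of_isPullback (P := @Flat)
      (IsPullback.of_hasPullback A.hom Q.hom) (inferInstance : Flat A.hom)
  exact ⟨IsSchemeTheoreticallyDominant.of_isPullback sq,
    MorphismProperty.of_isPullback (P := @QuasiCompact) sq (inferInstance : QuasiCompact x.left)⟩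

theorem hepi [IsSchemeTheoreticallyDominant i.left] [QuasiCompact i.left] [IsAffine X.left]
    (T : Over (Spec (CommRingCat.of k))) (φ₁ φ₂ : M ⊗ T ⟶ X) (h : (i ▷ T) ≫ φ₁ = (i ▷ T) ≫ φ₂) : φ₁ = φ₂ := by
  obtain ⟨h1, h2⟩ := std_whiskerRight i T
  apply Over.OverMorphism.ext
  apply eq_of_schemeTheoreticallyDominant (i ▷ T).left
  exact congrArg (fun m => m.left) h

theorem hepi2 [IsSchemeTheoreticallyDominant i.left] [QuasiCompact i.left] [IsAffine X.left]
    (T : Over (Spec (CommRingCat.of k))) (ψ₁ ψ₂ : G ⊗ (M ⊗ T) ⟶ X)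
    (h : (G ◁ (i ▷ T)) ≫ ψ₁ = (G ◁ (i ▷ T)) ≫ ψ₂) : ψ₁ = ψ₂ := by
  obtain ⟨h1, h2⟩ := std_whiskerRight i T
  obtain ⟨h3, h4⟩ := std_whiskerLeft (i ▷ T) G
  apply Over.OverMorphism.ext
  apply eq_of_schemeTheoreticallyDominant (G ◁ (i ▷ T)).left
  exact congrArg (fun m => m.left) h

/-- **Main theorem**: the points of `X` whose orbit map under `u` extends along `i` form a closed
subscheme. -/
theorem exists_closed_ext [IsAffine M.left] [IsAffine G.left] [IsAffine X.left]
    [IsSchemeTheoreticallyDominant i.left] (u : G ⊗ X ⟶ X) :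
    ∃ (Z : Over (Spec (CommRingCat.of k))) (j : Z ⟶ X), IsClosedImmersion j.left ∧
      ∀ {T : Over (Spec (CommRingCat.of k))} (x : T ⟶ X),
        (∃ φ : M ⊗ T ⟶ X, (i ▷ T) ≫ φ = (G ◁ x) ≫ u) ↔ ∃ z : T ⟶ Z, z ≫ j = x := by
  haveI : QuasiCompact i.left := inferInstance
  have hι : M.hom.appTop ≫ i.left.appTop = G.hom.appTop := by
    rw [← Scheme.Hom.comp_appTop, Over.w i]
  have hPX := isPushout_appTop (IsPullback.of_hasPullback G.hom X.hom)
  have hυ : X.hom.appTop ≫ u.left.appTop = G.hom.appTop ≫ (fst G X).left.appTop := by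
    rw [← Scheme.Hom.comp_appTop, ← Scheme.Hom.comp_appTop, Over.w u, Over.w (fst G X)]
  have hinj : Function.Injective i.left.appTop.hom := i.left.app_injective ⊤
  obtain ⟨J, hJ⟩ := exists_extIdeal M.hom.appTop G.hom.appTop X.hom.appTop i.left.appTop hι
    (fst G X).left.appTop (snd G X).left.appTop hPX u.left.appTop hυ (isField_Γ (k := k)) hinj
  let 𝓘 : X.left.IdealSheafData := Scheme.IdealSheafData.ofIdealTop J
  let Z : Over (Spec (CommRingCat.of k)) := Over.mk (𝓘.subschemeι ≫ X.hom)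
  let j : Z ⟶ X := Over.homMk 𝓘.subschemeι rfl
  -- factoring through `Z`
  have fac_iff : ∀ {T : Over (Spec (CommRingCat.of k))} (x : T ⟶ X),
      (∃ z : T ⟶ Z, z ≫ j = x) ↔ J ≤ RingHom.ker x.left.appTop.hom := by
    intro T x
    have h1 : (∃ z : T ⟶ Z, z ≫ j = x) ↔ 𝓘 ≤ x.left.ker := by
      constructor
      · rintro ⟨z, rfl⟩
        show 𝓘 ≤ (z.left ≫ 𝓘.subschemeι).ker
        calc 𝓘 = 𝓘.subschemeι.ker := 𝓘.ker_subschemeι.symm
          _ ≤ _ := Scheme.Hom.le_ker_comp _ _
      · intro h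
        have hle : 𝓘.subschemeι.ker ≤ x.left.ker := by
          rw [Scheme.IdealSheafData.ker_subschemeι]; exact h
        let z₀ : T.left ⟶ 𝓘.subscheme := IsClosedImmersion.lift 𝓘.subschemeι x.left hle
        have hz₀ : z₀ ≫ 𝓘.subschemeι = x.left := IsClosedImmersion.lift_fac _ _ _
        refine ⟨Over.homMk z₀ ?_, ?_⟩
        · show z₀ ≫ 𝓘.subschemeι ≫ X.hom = T.hom
          rw [← Category.assoc, hz₀]
          exact Over.w x
        · apply Over.OverMorphism.ext
          exact hz₀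
    have h𝓘 : 𝓘.ideal ⟨⊤, isAffineOpen_top X.left⟩ = J := by simp [𝓘]
    rw [h1, Scheme.ker_of_isAffine]
    constructor
    · intro h
      have h2 := h ⟨⊤, isAffineOpen_top X.left⟩
      rw [h𝓘] at h2
      simpa using h2
    · intro h
      apply Scheme.IdealSheafData.le_of_isAffine
      rw [h𝓘]
      simpa using h
  -- the affine case
  have P2 : ∀ {T : Over (Spec (CommRingCat.of k))} [IsAffine T.left] (x : T ⟶ X),
      (∃ φ : M ⊗ T ⟶ X, (i ▷ T) ≫ φ = (G ◁ x) ≫ u) ↔ J ≤ RingHom.ker x.left.appTop.hom := by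
    intro T _ x
    obtain ⟨hs1, hs2⟩ := std_whiskerRight i T
    have hξ : X.hom.appTop ≫ x.left.appTop = T.hom.appTop := by
      rw [← Scheme.Hom.comp_appTop, Over.w x]
    have hDG := isPushout_appTop (IsPullback.of_hasPullback G.hom T.hom)
    have hDM := isPushout_appTop (IsPullback.of_hasPullback M.hom T.hom)
    have h1 : (fst M T).left.appTop ≫ (i ▷ T).left.appTop =
        i.left.appTop ≫ (fst G T).left.appTop := by
      rw [← Scheme.Hom.comp_appTop, ← Scheme.Hom.comp_appTop, ← Over.comp_left, ← Over.comp_left,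
        whiskerRight_fst]
    have h2 : (snd M T).left.appTop ≫ (i ▷ T).left.appTop = (snd G T).left.appTop := by
      rw [← Scheme.Hom.comp_appTop, ← Over.comp_left, whiskerRight_snd]
    have h3 : (fst G X).left.appTop ≫ (G ◁ x).left.appTop = (fst G T).left.appTop := by
      rw [← Scheme.Hom.comp_appTop, ← Over.comp_left, whiskerLeft_fst]
    have h4 : (snd G X).left.appTop ≫ (G ◁ x).left.appTop =
        x.left.appTop ≫ (snd G T).left.appTop := by
      rw [← Scheme.Hom.comp_appTop, ← Scheme.Hom.comp_appTop, ← Over.comp_left, ← Over.comp_left,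
        whiskerLeft_snd]
    have key := hJ T.hom.appTop x.left.appTop hξ (fst G T).left.appTop (snd G T).left.appTop hDG
      (fst M T).left.appTop (snd M T).left.appTop hDM (i ▷ T).left.appTop h1 h2
      (G ◁ x).left.appTop h3 h4
    rw [← Ideal.map_eq_bot_iff_le_ker, key]
    have ho : u.left.appTop ≫ (G ◁ x).left.appTop = ((G ◁ x) ≫ u).left.appTop := by
      rw [Over.comp_left, Scheme.Hom.comp_appTop]
    rw [ho]
    constructor
    · rintro ⟨φ, hφ⟩ c
      rw [← hφ, Over.comp_left, Scheme.Hom.comp_appTop]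
      exact ⟨φ.left.appTop.hom c, rfl⟩
    · intro h
      obtain ⟨φ₀, hφ₀⟩ := exists_lift_of_range (i ▷ T).left ((G ◁ x) ≫ u).left h
      have hw : φ₀ ≫ X.hom = (M ⊗ T).hom := by
        apply eq_of_schemeTheoreticallyDominant (i ▷ T).left
        rw [← Category.assoc, hφ₀, Over.w, Over.w]
      refine ⟨Over.homMk φ₀ hw, ?_⟩
      apply Over.OverMorphism.ext
      exact hφ₀
  refine ⟨Z, j, (inferInstance : IsClosedImmersion 𝓘.subschemeι), ?_⟩
  intro T x
  rw [fac_iff]
  constructor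
  · rintro ⟨φ, hφ⟩ c hc
    rw [RingHom.mem_ker]
    apply T.left.IsSheaf.section_ext
    intro p hp
    obtain ⟨_, ⟨W₀, hW, rfl⟩, hpW, -⟩ :=
      T.left.isBasis_affineOpens.exists_subset_of_mem_open (Set.mem_univ p) isOpen_univ
    let W : T.left.Opens := W₀
    let TW : Over (Spec (CommRingCat.of k)) := Over.mk (W.ι ≫ T.hom)
    let ιW : TW ⟶ T := Over.homMk W.ι rfl
    haveI : IsAffine TW.left := hW
    have hext : ∃ φ' : M ⊗ TW ⟶ X, (i ▷ TW) ≫ φ' = (G ◁ (ιW ≫ x)) ≫ u := by
      refine ⟨(M ◁ ιW) ≫ φ, ?_⟩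
      rw [← whisker_exchange_assoc, hφ, MonoidalCategory.whiskerLeft_comp, Category.assoc]
    have h5 := (P2 (ιW ≫ x)).1 hext hc
    rw [RingHom.mem_ker, Over.comp_left, Scheme.Hom.comp_appTop] at h5
    refine ⟨W.ι ''ᵁ ⊤, le_top, ?_, ?_⟩
    · rw [Scheme.Opens.ι_image_top]
      exact hpW
    · rw [map_zero]
      exact h5
  · intro h
    haveI : IsAffine Z.left := isAffine_of_isAffineHom 𝓘.subschemeι
    have hj : J ≤ RingHom.ker j.left.appTop.hom := (fac_iff j).1 ⟨𝟙 Z, Category.id_comp j⟩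
    obtain ⟨φ, hφ⟩ := (P2 j).2 hj
    obtain ⟨z, rfl⟩ := (fac_iff x).2 h
    refine ⟨(M ◁ z) ≫ φ, ?_⟩
    rw [← whisker_exchange_assoc, hφ, MonoidalCategory.whiskerLeft_comp, Category.assoc]

end Field

end Groth.Agent.Lib.Helper16.ExtGeom
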