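import Mathlib
import Groth.Prelude.Def_Magnet2
import Groth.Agent.Lib.Helper16.ExtAlg2
import Groth.Agent.Lib.Helper16.ExtGeom
import Groth.Agent.Lib.Helper16.AttrCover
import Groth.Agent.Lib.Helper16.AttrRing
import Groth.Agent.Lib.Helper16.FixApp

/-!
# Geometry of `A(M)_S ⟶ A(N)_S` for a submonoid `N ⊆ M` (helper16)
-/

set_option autoImplicit false

namespace Groth.Agent.Lib.Helper16.AttrGeom

universe u
open CategoryTheory Limits MonoidalCategory CartesianMonoidalCategory AlgebraicGeometry MonObj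
open Magnet Groth.Agent.Lib.Helper16.ExtAlg Groth.Agent.Lib.Helper16.ExtGeom
  Groth.Agent.Lib.Helper16.ExtCat Groth.Agent.Lib.Helper16.AttrCover

section General

variable {S : Scheme.{u}}

/-- Maps into a separated `S`-scheme are determined on a scheme-theoretically dominant
subobject. -/
theorem eq_of_std {P Q X : Over S} [IsSeparated X.hom] (i : P ⟶ Q)
    [IsSchemeTheoreticallyDominant i.left] (f₁ f₂ : Q ⟶ X) (h : i ≫ f₁ = i ≫ f₂) : f₁ = f₂ := by
  haveI : IsClosedImmersion (equalizer.ι f₁ f₂).left := inferInstance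
  have hl : (equalizer.lift i h).left ≫ (equalizer.ι f₁ f₂).left = i.left := by
    rw [← Over.comp_left, equalizer.lift_ι]
  have hk : (equalizer.ι f₁ f₂).left.ker = ⊥ := by
    rw [← le_bot_iff, ← i.left.ker_eq_bot, ← hl]
    exact Scheme.Hom.le_ker_comp _ _
  apply Over.OverMorphism.ext
  have := (Groth.Agent.Lib.Helper16.FixApp.comp_eq_iff_of_isClosedImmersion f₁ f₂ (𝟙 Q.left)).2
    (by rw [hk]; simp)
  simpa using this

theorem std_of_injective {P Q : Scheme.{u}} [IsAffine Q] (f : P ⟶ Q)
    (h : Function.Injective f.appTop.hom) : IsSchemeTheoreticallyDominant f := by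
  rw [isSchemeTheoreticallyDominant_iff, Scheme.ker_of_isAffine]
  have : RingHom.ker f.appTop.hom = ⊥ := (RingHom.injective_iff_ker_eq_bot _).1 h
  rw [this]
  apply Scheme.IdealSheafData.ext_of_isAffine
  simp

end General

section BaseChange

variable {S₀ S : Scheme.{u}} (f : S ⟶ S₀) (Y : Over S₀) (T : Over S)

theorem isPullback_bc :
    IsPullback ((fst ((Over.pullback f).obj Y) T).left ≫ pullback.fst Y.hom f)
      (snd ((Over.pullback f).obj Y) T).left Y.hom (T.hom ≫ f) :=
  (IsPullback.of_hasPullback ((Over.pullback f).obj Y).hom T.hom).paste_horiz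
    (IsPullback.of_hasPullback Y.hom f)

theorem isPushout_bc [IsAffine S₀] [IsAffine Y.left] [IsAffine T.left] :
    IsPushout Y.hom.appTop (T.hom ≫ f).appTop
      ((fst ((Over.pullback f).obj Y) T).left ≫ pullback.fst Y.hom f).appTop
      (snd ((Over.pullback f).obj Y) T).left.appTop :=
  isPushout_appTop (isPullback_bc f Y T)

end BaseChange

section Main

variable (S : Scheme.{u}) (M : Type) [AddCommMonoid M] (N : AddSubmonoid M)

/-- The structure map `S ⟶ Spec ℤ`. -/
noncomputable abbrev fS : S ⟶ Spec (CommRingCat.of (ULift.{u} ℤ)) :=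
  Limits.IsTerminal.from specULiftZIsTerminal S

instance : IsAffine (AMon (ULift.{u} ℤ) M).left :=
  inferInstanceAs (IsAffine (Spec _))

instance : IsAffineHom (AMonS S M).hom := by
  show IsAffineHom (pullback.snd (AMon (ULift.{u} ℤ) M).hom (fS S))
  haveI : IsAffineHom (AMon (ULift.{u} ℤ) M).hom := isAffineHom_of_isAffine _
  exact MorphismProperty.pullback_snd (P := @IsAffineHom) _ _ inferInstance

theorem map_left_fst :
    (AMonS.map S N.subtype).left ≫ pullback.fst (AMon (ULift.{u} ℤ) ↥N).hom (fS S) =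
      pullback.fst (AMon (ULift.{u} ℤ) M).hom (fS S) ≫
        (AMon.map (ULift.{u} ℤ) N.subtype).left := by
  simp only [AMonS.map, Over.pullback_map_left]
  exact pullback.lift_fst _ _ _

theorem amon_hι :
    (AMon (ULift.{u} ℤ) ↥N).hom.appTop ≫ (AMon.map (ULift.{u} ℤ) N.subtype).left.appTop =
      (AMon (ULift.{u} ℤ) M).hom.appTop := by
  rw [← Scheme.Hom.comp_appTop, Over.w]

variable {S}

instance isAffine_tensor (T : Over S) [IsAffine T.left] : IsAffine (AMonS S M ⊗ T).left :=
  haveI : IsAffineHom (snd (AMonS S M) T).left :=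
    MorphismProperty.of_isPullback (P := @IsAffineHom)
      (IsPullback.of_hasPullback (AMonS S M).hom T.hom) (inferInstance : IsAffineHom (AMonS S M).hom)
  isAffine_of_isAffineHom (snd (AMonS S M) T).left

theorem h1_eq (T : Over S) :
    (((fst (AMonS S ↥N) T).left ≫ pullback.fst (AMon (ULift.{u} ℤ) ↥N).hom (fS S)).appTop ≫
        ((AMonS.map S N.subtype) ▷ T).left.appTop) =
      (AMon.map (ULift.{u} ℤ) N.subtype).left.appTop ≫
        ((fst (AMonS S M) T).left ≫ pullback.fst (AMon (ULift.{u} ℤ) M).hom (fS S)).appTop := by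
  rw [← Scheme.Hom.comp_appTop, ← Scheme.Hom.comp_appTop]
  congr 1
  have e1 : ((AMonS.map S N.subtype) ▷ T).left ≫ (fst (AMonS S ↥N) T).left =
      (fst (AMonS S M) T).left ≫ (AMonS.map S N.subtype).left := by
    rw [← Over.comp_left, ← Over.comp_left, whiskerRight_fst]
  rw [← Category.assoc, e1, Category.assoc, map_left_fst, Category.assoc]

theorem h2_eq (T : Over S) :
    (snd (AMonS S ↥N) T).left.appTop ≫ ((AMonS.map S N.subtype) ▷ T).left.appTop =
      (snd (AMonS S M) T).left.appTop := by
  rw [← Scheme.Hom.comp_appTop, ← Over.comp_left, whiskerRight_snd]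

/-- For affine `T` the map `A(M) × T ⟶ A(N) × T` is injective on global sections. -/
theorem injective_appTop (T : Over S) [IsAffine T.left] :
    Function.Injective ((AMonS.map S N.subtype) ▷ T).left.appTop.hom :=
  injective_of_retraction (AMon (ULift.{u} ℤ) ↥N).hom.appTop (AMon (ULift.{u} ℤ) M).hom.appTop
    (AMon.map (ULift.{u} ℤ) N.subtype).left.appTop (amon_hι M N)
    (Groth.Agent.Lib.Helper16.AttrRing.retraction_amon M N) (T.hom ≫ fS S).appTop
    _ _ (isPushout_bc (fS S) (AMon (ULift.{u} ℤ) M) T)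
    _ _ (isPushout_bc (fS S) (AMon (ULift.{u} ℤ) ↥N) T)
    ((AMonS.map S N.subtype) ▷ T).left.appTop (h1_eq M N T) (h2_eq M N T)

theorem std_whiskerRight (T : Over S) [IsAffine T.left] :
    IsSchemeTheoreticallyDominant ((AMonS.map S N.subtype) ▷ T).left :=
  std_of_injective _ (injective_appTop M N T)

/-- `π ▷ T` is an epimorphism with respect to maps into separated `S`-schemes. -/
theorem hepi {X : Over S} [IsSeparated X.hom] (T : Over S) (φ₁ φ₂ : AMonS S ↥N ⊗ T ⟶ X)
    (h : ((AMonS.map S N.subtype) ▷ T) ≫ φ₁ = ((AMonS.map S N.subtype) ▷ T) ≫ φ₂) : φ₁ = φ₂ := by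
  apply hom_ext_cover (AMonS S ↥N) T T.left.affineCover
  intro i
  haveI : IsAffine (res T T.left.affineCover i).left :=
    inferInstanceAs (IsAffine (T.left.affineCover.X i))
  haveI := std_whiskerRight M N (res T T.left.affineCover i)
  apply eq_of_std ((AMonS.map S N.subtype) ▷ (res T T.left.affineCover i))
  rw [← whisker_exchange_assoc, ← whisker_exchange_assoc, h]

end Main

end Groth.Agent.Lib.Helper16.AttrGeom
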