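import Mathlib

/-!
# Monoid algebras of a group, a subgroup and the quotient (helper16)

* `free`: for an injective morphism `ι : H →* G` onto a subgroup of a commutative group, `R[G]` is
  a free `R[H]`-module.
* `exists_factor`: a ring map out of `R[M]` trivial on a subgroup `Z` factors through `R[M ⧸ Z]`.
-/

set_option autoImplicit false

namespace Groth.Agent.Lib.Helper16.QuotAlg

universe u
open MonoidAlgebra

section Free

variable (R : Type u) [CommRing R] {G H : Type} [CommGroup G] [CommMonoid H] (ι : H →* G)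

/-- The ring map `R[H] → R[G]`. -/
noncomputable abbrev fι : MonoidAlgebra R H →+* MonoidAlgebra R G :=
  (MonoidAlgebra.mapDomainBialgHom R ι).toAlgHom.toRingHom

theorem fι_single (h : H) (r : R) : fι R ι (single h r) = single (ι h) r :=
  MonoidAlgebra.mapDomainBialgHom_single ι h r

variable {ι}

theorem free (hι : Function.Injective ι) (N : Subgroup G) (hN : ∀ g, g ∈ N ↔ ∃ h, ι h = g) :
    letI := (fι R ι).toAlgebra
    Module.Free (MonoidAlgebra R H) (MonoidAlgebra R G) := by
  letI := (fι R ι).toAlgebra
  classical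
  let Q := G ⧸ N
  let s : Q → G := fun q => Quotient.out q
  have hs : ∀ q : Q, (QuotientGroup.mk (s q) : Q) = q := fun q => QuotientGroup.out_eq' q
  have hmem : ∀ g : G, g * (s (QuotientGroup.mk g))⁻¹ ∈ N := by
    intro g
    obtain ⟨n, hn⟩ := QuotientGroup.mk_out_eq_mul N g
    have : s (QuotientGroup.mk g) = g * n := hn
    rw [this, mul_inv_rev, mul_comm n.1⁻¹, mul_inv_cancel_left]
    exact N.inv_mem n.2
  let hh : G → H := fun g => ((hN _).1 (hmem g)).choose
  have hhs : ∀ g, ι (hh g) = g * (s (QuotientGroup.mk g))⁻¹ := fun g =>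
    ((hN _).1 (hmem g)).choose_spec
  have hq : ∀ (h : H) (q : Q), (QuotientGroup.mk (ι h * s q) : Q) = q := by
    intro h q
    rw [mul_comm, QuotientGroup.mk_mul_of_mem _ ((hN _).2 ⟨h, rfl⟩), hs]
  have hhq : ∀ (h : H) (q : Q), hh (ι h * s q) = h := by
    intro h q
    apply hι
    rw [hhs, hq, mul_inv_cancel_right]
  -- the two maps
  let Φ : (Q →₀ MonoidAlgebra R H) →ₗ[MonoidAlgebra R H] MonoidAlgebra R G :=
    Finsupp.linearCombination (MonoidAlgebra R H) (fun q : Q => (single (s q) (1 : R)))
  have hΦ : ∀ (q : Q) (h : H) (r : R), Φ (Finsupp.single q (single h r)) =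
      single (ι h * s q) r := by
    intro q h r
    rw [Finsupp.linearCombination_single, Algebra.smul_def, RingHom.algebraMap_toAlgebra,
      fι_single, single_mul_single, mul_one]
  let Θ : MonoidAlgebra R G →+ (Q →₀ MonoidAlgebra R H) :=
    (Finsupp.liftAddHom (fun g : G =>
      (Finsupp.singleAddHom (QuotientGroup.mk g : Q)).comp
        (MonoidAlgebra.singleAddHom (hh g)))).comp
      (MonoidAlgebra.coeffAddEquiv (R := R) (M := G)).toAddMonoidHom
  have hΘ : ∀ (g : G) (r : R), Θ (single g r) =
      Finsupp.single (QuotientGroup.mk g : Q) (single (hh g) r) := by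
    intro g r
    show Finsupp.liftAddHom _ (Finsupp.single g r) = _
    rw [Finsupp.liftAddHom_apply_single]
    rfl
  have h1 : ∀ v, Θ (Φ v) = v := by
    have : Θ.comp Φ.toAddMonoidHom = AddMonoidHom.id _ := by
      apply Finsupp.addHom_ext
      intro q p
      have : (Θ.comp Φ.toAddMonoidHom).comp (Finsupp.singleAddHom q) =
          (AddMonoidHom.id _).comp (Finsupp.singleAddHom q) := by
        apply MonoidAlgebra.addHom_ext'
        intro h
        refine AddMonoidHom.ext fun r => ?_
        show Θ (Φ (Finsupp.single q (single h r))) = Finsupp.single q (single h r)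
        rw [hΦ, hΘ, hq, hhq]
      exact congrArg (fun f => f p) this
    intro v
    exact congrArg (fun f => f v) this
  have h2 : ∀ x, Φ (Θ x) = x := by
    have : Φ.toAddMonoidHom.comp Θ = AddMonoidHom.id _ := by
      apply MonoidAlgebra.addHom_ext'
      intro g
      refine AddMonoidHom.ext fun r => ?_
      show Φ (Θ (single g r)) = single g r
      rw [hΘ, hΦ, hhs, inv_mul_cancel_right]
    intro x
    exact congrArg (fun f => f x) this
  have hbij : Function.Bijective Φ :=
    ⟨fun a b hab => by rw [← h1 a, ← h1 b, hab], fun x => ⟨Θ x, h2 x⟩⟩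
  exact Module.Free.of_equiv (LinearEquiv.ofBijective Φ hbij)

end Free

section Additive

variable (R : Type u) [CommRing R] (M : Type) [AddCommGroup M] (Z : AddSubgroup M)

/-- The ring map `R[Z] → R[M]`. -/
noncomputable abbrev incl :
    MonoidAlgebra R (Multiplicative ↥Z.toAddSubmonoid) →+* MonoidAlgebra R (Multiplicative M) :=
  (MonoidAlgebra.mapDomainBialgHom R
    (AddMonoidHom.toMultiplicative Z.toAddSubmonoid.subtype)).toAlgHom.toRingHom

/-- The ring map `R[M] → R[M ⧸ Z]`. -/
noncomputable abbrev quot :
    MonoidAlgebra R (Multiplicative M) →+* MonoidAlgebra R (Multiplicative (M ⧸ Z)) :=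
  (MonoidAlgebra.mapDomainBialgHom R
    (AddMonoidHom.toMultiplicative (QuotientAddGroup.mk' Z))).toAlgHom.toRingHom

theorem faithfullyFlat_incl [Nontrivial R] : (incl R M Z).FaithfullyFlat := by
  letI := (incl R M Z).toAlgebra
  have hinj : Function.Injective (AddMonoidHom.toMultiplicative Z.toAddSubmonoid.subtype) :=
    fun a b h => Subtype.ext h
  haveI : Module.Free (MonoidAlgebra R (Multiplicative ↥Z.toAddSubmonoid))
      (MonoidAlgebra R (Multiplicative M)) :=
    free R hinj (AddSubgroup.toSubgroup Z) (fun g => by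
      constructor
      · intro hg
        exact ⟨Multiplicative.ofAdd ⟨g.toAdd, hg⟩, rfl⟩
      · rintro ⟨h, rfl⟩
        exact h.toAdd.2)
  show Module.FaithfullyFlat (MonoidAlgebra R (Multiplicative ↥Z.toAddSubmonoid))
      (MonoidAlgebra R (Multiplicative M))
  infer_instance

theorem exists_factor {B' : Type u} [CommRing B']
    (γ : MonoidAlgebra R (Multiplicative M) →+* B')
    (hγ : ∀ z : M, z ∈ Z → γ (single (Multiplicative.ofAdd z) 1) = 1) :
    ∃ γ' : MonoidAlgebra R (Multiplicative (M ⧸ Z)) →+* B', γ'.comp (quot R M Z) = γ := by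
  letI : Algebra R B' := (γ.comp (algebraMap R (MonoidAlgebra R (Multiplicative M)))).toAlgebra
  have halg : ∀ r : R, algebraMap R B' r = γ (single 1 r) := fun r => rfl
  have hmul : ∀ a b : M, γ (single (Multiplicative.ofAdd (a + b)) 1) =
      γ (single (Multiplicative.ofAdd a) 1) * γ (single (Multiplicative.ofAdd b) 1) := by
    intro a b
    rw [← map_mul, single_mul_single, mul_one]
    rfl
  have hwd : ∀ a b : M, (QuotientAddGroup.leftRel Z) a b →
      γ (single (Multiplicative.ofAdd a) 1) = γ (single (Multiplicative.ofAdd b) 1) := by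
    intro a b hab
    rw [QuotientAddGroup.leftRel_apply] at hab
    have h1 : b = a + (-a + b) := by abel
    rw [h1, hmul, hγ _ hab, mul_one]
  let χ : Multiplicative (M ⧸ Z) →* B' :=
    { toFun := fun x => Quotient.liftOn' x.toAdd
        (fun m => γ (single (Multiplicative.ofAdd m) 1)) hwd
      map_one' := by
        show γ (single (Multiplicative.ofAdd (0 : M)) 1) = 1
        have : (single (Multiplicative.ofAdd (0 : M)) (1 : R)) = 1 := rfl
        rw [this, map_one]
      map_mul' := by
        intro x y
        obtain ⟨a, ha⟩ := QuotientAddGroup.mk_surjective x.toAdd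
        obtain ⟨b, hb⟩ := QuotientAddGroup.mk_surjective y.toAdd
        have hx : x = Multiplicative.ofAdd (QuotientAddGroup.mk a : M ⧸ Z) := by rw [ha]; rfl
        have hy : y = Multiplicative.ofAdd (QuotientAddGroup.mk b : M ⧸ Z) := by rw [hb]; rfl
        subst hx hy
        exact hmul a b }
  have hχ : ∀ m : M, χ (Multiplicative.ofAdd (QuotientAddGroup.mk m : M ⧸ Z)) =
      γ (single (Multiplicative.ofAdd m) 1) := fun m => rfl
  refine ⟨((MonoidAlgebra.lift R B' (Multiplicative (M ⧸ Z)) χ : _ →ₐ[R] B') : _ →+* B'), ?_⟩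
  apply MonoidAlgebra.ringHom_ext
  · intro r
    show (MonoidAlgebra.lift R B' (Multiplicative (M ⧸ Z)) χ)
      (MonoidAlgebra.mapDomainBialgHom R
        (AddMonoidHom.toMultiplicative (QuotientAddGroup.mk' Z)) (single 1 r)) = γ (single 1 r)
    rw [MonoidAlgebra.mapDomainBialgHom_single, map_one, MonoidAlgebra.lift_single, map_one,
      Algebra.smul_def, mul_one, halg]
  · intro m
    show (MonoidAlgebra.lift R B' (Multiplicative (M ⧸ Z)) χ)
      (MonoidAlgebra.mapDomainBialgHom R
        (AddMonoidHom.toMultiplicative (QuotientAddGroup.mk' Z)) (single m 1)) = γ (single m 1)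
    rw [MonoidAlgebra.mapDomainBialgHom_single, MonoidAlgebra.lift_single, one_smul]
    exact hχ m.toAdd

end Additive

end Groth.Agent.Lib.Helper16.QuotAlg
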