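import Mathlib
import Groth.Prelude.Def_Magnet2
import Groth.Agent.Lib.Helper16.QuotAlg
import Groth.Agent.Lib.Helper16.AttrGeom

/-!
# `D(M/Z)_S → D(M)_S → D(Z)_S` for a subgroup `Z` of a commutative group `M` (helper16)
-/

set_option autoImplicit false

namespace Groth.Agent.Lib.Helper16.AttrGrp

universe u
open CategoryTheory Limits MonoidalCategory CartesianMonoidalCategory AlgebraicGeometry MonObj
open Magnet Groth.Agent.Lib.Helper16.AttrGeom Groth.Agent.Lib.Helper16.QuotAlg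

section Gen

variable (S : Scheme.{u}) {M N : Type} [AddCommMonoid M] [AddCommMonoid N] (f : N →+ M)

theorem map_left_fst' :
    (AMonS.map S f).left ≫ pullback.fst (AMon (ULift.{u} ℤ) N).hom (fS S) =
      pullback.fst (AMon (ULift.{u} ℤ) M).hom (fS S) ≫ (AMon.map (ULift.{u} ℤ) f).left := by
  simp only [AMonS.map, Over.pullback_map_left]
  exact pullback.lift_fst _ _ _

/-- `A(M)_S ⟶ A(N)_S` is the base change of `A(M)_ℤ ⟶ A(N)_ℤ`. -/
theorem isPullback_map_left :
    IsPullback (AMonS.map S f).left (pullback.fst (AMon (ULift.{u} ℤ) M).hom (fS S))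
      (pullback.fst (AMon (ULift.{u} ℤ) N).hom (fS S)) (AMon.map (ULift.{u} ℤ) f).left := by
  refine IsPullback.of_right ?_ (map_left_fst' S f)
    (IsPullback.of_hasPullback (AMon (ULift.{u} ℤ) N).hom (fS S)).flip
  have e1 : (AMonS.map S f).left ≫ pullback.snd (AMon (ULift.{u} ℤ) N).hom (fS S) =
      pullback.snd (AMon (ULift.{u} ℤ) M).hom (fS S) := Over.w (AMonS.map S f)
  have e2 : (AMon.map (ULift.{u} ℤ) f).left ≫ (AMon (ULift.{u} ℤ) N).hom =
      (AMon (ULift.{u} ℤ) M).hom := Over.w (AMon.map (ULift.{u} ℤ) f)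
  rw [e1, e2]
  exact (IsPullback.of_hasPullback (AMon (ULift.{u} ℤ) M).hom (fS S)).flip

theorem one_left_fst {S₀ S : Scheme.{u}} (g : S ⟶ S₀) (Y : Over S₀) [MonObj Y] :
    η[Red.bc g Y].left ≫ pullback.fst Y.hom g = g ≫ η[Y].left := by
  rw [Functor.obj.η_def]
  simp only [Functor.Monoidal.ε_of_cartesianMonoidalCategory, Over.preservesTerminalIso_pullback,
    Over.comp_left, Over.isoMk_inv_left, asIso_inv, Over.pullback_map_left, Category.assoc]
  rw [pullback.lift_fst, IsIso.inv_comp_eq, ← Category.assoc]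
  congr 1
  have h := pullback.condition (f := 𝟙 S₀) (g := g)
  exact (Category.comp_id _).symm.trans h

end Gen

section Grp

variable (S : Scheme.{u}) (M : Type) [AddCommGroup M] (Z : AddSubgroup M)

theorem flat_surjective_map_left :
    Flat (AMon.map (ULift.{u} ℤ) Z.toAddSubmonoid.subtype).left ∧
      Surjective (AMon.map (ULift.{u} ℤ) Z.toAddSubmonoid.subtype).left := by
  have hff := faithfullyFlat_incl (ULift.{u} ℤ) M Z
  rw [RingHom.FaithfullyFlat.iff_flat_and_comap_surjective] at hff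
  constructor
  · show Flat (Spec.map (CommRingCat.ofHom (incl (ULift.{u} ℤ) M Z)))
    rw [HasRingHomProperty.Spec_iff (P := @Flat)]
    exact hff.1
  · show Surjective (Spec.map (CommRingCat.ofHom (incl (ULift.{u} ℤ) M Z)))
    rw [surjective_iff]
    exact hff.2

/-- `D(M)_S × T ⟶ D(Z)_S × T` is flat, surjective and quasi-compact. -/
theorem fpqc_whiskerRight (T : Over S) :
    Flat ((AMonS.map S Z.toAddSubmonoid.subtype) ▷ T).left ∧
    Surjective ((AMonS.map S Z.toAddSubmonoid.subtype) ▷ T).left ∧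
    QuasiCompact ((AMonS.map S Z.toAddSubmonoid.subtype) ▷ T).left := by
  obtain ⟨h1, h2⟩ := flat_surjective_map_left M Z
  have sq1 := (isPullback_map_left S Z.toAddSubmonoid.subtype).flip
  have sq2 := (Groth.Agent.Lib.Helper16.FixFinite.isPullback_whiskerRight
    (AMonS.map S Z.toAddSubmonoid.subtype) T).flip
  have h3 : QuasiCompact (AMon.map (ULift.{u} ℤ) Z.toAddSubmonoid.subtype).left := by
    haveI : IsAffineHom (AMon.map (ULift.{u} ℤ) Z.toAddSubmonoid.subtype).left :=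
      isAffineHom_of_isAffine _
    infer_instance
  have f1 : Flat (AMonS.map S Z.toAddSubmonoid.subtype).left :=
    MorphismProperty.of_isPullback (P := @Flat) sq1 h1
  have f2 : Surjective (AMonS.map S Z.toAddSubmonoid.subtype).left :=
    MorphismProperty.of_isPullback (P := @Surjective) sq1 h2
  have f3 : QuasiCompact (AMonS.map S Z.toAddSubmonoid.subtype).left :=
    MorphismProperty.of_isPullback (P := @QuasiCompact) sq1 h3
  exact ⟨MorphismProperty.of_isPullback (P := @Flat) sq2 f1,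
    MorphismProperty.of_isPullback (P := @Surjective) sq2 f2,
    MorphismProperty.of_isPullback (P := @QuasiCompact) sq2 f3⟩

end Grp

section SpecMaps

theorem eq_toSpecΓ_comp {P : Scheme.{u}} {R' : CommRingCat.{u}} (f : P ⟶ Spec R') :
    f = P.toSpecΓ ≫ Spec.map ((Scheme.ΓSpecIso R').inv ≫ f.appTop) := by
  have h1 : f = f ≫ (Spec R').toSpecΓ ≫ Spec.map (Scheme.ΓSpecIso R').inv := by
    rw [toSpecΓ_SpecMap_ΓSpecIso_inv, Category.comp_id]
  rw [Spec.map_comp, ← Category.assoc, ← Scheme.toSpecΓ_naturality, Category.assoc]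
  exact h1

theorem toSpecΓ_comp_injective {P : Scheme.{u}} {R' : CommRingCat.{u}} (γ₁ γ₂ : R' ⟶ Γ(P, ⊤))
    (h : P.toSpecΓ ≫ Spec.map γ₁ = P.toSpecΓ ≫ Spec.map γ₂) : γ₁ = γ₂ := by
  have key : ∀ c : R' ⟶ Γ(P, ⊤), (P.toSpecΓ ≫ Spec.map c).appTop = (Scheme.ΓSpecIso R').hom ≫ c := by
    intro c
    rw [Scheme.Hom.comp_appTop, Scheme.toSpecΓ_appTop, Scheme.ΓSpecIso_naturality]
  have h2 := congrArg (fun m => m.appTop) h
  simp only [key] at h2
  exact (cancel_epi (Scheme.ΓSpecIso R').hom).1 h2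

theorem comp_eq_of_spec {P : Scheme.{u}} {R₁ R₂ R₃ : CommRingCat.{u}} (c : R₂ ⟶ Γ(P, ⊤))
    (δ : R₃ ⟶ Γ(P, ⊤)) (i : R₁ ⟶ R₂) (j : R₁ ⟶ R₃)
    (h : (P.toSpecΓ ≫ Spec.map c) ≫ Spec.map i = (P.toSpecΓ ≫ Spec.map δ) ≫ Spec.map j) :
    i ≫ c = j ≫ δ := by
  apply toSpecΓ_comp_injective
  rw [Spec.map_comp, Spec.map_comp, ← Category.assoc, ← Category.assoc]
  exact h

end SpecMaps

section Kernel

variable (S : Scheme.{u}) (M : Type) [AddCommGroup M] (Z : AddSubgroup M)

/-- The counit `R[Z] → R` as a ring map. -/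
noncomputable abbrev cou :
    MonoidAlgebra (ULift.{u} ℤ) (Multiplicative ↥Z.toAddSubmonoid) →+* ULift.{u} ℤ :=
  (Bialgebra.counitAlgHom (ULift.{u} ℤ)
    (MonoidAlgebra (ULift.{u} ℤ) (Multiplicative ↥Z.toAddSubmonoid))).toRingHom

theorem incl_single (h : Multiplicative ↥Z.toAddSubmonoid) (r : ULift.{u} ℤ) :
    incl (ULift.{u} ℤ) M Z (MonoidAlgebra.single h r) =
      MonoidAlgebra.single ((AddMonoidHom.toMultiplicative Z.toAddSubmonoid.subtype) h) r :=
  MonoidAlgebra.mapDomainBialgHom_single _ h r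

theorem quot_single (m : Multiplicative M) (r : ULift.{u} ℤ) :
    quot (ULift.{u} ℤ) M Z (MonoidAlgebra.single m r) =
      MonoidAlgebra.single ((AddMonoidHom.toMultiplicative (QuotientAddGroup.mk' Z)) m) r :=
  MonoidAlgebra.mapDomainBialgHom_single _ m r

theorem counit_single' (h : Multiplicative ↥Z.toAddSubmonoid) (r : ULift.{u} ℤ) :
    (cou M Z)
      (MonoidAlgebra.single h r) = r :=
  (MonoidAlgebra.counit_single (R := ULift.{u} ℤ) h r).trans rfl

theorem quot_comp_incl :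
    (quot (ULift.{u} ℤ) M Z).comp (incl (ULift.{u} ℤ) M Z) =
      (algebraMap (ULift.{u} ℤ) (MonoidAlgebra (ULift.{u} ℤ) (Multiplicative (M ⧸ Z)))).comp
        (cou M Z) := by
  have hk : ∀ m : Multiplicative ↥Z.toAddSubmonoid,
      (AddMonoidHom.toMultiplicative (QuotientAddGroup.mk' Z))
        ((AddMonoidHom.toMultiplicative Z.toAddSubmonoid.subtype) m) = 1 := by
    intro m
    show Multiplicative.ofAdd ((QuotientAddGroup.mk' Z) (m.toAdd : M)) = 1
    have h0 : (QuotientAddGroup.mk' Z) (m.toAdd : M) = 0 :=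
      (QuotientAddGroup.eq_zero_iff _).2 m.toAdd.2
    rw [h0]
    rfl
  apply MonoidAlgebra.ringHom_ext
  · intro r
    rw [RingHom.comp_apply, RingHom.comp_apply, incl_single, quot_single, counit_single', hk]
    rfl
  · intro m
    rw [RingHom.comp_apply, RingHom.comp_apply, incl_single, quot_single, counit_single', hk]
    rfl

/-- The composite `D(M/Z) ⟶ D(M) ⟶ D(Z)` is trivial. -/
theorem map_comp_trivial :
    AMonS.map S (QuotientAddGroup.mk' Z) ≫ AMonS.map S Z.toAddSubmonoid.subtype =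
      toUnit _ ≫ η[AMonS S ↥Z.toAddSubmonoid] := by
  apply Over.OverMorphism.ext
  apply pullback.hom_ext
  · have e1 : ((AMonS.map S (QuotientAddGroup.mk' Z) ≫
        AMonS.map S Z.toAddSubmonoid.subtype).left) ≫
        pullback.fst (AMon (ULift.{u} ℤ) ↥Z.toAddSubmonoid).hom (fS S) =
        pullback.fst (AMon (ULift.{u} ℤ) (M ⧸ Z)).hom (fS S) ≫
          Spec.map (CommRingCat.ofHom ((quot (ULift.{u} ℤ) M Z).comp (incl (ULift.{u} ℤ) M Z))) := by
      rw [Over.comp_left, Category.assoc, map_left_fst', ← Category.assoc, map_left_fst',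
        Category.assoc, CommRingCat.ofHom_comp, Spec.map_comp]
      rfl
    have hc : pullback.fst (AMon (ULift.{u} ℤ) (M ⧸ Z)).hom (fS S) ≫
        Spec.map (CommRingCat.ofHom (algebraMap (ULift.{u} ℤ)
          (MonoidAlgebra (ULift.{u} ℤ) (Multiplicative (M ⧸ Z))))) =
        pullback.snd (AMon (ULift.{u} ℤ) (M ⧸ Z)).hom (fS S) ≫ fS S := pullback.condition
    have e2 : ((toUnit (AMonS S (M ⧸ Z)) ≫ η[AMonS S ↥Z.toAddSubmonoid]).left) ≫
        pullback.fst (AMon (ULift.{u} ℤ) ↥Z.toAddSubmonoid).hom (fS S) =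
        pullback.fst (AMon (ULift.{u} ℤ) (M ⧸ Z)).hom (fS S) ≫
          Spec.map (CommRingCat.ofHom ((algebraMap (ULift.{u} ℤ)
            (MonoidAlgebra (ULift.{u} ℤ) (Multiplicative (M ⧸ Z)))).comp
            (cou M Z))) := by
      calc ((toUnit (AMonS S (M ⧸ Z)) ≫ η[AMonS S ↥Z.toAddSubmonoid]).left) ≫
            pullback.fst (AMon (ULift.{u} ℤ) ↥Z.toAddSubmonoid).hom (fS S)
          = (toUnit (AMonS S (M ⧸ Z))).left ≫ (η[AMonS S ↥Z.toAddSubmonoid].left ≫
              pullback.fst (AMon (ULift.{u} ℤ) ↥Z.toAddSubmonoid).hom (fS S)) := by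
            rw [Over.comp_left, Category.assoc]
        _ = (toUnit (AMonS S (M ⧸ Z))).left ≫ (fS S ≫
              η[AMon (ULift.{u} ℤ) ↥Z.toAddSubmonoid].left) := by
            rw [one_left_fst]
        _ = (pullback.snd (AMon (ULift.{u} ℤ) (M ⧸ Z)).hom (fS S) ≫ fS S) ≫
              Spec.map (CommRingCat.ofHom (cou M Z)) :=
            (Category.assoc _ _ _).symm
        _ = (pullback.fst (AMon (ULift.{u} ℤ) (M ⧸ Z)).hom (fS S) ≫
              Spec.map (CommRingCat.ofHom (algebraMap (ULift.{u} ℤ)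
                (MonoidAlgebra (ULift.{u} ℤ) (Multiplicative (M ⧸ Z)))))) ≫
              Spec.map (CommRingCat.ofHom (cou M Z)) := by
            rw [hc]
        _ = _ := by
            have h3 : Spec.map (CommRingCat.ofHom (algebraMap (ULift.{u} ℤ)
                (MonoidAlgebra (ULift.{u} ℤ) (Multiplicative (M ⧸ Z))))) ≫
              Spec.map (CommRingCat.ofHom (cou M Z)) =
              Spec.map (CommRingCat.ofHom ((algebraMap (ULift.{u} ℤ)
                (MonoidAlgebra (ULift.{u} ℤ) (Multiplicative (M ⧸ Z)))).comp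
                (cou M Z))) := by
              rw [← Spec.map_comp, ← CommRingCat.ofHom_comp]
            exact (Category.assoc _ _ _).trans (congrArg (_ ≫ ·) h3)
    rw [e1, e2, quot_comp_incl]
  · have e1 := Over.w (AMonS.map S (QuotientAddGroup.mk' Z) ≫ AMonS.map S Z.toAddSubmonoid.subtype)
    have e2 := Over.w (toUnit (AMonS S (M ⧸ Z)) ≫ η[AMonS S ↥Z.toAddSubmonoid])
    exact e1.trans e2.symm

/-- Points of `D(M)_S` mapping to the unit of `D(Z)_S` come from `D(M/Z)_S`. -/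
theorem exists_kernel_lift (P : Over S) (d : P ⟶ AMonS S M)
    (hd : d ≫ AMonS.map S Z.toAddSubmonoid.subtype =
      toUnit P ≫ η[AMonS S ↥Z.toAddSubmonoid]) :
    ∃ k : P ⟶ AMonS S (M ⧸ Z), k ≫ AMonS.map S (QuotientAddGroup.mk' Z) = d := by
  -- the integral component of `d` and its ring map
  let dℤ : P.left ⟶ Spec (CommRingCat.of (MonoidAlgebra (ULift.{u} ℤ) (Multiplicative M))) :=
    d.left ≫ pullback.fst (AMon (ULift.{u} ℤ) M).hom (fS S)
  let c : CommRingCat.of (MonoidAlgebra (ULift.{u} ℤ) (Multiplicative M)) ⟶ Γ(P.left, ⊤) :=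
    (Scheme.ΓSpecIso _).inv ≫ dℤ.appTop
  have hdℤ : dℤ = P.left.toSpecΓ ≫ Spec.map c := eq_toSpecΓ_comp dℤ
  let e : P.left ⟶ Spec (CommRingCat.of (ULift.{u} ℤ)) := P.hom ≫ fS S
  let δ : CommRingCat.of (ULift.{u} ℤ) ⟶ Γ(P.left, ⊤) := (Scheme.ΓSpecIso _).inv ≫ e.appTop
  have he : e = P.left.toSpecΓ ≫ Spec.map δ := eq_toSpecΓ_comp e
  -- the condition on ring maps
  have h1 : dℤ ≫ Spec.map (CommRingCat.ofHom (incl (ULift.{u} ℤ) M Z)) =
      e ≫ Spec.map (CommRingCat.ofHom (cou M Z)) := by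
    have h2 := congrArg (fun m => m.left ≫
      pullback.fst (AMon (ULift.{u} ℤ) ↥Z.toAddSubmonoid).hom (fS S)) hd
    simp only [Over.comp_left, Category.assoc] at h2
    rw [map_left_fst', one_left_fst] at h2
    exact h2
  have h3 : CommRingCat.ofHom (incl (ULift.{u} ℤ) M Z) ≫ c = CommRingCat.ofHom (cou M Z) ≫ δ := by
    apply comp_eq_of_spec
    rw [← hdℤ, ← he]
    exact h1
  have hc : ∀ z : M, z ∈ Z → c.hom (MonoidAlgebra.single (Multiplicative.ofAdd z) 1) = 1 := by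
    intro z hz
    have h4 := congrArg (fun m => m.hom (MonoidAlgebra.single
      (Multiplicative.ofAdd (⟨z, hz⟩ : ↥Z.toAddSubmonoid)) (1 : ULift.{u} ℤ))) h3
    simp only [CommRingCat.hom_comp, CommRingCat.hom_ofHom, RingHom.comp_apply] at h4
    rw [incl_single, counit_single', map_one] at h4
    exact h4
  obtain ⟨c', hc'⟩ := exists_factor (ULift.{u} ℤ) M Z c.hom hc
  let kℤ : P.left ⟶ Spec (CommRingCat.of (MonoidAlgebra (ULift.{u} ℤ) (Multiplicative (M ⧸ Z)))) :=
    P.left.toSpecΓ ≫ Spec.map (CommRingCat.ofHom c')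
  have hk : kℤ ≫ (AMon (ULift.{u} ℤ) (M ⧸ Z)).hom = P.hom ≫ fS S :=
    specULiftZIsTerminal.hom_ext _ _
  let k₀ : P.left ⟶ (AMonS S (M ⧸ Z)).left := pullback.lift kℤ P.hom hk
  have hk1 : k₀ ≫ pullback.fst (AMon (ULift.{u} ℤ) (M ⧸ Z)).hom (fS S) = kℤ :=
    pullback.lift_fst _ _ _
  have hk2 : k₀ ≫ (AMonS S (M ⧸ Z)).hom = P.hom := pullback.lift_snd _ _ _
  refine ⟨Over.homMk k₀ hk2, ?_⟩
  apply Over.OverMorphism.ext
  apply pullback.hom_ext
  · show (k₀ ≫ (AMonS.map S (QuotientAddGroup.mk' Z)).left) ≫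
      pullback.fst (AMon (ULift.{u} ℤ) M).hom (fS S) = dℤ
    rw [Category.assoc, map_left_fst', ← Category.assoc, hk1, hdℤ]
    show (P.left.toSpecΓ ≫ Spec.map (CommRingCat.ofHom c')) ≫
      Spec.map (CommRingCat.ofHom (quot (ULift.{u} ℤ) M Z)) = _
    rw [Category.assoc, ← Spec.map_comp, ← CommRingCat.ofHom_comp, hc']
    rfl
  · have e1 := Over.w (Over.homMk k₀ hk2 ≫ AMonS.map S (QuotientAddGroup.mk' Z))
    have e2 := Over.w d
    exact e1.trans e2.symm

end Kernel

end Groth.Agent.Lib.Helper16.AttrGrp
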