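import Mathlib
import Groth.Prelude.Def_Magnet2
import Groth.Agent.Lib.Helper16.AttrGrp
import Groth.Agent.Lib.Helper16.AttrFixCat
import Groth.Agent.Lib.Helper16.AttrCover

/-!
# The attractor of a subgroup magnet is the fixed-point functor of the quotient's dual (helper16)

For a subgroup `Z` of a commutative group `M` and an action of `D(M)_S` on an `S`-scheme `X`, the
attractor `X^Z` is the functor of fixed points of `D(M/Z)_S`: the map `D(M)_S × T → D(Z)_S × T` is
faithfully flat and quasi-compact, hence an effective epimorphism of schemes, and the orbit map of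
a `D(M/Z)`-fixed point descends along it.
-/

set_option autoImplicit false

namespace Groth.Agent.Lib.Helper16.AttrFix

universe u
open CategoryTheory Limits MonoidalCategory CartesianMonoidalCategory AlgebraicGeometry MonObj
open Opposite Magnet Groth.Agent.Lib.Helper16.ExtCat Groth.Agent.Lib.Helper16.AttrFixCat

section OverS

variable {S : Scheme.{u}} {A B K X : Over S} [GrpObj A] [MonObj B] [MonObj K] (π : A ⟶ B)
  [IsMonHom π] (κ : K ⟶ A) [IsMonHom κ] (a : MonAct A X)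

theorem ext_of_fix
    (hker : ∀ (P : Over S) (d : P ⟶ A), d ≫ π = toUnit P ≫ η[B] → ∃ k : P ⟶ K, k ≫ κ = d)
    {T : Over S} [EffectiveEpi (π ▷ T).left] (x : T ⟶ X) (hx : Fix κ a x) : Ext π a x := by
  have hco : ∀ {Q : Scheme.{u}} (g₁ g₂ : Q ⟶ (A ⊗ T).left),
      g₁ ≫ (π ▷ T).left = g₂ ≫ (π ▷ T).left →
      g₁ ≫ ((A ◁ x) ≫ a.act).left = g₂ ≫ ((A ◁ x) ≫ a.act).left := by
    intro Q g₁ g₂ hg
    have hw : g₂ ≫ (A ⊗ T).hom = g₁ ≫ (A ⊗ T).hom := by
      rw [← Over.w (π ▷ T), ← Category.assoc, ← Category.assoc, hg]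
    let G₁ : Over.mk (g₁ ≫ (A ⊗ T).hom) ⟶ A ⊗ T := Over.homMk g₁ rfl
    let G₂ : Over.mk (g₁ ≫ (A ⊗ T).hom) ⟶ A ⊗ T := Over.homMk g₂ hw
    have hG : G₁ ≫ (π ▷ T) = G₂ ≫ (π ▷ T) := Over.OverMorphism.ext hg
    have h1 := orbit_coequalizes π κ a hker x hx G₁ G₂ hG
    exact congrArg (fun m => m.left) h1
  let φ₀ := EffectiveEpi.desc (π ▷ T).left ((A ◁ x) ≫ a.act).left hco
  have hfac : (π ▷ T).left ≫ φ₀ = ((A ◁ x) ≫ a.act).left := EffectiveEpi.fac _ _ _
  have hw : φ₀ ≫ X.hom = (B ⊗ T).hom := by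
    apply (cancel_epi (π ▷ T).left).1
    rw [← Category.assoc, hfac, Over.w, Over.w]
  refine ⟨Over.homMk φ₀ hw, ?_⟩
  apply Over.OverMorphism.ext
  exact hfac

end OverS

section Main

/-- The attractor `X^Z` of a subgroup magnet is the fixed-point functor of `D(M/Z)_S`. -/
theorem exists_attr_iso (S : Scheme.{u}) (M : Type) [AddCommGroup M]
    (Z : AddSubgroup M) (X : Over S) (a : AlgGrp.Action (Red.DS S M) X) :
    ∃ e : Magnet.attr (Magnet.MonAct.ofAction a) Z.toAddSubmonoid ≅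
        Magnet.MonAct.fixedPsh ((Magnet.MonAct.ofAction a).restrict
          (Magnet.AMonS.map S (QuotientAddGroup.mk' Z))),
      e.hom ≫ Magnet.MonAct.fixedPshι _ =
        Magnet.attrToX (Magnet.MonAct.ofAction a) Z.toAddSubmonoid := by
  have hE : ∀ T : Over S, EffectiveEpi ((AMonS.map S Z.toAddSubmonoid.subtype) ▷ T).left := by
    intro T
    obtain ⟨h1, h2, h3⟩ := AttrGrp.fpqc_whiskerRight S M Z T
    infer_instance
  have hepi : ∀ (T : Over S) (φ₁ φ₂ : AMonS S ↥Z.toAddSubmonoid ⊗ T ⟶ X),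
      ((AMonS.map S Z.toAddSubmonoid.subtype) ▷ T) ≫ φ₁ =
        ((AMonS.map S Z.toAddSubmonoid.subtype) ▷ T) ≫ φ₂ → φ₁ = φ₂ := by
    intro T φ₁ φ₂ h
    have := hE T
    apply Over.OverMorphism.ext
    apply (cancel_epi ((AMonS.map S Z.toAddSubmonoid.subtype) ▷ T).left).1
    exact congrArg (fun m => m.left) h
  exact exists_iso_fixedPsh (A := Red.DS S M) (AMonS.map S Z.toAddSubmonoid.subtype)
    (AMonS.map S (QuotientAddGroup.mk' Z)) (MonAct.ofAction a) hepi
    (AttrCover.hepi2_of_hepi _ hepi)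
    (fun {T} x => ⟨fix_of_ext _ _ _ (AttrGrp.map_comp_trivial S M Z) x, fun hx => by
      have := hE T
      exact ext_of_fix _ _ _ (AttrGrp.exists_kernel_lift S M Z) x hx⟩)

end Main

end Groth.Agent.Lib.Helper16.AttrFix
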