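import Mathlib
import Groth.Agent.Lib.Helper16.AttrGeom

/-!
# The attractor of an affine scheme over an affine piece of the base (helper16)
-/

set_option autoImplicit false

namespace Groth.Agent.Lib.Helper16.AttrLocal

universe u
open CategoryTheory Limits MonoidalCategory CartesianMonoidalCategory AlgebraicGeometry MonObj
open Magnet Groth.Agent.Lib.Helper16.ExtAlg Groth.Agent.Lib.Helper16.ExtGeom
  Groth.Agent.Lib.Helper16.ExtCat Groth.Agent.Lib.Helper16.AttrCover
  Groth.Agent.Lib.Helper16.AttrGeom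

section General

variable {S : Scheme.{u}} {X : Over S}

/-- The closed subscheme of an affine `S`-scheme cut out by an ideal of global sections. -/
noncomputable def zOf (J : Ideal Γ(X.left, ⊤)) : Over S :=
  Over.mk ((Scheme.IdealSheafData.ofIdealTop J).subschemeι ≫ X.hom)

/-- Its inclusion. -/
noncomputable def jOf (J : Ideal Γ(X.left, ⊤)) : zOf J ⟶ X :=
  Over.homMk (Scheme.IdealSheafData.ofIdealTop J).subschemeι rfl

instance (J : Ideal Γ(X.left, ⊤)) : IsClosedImmersion (jOf J).left :=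
  inferInstanceAs (IsClosedImmersion (Scheme.IdealSheafData.ofIdealTop J).subschemeι)

instance [IsAffine X.left] (J : Ideal Γ(X.left, ⊤)) : IsAffine (zOf J).left :=
  isAffine_of_isAffineHom (jOf J).left

theorem factor_iff [IsAffine X.left] (J : Ideal Γ(X.left, ⊤)) {T : Over S} (x : T ⟶ X) :
    (∃ z : T ⟶ zOf J, z ≫ jOf J = x) ↔ J ≤ RingHom.ker x.left.appTop.hom := by
  set 𝓘 : X.left.IdealSheafData := Scheme.IdealSheafData.ofIdealTop J with h𝓘def
  have h1 : (∃ z : T ⟶ zOf J, z ≫ jOf J = x) ↔ 𝓘 ≤ x.left.ker := by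
    constructor
    · rintro ⟨z, rfl⟩
      show 𝓘 ≤ (z.left ≫ 𝓘.subschemeι).ker
      calc 𝓘 = 𝓘.subschemeι.ker := 𝓘.ker_subschemeι.symm
        _ ≤ _ := Scheme.Hom.le_ker_comp _ _
    · intro h
      have hle : 𝓘.subschemeι.ker ≤ x.left.ker := by
        rw [Scheme.IdealSheafData.ker_subschemeι]; exact h
      let z₀ : T.left ⟶ 𝓘.subscheme := IsClosedImmersion.lift 𝓘.subschemeι x.left hle
      have hz₀ : z₀ ≫ 𝓘.subschemeι = x.left := IsClosedImmersion.lift_fac _ _ _
      refine ⟨Over.homMk z₀ ?_, ?_⟩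
      · show z₀ ≫ 𝓘.subschemeι ≫ X.hom = T.hom
        rw [← Category.assoc, hz₀]
        exact Over.w x
      · apply Over.OverMorphism.ext
        exact hz₀
  have h𝓘 : 𝓘.ideal ⟨⊤, isAffineOpen_top X.left⟩ = J := by simp [𝓘]
  rw [h1, Scheme.ker_of_isAffine]
  constructor
  · intro h
    have h2 := h ⟨⊤, isAffineOpen_top X.left⟩
    rw [h𝓘] at h2
    simpa using h2
  · intro h
    apply Scheme.IdealSheafData.le_of_isAffine
    rw [h𝓘]
    simpa using h

end General

section Local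

variable {S : Scheme.{u}} (M : Type) [AddCommMonoid M] (N : AddSubmonoid M) {X : Over S}
  [IsAffineHom X.hom] (a : MonAct (AMonS S M) X) {S₀ : Scheme.{u}} [IsAffine S₀] (i₀ : S₀ ⟶ S)
  [Mono i₀]

/-- The restriction of `X` over `S₀`, as an `S`-scheme. -/
noncomputable abbrev X₀ (X : Over S) {S₀ : Scheme.{u}} (i₀ : S₀ ⟶ S) : Over S :=
  Over.mk (pullback.fst X.hom i₀ ≫ X.hom)

/-- Its inclusion into `X`. -/
noncomputable abbrev ι₀ (X : Over S) {S₀ : Scheme.{u}} (i₀ : S₀ ⟶ S) : X₀ X i₀ ⟶ X :=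
  Over.homMk (pullback.fst X.hom i₀) rfl

instance : IsAffine (X₀ X i₀).left :=
  haveI : IsAffineHom (pullback.snd X.hom i₀) :=
    MorphismProperty.pullback_snd (P := @IsAffineHom) _ _ inferInstance
  isAffine_of_isAffineHom (pullback.snd X.hom i₀)

instance : Mono (ι₀ X i₀) := by
  haveI : Mono (pullback.fst X.hom i₀) := inferInstance
  exact (Over.forget S).mono_of_mono_map (inferInstanceAs (Mono (pullback.fst X.hom i₀)))

omit [IsAffineHom X.hom] [IsAffine S₀] [Mono i₀] in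
/-- A map into `X` from an `S`-scheme living over `S₀` factors through `X₀`. -/
theorem exists_factor {Q : Over S} (q : Q ⟶ X) (t : Q.left ⟶ S₀) (ht : t ≫ i₀ = Q.hom) :
    ∃ q₀ : Q ⟶ X₀ X i₀, q₀ ≫ ι₀ X i₀ = q := by
  have hc : q.left ≫ X.hom = t ≫ i₀ := by rw [Over.w q, ht]
  refine ⟨Over.homMk (pullback.lift q.left t hc) ?_, ?_⟩
  · show pullback.lift q.left t hc ≫ pullback.fst X.hom i₀ ≫ X.hom = Q.hom
    rw [← Category.assoc, pullback.lift_fst, Over.w q]
  · apply Over.OverMorphism.ext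
    exact pullback.lift_fst _ _ _

omit [IsAffineHom X.hom] [IsAffine S₀] [Mono i₀] in
theorem hom_X₀ : (X₀ X i₀).hom = pullback.snd X.hom i₀ ≫ i₀ := pullback.condition

/-- **Local form**: over an affine piece `S₀` of the base, the points of `X₀` whose orbit map
extends along `A(M) ⟶ A(N)` form a closed subscheme. -/
theorem exists_closed_local :
    ∃ (Z₀ : Over S) (j₀ : Z₀ ⟶ X₀ X i₀), IsClosedImmersion j₀.left ∧
      ∀ {T : Over S} (x₀ : T ⟶ X₀ X i₀),
        Ext (AMonS.map S N.subtype) a (x₀ ≫ ι₀ X i₀) ↔ ∃ z : T ⟶ Z₀, z ≫ j₀ = x₀ := by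
  -- the orbit map of `X₀` lands in `X₀`
  obtain ⟨u₀, hu₀⟩ := exists_factor i₀ ((AMonS S M ◁ ι₀ X i₀) ≫ a.act)
    ((snd (AMonS S M) (X₀ X i₀)).left ≫ pullback.snd X.hom i₀) (by
      rw [Category.assoc, ← hom_X₀]
      exact Over.w (snd (AMonS S M) (X₀ X i₀)))
  have hPX := isPushout_bc (fS S) (AMon (ULift.{u} ℤ) M) (X₀ X i₀)
  have hυ : ((X₀ X i₀).hom ≫ fS S).appTop ≫ u₀.left.appTop =
      (AMon (ULift.{u} ℤ) M).hom.appTop ≫
        ((fst (AMonS S M) (X₀ X i₀)).left ≫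
          pullback.fst (AMon (ULift.{u} ℤ) M).hom (fS S)).appTop := by
    rw [← Scheme.Hom.comp_appTop, ← Scheme.Hom.comp_appTop]
    congr 1
    exact specULiftZIsTerminal.hom_ext _ _
  obtain ⟨J, hJ⟩ := exists_extIdeal' (AMon (ULift.{u} ℤ) ↥N).hom.appTop
    (AMon (ULift.{u} ℤ) M).hom.appTop ((X₀ X i₀).hom ≫ fS S).appTop
    (AMon.map (ULift.{u} ℤ) N.subtype).left.appTop (amon_hι M N) _ _ hPX u₀.left.appTop hυ
    (Groth.Agent.Lib.Helper16.AttrRing.projective_amon M)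
    (Groth.Agent.Lib.Helper16.AttrRing.retraction_amon M N)
  -- the affine case
  have P2 : ∀ {T : Over S} [IsAffine T.left] (x₀ : T ⟶ X₀ X i₀),
      Ext (AMonS.map S N.subtype) a (x₀ ≫ ι₀ X i₀) ↔ J ≤ RingHom.ker x₀.left.appTop.hom := by
    intro T _ x₀
    haveI hs1 := std_whiskerRight M N T
    have hξ : ((X₀ X i₀).hom ≫ fS S).appTop ≫ x₀.left.appTop = (T.hom ≫ fS S).appTop := by
      rw [← Scheme.Hom.comp_appTop, ← Category.assoc, Over.w x₀]
    have h3 : ((fst (AMonS S M) (X₀ X i₀)).left ≫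
        pullback.fst (AMon (ULift.{u} ℤ) M).hom (fS S)).appTop ≫
          (AMonS S M ◁ x₀).left.appTop =
        ((fst (AMonS S M) T).left ≫ pullback.fst (AMon (ULift.{u} ℤ) M).hom (fS S)).appTop := by
      rw [← Scheme.Hom.comp_appTop]
      congr 1
      rw [← Category.assoc, ← Over.comp_left, whiskerLeft_fst]
    have h4 : (snd (AMonS S M) (X₀ X i₀)).left.appTop ≫ (AMonS S M ◁ x₀).left.appTop =
        x₀.left.appTop ≫ (snd (AMonS S M) T).left.appTop := by
      rw [← Scheme.Hom.comp_appTop, ← Scheme.Hom.comp_appTop, ← Over.comp_left, ← Over.comp_left,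
        whiskerLeft_snd]
    have key := hJ (T.hom ≫ fS S).appTop x₀.left.appTop hξ _ _
      (isPushout_bc (fS S) (AMon (ULift.{u} ℤ) M) T) _ _
      (isPushout_bc (fS S) (AMon (ULift.{u} ℤ) ↥N) T)
      ((AMonS.map S N.subtype) ▷ T).left.appTop (h1_eq M N T) (h2_eq M N T)
      (AMonS S M ◁ x₀).left.appTop h3 h4
    rw [← Ideal.map_eq_bot_iff_le_ker, key]
    have ho : u₀.left.appTop ≫ (AMonS S M ◁ x₀).left.appTop =
        ((AMonS S M ◁ x₀) ≫ u₀).left.appTop := by
      rw [Over.comp_left, Scheme.Hom.comp_appTop]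
    rw [ho]
    have ht : ((snd (AMonS S ↥N) T).left ≫ x₀.left ≫ pullback.snd X.hom i₀) ≫ i₀ =
        (AMonS S ↥N ⊗ T).hom := by
      rw [Category.assoc, Category.assoc, ← hom_X₀, Over.w x₀]
      exact Over.w (snd (AMonS S ↥N) T)
    constructor
    · rintro ⟨φ, hφ⟩ c
      obtain ⟨φ₀, hφ₀⟩ := exists_factor i₀ φ _ ht
      have e1 : ((AMonS.map S N.subtype) ▷ T) ≫ φ₀ = (AMonS S M ◁ x₀) ≫ u₀ := by
        rw [← cancel_mono (ι₀ X i₀), Category.assoc, hφ₀, hφ, Category.assoc, hu₀,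
          MonoidalCategory.whiskerLeft_comp, Category.assoc]
      rw [← e1, Over.comp_left, Scheme.Hom.comp_appTop]
      exact ⟨φ₀.left.appTop.hom c, rfl⟩
    · intro h
      obtain ⟨φ₀, hφ₀⟩ := exists_lift_of_range ((AMonS.map S N.subtype) ▷ T).left
        ((AMonS S M ◁ x₀) ≫ u₀).left h
      have hw : φ₀ ≫ (X₀ X i₀).hom = (AMonS S ↥N ⊗ T).hom := by
        rw [hom_X₀, ← ht, ← Category.assoc]
        congr 1
        apply eq_of_schemeTheoreticallyDominant ((AMonS.map S N.subtype) ▷ T).left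
        rw [← Category.assoc, hφ₀, ← cancel_mono i₀, Category.assoc, ← hom_X₀, Over.w,
          Category.assoc, ht, Over.w]
      refine ⟨Over.homMk φ₀ hw ≫ ι₀ X i₀, ?_⟩
      have e2 : ((AMonS.map S N.subtype) ▷ T) ≫ (Over.homMk φ₀ hw : _ ⟶ X₀ X i₀) =
          (AMonS S M ◁ x₀) ≫ u₀ := by
        apply Over.OverMorphism.ext
        exact hφ₀
      rw [← Category.assoc, e2, Category.assoc, hu₀, MonoidalCategory.whiskerLeft_comp,
        Category.assoc]
  refine ⟨zOf J, jOf J, inferInstance, ?_⟩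
  intro T x₀
  rw [factor_iff]
  constructor
  · intro hext c hc
    rw [RingHom.mem_ker]
    apply T.left.IsSheaf.section_ext
    intro p hp
    obtain ⟨_, ⟨W₀, hW, rfl⟩, hpW, -⟩ :=
      T.left.isBasis_affineOpens.exists_subset_of_mem_open (Set.mem_univ p) isOpen_univ
    let W : T.left.Opens := W₀
    let TW : Over S := Over.mk (W.ι ≫ T.hom)
    let ιW : TW ⟶ T := Over.homMk W.ι rfl
    haveI : IsAffine TW.left := hW
    have hext' : Ext (AMonS.map S N.subtype) a ((ιW ≫ x₀) ≫ ι₀ X i₀) := by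
      rw [Category.assoc]
      exact Ext.comp _ _ hext ιW
    have h5 := (P2 (ιW ≫ x₀)).1 hext' hc
    rw [RingHom.mem_ker, Over.comp_left, Scheme.Hom.comp_appTop] at h5
    refine ⟨W.ι ''ᵁ ⊤, le_top, ?_, ?_⟩
    · rw [Scheme.Opens.ι_image_top]
      exact hpW
    · rw [map_zero]
      exact h5
  · intro h
    have hj : J ≤ RingHom.ker (jOf J).left.appTop.hom :=
      (factor_iff J (jOf J)).1 ⟨𝟙 _, Category.id_comp _⟩
    have hZ := (P2 (jOf J)).2 hj
    obtain ⟨z, rfl⟩ := (factor_iff J x₀).2 h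
    rw [Category.assoc]
    exact Ext.comp _ _ hZ z

end Local

end Groth.Agent.Lib.Helper16.AttrLocal
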