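import Mathlib
import Groth.Agent.Lib.Helper16.AttrLocal
import Groth.Agent.Lib.Helper16.AttrDescent
import Groth.Agent.Lib.Helper16.AttrAtlas

/-!
# The attractor of a relatively affine scheme is a closed subscheme (helper16)
-/

set_option autoImplicit false

namespace Groth.Agent.Lib.Helper16.AttrMain

universe u
open CategoryTheory Limits MonoidalCategory CartesianMonoidalCategory AlgebraicGeometry MonObj
open Magnet Groth.Agent.Lib.Helper16.ExtCat Groth.Agent.Lib.Helper16.AttrCover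
  Groth.Agent.Lib.Helper16.AttrGeom Groth.Agent.Lib.Helper16.AttrLocal
  Groth.Agent.Lib.Helper16.AttrAtlas

variable {S : Scheme.{u}} (M : Type) [AddCommMonoid M] (N : AddSubmonoid M) {X : Over S}
  [IsAffineHom X.hom] (a : MonAct (AMonS S M) X)

/-- The points of `X` whose orbit map extends along `A(M)_S ⟶ A(N)_S` are those of a closed
subscheme. -/
theorem exists_closed_attr :
    ∃ (Z : Over S) (j : Z ⟶ X), IsClosedImmersion j.left ∧
      ∀ {T : Over S} (x : T ⟶ X),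
        Ext (AMonS.map S N.subtype) a x ↔ ∃ z : T ⟶ Z, z ≫ j = x := by
  haveI : IsSeparated X.hom := inferInstance
  have hepi' : ∀ (T : Over S) (φ₁ φ₂ : AMonS S ↥N ⊗ T ⟶ X),
      ((AMonS.map S N.subtype) ▷ T) ≫ φ₁ = ((AMonS.map S N.subtype) ▷ T) ≫ φ₂ → φ₁ = φ₂ :=
    fun T φ₁ φ₂ h => hepi M N T φ₁ φ₂ h
  let 𝒮 : Scheme.OpenCover.{u} S := S.affineCover
  let 𝒱 : Scheme.OpenCover.{u} X.left := 𝒮.pullback₁ X.hom
  -- the index of `𝒮` underlying an index of `𝒱`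
  let σ : 𝒱.I₀ → 𝒮.I₀ := fun i => i
  haveI : ∀ i : 𝒱.I₀, IsAffine (𝒮.X (σ i)) :=
    fun i => inferInstanceAs (IsAffine (S.affineCover.X i))
  have hloc : ∀ i : 𝒱.I₀, ∃ (Z₀ : Over S) (j₀ : Z₀ ⟶ X₀ X (𝒮.f (σ i))),
      IsClosedImmersion j₀.left ∧
      ∀ {T : Over S} (x₀ : T ⟶ X₀ X (𝒮.f (σ i))),
        Ext (AMonS.map S N.subtype) a (x₀ ≫ ι₀ X (𝒮.f (σ i))) ↔ ∃ z : T ⟶ Z₀, z ≫ j₀ = x₀ :=
    fun i => exists_closed_local M N a (𝒮.f (σ i))
  choose Z₀ j₀ hj₀cl hj₀ using hloc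
  let j' : ∀ i : 𝒱.I₀, (Z₀ i).left ⟶ 𝒱.X i := fun i => (j₀ i).left
  haveI : ∀ i : 𝒱.I₀, IsClosedImmersion (j' i) := hj₀cl
  have hX₀ : ∀ i : 𝒱.I₀, (X₀ X (𝒮.f (σ i))).hom = 𝒱.f i ≫ X.hom := fun i => rfl
  let U : Over S := Over.mk (atlas 𝒱 ≫ X.hom)
  let f : U ⟶ X := Over.homMk (atlas 𝒱) rfl
  let g : (∐ fun i => (Z₀ i).left) ⟶ ∐ 𝒱.X := sigmaMap 𝒱 j'
  haveI : IsClosedImmersion g := inferInstanceAs (IsClosedImmersion (sigmaMap 𝒱 j'))
  have hιf : ∀ i : 𝒱.I₀, Sigma.ι 𝒱.X i ≫ atlas 𝒱 = 𝒱.f i :=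
    fun i => Sigma.ι_desc _ _
  -- the main local-to-global equivalence on the atlas
  have hI' : ∀ {T : Over S} (u : T ⟶ U), Ext (AMonS.map S N.subtype) a (u ≫ f) ↔
      ∃ t : T.left ⟶ g.ker.subscheme, t ≫ g.ker.subschemeι = u.left := by
    intro T u
    let 𝒲 : Scheme.OpenCover.{u} T.left := (sigmaOpenCover 𝒱.X).pullback₁ u.left
    have hu : u.left ≫ atlas 𝒱 ≫ X.hom = T.hom := Over.w u
    have hx : ∀ i : 𝒱.I₀, pullback.snd u.left (Sigma.ι 𝒱.X i) ≫ 𝒱.f i ≫ X.hom =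
        pullback.fst u.left (Sigma.ι 𝒱.X i) ≫ T.hom := by
      intro i
      rw [← hu, ← hιf, Category.assoc, pullback.condition_assoc]
    let xi : ∀ i : 𝒱.I₀, res T 𝒲 i ⟶ X₀ X (𝒮.f (σ i)) := fun i =>
      Over.homMk (pullback.snd u.left (Sigma.ι 𝒱.X i)) (hx i)
    have hxi : ∀ i : 𝒱.I₀, xi i ≫ ι₀ X (𝒮.f (σ i)) = resι T 𝒲 i ≫ u ≫ f := by
      intro i
      apply Over.OverMorphism.ext
      show pullback.snd u.left (Sigma.ι 𝒱.X i) ≫ 𝒱.f i =
        pullback.fst u.left (Sigma.ι 𝒱.X i) ≫ u.left ≫ atlas 𝒱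
      rw [← hιf, pullback.condition_assoc]
    constructor
    · intro hP
      have hz : ∀ i : 𝒱.I₀, ∃ z : pullback u.left (Sigma.ι 𝒱.X i) ⟶ (Z₀ i).left,
          z ≫ j' i = pullback.snd u.left (Sigma.ι 𝒱.X i) := by
        intro i
        have hPi : Ext (AMonS.map S N.subtype) a (xi i ≫ ι₀ X (𝒮.f (σ i))) := by
          rw [hxi]
          exact Ext.comp _ _ hP (resι T 𝒲 i)
        obtain ⟨z, hz⟩ := (hj₀ i (xi i)).1 hPi
        exact ⟨z.left, congrArg (fun m => m.left) hz⟩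
      choose z hz using hz
      obtain ⟨t, ht⟩ := AttrAtlas.exists_factor 𝒱 j' u.left z hz
      refine ⟨t ≫ g.toImage, ?_⟩
      rw [Category.assoc]
      have : g.toImage ≫ g.ker.subschemeι = g := g.toImage_imageι
      rw [this]
      exact ht
    · rintro ⟨t, ht⟩
      have hinv : inv g.toImage ≫ g = g.ker.subschemeι := by
        rw [IsIso.inv_comp_eq]
        exact g.toImage_imageι.symm
      have ht' : (t ≫ inv g.toImage) ≫ sigmaMap 𝒱 j' = u.left := by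
        rw [Category.assoc]
        show t ≫ inv g.toImage ≫ g = u.left
        rw [hinv, ht]
      apply ext_of_cover (AMonS.map S N.subtype) a hepi' 𝒲 (u ≫ f)
      intro (i : 𝒱.I₀)
      obtain ⟨z, hz⟩ := exists_local_factor 𝒱 j' u.left _ ht' i
      have e1 : j' i ≫ 𝒱.f i ≫ X.hom = (Z₀ i).hom := Over.w (j₀ i)
      have hzw : z ≫ (Z₀ i).hom = (res T 𝒲 i).hom := by
        rw [← e1, ← Category.assoc, hz]
        exact hx i
      have h1 : Ext (AMonS.map S N.subtype) a (xi i ≫ ι₀ X (𝒮.f (σ i))) := by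
        refine (hj₀ i (xi i)).2 ⟨Over.homMk z hzw, ?_⟩
        apply Over.OverMorphism.ext
        exact hz
      rw [hxi] at h1
      exact h1
  have hdesc : ∀ {T : Over S} (x : T ⟶ X),
      Ext (AMonS.map S N.subtype) a ((Over.homMk (pullback.fst x.left f.left) rfl :
        Over.mk (pullback.fst x.left f.left ≫ T.hom) ⟶ T) ≫ x) →
      Ext (AMonS.map S N.subtype) a x := by
    intro T x h
    let 𝒲x : Scheme.OpenCover.{u} T.left := 𝒱.pullback₁ x.left
    apply ext_of_cover (AMonS.map S N.subtype) a hepi' 𝒲x x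
    intro (i : 𝒱.I₀)
    have hc : pullback.fst x.left (𝒱.f i) ≫ x.left =
        (pullback.snd x.left (𝒱.f i) ≫ Sigma.ι 𝒱.X i) ≫ atlas 𝒱 := by
      rw [Category.assoc, hιf, pullback.condition]
    have hl : pullback.lift (pullback.fst x.left (𝒱.f i))
        (pullback.snd x.left (𝒱.f i) ≫ Sigma.ι 𝒱.X i) hc ≫ pullback.fst x.left (atlas 𝒱) =
        pullback.fst x.left (𝒱.f i) := pullback.lift_fst _ _ hc
    let m : res T 𝒲x i ⟶ Over.mk (pullback.fst x.left f.left ≫ T.hom) :=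
      Over.homMk (pullback.lift (pullback.fst x.left (𝒱.f i))
        (pullback.snd x.left (𝒱.f i) ≫ Sigma.ι 𝒱.X i) hc) (by
          show pullback.lift _ _ hc ≫ pullback.fst x.left (atlas 𝒱) ≫ T.hom =
            pullback.fst x.left (𝒱.f i) ≫ T.hom
          rw [← Category.assoc, hl])
    have hm : resι T 𝒲x i = m ≫ (Over.homMk (pullback.fst x.left f.left) rfl :
        Over.mk (pullback.fst x.left f.left ≫ T.hom) ⟶ T) := by
      apply Over.OverMorphism.ext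
      exact hl.symm
    rw [hm, Category.assoc]
    exact Ext.comp _ _ h m
  haveI : Flat f.left := inferInstanceAs (Flat (atlas 𝒱))
  haveI : Surjective f.left := inferInstanceAs (Surjective (atlas 𝒱))
  exact Groth.Agent.Lib.Helper16.AttrDescent.exists_closed
    (fun {T} x => Ext (AMonS.map S N.subtype) a x)
    (fun x t hx => Ext.comp _ _ hx t) f g.ker hI' hdesc (isOpenMap_atlas 𝒱)

end Groth.Agent.Lib.Helper16.AttrMain
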