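import Mathlib
import Groth.Prelude.Def_AlgGrp
import Groth.Agent.Lib.Helper23.GeomConnGroup

/-!
# Étale equivariant maps reflect fixed points (helper16)

Scheme-level lemmas:
* `isOpenImmersion_of_section`: a section of an unramified morphism locally of finite type is an
  open immersion.
* `eq_comp_section`: a morphism from a connected scheme to a scheme unramified over a field which
  meets a rational point is constant.
* `ext_of_residueField`: two morphisms into `X` which agree after composition with an unramified
  `f : X ⟶ Y` and on all residue-field points are equal.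
* `geometricallyConnected_of_fiber`: a group scheme with connected fibres is geometrically
  connected.
* `act_eq_of_field`, `act_eq`: the main results.
-/

set_option autoImplicit false

namespace Groth.Agent.Lib.Helper16.EtaleFixed

universe u
open CategoryTheory Limits MonoidalCategory CartesianMonoidalCategory MonObj AlgebraicGeometry

/-- A section of a formally unramified morphism locally of finite type is an open immersion. -/
theorem isOpenImmersion_of_section {E B : Scheme.{u}} (π : E ⟶ B) [FormallyUnramified π]
    [LocallyOfFiniteType π] (σ : B ⟶ E) (h : σ ≫ π = 𝟙 B) : IsOpenImmersion σ := by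
  have hΔ : IsOpenImmersion (pullback.diagonal π) := inferInstance
  set gr : B ⟶ pullback (σ ≫ π) π := pullback.lift (𝟙 B) σ (by simp) with hgr
  have h1 : σ = gr ≫ pullback.snd _ _ := (pullback.lift_snd _ _ _).symm
  have h2 : IsOpenImmersion gr :=
    MorphismProperty.of_isPullback (P := @IsOpenImmersion)
      (pullback_lift_diagonal_isPullback σ π) hΔ
  have h3 : IsOpenImmersion (σ ≫ π) := by rw [h]; infer_instance
  have h4 : IsOpenImmersion (pullback.snd (σ ≫ π) π) := inferInstance
  rw [h1]
  infer_instance

/-- A morphism from a connected scheme to a scheme unramified over a one-point scheme, which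
meets the image of a section, factors through that section. -/
theorem eq_comp_section {E B Z : Scheme.{u}} [Subsingleton B] (π : E ⟶ B) [FormallyUnramified π]
    [LocallyOfFiniteType π] (σ : B ⟶ E) (h : σ ≫ π = 𝟙 B) [ConnectedSpace Z] (θ : Z ⟶ E)
    (z₀ : Z) (hz₀ : θ.base z₀ ∈ Set.range σ.base) : θ = (θ ≫ π) ≫ σ := by
  haveI : IsOpenImmersion σ := isOpenImmersion_of_section π σ h
  haveI : IsClosedImmersion σ := isClosedImmersion_of_comp_eq_id π σ h
  have hopen : IsOpen (Set.range σ.base) := σ.isOpenEmbedding.isOpen_range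
  have hclosed : IsClosed (Set.range σ.base) := σ.isClosedEmbedding.isClosed_range
  have hclopen : IsClopen (θ.base ⁻¹' Set.range σ.base) :=
    ⟨hclosed.preimage θ.continuous, hopen.preimage θ.continuous⟩
  have huniv : θ.base ⁻¹' Set.range σ.base = Set.univ :=
    hclopen.eq_univ ⟨z₀, hz₀⟩
  have hrange : Set.range θ.base ⊆ Set.range σ.base := by
    rintro _ ⟨z, rfl⟩
    have : z ∈ θ.base ⁻¹' Set.range σ.base := by rw [huniv]; trivial
    exact this
  have hw : IsOpenImmersion.lift σ θ hrange ≫ σ = θ := IsOpenImmersion.lift_fac σ θ hrange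
  have hw' : IsOpenImmersion.lift σ θ hrange = θ ≫ π := by
    calc IsOpenImmersion.lift σ θ hrange
        = IsOpenImmersion.lift σ θ hrange ≫ σ ≫ π := by rw [h, Category.comp_id]
      _ = θ ≫ π := by rw [← Category.assoc, hw]
  rw [← hw', hw]

/-- Two morphisms into `X` which agree after composing with a morphism `f` whose diagonal is an
open immersion, and which agree on all residue field points, are equal. -/
theorem ext_of_residueField {X Y T : Scheme.{u}} (f : X ⟶ Y)
    [IsOpenImmersion (pullback.diagonal f)] (u v : T ⟶ X) (huv : u ≫ f = v ≫ f)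
    (hp : ∀ p : T, T.fromSpecResidueField p ≫ u = T.fromSpecResidueField p ≫ v) : u = v := by
  set θ : T ⟶ pullback f f := pullback.lift u v huv with hθ
  have hrange : Set.range θ.base ⊆ Set.range (pullback.diagonal f).base := by
    rintro _ ⟨p, rfl⟩
    have h1 : T.fromSpecResidueField p ≫ θ =
        (T.fromSpecResidueField p ≫ v) ≫ pullback.diagonal f := by
      apply pullback.hom_ext
      · rw [Category.assoc, Category.assoc, pullback.lift_fst, pullback.diagonal_fst,
          Category.comp_id, hp p]
      · rw [Category.assoc, Category.assoc, pullback.lift_snd, pullback.diagonal_snd,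
          Category.comp_id]
    obtain ⟨pt⟩ : Nonempty (Spec (T.residueField p)) := inferInstance
    have h2 : θ.base p = (T.fromSpecResidueField p ≫ θ).base pt := by
      rw [Scheme.Hom.comp_base, TopCat.comp_app, Scheme.fromSpecResidueField_apply]
    rw [h2, h1]
    exact ⟨(T.fromSpecResidueField p ≫ v).base pt, rfl⟩
  have hw : IsOpenImmersion.lift (pullback.diagonal f) θ hrange ≫ pullback.diagonal f = θ :=
    IsOpenImmersion.lift_fac _ θ hrange
  have hu : u = θ ≫ pullback.fst f f := (pullback.lift_fst _ _ _).symm
  have hv : v = θ ≫ pullback.snd f f := (pullback.lift_snd _ _ _).symm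
  rw [hu, hv, ← hw, Category.assoc, Category.assoc, pullback.diagonal_fst, pullback.diagonal_snd]

/-- A group scheme over `S` with connected fibres is geometrically connected over `S`. -/
theorem geometricallyConnected_of_fiber {S : Scheme.{u}} (G : Over S) [GrpObj G]
    (hconn : ∀ s : S, ConnectedSpace (G.hom.fiber s)) : GeometricallyConnected G.hom := by
  rw [GeometricallyConnected.iff_geometricallyConnected_fiber]
  intro s
  haveI := hconn s
  have hη : η[G].left ≫ G.hom = 𝟙 S := by simp
  let e : Spec (S.residueField s) ⟶ G.hom.fiber s :=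
    pullback.lift (S.fromSpecResidueField s ≫ η[G].left) (𝟙 _)
      (by rw [Category.assoc, hη, Category.comp_id, Category.id_comp])
  exact Lib.Helper23.GeomConnGroup.geometricallyConnected_of_section (k := S.residueField s)
    (G.hom.fiberToSpecResidueField s) e (pullback.lift_snd _ _ _)

section Main

variable {S : Scheme.{u}} {G : Over S} [GrpObj G] {X Y : Over S}

/-- The unit acts trivially, in point form. -/
theorem one_act_pt (a : AlgGrp.Action G X) {T : Over S} (x : T ⟶ X) :
    lift (toUnit T ≫ η[G]) x ≫ a.act = x := by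
  have h : lift (toUnit T ≫ η[G]) x = lift (toUnit T) x ≫ (η[G] ▷ X) := by
    ext <;> simp
  rw [h, Category.assoc, a.one_act, leftUnitor_hom, lift_snd]

/-- Connected case: if `f ∘ x` is universally fixed for a `T`-point `x`, where `T` is a one-point
scheme with `G ×_S T` connected, then the orbit map of `x` is constant. -/
theorem act_eq_of_connected (a : AlgGrp.Action G X)
    (b : AlgGrp.Action G Y) (f : X ⟶ Y) [FormallyUnramified f.left] [LocallyOfFiniteType f.left]
    (hf : a.act ≫ f = (G ◁ f) ≫ b.act) (T : Over S) [ConnectedSpace (G ⊗ T).left]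
    [Subsingleton T.left] [Nonempty T.left] (x : T ⟶ X)
    (hx : ∀ (T' : Over S) (t : T' ⟶ T) (g : T' ⟶ G),
      lift g (t ≫ x ≫ f) ≫ b.act = t ≫ x ≫ f) :
    (G ◁ x) ≫ a.act = snd G T ≫ x := by
  set φ : G ⊗ T ⟶ X := (G ◁ x) ≫ a.act with hφdef
  have hφ : φ ≫ f = snd G T ≫ x ≫ f := by
    calc φ ≫ f = (G ◁ x) ≫ (G ◁ f) ≫ b.act := by rw [hφdef, Category.assoc, hf]
      _ = lift (fst G T) (snd G T ≫ x ≫ f) ≫ b.act := by
          rw [← Category.assoc]; congr 1; ext <;> simp
      _ = snd G T ≫ x ≫ f := hx (G ⊗ T) (snd G T) (fst G T)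
  have hφ' : φ.left ≫ f.left = (snd G T).left ≫ (x ≫ f).left := by
    have := congrArg (fun m => m.left) hφ
    simpa using this
  let π : pullback f.left (x ≫ f).left ⟶ T.left := pullback.snd _ _
  let σ : T.left ⟶ pullback f.left (x ≫ f).left :=
    pullback.lift x.left (𝟙 _) (by simp)
  have hσ : σ ≫ π = 𝟙 _ := pullback.lift_snd _ _ _
  let θ : (G ⊗ T).left ⟶ pullback f.left (x ≫ f).left :=
    pullback.lift φ.left (snd G T).left hφ'
  let eT : T ⟶ G ⊗ T := lift (toUnit T ≫ η[G]) (𝟙 T)
  have heφ : eT ≫ φ = x := by
    have h1 : eT ≫ (G ◁ x) = lift (toUnit T ≫ η[G]) x := by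
      ext <;> simp [eT]
    rw [hφdef, ← Category.assoc, h1]
    exact one_act_pt a x
  have heθ : eT.left ≫ θ = σ := by
    apply pullback.hom_ext
    · rw [Category.assoc, pullback.lift_fst, pullback.lift_fst, ← Over.comp_left, heφ]
    · rw [Category.assoc, pullback.lift_snd, pullback.lift_snd, ← Over.comp_left]
      have : eT ≫ snd G T = 𝟙 T := lift_snd _ _
      rw [this]
      rfl
  obtain ⟨pt⟩ : Nonempty T.left := inferInstance
  have hπ1 : FormallyUnramified π :=
    MorphismProperty.pullback_snd (P := @FormallyUnramified) _ _ inferInstance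
  have hπ2 : LocallyOfFiniteType π :=
    MorphismProperty.pullback_snd (P := @LocallyOfFiniteType) _ _ inferInstance
  have key := eq_comp_section π σ hσ θ (eT.left.base pt) ⟨pt, by rw [← heθ]; rfl⟩
  apply Over.OverMorphism.ext
  have h1 : φ.left = θ ≫ pullback.fst _ _ := (pullback.lift_fst _ _ _).symm
  have h2 : θ ≫ π = (snd G T).left := pullback.lift_snd _ _ _
  have h3 : σ ≫ pullback.fst _ _ = x.left := pullback.lift_fst _ _ _
  rw [h1, key, h2, Category.assoc, h3]
  rfl

/-- Main theorem: an étale equivariant morphism reflects universally fixed points, for a group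
scheme with connected fibres. -/
theorem act_eq (hconn : ∀ s : S, ConnectedSpace (G.hom.fiber s)) (a : AlgGrp.Action G X)
    (b : AlgGrp.Action G Y) (f : X ⟶ Y) [FormallyUnramified f.left] [LocallyOfFiniteType f.left]
    (hf : a.act ≫ f = (G ◁ f) ≫ b.act) (T : Over S) (x : T ⟶ X)
    (hx : ∀ (T' : Over S) (t : T' ⟶ T) (g : T' ⟶ G),
      lift g (t ≫ x ≫ f) ≫ b.act = t ≫ x ≫ f) (g : T ⟶ G) :
    lift g x ≫ a.act = x := by
  have hG := geometricallyConnected_of_fiber G hconn
  have huv : (lift g x ≫ a.act) ≫ f = x ≫ f := by
    calc (lift g x ≫ a.act) ≫ f = lift g x ≫ (G ◁ f) ≫ b.act := by rw [Category.assoc, hf]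
      _ = lift g (𝟙 T ≫ x ≫ f) ≫ b.act := by
          rw [← Category.assoc]; congr 1; ext <;> simp
      _ = 𝟙 T ≫ x ≫ f := hx T (𝟙 T) g
      _ = x ≫ f := Category.id_comp _
  have huv' : (lift g x ≫ a.act).left ≫ f.left = x.left ≫ f.left := by
    have := congrArg (fun m => m.left) huv
    simpa using this
  apply Over.OverMorphism.ext
  apply ext_of_residueField f.left _ _ huv'
  intro p
  let Tp : Over S := Over.mk (T.left.fromSpecResidueField p ≫ T.hom)
  let tp : Tp ⟶ T := Over.homMk (T.left.fromSpecResidueField p) rfl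
  haveI : ConnectedSpace (G ⊗ Tp).left :=
    pullback_of_geometrically hG.geometrically_connectedSpace (T.left.residueField p)
      (T.left.fromSpecResidueField p ≫ T.hom)
  haveI : Subsingleton Tp.left :=
    (inferInstance : Subsingleton (Spec (T.left.residueField p)))
  haveI : Nonempty Tp.left := (inferInstance : Nonempty (Spec (T.left.residueField p)))
  have key := act_eq_of_connected a b f hf Tp (tp ≫ x)
    (fun T' t g' => by simpa using hx T' (t ≫ tp) g')
  have h : tp ≫ lift g x ≫ a.act = tp ≫ x := by
    calc tp ≫ lift g x ≫ a.act = lift (tp ≫ g) (𝟙 Tp) ≫ (G ◁ (tp ≫ x)) ≫ a.act := by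
          rw [← Category.assoc, ← Category.assoc]; congr 1; ext <;> simp
      _ = lift (tp ≫ g) (𝟙 Tp) ≫ snd G Tp ≫ tp ≫ x := by rw [key]
      _ = tp ≫ x := by rw [← Category.assoc, lift_snd, Category.id_comp]
  exact congrArg (fun m => m.left) h

end Main

end Groth.Agent.Lib.Helper16.EtaleFixed
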