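import Mathlib.RingTheory.Bialgebra.TensorProduct
import Mathlib.RingTheory.HopfAlgebra.TensorProduct
import Mathlib.RingTheory.Bialgebra.Convolution
import Mathlib.RingTheory.Flat.Basic
import Mathlib.LinearAlgebra.Basis.VectorSpace
import Mathlib.LinearAlgebra.FreeModule.Basic

/-!
# Convolution powers of the identity and base change (helper16)
-/

set_option autoImplicit false

namespace Groth.Agent.Lib.Helper16.FinHopf

open WithConv TensorProduct

universe u v w

section

variable {k : Type u} [CommRing k] {K : Type w} [CommRing K] [Algebra k K]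
  {A : Type v} [CommRing A] [Bialgebra k A]

/-- `a ↦ 1 ⊗ a`. -/
noncomputable abbrev incR : A →ₐ[k] K ⊗[k] A := Algebra.TensorProduct.includeRight

theorem convMul_incR (F G : WithConv (K ⊗[k] A →ₐ[K] K ⊗[k] A)) (f g : WithConv (A →ₐ[k] A))
    (hF : ∀ a, F.ofConv (incR a) = incR (K := K) (f.ofConv a))
    (hG : ∀ a, G.ofConv (incR a) = incR (K := K) (g.ofConv a)) (a : A) :
    (F * G).ofConv (incR a) = incR (K := K) ((f * g).ofConv a) := by
  have h1 : (F * G).ofConv (incR a) = Algebra.TensorProduct.lift F.ofConv G.ofConv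
      (fun _ _ => Commute.all _ _) (Coalgebra.comul (R := K) (incR (K := K) a)) :=
    AlgHom.convMul_apply F G _
  have h2 : (f * g).ofConv a = Algebra.TensorProduct.lift f.ofConv g.ofConv
      (fun _ _ => Commute.all _ _) (Coalgebra.comul (R := k) a) :=
    AlgHom.convMul_apply f g _
  rw [h1, h2]
  have h3 := RingHom.congr_fun (Bialgebra.comul_includeRight (R := k) (A := K) (B := A)) a
  simp only [RingHom.coe_comp, Function.comp_apply, RingHom.coe_coe,
    Bialgebra.comulAlgHom_apply] at h3
  rw [h3]
  generalize Coalgebra.comul (R := k) a = t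
  induction t using TensorProduct.induction_on with
  | zero => simp
  | add s t hs ht => simp only [map_add, hs, ht]
  | tmul x y =>
    rw [Algebra.TensorProduct.mapRingHom_tmul, Algebra.TensorProduct.lift_tmul,
      Algebra.TensorProduct.lift_tmul]
    simp only [RingHom.coe_coe]
    rw [hF, hG, map_mul]

theorem convOne_incR (a : A) :
    (1 : WithConv (K ⊗[k] A →ₐ[K] K ⊗[k] A)).ofConv (incR a) =
      incR (K := K) ((1 : WithConv (A →ₐ[k] A)).ofConv a) := by
  show algebraMap K (K ⊗[k] A) (Coalgebra.counit (R := K) ((1 : K) ⊗ₜ[k] a)) =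
    (1 : K) ⊗ₜ[k] (algebraMap k A (Coalgebra.counit (R := k) a))
  rw [TensorProduct.counit_tmul, Algebra.TensorProduct.algebraMap_apply,
    Algebra.algebraMap_eq_smul_one (Coalgebra.counit (R := k) a), TensorProduct.tmul_smul,
    TensorProduct.smul_tmul']
  simp

theorem convPow_id_incR (m : ℕ) (a : A) :
    ((toConv (AlgHom.id K (K ⊗[k] A))) ^ m).ofConv (incR a) =
      incR (K := K) (((toConv (AlgHom.id k A)) ^ m).ofConv a) := by
  induction m generalizing a with
  | zero => rw [pow_zero, pow_zero]; exact convOne_incR a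
  | succ m ih =>
    rw [pow_succ, pow_succ]
    exact convMul_incR _ _ _ _ ih (fun _ => rfl) a

/-- If the base change is killed by `n`, so is `A` (for `A → K ⊗ A` injective). -/
theorem convPow_id_eq_one_of_baseChange (n : ℕ)
    (hinj : Function.Injective (incR (k := k) (K := K) (A := A)))
    (h : (toConv (AlgHom.id K (K ⊗[k] A))) ^ n = 1) :
    (toConv (AlgHom.id k A)) ^ n = 1 := by
  apply WithConv.ofConv_injective
  apply AlgHom.ext
  intro a
  apply hinj
  rw [← convPow_id_incR, h, convOne_incR]

end

end Groth.Agent.Lib.Helper16.FinHopf
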