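import Mathlib.RingTheory.Derivation.Basic
import Mathlib.RingTheory.Bialgebra.Basic
import Mathlib.RingTheory.HopfAlgebra.Basic
import Mathlib.RingTheory.Ideal.Cotangent

/-!
# Invariant derivations of a commutative bialgebra (helper16)

For a commutative bialgebra `A` over `k` and a point derivation `d : A → k` at the counit
(`d (a b) = ε a d b + d a ε b`), `invDer d hd = (id ⊗ d) ∘ Δ` is a `k`-derivation of `A` with
`ε ∘ invDer d = d`.
-/

set_option autoImplicit false

namespace Groth.Agent.Lib.Helper16.FinHopf

open TensorProduct Coalgebra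

section InvDer

variable {k : Type*} [CommRing k] {A : Type*} [CommRing A] [Bialgebra k A]

/-- `x ⊗ y ↦ f y • x`. -/
noncomputable def contractR (f : A →ₗ[k] k) : A ⊗[k] A →ₗ[k] A :=
  (TensorProduct.rid k A).toLinearMap ∘ₗ LinearMap.lTensor A f

@[simp] theorem contractR_tmul (f : A →ₗ[k] k) (x y : A) : contractR f (x ⊗ₜ[k] y) = f y • x := by
  simp [contractR]

theorem contractR_counit_comul (a : A) : contractR (counit (R := k) (A := A)) (comul a) = a := by
  have h := congrArg (fun f => f a) (Coalgebra.lTensor_counit_comp_comul (R := k) (A := A))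
  simp only [LinearMap.comp_apply] at h
  rw [contractR, LinearMap.comp_apply, h]
  simp

theorem contractR_mul (d : A →ₗ[k] k)
    (hd : ∀ a b, d (a * b) = counit (R := k) a * d b + d a * counit (R := k) b) (s t : A ⊗[k] A) :
    contractR d (s * t) = contractR (counit (R := k) (A := A)) s * contractR d t +
      contractR d s * contractR (counit (R := k) (A := A)) t := by
  induction s using TensorProduct.induction_on with
  | zero => simp
  | add s₁ s₂ h₁ h₂ => rw [add_mul, map_add, h₁, h₂, map_add, map_add]; ring
  | tmul x y =>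
    induction t using TensorProduct.induction_on with
    | zero => simp
    | add t₁ t₂ h₁ h₂ => rw [mul_add, map_add, h₁, h₂, map_add, map_add]; ring
    | tmul x' y' =>
      simp only [Algebra.TensorProduct.tmul_mul_tmul, contractR_tmul, hd]
      simp only [Algebra.smul_def, map_add, map_mul]
      ring

/-- The invariant derivation `(id ⊗ d) ∘ Δ` attached to a point derivation `d`. -/
noncomputable def invDer (d : A →ₗ[k] k)
    (hd : ∀ a b, d (a * b) = counit (R := k) a * d b + d a * counit (R := k) b) :
    Derivation k A A :=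
  Derivation.mk' (contractR d ∘ₗ comul) (by
    intro a b
    simp only [LinearMap.comp_apply, Bialgebra.comul_mul, contractR_mul d hd,
      contractR_counit_comul, smul_eq_mul]
    ring)

theorem invDer_apply (d : A →ₗ[k] k)
    (hd : ∀ a b, d (a * b) = counit (R := k) a * d b + d a * counit (R := k) b) (a : A) :
    invDer d hd a = contractR d (comul a) := rfl

theorem counit_contractR (f : A →ₗ[k] k) (s : A ⊗[k] A) :
    counit (R := k) (contractR f s) =
      f ((TensorProduct.lid k A) (LinearMap.rTensor A (counit (R := k) (A := A)) s)) := by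
  induction s using TensorProduct.induction_on with
  | zero => simp
  | add s₁ s₂ h₁ h₂ => simp only [map_add, h₁, h₂]
  | tmul x y => simp [mul_comm]

theorem counit_invDer (d : A →ₗ[k] k)
    (hd : ∀ a b, d (a * b) = counit (R := k) a * d b + d a * counit (R := k) b) (a : A) :
    counit (R := k) (invDer d hd a) = d a := by
  rw [invDer_apply, counit_contractR]
  have h := congrArg (fun f => f a) (Coalgebra.rTensor_counit_comp_comul (R := k) (A := A))
  simp only [LinearMap.comp_apply] at h
  rw [h]
  simp

end InvDer

section PointDer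

variable {k : Type*} [CommRing k] {C : Type*} [CommRing C] [Algebra k C] (ε : C →ₐ[k] k)

theorem sub_algebraMap_mem_ker (c : C) : c - algebraMap k C (ε c) ∈ RingHom.ker ε := by
  rw [RingHom.mem_ker, map_sub, AlgHom.commutes]
  simp

/-- The point derivation `C → k` attached to a functional on the cotangent space `I/I²`,
`I = ker ε`. -/
noncomputable def pointDer (δ : (RingHom.ker ε).Cotangent →ₗ[k] k) : C →ₗ[k] k where
  toFun c := δ ((RingHom.ker ε).toCotangent ⟨c - algebraMap k C (ε c), sub_algebraMap_mem_ker ε c⟩)
  map_add' a b := by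
    rw [← map_add, ← map_add]
    congr 2
    apply Subtype.ext
    simp only [map_add, Submodule.coe_add]
    ring
  map_smul' c a := by
    rw [RingHom.id_apply, ← map_smul, ← LinearMap.map_smul_of_tower]
    congr 2
    apply Subtype.ext
    rw [Submodule.coe_smul_of_tower]
    simp only [Algebra.smul_def, map_mul, AlgHom.commutes, Algebra.algebraMap_self,
      RingHom.id_apply]
    ring

theorem pointDer_apply_of_mem (δ : (RingHom.ker ε).Cotangent →ₗ[k] k) (x : C)
    (hx : x ∈ RingHom.ker ε) : pointDer ε δ x = δ ((RingHom.ker ε).toCotangent ⟨x, hx⟩) := by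
  show δ _ = δ _
  congr 2
  apply Subtype.ext
  have : ε x = 0 := hx
  simp [this]

theorem pointDer_mul (δ : (RingHom.ker ε).Cotangent →ₗ[k] k) (a b : C) :
    pointDer ε δ (a * b) = ε a * pointDer ε δ b + pointDer ε δ a * ε b := by
  have ha := sub_algebraMap_mem_ker ε a
  have hb := sub_algebraMap_mem_ker ε b
  -- decomposition of `ab - ε(ab)`
  have key : (⟨a * b - algebraMap k C (ε (a * b)), sub_algebraMap_mem_ker ε (a * b)⟩ :
        RingHom.ker ε) =
      (⟨(a - algebraMap k C (ε a)) * (b - algebraMap k C (ε b)),
          (RingHom.ker ε).mul_mem_left _ hb⟩ : RingHom.ker ε) +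
        (ε a • (⟨b - algebraMap k C (ε b), hb⟩ : RingHom.ker ε) +
          ε b • (⟨a - algebraMap k C (ε a), ha⟩ : RingHom.ker ε)) := by
    apply Subtype.ext
    simp only [map_mul, Submodule.coe_add, Submodule.coe_smul_of_tower, Algebra.smul_def]
    ring
  have hsq : (RingHom.ker ε).toCotangent ⟨(a - algebraMap k C (ε a)) * (b - algebraMap k C (ε b)),
      (RingHom.ker ε).mul_mem_left _ hb⟩ = 0 := by
    rw [Ideal.toCotangent_eq_zero, pow_two]
    exact Ideal.mul_mem_mul ha hb
  show δ ((RingHom.ker ε).toCotangent _) = ε a * δ ((RingHom.ker ε).toCotangent _) +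
    δ ((RingHom.ker ε).toCotangent _) * ε b
  rw [key, map_add, hsq, zero_add, map_add, LinearMap.map_smul_of_tower,
    LinearMap.map_smul_of_tower, map_add, map_smul, map_smul]
  simp only [smul_eq_mul]
  ring

end PointDer

end Groth.Agent.Lib.Helper16.FinHopf
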