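import Groth.Agent.Lib.Helper16.FinHopfDer
import Groth.Agent.Lib.Helper16.FinHopfInv
import Mathlib.RingTheory.Nakayama
import Mathlib.RingTheory.Noetherian.Basic
import Mathlib.RingTheory.Jacobson.Ideal
import Mathlib.LinearAlgebra.Dimension.Free
import Mathlib.LinearAlgebra.FreeModule.Finite.Basic

/-!
# Height-one theorem (helper16)

Augmented finite-dimensional commutative algebra `(C, ε)` over a field of characteristic `p` with
`f ^ p = 0` on `I = ker ε` and enough derivations: `dim C = p ^ dim (I/I²)`.
-/

set_option autoImplicit false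

namespace Groth.Agent.Lib.Helper16.FinHopf

open Module

universe u v

section

variable {k : Type u} [Field k] {C : Type v} [CommRing C] [Algebra k C] [Module.Finite k C]
  (ε : C →ₐ[k] k)

theorem finite_ker : Module.Finite k (RingHom.ker ε) :=
  Module.Finite.of_injective ((RingHom.ker ε).subtype.restrictScalars k) Subtype.val_injective

theorem finite_cotangent : Module.Finite k (RingHom.ker ε).Cotangent :=
  haveI := finite_ker ε
  Module.Finite.of_surjective ((RingHom.ker ε).toCotangent.restrictScalars k)
    (RingHom.ker ε).toCotangent_surjective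

/-- Elements of a nil ideal `I` lifting a basis of `I/I²` generate `I` (for `C` Noetherian). -/
theorem span_eq_of_basis_cotangent (hnil : ∀ f, ε f = 0 → IsNilpotent f) {r : ℕ}
    (b : Basis (Fin r) k (RingHom.ker ε).Cotangent) (x : Fin r → RingHom.ker ε)
    (hx : ∀ i, (RingHom.ker ε).toCotangent (x i) = b i) :
    Ideal.span (Set.range fun i => (x i : C)) = RingHom.ker ε := by
  haveI : IsNoetherianRing C := IsNoetherianRing.of_finite k C
  apply le_antisymm
  · rw [Ideal.span_le]
    rintro _ ⟨i, rfl⟩
    exact (x i).2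
  · have hjac : RingHom.ker ε ≤ Ideal.jacobson ⊥ := by
      intro f hf
      rw [Ideal.mem_jacobson_bot]
      intro y
      have h1 : IsNilpotent f := hnil f hf
      exact ((Commute.all f y).isNilpotent_mul_right h1).isUnit_add_one
    refine Submodule.le_of_le_smul_of_le_jacobson_bot (IsNoetherian.noetherian _) hjac ?_
    intro c hc
    -- write the class of `c` in the basis
    set cc : RingHom.ker ε := ⟨c, hc⟩ with hcc
    have h1 : (RingHom.ker ε).toCotangent cc =
        (RingHom.ker ε).toCotangent (∑ i, b.repr ((RingHom.ker ε).toCotangent cc) i • x i) := by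
      rw [map_sum]
      conv_lhs => rw [← b.sum_repr ((RingHom.ker ε).toCotangent cc)]
      refine Finset.sum_congr rfl fun i _ => ?_
      rw [LinearMap.map_smul_of_tower, hx]
    rw [Ideal.toCotangent_eq] at h1
    have h2 : c = (∑ i, b.repr ((RingHom.ker ε).toCotangent cc) i • (x i : C)) +
        (c - ∑ i, b.repr ((RingHom.ker ε).toCotangent cc) i • (x i : C)) := by ring
    rw [h2]
    refine Submodule.add_mem_sup ?_ ?_
    · refine Submodule.sum_mem _ fun i _ => ?_
      rw [Algebra.smul_def]
      exact Ideal.mul_mem_left _ _ (Ideal.subset_span ⟨i, rfl⟩)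
    · have h3 : ((cc : C) - ((∑ i, b.repr ((RingHom.ker ε).toCotangent cc) i • x i :
          RingHom.ker ε) : C)) = c - ∑ i, b.repr ((RingHom.ker ε).toCotangent cc) i • (x i : C) := by
        simp [hcc, Submodule.coe_sum, Submodule.coe_smul_of_tower]
      rw [h3, pow_two] at h1
      exact h1

end

/-- **Height-one theorem.** -/
theorem exists_gens_finrank_eq_pow {k : Type u} [Field k] (p : ℕ) [Fact p.Prime] [CharP k p]
    (C : Type v) [CommRing C] [Algebra k C] [Module.Finite k C] (ε : C →ₐ[k] k)
    (hp : ∀ f, ε f = 0 → f ^ p = 0)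
    (hder : ∀ δ : (RingHom.ker ε).Cotangent →ₗ[k] k,
      ∃ D : Derivation k C C, ∀ c, ε (D c) = pointDer ε δ c) :
    ∃ x : Fin (finrank k (RingHom.ker ε).Cotangent) → C,
      Ideal.span (Set.range x) = RingHom.ker ε ∧ (∀ i, x i ^ p = 0) ∧
      finrank k C = p ^ finrank k (RingHom.ker ε).Cotangent := by
  classical
  haveI := finite_cotangent ε
  set r := finrank k (RingHom.ker ε).Cotangent with hr
  let b : Basis (Fin r) k (RingHom.ker ε).Cotangent := Module.finBasisOfFinrankEq k _ rfl
  choose x hx using fun i => (RingHom.ker ε).toCotangent_surjective (b i)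
  choose D hD using fun i => hder (b.coord i)
  have hnil : ∀ f, ε f = 0 → IsNilpotent f := fun f hf => ⟨p, hp f hf⟩
  have hspan := span_eq_of_basis_cotangent ε hnil b x hx
  have hxp : ∀ i, (x i : C) ^ p = 0 := fun i => hp _ (x i).2
  refine ⟨fun i => (x i : C), hspan, hxp, ?_⟩
  refine finrank_eq_pow_of_derivations p r C ε (fun i => (x i : C)) D hspan hxp ?_
  intro i j
  rw [hD, pointDer_apply_of_mem ε _ _ (x j).2]
  have : (⟨(x j : C), (x j).2⟩ : RingHom.ker ε) = x j := rfl
  rw [this, hx, Basis.coord_apply, Basis.repr_self, Finsupp.single_apply]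
  by_cases h : i = j
  · simp [h]
  · simp [h, Ne.symm h]

/-- Height-one theorem for commutative bialgebras. -/
theorem bialgebra_exists_gens_finrank_eq_pow {k : Type u} [Field k] (p : ℕ) [Fact p.Prime]
    [CharP k p] (A : Type v) [CommRing A] [Bialgebra k A] [Module.Finite k A]
    (hp : ∀ f : A, Bialgebra.counitAlgHom k A f = 0 → f ^ p = 0) :
    ∃ x : Fin (finrank k (RingHom.ker (Bialgebra.counitAlgHom k A)).Cotangent) → A,
      Ideal.span (Set.range x) = RingHom.ker (Bialgebra.counitAlgHom k A) ∧ (∀ i, x i ^ p = 0) ∧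
      finrank k A = p ^ finrank k (RingHom.ker (Bialgebra.counitAlgHom k A)).Cotangent := by
  refine exists_gens_finrank_eq_pow p A (Bialgebra.counitAlgHom k A) hp ?_
  intro δ
  refine ⟨invDer (pointDer (Bialgebra.counitAlgHom k A) δ)
    (fun a b => pointDer_mul (Bialgebra.counitAlgHom k A) δ a b), fun c => ?_⟩
  exact counit_invDer _ _ c

end Groth.Agent.Lib.Helper16.FinHopf
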