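import Groth.Agent.Lib.Helper16.FinHopfInv
import Groth.Agent.Lib.Helper16.FinHopfHeightOne
import Mathlib.LinearAlgebra.Dual.Lemmas
import Mathlib.Algebra.CharP.Algebra

/-!
# Cartier's theorem, infinitesimal case (helper16)

A finite-dimensional commutative bialgebra over a field of characteristic zero whose augmentation
ideal is nilpotent is trivial.
-/

set_option autoImplicit false

namespace Groth.Agent.Lib.Helper16.FinHopf

open Module

universe u v

theorem ker_counit_eq_bot_of_charZero {k : Type u} [Field k] [CharZero k]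
    (H : Type v) [CommRing H] [Bialgebra k H] [Module.Finite k H]
    (hnil : IsNilpotent (RingHom.ker (Bialgebra.counitAlgHom k H))) :
    RingHom.ker (Bialgebra.counitAlgHom k H) = ⊥ := by
  classical
  set ε := Bialgebra.counitAlgHom k H with hε
  obtain ⟨n₀, hn₀⟩ := hnil
  have hnil' : ∀ f : H, ε f = 0 → IsNilpotent f := by
    intro f hf
    refine ⟨n₀, ?_⟩
    have : f ^ n₀ ∈ (RingHom.ker ε) ^ n₀ := Ideal.pow_mem_pow hf n₀
    rw [hn₀] at this
    exact this
  by_contra hI
  -- the cotangent space is nonzero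
  have hnontriv : ¬ Subsingleton (RingHom.ker ε).Cotangent := by
    intro hsub
    rw [Ideal.cotangent_subsingleton_iff] at hsub
    have hidem : ∀ m : ℕ, 1 ≤ m → (RingHom.ker ε) ^ m = RingHom.ker ε := by
      intro m hm
      induction m with
      | zero => omega
      | succ m ihm =>
        by_cases hm0 : m = 0
        · subst hm0; simp
        · rw [pow_succ, ihm (by omega)]; exact hsub
    by_cases hn0 : n₀ = 0
    · subst hn0
      rw [pow_zero] at hn₀
      have h1 : (1 : H) ∈ (1 : Ideal H) := by simp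
      rw [hn₀] at h1
      have h2 : ε (1 : H) = ε 0 := by rw [(Ideal.mem_bot).1 h1]
      simp at h2
    · apply hI
      rw [← hidem n₀ (by omega)]
      exact hn₀
  rw [not_subsingleton_iff_nontrivial] at hnontriv
  obtain ⟨ξ, hξ⟩ := exists_ne (0 : (RingHom.ker ε).Cotangent)
  obtain ⟨δ, hδ⟩ := Module.Projective.exists_dual_ne_zero k hξ
  obtain ⟨x, rfl⟩ := (RingHom.ker ε).toCotangent_surjective ξ
  set D := invDer (pointDer ε δ) (fun a b => pointDer_mul ε δ a b) with hD
  have hDx : ε (D (x : H)) = δ ((RingHom.ker ε).toCotangent x) := by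
    have h1 : ε (D (x : H)) = pointDer ε δ (x : H) := counit_invDer _ _ _
    rw [h1, pointDer_apply_of_mem ε δ _ x.2]
  -- `D x` is a unit
  have hunit : IsUnit (D (x : H)) := by
    set c := δ ((RingHom.ker ε).toCotangent x) with hc
    have h1 : IsNilpotent (D (x : H) - algebraMap k H c) :=
      hnil' _ (by rw [map_sub, hDx, AlgHom.commutes]; simp)
    have h2 : IsUnit (algebraMap k H c) := (IsUnit.mk0 c hδ).map (algebraMap k H)
    have h3 : D (x : H) = algebraMap k H c + (D (x : H) - algebraMap k H c) := by ring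
    rw [h3]
    exact IsNilpotent.isUnit_add_left_of_commute h1 h2 (Commute.all _ _)
  -- minimal nilpotency exponent of `x`
  have hxnil : ∃ N, (x : H) ^ N = 0 := hnil' _ x.2
  set N := Nat.find hxnil with hN
  have hxN : (x : H) ^ N = 0 := Nat.find_spec hxnil
  have hNpos : N ≠ 0 := by
    intro h0
    rw [h0, pow_zero] at hxN
    have h2 : ε (1 : H) = ε 0 := by rw [hxN]
    simp at h2
  have h1 : D ((x : H) ^ N) = 0 := by rw [hxN, map_zero]
  rw [Derivation.leibniz_pow] at h1
  have hNunit : IsUnit ((N : ℕ) : H) := by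
    have : ((N : ℕ) : H) = algebraMap k H (N : k) := by simp
    rw [this]
    exact (IsUnit.mk0 (N : k) (Nat.cast_ne_zero.2 hNpos)).map (algebraMap k H)
  have h2 : (x : H) ^ (N - 1) = 0 := by
    have h3 : ((N : ℕ) : H) * ((x : H) ^ (N - 1) * D (x : H)) = 0 := by
      simpa [nsmul_eq_mul, smul_eq_mul] using h1
    have h4 := (hNunit.mul_right_eq_zero).1 h3
    exact (hunit.mul_left_eq_zero).1 h4
  exact Nat.find_min hxnil (Nat.sub_lt (Nat.pos_of_ne_zero hNpos) Nat.one_pos) h2

end Groth.Agent.Lib.Helper16.FinHopf
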