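import Mathlib.RingTheory.Artinian.Ring
import Mathlib.RingTheory.Bialgebra.Basic
import Mathlib.RingTheory.LocalRing.MaximalIdeal.Basic
import Mathlib.RingTheory.Jacobson.Ideal

/-!
# Local finite-dimensional augmented algebras (helper16)
-/

set_option autoImplicit false

namespace Groth.Agent.Lib.Helper16.FinHopf

universe u v

section

variable {k : Type u} [Field k] {A : Type v} [CommRing A] [Algebra k A]

theorem ker_eq_maximalIdeal [IsLocalRing A] (ε : A →ₐ[k] k) :
    RingHom.ker ε = IsLocalRing.maximalIdeal A := by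
  have hsurj : Function.Surjective ε := fun c => ⟨algebraMap k A c, by simp⟩
  haveI : (RingHom.ker ε).IsMaximal := RingHom.ker_isMaximal_of_surjective ε hsurj
  exact IsLocalRing.eq_maximalIdeal inferInstance

theorem isNilpotent_ker_of_isLocalRing [Module.Finite k A] [IsLocalRing A] (ε : A →ₐ[k] k) :
    IsNilpotent (RingHom.ker ε) := by
  haveI : IsArtinianRing A := IsArtinianRing.of_finite k A
  have h := IsArtinianRing.isNilpotent_jacobson_bot (R := A)
  rwa [IsLocalRing.jacobson_eq_maximalIdeal ⊥ bot_ne_top, ← ker_eq_maximalIdeal ε] at h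

theorem isNilpotent_of_mem_ker_of_isLocalRing [Module.Finite k A] [IsLocalRing A] (ε : A →ₐ[k] k)
    (f : A) (hf : ε f = 0) : IsNilpotent f := by
  obtain ⟨n, hn⟩ := isNilpotent_ker_of_isLocalRing ε
  refine ⟨n, ?_⟩
  have : f ^ n ∈ (RingHom.ker ε) ^ n := Ideal.pow_mem_pow hf n
  rw [hn] at this
  exact this

end

end Groth.Agent.Lib.Helper16.FinHopf
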