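import Groth.Agent.Lib.Helper16.FinHopfFrobImage
import Groth.Agent.Lib.Helper16.FinHopfLocal

/-!
# The order of an infinitesimal finite group scheme is a power of `p` (helper16)
-/

set_option autoImplicit false

namespace Groth.Agent.Lib.Helper16.FinHopf

open TensorProduct Module

universe u v

section

variable {k : Type u} [Field k] {H : Type v} [CommRing H] [Bialgebra k H]

theorem counit_subBialgebra {B : Subalgebra k H} (hB : IsSubBialg B) (b : B) :
    letI := subBialgebra hB
    Bialgebra.counitAlgHom k B b = Bialgebra.counitAlgHom k H (b : H) := rfl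

theorem isNilpotent_ker_counit_sub {B : Subalgebra k H} (hB : IsSubBialg B)
    (hnil : IsNilpotent (RingHom.ker (Bialgebra.counitAlgHom k H))) :
    letI := subBialgebra hB
    IsNilpotent (RingHom.ker (Bialgebra.counitAlgHom k B)) := by
  letI := subBialgebra hB
  obtain ⟨n₀, hn₀⟩ := hnil
  refine ⟨n₀, ?_⟩
  rw [Ideal.zero_eq_bot, eq_bot_iff]
  intro x hx
  have h1 : (B.val : B →+* H) x ∈ ((RingHom.ker (Bialgebra.counitAlgHom k B)) ^ n₀).map
      (B.val : B →+* H) := Ideal.mem_map_of_mem _ hx
  rw [Ideal.map_pow] at h1
  have h2 : (RingHom.ker (Bialgebra.counitAlgHom k B)).map (B.val : B →+* H) ≤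
      RingHom.ker (Bialgebra.counitAlgHom k H) := by
    rw [Ideal.map_le_iff_le_comap]
    intro b hb
    exact hb
  have h3 := Ideal.pow_right_mono h2 n₀ h1
  rw [hn₀] at h3
  rw [Ideal.mem_bot]
  exact Subtype.ext h3

end

theorem exists_finrank_eq_prime_pow (p : ℕ) [Fact p.Prime] {k : Type u} [Field k] [CharP k p]
    (n : ℕ) : ∀ (H : Type v) [CommRing H] [Bialgebra k H] [Module.Finite k H],
      IsNilpotent (RingHom.ker (Bialgebra.counitAlgHom k H)) → finrank k H ≤ n →
      ∃ m, finrank k H = p ^ m := by
  induction n with
  | zero =>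
    intro H _ _ _ _ hle
    haveI : Nontrivial H := nontrivial_of_counit k H
    have := Module.finrank_pos (R := k) (M := H)
    omega
  | succ n ih =>
    intro H _ _ _ hnil hle
    by_cases hle' : finrank k H ≤ n
    · exact ih H hnil hle'
    haveI : Nontrivial H := nontrivial_of_counit k H
    set ε := Bialgebra.counitAlgHom k H with hε
    by_cases hI : RingHom.ker ε = ⊥
    · refine ⟨0, ?_⟩
      have hinj : Function.Injective ε := (RingHom.injective_iff_ker_eq_bot ε.toRingHom).2 hI
      have hsurj : Function.Surjective ε := fun c => ⟨algebraMap k H c, by simp⟩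
      have e : H ≃ₗ[k] k := LinearEquiv.ofBijective ε.toLinearMap ⟨hinj, hsurj⟩
      rw [e.finrank_eq, Module.finrank_self, pow_zero]
    · obtain ⟨n₀, hn₀⟩ := hnil
      have hnil' : ∀ f : H, ε f = 0 → IsNilpotent f := by
        intro f hf
        refine ⟨n₀, ?_⟩
        have : f ^ n₀ ∈ (RingHom.ker ε) ^ n₀ := Ideal.pow_mem_pow hf n₀
        rw [hn₀] at this
        exact this
      have hB := isSubBialg_frobImage (k := k) (p := p) (H := H)
      have hform := finrank_eq_finrank_mul (frobImage k p H) n₀ hn₀
        (fun b hb => theta_frobImage b hb)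
      rw [span_augSet_frobImage] at hform
      obtain ⟨x, -, -, hQ⟩ := frobKer_exists_gens p H hnil'
      rw [hQ] at hform
      set d := finrank k (RingHom.ker ε).Cotangent with hd
      have hd1 : 1 ≤ d := by
        by_contra hcon
        have hd0 : d = 0 := by omega
        haveI := finite_cotangent ε
        have hsub : Subsingleton (RingHom.ker ε).Cotangent :=
          Module.finrank_zero_iff.1 hd0
        rw [Ideal.cotangent_subsingleton_iff] at hsub
        have hidem : ∀ m : ℕ, 1 ≤ m → (RingHom.ker ε) ^ m = RingHom.ker ε := by
          intro m hm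
          induction m with
          | zero => omega
          | succ m ihm =>
            by_cases hm0 : m = 0
            · subst hm0; simp
            · rw [pow_succ, ihm (by omega)]; exact hsub
        by_cases hn0 : n₀ = 0
        · subst hn0
          rw [pow_zero] at hn₀
          have : (1 : H) ∈ (⊥ : Ideal H) := by
            have h1 : (1 : H) ∈ (1 : Ideal H) := by simp
            rw [hn₀] at h1; exact h1
          exact one_ne_zero ((Ideal.mem_bot).1 this)
        · apply hI
          rw [← hidem n₀ (by omega)]
          exact hn₀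
      letI := subBialgebra hB
      haveI : Module.Finite k (frobImage k p H) :=
        Module.Finite.of_injective (frobImage k p H).val.toLinearMap Subtype.val_injective
      haveI : Nontrivial (frobImage k p H) := nontrivial_of_counit k _
      have hBpos : 0 < finrank k (frobImage k p H) := Module.finrank_pos
      have hp2 : 2 ≤ p ^ d := by
        calc 2 ≤ p := (Fact.out : p.Prime).two_le
          _ = p ^ 1 := (pow_one p).symm
          _ ≤ p ^ d := Nat.pow_le_pow_right (Fact.out : p.Prime).pos hd1
      have hlt : finrank k (frobImage k p H) ≤ n := by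
        have h1 : finrank k (frobImage k p H) * 2 ≤ finrank k H := by
          rw [hform]; exact Nat.mul_le_mul_left _ hp2
        omega
      obtain ⟨m', hm'⟩ := ih (frobImage k p H)
        (isNilpotent_ker_counit_sub hB ⟨n₀, hn₀⟩) hlt
      exact ⟨m' + d, by rw [hform, hm', pow_add]⟩

end Groth.Agent.Lib.Helper16.FinHopf
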