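import Mathlib.RingTheory.HopfAlgebra.Convolution
import Mathlib.RingTheory.Bialgebra.Convolution
import Mathlib.RingTheory.Kaehler.Basic
import Mathlib.RingTheory.Unramified.Basic
import Mathlib.RingTheory.Ideal.Cotangent
import Mathlib.LinearAlgebra.TensorProduct.RightExactness

/-!
# The shear map of a commutative Hopf algebra; differentials (helper16)

`Ω[A⁄k] = 0` iff the augmentation ideal is idempotent.
(The construction of the shear maps through the convolution group follows helper75's `HopfShear`.)
-/

set_option autoImplicit false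

namespace Groth.Agent.Lib.Helper16.FinHopf

open TensorProduct Algebra.TensorProduct WithConv

universe u v

section Shear

variable (k : Type u) [CommRing k] (A : Type v) [CommRing A] [HopfAlgebra k A]

/-- `x ↦ x ⊗ 1` as a point. -/
noncomputable def ptL : WithConv (A →ₐ[k] A ⊗[k] A) := toConv includeLeft
/-- `x ↦ 1 ⊗ x` as a point. -/
noncomputable def ptR : WithConv (A →ₐ[k] A ⊗[k] A) := toConv includeRight
/-- The comultiplication as a point. -/
noncomputable def ptD : WithConv (A →ₐ[k] A ⊗[k] A) := toConv (Bialgebra.comulAlgHom k A)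

theorem ptD_eq : ptD k A = ptL k A * ptR k A := by
  apply WithConv.ofConv_injective
  apply AlgHom.ext
  intro x
  rw [AlgHom.convMul_apply]
  simp [ptL, ptR, ptD]

/-- The shear map `x ⊗ a ↦ x₁ ⊗ x₂ a`. -/
noncomputable def shearΨ : A ⊗[k] A →ₐ[k] A ⊗[k] A :=
  lift (Bialgebra.comulAlgHom k A) includeRight (fun _ _ => Commute.all _ _)

/-- Its inverse `x ⊗ a ↦ x₁ ⊗ S(x₂) a`. -/
noncomputable def shearΦ : A ⊗[k] A →ₐ[k] A ⊗[k] A :=
  lift (ptL k A * (ptR k A)⁻¹).ofConv includeRight (fun _ _ => Commute.all _ _)

theorem shearΨ_comp_shearΦ : (shearΨ k A).comp (shearΦ k A) = AlgHom.id k _ := by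
  apply Algebra.TensorProduct.ext
  · have h1 : (shearΦ k A).comp includeLeft = (ptL k A * (ptR k A)⁻¹).ofConv := by
      simp [shearΦ]
    rw [AlgHom.comp_assoc, h1, AlgHom.comp_convMul_distrib]
    have h2 : (shearΨ k A).comp (ptL k A).ofConv = (ptD k A).ofConv := by
      simp [shearΨ, ptL, ptD]
    have h3 : (shearΨ k A).comp ((ptR k A)⁻¹).ofConv = ((ptR k A)⁻¹).ofConv := by
      have : (ptR k A)⁻¹ = toConv (includeRight.comp (HopfAlgebra.antipodeAlgHom k A)) := rfl
      rw [this]
      simp [shearΨ, ← AlgHom.comp_assoc]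
    rw [h2, h3]
    simp only [toConv_ofConv]
    rw [ptD_eq, mul_assoc,
      show ptR k A * (ptR k A)⁻¹ = 1 from mul_inv_cancel (G := WithConv (A →ₐ[k] A ⊗[k] A)) _,
      mul_one]
    rfl
  · apply AlgHom.ext
    intro a
    simp [shearΨ, shearΦ]

theorem shearΦ_comp_shearΨ : (shearΦ k A).comp (shearΨ k A) = AlgHom.id k _ := by
  apply Algebra.TensorProduct.ext
  · have h1 : (shearΨ k A).comp includeLeft = (ptD k A).ofConv := by
      simp [shearΨ, ptD]
    rw [AlgHom.comp_assoc, h1, ptD_eq, AlgHom.comp_convMul_distrib]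
    have h2 : (shearΦ k A).comp (ptL k A).ofConv = (ptL k A * (ptR k A)⁻¹).ofConv := by
      simp [shearΦ, ptL]
    have h3 : (shearΦ k A).comp (ptR k A).ofConv = (ptR k A).ofConv := by
      simp [shearΦ, ptR]
    rw [h2, h3]
    simp only [toConv_ofConv]
    rw [mul_assoc,
      show (ptR k A)⁻¹ * ptR k A = 1 from inv_mul_cancel (G := WithConv (A →ₐ[k] A ⊗[k] A)) _,
      mul_one]
    rfl
  · apply AlgHom.ext
    intro a
    simp [shearΨ, shearΦ]

/-- The shear map as an algebra automorphism of `A ⊗ A`. -/
noncomputable def shearEquiv : (A ⊗[k] A) ≃ₐ[k] (A ⊗[k] A) :=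
  AlgEquiv.ofAlgHom (shearΨ k A) (shearΦ k A) (shearΨ_comp_shearΦ k A) (shearΦ_comp_shearΨ k A)

/-- `x ⊗ a ↦ ε(x) a`. -/
noncomputable def counitL : A ⊗[k] A →ₐ[k] A :=
  lift ((Algebra.ofId k A).comp (Bialgebra.counitAlgHom k A)) (AlgHom.id k A)
    (fun _ _ => Commute.all _ _)

theorem counitL_comp_shearΨ : (counitL k A).comp (shearΨ k A) = lmul' k := by
  apply Algebra.TensorProduct.ext
  · apply AlgHom.ext
    intro x
    simp only [AlgHom.comp_apply, includeLeft_apply, shearΨ, lift_tmul, map_one, mul_one,
      lmul'_apply_tmul, Bialgebra.comulAlgHom_apply]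
    -- `(ε ⊗ id)(Δ x) = x`
    have h1 : ∀ t : A ⊗[k] A, counitL k A t =
        TensorProduct.lid k A (LinearMap.rTensor A (Coalgebra.counit (R := k) (A := A)) t) := by
      intro t
      induction t using TensorProduct.induction_on with
      | zero => simp
      | add s t hs ht => simp only [map_add, hs, ht]
      | tmul x y => simp [counitL, Algebra.ofId_apply, Algebra.smul_def]
    rw [h1, Coalgebra.rTensor_counit_comul]
    simp
  · apply AlgHom.ext
    intro a
    simp [counitL, shearΨ]

theorem ker_counitL :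
    RingHom.ker (counitL k A) =
      (RingHom.ker (Bialgebra.counitAlgHom k A)).map
        (includeLeft : A →ₐ[k] A ⊗[k] A) := by
  have hsurj : Function.Surjective (Bialgebra.counitAlgHom k A) :=
    fun c => ⟨algebraMap k A c, by simp⟩
  rw [← Algebra.TensorProduct.rTensor_ker (Bialgebra.counitAlgHom k A) hsurj]
  have h1 : counitL k A = ((Algebra.TensorProduct.lid k A) : k ⊗[k] A →ₐ[k] A).comp
      (Algebra.TensorProduct.map (Bialgebra.counitAlgHom k A) (AlgHom.id k A)) := by
    apply Algebra.TensorProduct.ext'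
    intro x y
    simp [counitL, Algebra.ofId_apply, Algebra.smul_def]
  ext t
  rw [RingHom.mem_ker, RingHom.mem_ker, h1, AlgHom.comp_apply]
  constructor
  · intro h
    exact (Algebra.TensorProduct.lid k A).injective (by simpa using h)
  · intro h
    rw [h]; simp

/-- The ideal of the diagonal is the preimage under the shear map of `I ⊗ A`. -/
theorem kaehler_ideal_eq :
    KaehlerDifferential.ideal k A =
      ((RingHom.ker (Bialgebra.counitAlgHom k A)).map
        (includeLeft : A →ₐ[k] A ⊗[k] A)).comap (shearEquiv k A) := by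
  rw [KaehlerDifferential.ideal, ← counitL_comp_shearΨ, ← ker_counitL]
  ext t
  simp only [RingHom.mem_ker, AlgHom.comp_apply, Ideal.mem_comap]
  rfl

/-- If the augmentation ideal is idempotent, there are no differentials. -/
theorem subsingleton_kaehler_of_idem
    (h : IsIdempotentElem (RingHom.ker (Bialgebra.counitAlgHom k A))) :
    Subsingleton Ω[A⁄k] := by
  show Subsingleton (KaehlerDifferential.ideal k A).Cotangent
  rw [Ideal.cotangent_subsingleton_iff, kaehler_ideal_eq]
  set I := RingHom.ker (Bialgebra.counitAlgHom k A) with hI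
  have h1 : (I.map (includeLeft : A →ₐ[k] A ⊗[k] A)).comap (shearEquiv k A) =
      (I.map (includeLeft : A →ₐ[k] A ⊗[k] A)).map (shearEquiv k A).toRingEquiv.symm :=
    (Ideal.map_symm (I := I.map (includeLeft : A →ₐ[k] A ⊗[k] A))
      (shearEquiv k A).toRingEquiv).symm
  rw [h1]
  show _ * _ = _
  rw [← Ideal.map_mul, ← Ideal.map_mul]
  have h2 : I * I = I := h
  rw [h2]

theorem formallyUnramified_of_idem
    (h : IsIdempotentElem (RingHom.ker (Bialgebra.counitAlgHom k A))) :
    Algebra.FormallyUnramified k A :=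
  ⟨subsingleton_kaehler_of_idem k A h⟩

/-- `x ⊗ a ↦ x ε(a)`. -/
noncomputable def counitR : A ⊗[k] A →ₐ[k] A :=
  lift (AlgHom.id k A) ((Algebra.ofId k A).comp (Bialgebra.counitAlgHom k A))
    (fun _ _ => Commute.all _ _)

/-- Conversely, if there are no differentials then the augmentation ideal is idempotent. -/
theorem idem_of_subsingleton_kaehler (h : Subsingleton Ω[A⁄k]) :
    IsIdempotentElem (RingHom.ker (Bialgebra.counitAlgHom k A)) := by
  have h0 : Subsingleton (KaehlerDifferential.ideal k A).Cotangent := h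
  rw [Ideal.cotangent_subsingleton_iff, kaehler_ideal_eq] at h0
  set I := RingHom.ker (Bialgebra.counitAlgHom k A) with hI
  set L := I.map (includeLeft : A →ₐ[k] A ⊗[k] A) with hL
  -- `L` is idempotent
  have hσ : Function.Surjective (shearEquiv k A) := (shearEquiv k A).surjective
  have h1 : L * L = L := by
    have h2 : (L.comap (shearEquiv k A)) * (L.comap (shearEquiv k A)) =
        L.comap (shearEquiv k A) := h0
    have h3 := congrArg (Ideal.map (shearEquiv k A)) h2
    rw [Ideal.map_mul] at h3
    have h4 : (L.comap (shearEquiv k A)).map (shearEquiv k A) = L :=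
      Ideal.map_comap_of_surjective _ hσ L
    rw [h4] at h3
    exact h3
  -- push forward along `counitR`
  have hr : ∀ x : A, counitR k A ((includeLeft : A →ₐ[k] A ⊗[k] A) x) = x := by
    intro x
    simp [counitR]
  have h5 : L.map (counitR k A) = I := by
    rw [hL]
    apply le_antisymm
    · rw [Ideal.map_le_iff_le_comap, Ideal.map_le_iff_le_comap]
      intro x hx
      rw [Ideal.mem_comap, Ideal.mem_comap, hr]
      exact hx
    · intro x hx
      rw [← hr x]
      exact Ideal.mem_map_of_mem _ (Ideal.mem_map_of_mem _ hx)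
  have h6 := congrArg (Ideal.map (counitR k A)) h1
  rw [Ideal.map_mul, h5] at h6
  exact h6

theorem formallyUnramified_iff_idem :
    Algebra.FormallyUnramified k A ↔
      IsIdempotentElem (RingHom.ker (Bialgebra.counitAlgHom k A)) :=
  ⟨fun h => idem_of_subsingleton_kaehler k A h.1, formallyUnramified_of_idem k A⟩

end Shear

end Groth.Agent.Lib.Helper16.FinHopf
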