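import Groth.Agent.Lib.Helper16.FinHopfAlgClosed
import Groth.Agent.Lib.Helper16.FinHopfPrimePow
import Groth.Agent.Lib.Helper16.FinHopfCartier
import Groth.Agent.Lib.Helper16.FinHopfShear
import Mathlib.RingTheory.Etale.Descent
import Mathlib.RingTheory.HopfAlgebra.TensorProduct
import Mathlib.RingTheory.Bialgebra.TensorProduct
import Mathlib.RingTheory.Smooth.Fiber
import Mathlib.RingTheory.Finiteness.ModuleFinitePresentation
import Mathlib.FieldTheory.IsAlgClosed.AlgebraicClosure

/-!
# Finite group schemes of order prime to the characteristic are étale (helper16)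
-/

set_option autoImplicit false

namespace Groth.Agent.Lib.Helper16.FinHopf

open WithConv TensorProduct Module

universe u v w

/-- A finite projective Hopf algebra with idempotent augmentation ideal is étale. -/
theorem etale_of_idem (R : Type u) [CommRing R] (A : Type v) [CommRing A] [HopfAlgebra R A]
    [Module.Finite R A] [Module.Projective R A]
    (h : IsIdempotentElem (RingHom.ker (Bialgebra.counitAlgHom R A))) : Algebra.Etale R A := by
  have : Algebra.FormallyUnramified R A := formallyUnramified_of_idem R A h
  have : Module.FinitePresentation R A := Module.finitePresentation_of_projective R A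
  have : Algebra.FinitePresentation R A := Algebra.FinitePresentation.of_finitePresentation R A
  exact Algebra.Etale.of_formallyUnramified_of_flat

section AlgClosed

variable {k : Type u} [Field k] [IsAlgClosed k] {A : Type v} [CommRing A] [HopfAlgebra k A]
  [Module.Finite k A]

/-- Over an algebraically closed field: if the order is invertible, the augmentation ideal is
idempotent. -/
theorem idem_of_finrank_ne_zero_of_isAlgClosed (h : (finrank k A : k) ≠ 0) :
    IsIdempotentElem (RingHom.ker (Bialgebra.counitAlgHom k A)) := by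
  classical
  haveI : IsArtinianRing A := IsArtinianRing.of_finite k A
  obtain ⟨N₁, hN₁⟩ := IsArtinianRing.isNilpotent_jacobson_bot (R := A)
  obtain ⟨N, hle, hN0, hNN⟩ := exists_pow_stable
    (RingHom.ker (Bialgebra.counitAlgHom k A)) (max N₁ 2)
  have hjac : (Ideal.jacobson (⊥ : Ideal A)) ^ N = ⊥ := by
    have h1 : (Ideal.jacobson (⊥ : Ideal A)) ^ N ≤ (Ideal.jacobson (⊥ : Ideal A)) ^ N₁ :=
      Ideal.pow_le_pow_right (le_trans (le_max_left _ _) hle)
    rw [hN₁] at h1
    exact le_bot_iff.1 h1
  have hN2 : 2 ≤ N := le_trans (le_max_right _ _) hle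
  have hcard := finrank_eq_card_mul (k := k) (A := A) N hjac
  set ε := Bialgebra.counitAlgHom k A with hε
  set I := RingHom.ker ε with hI
  set K := I ^ N with hK
  haveI : (K.restrictScalars k).IsCoideal := isCoideal_pow N hN0 hNN
  have hnilK : IsNilpotent (RingHom.ker (Bialgebra.counitAlgHom k (A ⧸ K))) := by
    refine ⟨N, ?_⟩
    have h1 : RingHom.ker (Bialgebra.counitAlgHom k (A ⧸ K)) ≤ I.map (Ideal.Quotient.mk K) := by
      intro x hx
      obtain ⟨a, rfl⟩ := Ideal.Quotient.mk_surjective x
      exact Ideal.mem_map_of_mem _ (show a ∈ I from hx)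
    rw [Ideal.zero_eq_bot, eq_bot_iff]
    refine le_trans (Ideal.pow_right_mono h1 N) ?_
    rw [← Ideal.map_pow, Ideal.map_quotient_self]
  -- the augmentation ideal of the quotient vanishes
  have hbot : RingHom.ker (Bialgebra.counitAlgHom k (A ⧸ K)) = ⊥ := by
    obtain ⟨p, hp⟩ := CharP.exists k
    rcases CharP.char_is_prime_or_zero k p with hpp | hp0
    · haveI : Fact p.Prime := ⟨hpp⟩
      obtain ⟨m, hm⟩ := exists_finrank_eq_prime_pow p (finrank k (A ⧸ K)) (A ⧸ K) hnilK le_rfl
      have hm0 : m = 0 := by
        by_contra hm0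
        apply h
        rw [hcard, hm, Nat.cast_mul, Nat.cast_pow, CharP.cast_eq_zero k p, zero_pow hm0, mul_zero]
      rw [hm0, pow_zero] at hm
      -- one-dimensional
      set εQ := Bialgebra.counitAlgHom k (A ⧸ K) with hεQ
      have hsurj : Function.Surjective εQ := fun c => ⟨algebraMap k _ c, by simp⟩
      have hinj : Function.Injective εQ.toLinearMap := by
        have hfr : finrank k (A ⧸ K) = finrank k k := by rw [hm, Module.finrank_self]
        exact (LinearMap.injective_iff_surjective_of_finrank_eq_finrank hfr).2 hsurj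
      exact (RingHom.injective_iff_ker_eq_bot εQ.toRingHom).1 hinj
    · subst hp0
      haveI : CharZero k := CharP.charP_to_charZero k
      exact ker_counit_eq_bot_of_charZero (A ⧸ K) hnilK
  -- hence `I ≤ I ^ N`
  have hIK : I ≤ K := by
    intro a ha
    have h1 : (Ideal.Quotient.mk K a) ∈ RingHom.ker (Bialgebra.counitAlgHom k (A ⧸ K)) := by
      show Bialgebra.counitAlgHom k (A ⧸ K) (Ideal.Quotient.mk K a) = 0
      have : Bialgebra.counitAlgHom k (A ⧸ K) (Ideal.Quotient.mk K a) = ε a := rfl
      rw [this]
      exact ha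
    rw [hbot, Ideal.mem_bot, Ideal.Quotient.eq_zero_iff_mem] at h1
    exact h1
  show I * I = I
  apply le_antisymm Ideal.mul_le_right
  calc I ≤ I ^ N := hIK
    _ ≤ I ^ 2 := Ideal.pow_le_pow_right hN2
    _ = I * I := pow_two I

end AlgClosed

/-- **A finite group scheme over a field whose order is invertible is étale.** -/
theorem etale_of_finrank_ne_zero (k : Type u) [Field k] (A : Type v) [CommRing A]
    [HopfAlgebra k A] [Module.Finite k A] (h : (finrank k A : k) ≠ 0) : Algebra.Etale k A := by
  have h' : (finrank (AlgebraicClosure k) (AlgebraicClosure k ⊗[k] A) : AlgebraicClosure k) ≠ 0 := by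
    rw [Module.finrank_baseChange, ← map_natCast (algebraMap k (AlgebraicClosure k))]
    exact fun h0 => h ((map_eq_zero _).1 h0)
  have hidem := idem_of_finrank_ne_zero_of_isAlgClosed (k := AlgebraicClosure k)
    (A := AlgebraicClosure k ⊗[k] A) h'
  have het : Algebra.Etale (AlgebraicClosure k) (AlgebraicClosure k ⊗[k] A) :=
    etale_of_idem (AlgebraicClosure k) (AlgebraicClosure k ⊗[k] A) hidem
  exact Algebra.Etale.of_etale_tensorProduct_of_faithfullyFlat (AlgebraicClosure k)

end Groth.Agent.Lib.Helper16.FinHopf
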