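import Groth.Agent.Lib.Helper16.FinHopfShear
import Groth.Agent.Lib.Helper16.FinHopfInv
import Groth.Agent.Lib.Helper16.FinHopfEtale
import Groth.Prelude.Def_CartDual
import Mathlib.LinearAlgebra.Trace
import Mathlib.LinearAlgebra.Contraction
import Mathlib.RingTheory.Ideal.IdempotentFG

/-!
# Integrals of finite commutative Hopf algebras and the trace formula (helper16)

If a finite free commutative Hopf algebra `A` has a normalized integral `Λ ∈ A` and a normalized
integral `λ ∈ A^∨`, then `λ(Λ) · rank A = 1`; in particular the rank is invertible in the base.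
-/

set_option autoImplicit false

namespace Groth.Agent.Lib.Helper16.FinHopf

open TensorProduct Algebra.TensorProduct WithConv Coalgebra HopfAlgebra

universe u v

section Integral

variable {k : Type u} [CommRing k] {A : Type v} [CommRing A] [HopfAlgebra k A]

/-- An idempotent finitely generated augmentation ideal yields a normalized integral. -/
theorem exists_integral_of_idem (hfg : (RingHom.ker (Bialgebra.counitAlgHom k A)).FG)
    (h : IsIdempotentElem (RingHom.ker (Bialgebra.counitAlgHom k A))) :
    ∃ e : A, counit (R := k) e = 1 ∧ ∀ a : A, a * e = counit (R := k) a • e := by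
  obtain ⟨e', he', hI⟩ := (Ideal.isIdempotentElem_iff_of_fg _ hfg).1 h
  refine ⟨1 - e', ?_, ?_⟩
  · have h1 : e' ∈ RingHom.ker (Bialgebra.counitAlgHom k A) := by
      rw [hI]; exact Ideal.mem_span_singleton_self e'
    have h0 : counit (R := k) e' = 0 := h1
    rw [map_sub, Bialgebra.counit_one, h0, sub_zero]
  · intro a
    have hmem := sub_algebraMap_mem_ker (Bialgebra.counitAlgHom k A) a
    rw [hI, Ideal.mem_span_singleton'] at hmem
    obtain ⟨b, hb⟩ := hmem
    have h2 : a = algebraMap k A (counit (R := k) a) + b * e' := by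
      rw [hb]; simp
    have h3 : e' * (1 - e') = 0 := by rw [mul_sub, mul_one, he'.eq, sub_self]
    calc a * (1 - e') = (algebraMap k A (counit (R := k) a) + b * e') * (1 - e') := by rw [← h2]
      _ = algebraMap k A (counit (R := k) a) * (1 - e') + b * (e' * (1 - e')) := by ring
      _ = counit (R := k) a • (1 - e') := by rw [h3, mul_zero, add_zero, Algebra.smul_def]

/-- `x ⊗ y ↦ f x • y`. -/
noncomputable def contractL (f : A →ₗ[k] k) : A ⊗[k] A →ₗ[k] A :=
  (TensorProduct.lid k A).toLinearMap ∘ₗ LinearMap.rTensor A f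

@[simp] theorem contractL_tmul (f : A →ₗ[k] k) (x y : A) : contractL f (x ⊗ₜ[k] y) = f x • y := by
  simp [contractL]

theorem contractL_includeRight_mul (f : A →ₗ[k] k) (a : A) (t : A ⊗[k] A) :
    contractL f (((1 : A) ⊗ₜ[k] a) * t) = a * contractL f t := by
  induction t using TensorProduct.induction_on with
  | zero => simp
  | add s₁ s₂ h₁ h₂ => rw [mul_add, map_add, h₁, h₂, map_add, mul_add]
  | tmul x y => simp [Algebra.TensorProduct.tmul_mul_tmul]

/-- For an integral `Λ`: `(1 ⊗ a) Δ(Λ) = (S(a) ⊗ 1) Δ(Λ)`. -/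
theorem includeRight_mul_comul_integral (Λ : A) (hΛ : ∀ a : A, a * Λ = counit (R := k) a • Λ)
    (a : A) :
    ((1 : A) ⊗ₜ[k] a) * comul (R := k) Λ = (antipode k a ⊗ₜ[k] (1 : A)) * comul (R := k) Λ := by
  have key : ∀ (ψ : A →ₐ[k] A ⊗[k] A) (t : A ⊗[k] A),
      lift ψ (Bialgebra.comulAlgHom k A) (fun _ _ => .all ..) t * comul (R := k) Λ =
        ψ (contractR (counit (R := k) (A := A)) t) * comul (R := k) Λ := by
    intro ψ t
    induction t using TensorProduct.induction_on with
    | zero => simp
    | add s₁ s₂ h₁ h₂ => rw [map_add, add_mul, h₁, h₂, map_add, map_add, add_mul]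
    | tmul x y =>
      rw [lift_tmul, contractR_tmul, Bialgebra.comulAlgHom_apply, mul_assoc, ← Bialgebra.comul_mul,
        hΛ, map_smul, map_smul, smul_mul_assoc, mul_smul_comm]
  have h1 : ptR k A = (ptL k A)⁻¹ * ptD k A := by
    rw [ptD_eq]; exact (inv_mul_cancel_left (ptL k A) (ptR k A)).symm
  have h2 : ((1 : A) ⊗ₜ[k] a) = ((ptL k A)⁻¹ * ptD k A).ofConv a := by rw [← h1]; rfl
  have h3 := key ((ptL k A)⁻¹).ofConv (comul a)
  rw [contractR_counit_comul] at h3
  rw [h2]
  exact (congrArg (· * comul (R := k) Λ) (AlgHom.convMul_apply _ _ a)).trans h3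

variable (lam : A →ₗ[k] k)

/-- The endomorphism `a ↦ (λ ⊗ id)((S a ⊗ 1) t)`. -/
noncomputable def thetaMap (t : A ⊗[k] A) : A →ₗ[k] A :=
  contractL lam ∘ₗ LinearMap.mulRight k t ∘ₗ
    (includeLeft : A →ₐ[k] A ⊗[k] A).toLinearMap ∘ₗ antipode k

theorem thetaMap_apply (t : A ⊗[k] A) (a : A) :
    thetaMap lam t a = contractL lam ((antipode k a ⊗ₜ[k] (1 : A)) * t) := rfl

theorem thetaMap_add (s t : A ⊗[k] A) : thetaMap lam (s + t) = thetaMap lam s + thetaMap lam t := by
  apply LinearMap.ext
  intro a
  simp only [thetaMap_apply, LinearMap.add_apply, mul_add, map_add]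

theorem trace_thetaMap [Module.Free k A] [Module.Finite k A] (t : A ⊗[k] A) :
    LinearMap.trace k A (thetaMap lam t) =
      lam (LinearMap.mul' k A (LinearMap.lTensor A (antipode k) t)) := by
  induction t using TensorProduct.induction_on with
  | zero =>
    have : thetaMap lam (0 : A ⊗[k] A) = 0 := by
      apply LinearMap.ext; intro a; simp [thetaMap_apply]
    rw [this]; simp
  | add s₁ s₂ h₁ h₂ => rw [thetaMap_add, map_add, h₁, h₂, map_add, map_add, map_add]
  | tmul x y =>
    have h1 : thetaMap lam (x ⊗ₜ[k] y) =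
        dualTensorHom k A A ((lam ∘ₗ LinearMap.mulRight k x ∘ₗ antipode k) ⊗ₜ[k] y) := by
      apply LinearMap.ext; intro a
      simp [thetaMap_apply, Algebra.TensorProduct.tmul_mul_tmul, dualTensorHom_apply]
    rw [h1, LinearMap.trace_eq_contract_apply]
    simp [contractLeft_apply, mul_comm]

/-- The trace formula: `λ(Λ) · rank A = ε(Λ) λ(1) = 1` for normalized integrals. -/
theorem integral_trace [Module.Free k A] [Module.Finite k A]
    (Λ : A) (hΛ : ∀ a : A, a * Λ = counit (R := k) a • Λ) (hΛ1 : counit (R := k) Λ = 1)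
    (hlam : ∀ b : A, contractL lam (comul b) = lam b • (1 : A)) (hlam1 : lam 1 = 1) :
    lam Λ * (Module.finrank k A : k) = 1 := by
  have h1 : thetaMap lam (comul (R := k) Λ) = lam Λ • LinearMap.id := by
    apply LinearMap.ext; intro a
    rw [thetaMap_apply, ← includeRight_mul_comul_integral Λ hΛ, contractL_includeRight_mul, hlam]
    simp
  have h2 := trace_thetaMap lam (comul (R := k) Λ)
  rw [h1, map_smul, LinearMap.trace_id, HopfAlgebra.mul_antipode_lTensor_comul_apply, hΛ1, map_one,
    hlam1, smul_eq_mul] at h2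
  exact h2

end Integral

section DualIntegral

variable {k : Type u} [Field k] {A : Type v} [CommRing A] [HopfAlgebra k A]
  [Coalgebra.IsCocomm k A] [Module.Finite k A]

omit [Coalgebra.IsCocomm k A] [Module.Finite k A] in
theorem apply_contractL (lam f : A →ₗ[k] k) (t : A ⊗[k] A) :
    f (contractL lam t) = LinearMap.mul' k k (TensorProduct.map lam f t) := by
  induction t using TensorProduct.induction_on with
  | zero => simp
  | add s₁ s₂ h₁ h₂ => simp only [map_add, h₁, h₂]
  | tmul x y => simp

/-- If the augmentation ideal of the dual Hopf algebra is idempotent, there is a normalized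
integral on `A`. -/
theorem exists_dual_integral
    (h : IsIdempotentElem (RingHom.ker (Bialgebra.counitAlgHom k (CartDual.D k A)))) :
    ∃ lam : A →ₗ[k] k, lam 1 = 1 ∧ ∀ b : A, contractL lam (comul b) = lam b • (1 : A) := by
  have : IsNoetherianRing (CartDual.D k A) := IsNoetherianRing.of_finite k (CartDual.D k A)
  obtain ⟨l, hl1, hl⟩ := exists_integral_of_idem
    (IsNoetherian.noetherian (RingHom.ker (Bialgebra.counitAlgHom k (CartDual.D k A)))) h
  refine ⟨l.ofConv, hl1, ?_⟩
  intro b
  rw [← sub_eq_zero]
  apply (Module.forall_dual_apply_eq_zero_iff k _).1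
  intro f
  rw [map_sub, sub_eq_zero, apply_contractL]
  have h1 := hl (toConv f)
  rw [mul_comm] at h1
  have h2 := congrArg (fun g : CartDual.D k A => g.ofConv b) h1
  simp only [LinearMap.convMul_apply] at h2
  rw [h2]
  simp [mul_comm]

/-- If a finite commutative cocommutative Hopf algebra over a field and its dual both have
idempotent augmentation ideals, then the dimension is nonzero in the field. -/
theorem finrank_ne_zero_of_idem_of_idem
    (hA : IsIdempotentElem (RingHom.ker (Bialgebra.counitAlgHom k A)))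
    (hD : IsIdempotentElem (RingHom.ker (Bialgebra.counitAlgHom k (CartDual.D k A)))) :
    (Module.finrank k A : k) ≠ 0 := by
  have : IsNoetherianRing A := IsNoetherianRing.of_finite k A
  obtain ⟨Λ, hΛ1, hΛ⟩ := exists_integral_of_idem
    (IsNoetherian.noetherian (RingHom.ker (Bialgebra.counitAlgHom k A))) hA
  obtain ⟨lam, hlam1, hlam⟩ := exists_dual_integral hD
  have h := integral_trace lam Λ hΛ hΛ1 hlam hlam1
  intro h0
  rw [h0, mul_zero] at h
  exact zero_ne_one h

end DualIntegral

end Groth.Agent.Lib.Helper16.FinHopf
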