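import Groth.Agent.Lib.Helper16.FinHopfShear
import Groth.Agent.Lib.Helper16.FinHopfIntegral
import Groth.Agent.Lib.Helper16.FinHopfBaseChange
import Mathlib.RingTheory.Norm.Basic
import Mathlib.RingTheory.LocalProperties.Submodule
import Mathlib.RingTheory.Localization.BaseChange
import Mathlib.RingTheory.Spectrum.Prime.FreeLocus
import Mathlib.RingTheory.LocalRing.Module

/-!
# Deligne's theorem: a commutative finite locally free group scheme is killed by its order
(helper16)
-/

set_option autoImplicit false

namespace Groth.Agent.Lib.Helper16.FinHopf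

open TensorProduct Module WithConv Coalgebra Algebra.TensorProduct

universe u v

section PostComp

variable {R : Type u} [CommRing R] {A : Type v} [AddCommGroup A] [Module R A] [Coalgebra R A]
  {B C D : Type*} [CommRing B] [Algebra R B] [CommRing C] [Algebra R C] [CommRing D] [Algebra R D]

/-- Post-composition with an algebra map, as a ring homomorphism of convolution rings. -/
noncomputable def postCompLin (φ : B →ₐ[R] C) :
    WithConv (A →ₗ[R] B) →+* WithConv (A →ₗ[R] C) where
  toFun f := toConv (φ.toLinearMap ∘ₗ f.ofConv)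
  map_one' := by
    apply WithConv.ofConv_injective
    apply LinearMap.ext
    intro a
    simp [LinearMap.convOne_def]
  map_mul' f g := by
    apply WithConv.ofConv_injective
    exact LinearMap.algHom_comp_convMul_distrib φ f g
  map_zero' := by
    apply WithConv.ofConv_injective
    simp
  map_add' f g := by
    apply WithConv.ofConv_injective
    simp [LinearMap.comp_add]

@[simp] theorem postCompLin_apply (φ : B →ₐ[R] C) (f : WithConv (A →ₗ[R] B)) :
    postCompLin φ f = toConv (φ.toLinearMap ∘ₗ f.ofConv) := rfl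

theorem postCompLin_comp (φ : B →ₐ[R] C) (ψ : C →ₐ[R] D) (f : WithConv (A →ₗ[R] B)) :
    postCompLin ψ (postCompLin φ f) = postCompLin (ψ.comp φ) f := rfl

theorem postCompLin_id (f : WithConv (A →ₗ[R] B)) : postCompLin (AlgHom.id R B) f = f := rfl

end PostComp

section Free

variable {R : Type u} [CommRing R] {A : Type v} [CommRing A] [HopfAlgebra R A]
  [Coalgebra.IsCocomm R A]

/-- `Hom_R(A, A ⊗ A)` as an algebra over `Hom_R(A, A)` through the right factor. -/
@[reducible] noncomputable def algEF :
    Algebra (WithConv (A →ₗ[R] A)) (WithConv (A →ₗ[R] A ⊗[R] A)) :=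
  (postCompLin (includeRight : A →ₐ[R] A ⊗[R] A)).toAlgebra

attribute [local instance] algEF

theorem algebraMap_EF (g : WithConv (A →ₗ[R] A)) :
    algebraMap (WithConv (A →ₗ[R] A)) (WithConv (A →ₗ[R] A ⊗[R] A)) g =
      postCompLin (includeRight : A →ₐ[R] A ⊗[R] A) g := rfl

omit [Coalgebra.IsCocomm R A] in
theorem contractL_mul_includeRight (φ : A →ₗ[R] R) (t : A) (s : A ⊗[R] A) :
    contractL φ (((1 : A) ⊗ₜ[R] t) * s) = t * contractL φ s :=
  contractL_includeRight_mul φ t s

/-- Coordinates are linear over `Hom_R(A, A)`. -/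
theorem contractL_comp_smul (φ : A →ₗ[R] R) (g : WithConv (A →ₗ[R] A))
    (f : WithConv (A →ₗ[R] A ⊗[R] A)) :
    toConv (contractL φ ∘ₗ (g • f).ofConv) = g * toConv (contractL φ ∘ₗ f.ofConv) := by
  apply WithConv.ofConv_injective
  apply LinearMap.ext
  intro a
  rw [Algebra.smul_def, algebraMap_EF]
  simp only [LinearMap.comp_apply, LinearMap.convMul_apply,
    postCompLin_apply]
  generalize comul (R := R) a = t
  induction t using TensorProduct.induction_on with
  | zero => simp
  | add x y hx hy => simp only [map_add, hx, hy]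
  | tmul x y =>
    simp only [TensorProduct.map_tmul, LinearMap.mul'_apply, LinearMap.comp_apply,
      AlgHom.toLinearMap_apply, includeRight_apply]
    exact contractL_mul_includeRight φ (g.ofConv x) (f.ofConv y)

variable {n : ℕ} (b : Basis (Fin n) R A)

omit [Coalgebra.IsCocomm R A] in
theorem sum_tmul_contractL (s : A ⊗[R] A) :
    ∑ i, b i ⊗ₜ[R] (contractL (b.coord i) s) = s := by
  induction s using TensorProduct.induction_on with
  | zero => simp
  | add x y hx hy =>
    simp only [map_add, TensorProduct.tmul_add, Finset.sum_add_distrib, hx, hy]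
  | tmul x y =>
    simp only [contractL_tmul, Basis.coord_apply]
    have : ∀ i, b i ⊗ₜ[R] ((b.repr x) i • y) = ((b.repr x) i • b i) ⊗ₜ[R] y := by
      intro i
      rw [TensorProduct.tmul_smul, TensorProduct.smul_tmul']
    simp_rw [this]
    rw [← TensorProduct.sum_tmul, b.sum_repr]

/-- `Hom_R(A, A ⊗ A)` is free of rank `n` over `Hom_R(A, A)`. -/
noncomputable def coordEF :
    WithConv (A →ₗ[R] A ⊗[R] A) ≃ₗ[WithConv (A →ₗ[R] A)] (Fin n → WithConv (A →ₗ[R] A)) where
  toFun f i := toConv (contractL (b.coord i) ∘ₗ f.ofConv)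
  map_add' f g := by
    funext i
    simp [LinearMap.comp_add]
  map_smul' g f := by
    funext i
    exact contractL_comp_smul _ g f
  invFun G := toConv (∑ i, (TensorProduct.mk R A A (b i)) ∘ₗ (G i).ofConv)
  left_inv f := by
    apply WithConv.ofConv_injective
    apply LinearMap.ext
    intro a
    simp only [LinearMap.sum_apply, LinearMap.comp_apply,
      TensorProduct.mk_apply]
    exact sum_tmul_contractL b (f.ofConv a)
  right_inv G := by
    funext j
    apply WithConv.ofConv_injective
    apply LinearMap.ext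
    intro a
    simp only [LinearMap.sum_apply, LinearMap.comp_apply,
      TensorProduct.mk_apply, map_sum, contractL_tmul, Basis.coord_apply, Basis.repr_self,
      Finsupp.single_apply]
    rw [Finset.sum_eq_single j]
    · simp
    · intro i _ hij
      simp [hij]
    · intro h
      exact absurd (Finset.mem_univ j) h

/-- The basis of `Hom_R(A, A ⊗ A)` over `Hom_R(A, A)`. -/
noncomputable def basisEF :
    Basis (Fin n) (WithConv (A →ₗ[R] A)) (WithConv (A →ₗ[R] A ⊗[R] A)) :=
  Basis.ofEquivFun (coordEF b)

end Free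

section Norm

variable (R : Type u) [CommRing R] (A : Type v) [CommRing A] [HopfAlgebra R A]
  [Coalgebra.IsCocomm R A]

attribute [local instance] algEF

/-- An algebra-map point, seen as a linear-map point. -/
noncomputable def linPt (f : WithConv (A →ₐ[R] A ⊗[R] A)) : WithConv (A →ₗ[R] A ⊗[R] A) :=
  toConv f.ofConv.toLinearMap

variable {R A}

omit [Coalgebra.IsCocomm R A] in
theorem linPt_mul (f g : WithConv (A →ₐ[R] A ⊗[R] A)) : linPt R A (f * g) = linPt R A f * linPt R A g :=
  AlgHom.toLinearMap_convMul f g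

omit [Coalgebra.IsCocomm R A] in
theorem linPt_one : linPt R A 1 = 1 := AlgHom.toLinearMap_convOne

omit [Coalgebra.IsCocomm R A] in
theorem isUnit_linPt (f : WithConv (A →ₐ[R] A ⊗[R] A)) : IsUnit (linPt R A f) := by
  refine ⟨⟨linPt R A f, linPt R A f⁻¹, ?_, ?_⟩, rfl⟩
  · rw [← linPt_mul, show f * f⁻¹ = 1 from mul_inv_cancel (G := WithConv (A →ₐ[R] A ⊗[R] A)) _,
      linPt_one]
  · rw [← linPt_mul, show f⁻¹ * f = 1 from inv_mul_cancel (G := WithConv (A →ₐ[R] A ⊗[R] A)) _,
      linPt_one]

variable (R A)

/-- The shear automorphism of `Hom_R(A, A ⊗ A)`. -/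
noncomputable def tauEquiv : WithConv (A →ₗ[R] A ⊗[R] A) ≃+* WithConv (A →ₗ[R] A ⊗[R] A) :=
  RingEquiv.ofRingHom (postCompLin (shearΨ R A)) (postCompLin (shearΦ R A))
    (by
      apply RingHom.ext
      intro f
      rw [RingHom.comp_apply, postCompLin_comp, shearΨ_comp_shearΦ]
      rfl)
    (by
      apply RingHom.ext
      intro f
      rw [RingHom.comp_apply, postCompLin_comp, shearΦ_comp_shearΨ]
      rfl)

omit [Coalgebra.IsCocomm R A] in
theorem tauEquiv_apply (f : WithConv (A →ₗ[R] A ⊗[R] A)) :
    tauEquiv R A f = postCompLin (shearΨ R A) f := rfl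

theorem tauEquiv_algebraMap (g : WithConv (A →ₗ[R] A)) :
    tauEquiv R A (algebraMap _ _ g) = algebraMap _ _ g := by
  rw [tauEquiv_apply, algebraMap_EF, postCompLin_comp]
  congr 1
  simp [shearΨ]

theorem linPt_ptR : linPt R A (ptR R A) = algebraMap (WithConv (A →ₗ[R] A)) _ (toConv LinearMap.id) := by
  rw [algebraMap_EF]
  rfl

theorem tauEquiv_linPt_ptL :
    tauEquiv R A (linPt R A (ptL R A)) =
      linPt R A (ptL R A) * algebraMap (WithConv (A →ₗ[R] A)) _ (toConv LinearMap.id) := by
  rw [← linPt_ptR, ← linPt_mul, ← ptD_eq, tauEquiv_apply]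
  have h1 : (shearΨ R A).comp includeLeft = Bialgebra.comulAlgHom R A := by
    simp [shearΨ]
  apply WithConv.ofConv_injective
  change (shearΨ R A).toLinearMap ∘ₗ (includeLeft : A →ₐ[R] A ⊗[R] A).toLinearMap =
    (Bialgebra.comulAlgHom R A).toLinearMap
  rw [← h1]
  rfl

variable {R A}

/-- Deligne's theorem in the free case, in terms of linear maps. -/
theorem convPow_linear_id_eq_one_of_basis {n : ℕ} (b : Basis (Fin n) R A) :
    (toConv (LinearMap.id : A →ₗ[R] A)) ^ n = 1 := by
  set u : WithConv (A →ₗ[R] A) := toConv LinearMap.id with hu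
  set x : WithConv (A →ₗ[R] A ⊗[R] A) := linPt R A (ptL R A) with hx
  have he : RingHom.comp (algebraMap (WithConv (A →ₗ[R] A)) (WithConv (A →ₗ[R] A ⊗[R] A)))
      ((RingEquiv.refl (WithConv (A →ₗ[R] A)) : _ ≃+* _) : _ →+* _) =
      RingHom.comp ((tauEquiv R A : _ ≃+* _) : _ →+* _)
        (algebraMap (WithConv (A →ₗ[R] A)) (WithConv (A →ₗ[R] A ⊗[R] A))) := by
    apply RingHom.ext
    intro g
    exact (tauEquiv_algebraMap R A g).symm
  have h1 := Algebra.norm_eq_of_equiv_equiv (RingEquiv.refl (WithConv (A →ₗ[R] A)))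
    (tauEquiv R A) he x
  have h2 : Algebra.norm (WithConv (A →ₗ[R] A)) (tauEquiv R A x) =
      Algebra.norm (WithConv (A →ₗ[R] A)) x * u ^ n := by
    rw [hx, tauEquiv_linPt_ptL, map_mul, Algebra.norm_algebraMap_of_basis (basisEF b),
      Fintype.card_fin]
  have h3 : IsUnit (Algebra.norm (WithConv (A →ₗ[R] A)) x) := (isUnit_linPt _).map _
  have h4 : Algebra.norm (WithConv (A →ₗ[R] A)) x =
      Algebra.norm (WithConv (A →ₗ[R] A)) x * u ^ n := by
    rw [← h2]
    exact h1
  have h5 := h3.mul_left_cancel (a := Algebra.norm (WithConv (A →ₗ[R] A)) x) (b := 1) (c := u ^ n)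
    (by rw [mul_one]; exact h4)
  exact h5.symm

/-- Deligne's theorem in the free case. -/
theorem convPow_id_eq_one_of_basis {n : ℕ} (b : Basis (Fin n) R A) :
    (toConv (AlgHom.id R A)) ^ n = 1 := by
  have h := convPow_linear_id_eq_one_of_basis b
  apply WithConv.ofConv_injective
  apply AlgHom.toLinearMap_injective
  apply WithConv.toConv_injective
  rw [AlgHom.toLinearMap_convPow]
  exact h

end Norm

section General

variable (R : Type u) [CommRing R] (A : Type v) [CommRing A] [HopfAlgebra R A]
  [Coalgebra.IsCocomm R A] [Module.Finite R A] [Module.Projective R A]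

/-- **Deligne's theorem**: a commutative finite locally free group scheme of constant rank `n`
is killed by `n`. -/
theorem convPow_id_eq_one_of_rankAtStalk (n : ℕ)
    (hn : ∀ p : PrimeSpectrum R, Module.rankAtStalk A p = n) :
    (toConv (AlgHom.id R A)) ^ n = 1 := by
  apply WithConv.ofConv_injective
  apply AlgHom.ext
  intro a
  refine Module.eq_of_localization_maximal (R := R) (M := A)
    (Mₚ := fun P _ => Localization.AtPrime P ⊗[R] A)
    (f := fun P _ => TensorProduct.mk R (Localization.AtPrime P) A 1) _ _ ?_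
  intro P hP
  have hfree : Module.Free (Localization.AtPrime P) (Localization.AtPrime P ⊗[R] A) :=
    Module.free_of_flat_of_isLocalRing
  have hrank : Module.finrank (Localization.AtPrime P) (Localization.AtPrime P ⊗[R] A) = n := by
    rw [← hn ⟨P, hP.isPrime⟩, Module.rankAtStalk_eq_finrank_tensorProduct]
  have hloc := convPow_id_eq_one_of_basis
    (Module.finBasisOfFinrankEq (Localization.AtPrime P) (Localization.AtPrime P ⊗[R] A) hrank)
  change incR (K := Localization.AtPrime P) _ = incR (K := Localization.AtPrime P) _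
  rw [← convPow_id_incR, ← convOne_incR, hloc]

end General

end Groth.Agent.Lib.Helper16.FinHopf
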