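import Mathlib
import Groth.Agent.Lib.Helper16.FinHopfDeligne
import Groth.Agent.Lib.Helper23.AffGrpHopf

/-!
# Deligne's theorem for finite locally free commutative group schemes (helper16)

Scheme-level form: a commutative finite locally free group scheme of constant rank `r` is killed
by `r` (`pow_eq_one`).
-/

set_option autoImplicit false

namespace Groth.Agent.Lib.Helper16.FinGrpSch

open CategoryTheory CategoryTheory.Limits MonoidalCategory CartesianMonoidalCategory MonObj GrpObj
  AlgebraicGeometry Opposite TensorProduct

universe u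

section Cocomm

variable {R : Type u} [CommRing R] {A : Type u} [CommRing A] [HopfAlgebra R A]

/-- the convolution product of the two inclusions is the comultiplication -/
theorem includeLeft_mul_includeRight :
    (WithConv.toConv (Algebra.TensorProduct.includeLeft : A →ₐ[R] A ⊗[R] A)) *
      WithConv.toConv (Algebra.TensorProduct.includeRight : A →ₐ[R] A ⊗[R] A) =
      WithConv.toConv (Bialgebra.comulAlgHom R A) := by
  apply WithConv.ofConv_injective
  apply AlgHom.ext
  intro a
  show ((WithConv.toConv (Algebra.TensorProduct.includeLeft : A →ₐ[R] A ⊗[R] A)) *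
      WithConv.toConv (Algebra.TensorProduct.includeRight : A →ₐ[R] A ⊗[R] A)) a = _
  rw [AlgHom.convMul_apply]
  show _ = CoalgebraStruct.comul (R := R) a
  generalize CoalgebraStruct.comul (R := R) a = t
  induction t using TensorProduct.induction_on with
  | zero => simp
  | add x y hx hy => rw [map_add, hx, hy]
  | tmul x y => simp

/-- the other order gives the flipped comultiplication -/
theorem includeRight_mul_includeLeft :
    (WithConv.toConv (Algebra.TensorProduct.includeRight : A →ₐ[R] A ⊗[R] A)) *
      WithConv.toConv (Algebra.TensorProduct.includeLeft : A →ₐ[R] A ⊗[R] A) =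
      WithConv.toConv ((Algebra.TensorProduct.comm R A A).toAlgHom.comp
        (Bialgebra.comulAlgHom R A)) := by
  apply WithConv.ofConv_injective
  apply AlgHom.ext
  intro a
  show ((WithConv.toConv (Algebra.TensorProduct.includeRight : A →ₐ[R] A ⊗[R] A)) *
      WithConv.toConv (Algebra.TensorProduct.includeLeft : A →ₐ[R] A ⊗[R] A)) a = _
  rw [AlgHom.convMul_apply]
  show _ = Algebra.TensorProduct.comm R A A (CoalgebraStruct.comul (R := R) a)
  generalize CoalgebraStruct.comul (R := R) a = t
  induction t using TensorProduct.induction_on with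
  | zero => simp
  | add x y hx hy => rw [map_add, hx, hy, map_add]
  | tmul x y => simp

/-- a Hopf algebra whose spectrum is a commutative group scheme is cocommutative -/
theorem isCocomm_of_isCommMonObj
    (h : ∀ (x y : (Spec (CommRingCat.of (A ⊗[R] A))).asOver (Spec (CommRingCat.of R)) ⟶
      (Spec (CommRingCat.of A)).asOver (Spec (CommRingCat.of R))), x * y = y * x) :
    Coalgebra.IsCocomm R A := by
  have h1 := h (Spec.mapMulEquiv (R := R) (S := A) (T := A ⊗[R] A)
      (WithConv.toConv Algebra.TensorProduct.includeLeft))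
    (Spec.mapMulEquiv (R := R) (S := A) (T := A ⊗[R] A)
      (WithConv.toConv Algebra.TensorProduct.includeRight))
  rw [← map_mul, ← map_mul, includeLeft_mul_includeRight, includeRight_mul_includeLeft] at h1
  have h2 := (Spec.mapMulEquiv (R := R) (S := A) (T := A ⊗[R] A)).injective h1
  have h3 := WithConv.toConv_injective h2
  constructor
  apply LinearMap.ext
  intro a
  have h4 := AlgHom.congr_fun h3 a
  exact h4.symm

end Cocomm

section Affine

variable {R : CommRingCat.{u}}

/-- the affine-base case of Deligne's theorem -/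
theorem pow_id_eq_one_of_affine_base (G : Over (Spec R)) [GrpObj G] [IsCommMonObj G]
    [IsFinite G.hom] [Flat G.hom] [LocallyOfFinitePresentation G.hom] (r : ℕ)
    (hr : ∀ x : PrimeSpectrum R, Scheme.Hom.finrank G.hom x = r) :
    (𝟙 G : G ⟶ G) ^ r = 1 := by
  haveI : IsAffine G.left := isAffine_of_isAffineHom G.hom
  obtain ⟨H, ⟨e⟩⟩ := Groth.Agent.Lib.Helper23.AffGrpHopf.exists_hopfModel G
  let A : Type u := H.unop
  let E : (Spec (CommRingCat.of A)).asOver (Spec R) ⟶ G := e.hom.hom.hom
  haveI hEmon : IsMonHom E := e.hom.hom.isMonHom_hom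
  haveI hEiso : IsIso E := by
    refine ⟨⟨e.inv.hom.hom, ?_, ?_⟩⟩
    · have := congrArg (fun t => t.hom.hom) e.hom_inv_id
      exact this
    · have := congrArg (fun t => t.hom.hom) e.inv_hom_id
      exact this
  -- cocommutativity
  haveI hcocomm : Coalgebra.IsCocomm R A := by
    apply isCocomm_of_isCommMonObj (R := R) (A := A)
    intro x y
    have h1 : (x * y) ≫ E = (y * x) ≫ E := by
      rw [MonObj.mul_comp, MonObj.mul_comp, mul_comm]
    exact (cancel_mono E).1 h1
  -- the structure morphism
  let a : Spec (CommRingCat.of A) ≅ G.left := (Over.forget _).mapIso ((Grp.forget _).mapIso e)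
  have hw : a.hom ≫ G.hom = Spec.map (CommRingCat.ofHom (algebraMap R A)) :=
    Over.w ((Grp.forget _).mapIso e).hom
  have hG : G.hom = a.inv ≫ Spec.map (CommRingCat.ofHom (algebraMap R A)) := by
    rw [← hw, Iso.inv_hom_id_assoc]
  have hfin : IsFinite (Spec.map (CommRingCat.ofHom (algebraMap R A))) := by
    rw [← hw]; infer_instance
  have hflat : Flat (Spec.map (CommRingCat.ofHom (algebraMap R A))) := by
    rw [← hw]; infer_instance
  have hfp : LocallyOfFinitePresentation (Spec.map (CommRingCat.ofHom (algebraMap R A))) := by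
    rw [← hw]; infer_instance
  have h1 : (algebraMap R A).Finite := (IsFinite.SpecMap_iff _).1 hfin
  have h2 : (algebraMap R A).Flat := Flat.SpecMap_iff.1 hflat
  have h3 : (algebraMap R A).FinitePresentation :=
    (LocallyOfFinitePresentation.SpecMap_iff _).1 hfp
  haveI : Module.Finite R A := RingHom.finite_algebraMap.1 h1
  haveI : Module.Flat R A := RingHom.flat_algebraMap_iff.1 h2
  haveI : Algebra.FinitePresentation R A := RingHom.finitePresentation_algebraMap.1 h3
  haveI : Module.FinitePresentation R A :=
    Module.FinitePresentation.of_finite_of_finitePresentation R A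
  haveI : Module.Projective R A := Module.Flat.projective_of_finitePresentation
  have hrank : ∀ p : PrimeSpectrum R, Module.rankAtStalk A p = r := by
    intro p
    have := hr p
    rwa [hG, Scheme.Hom.finrank_comp_left_of_isIso, Scheme.Hom.finrank_SpecMap_algebraMap]
      at this
  have hD := FinHopf.convPow_id_eq_one_of_rankAtStalk R A r hrank
  -- transport to the scheme
  have hX : (𝟙 ((Spec (CommRingCat.of A)).asOver (Spec R)) :
      (Spec (CommRingCat.of A)).asOver (Spec R) ⟶ (Spec (CommRingCat.of A)).asOver (Spec R)) ^ r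
        = 1 := by
    have h4 := congrArg (Spec.mapMulEquiv (R := R) (S := A) (T := A)) hD
    rw [map_pow, map_one] at h4
    have h5 : Spec.mapMulEquiv (R := R) (S := A) (T := A) (WithConv.toConv (AlgHom.id R A)) =
        𝟙 _ := by
      ext1
      simp [Spec.mapMulEquiv]
    rw [h5] at h4
    exact h4
  have h6 : E ≫ (𝟙 G : G ⟶ G) ^ r = E ≫ 1 := by
    rw [MonObj.comp_pow, Category.comp_id, MonObj.comp_one]
    have h7 : E ^ r = (𝟙 _ ≫ E) ^ r := by rw [Category.id_comp]
    rw [h7, ← MonObj.pow_comp, hX, MonObj.one_comp]
  exact (cancel_epi E).1 h6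

end Affine

section General

variable {S : Scheme.{u}}

theorem pullback_map_left_fst {S' : Scheme.{u}} (j : S' ⟶ S) {X Y : Over S} (a : X ⟶ Y) :
    ((Over.pullback j).map a).left ≫ pullback.fst Y.hom j = pullback.fst X.hom j ≫ a.left := by
  simp only [Over.pullback, Over.homMk_left]
  exact pullback.lift_fst _ _ _

/-- the `r`-th power map of a commutative finite locally free group scheme of rank `r` is
trivial -/
theorem pow_id_eq_one (G : Over S) [GrpObj G] [IsCommMonObj G]
    [IsFinite G.hom] [Flat G.hom] [LocallyOfFinitePresentation G.hom]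
    (r : ℕ) (hr : ∀ s : S, Scheme.Hom.finrank G.hom s = r) : (𝟙 G : G ⟶ G) ^ r = 1 := by
  apply Over.OverMorphism.ext
  refine Scheme.Cover.hom_ext (S.affineOpenCover.openCover.pullback₁ G.hom) _ _ (fun i => ?_)
  show pullback.fst G.hom (S.affineOpenCover.f i) ≫ _ =
    pullback.fst G.hom (S.affineOpenCover.f i) ≫ _
  rw [← pullback_map_left_fst, ← pullback_map_left_fst]
  congr 2
  letI : GrpObj ((Over.pullback (S.affineOpenCover.f i)).obj G) :=
    Functor.grpObjObj (F := Over.pullback (S.affineOpenCover.f i)) (G := G)
  haveI : IsFinite ((Over.pullback (S.affineOpenCover.f i)).obj G).hom :=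
    inferInstanceAs (IsFinite (pullback.snd G.hom (S.affineOpenCover.f i)))
  haveI : Flat ((Over.pullback (S.affineOpenCover.f i)).obj G).hom :=
    inferInstanceAs (Flat (pullback.snd G.hom (S.affineOpenCover.f i)))
  haveI : LocallyOfFinitePresentation ((Over.pullback (S.affineOpenCover.f i)).obj G).hom :=
    inferInstanceAs (LocallyOfFinitePresentation (pullback.snd G.hom (S.affineOpenCover.f i)))
  have key := pow_id_eq_one_of_affine_base ((Over.pullback (S.affineOpenCover.f i)).obj G) r
    (fun x => by
      have h1 : Scheme.Hom.finrank ((Over.pullback (S.affineOpenCover.f i)).obj G).hom x =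
          Scheme.Hom.finrank G.hom ((S.affineOpenCover.f i) x) :=
        Scheme.Hom.finrank_pullback_snd G.hom (S.affineOpenCover.f i) x
      rw [h1]
      exact hr _)
  have h2 := map_pow (Functor.homMonoidHom (M := G) (X := G)
    (Over.pullback (S.affineOpenCover.f i))) (𝟙 G) r
  have h3 := map_one (Functor.homMonoidHom (M := G) (X := G)
    (Over.pullback (S.affineOpenCover.f i)))
  show (Functor.homMonoidHom (M := G) (X := G) (Over.pullback (S.affineOpenCover.f i)))
      ((𝟙 G : G ⟶ G) ^ r) =
    (Functor.homMonoidHom (M := G) (X := G) (Over.pullback (S.affineOpenCover.f i))) 1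
  rw [h2, h3]
  have h4 : (Functor.homMonoidHom (M := G) (X := G) (Over.pullback (S.affineOpenCover.f i)))
      (𝟙 G) = 𝟙 _ := (Over.pullback (S.affineOpenCover.f i)).map_id G
  rw [h4]
  exact key

/-- **Deligne's theorem** for group schemes: a commutative finite locally free group scheme of
constant rank `r` is killed by `r`. -/
theorem pow_eq_one (G : Over S) [GrpObj G] [IsCommMonObj G]
    [IsFinite G.hom] [Flat G.hom] [LocallyOfFinitePresentation G.hom]
    (r : ℕ) (hr : ∀ s : S, Scheme.Hom.finrank G.hom s = r)
    (T : Over S) (g : T ⟶ G) : g ^ r = 1 := by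
  have h1 : g ^ r = (g ≫ 𝟙 G) ^ r := by rw [Category.comp_id]
  rw [h1, ← MonObj.comp_pow, pow_id_eq_one G r hr, MonObj.comp_one]

end General

end Groth.Agent.Lib.Helper16.FinGrpSch
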