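import Mathlib
import Groth.Prelude.Def_CGrpSh
import Groth.Agent.Lib.Helper16.FinGrpSchDeligne

/-!
# Ext groups out of a group scheme killed by `m` are killed by `m` (helper16)

If every point of the commutative group scheme `G` is killed by `m`, then `m` kills the identity
of its sheaf of points, hence every `Ext^n(G, H)`.  With Deligne's theorem this applies to
commutative finite locally free group schemes of rank `m`.
-/

set_option autoImplicit false

namespace Groth.Agent.Lib.Helper16.ExtKill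

universe w v u' u
open CategoryTheory CategoryTheory.Limits AlgebraicGeometry Opposite MonObj

section Abstract

variable {C : Type u'} [Category.{v} C] [Abelian C] [HasExt.{w} C]

theorem nsmul_ext_eq_zero {X Y : C} {n : ℕ} (m : ℕ) (h : m • 𝟙 X = 0)
    (x : Abelian.Ext X Y n) : m • x = 0 := by
  have h1 : m • x = (m • Abelian.Ext.mk₀ (𝟙 X)).comp x (zero_add n) := by
    have := map_nsmul ((Abelian.Ext.bilinearComp X X Y 0 n n (zero_add n)).flip x) m
      (Abelian.Ext.mk₀ (𝟙 X))
    simp only [AddMonoidHom.flip_apply, Abelian.Ext.bilinearComp_apply_apply,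
      Abelian.Ext.mk₀_id_comp] at this
    exact this.symm
  have h2 : m • Abelian.Ext.mk₀ (𝟙 X) = Abelian.Ext.mk₀ (m • 𝟙 X) :=
    (map_nsmul (Abelian.Ext.addEquiv₀ (X := X) (Y := X)).symm m (𝟙 X)).symm
  rw [h1, h2, h, Abelian.Ext.mk₀_zero, Abelian.Ext.zero_comp]

end Abstract

section SheafEv

variable {D : Type u'} [Category.{v} D] {J : GrothendieckTopology D}

/-- evaluation of a morphism of abelian sheaves at a section, additively in the morphism -/
noncomputable def ev (P Q : Sheaf J AddCommGrpCat.{w}) (T : Dᵒᵖ) (x : P.obj.obj T) :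
    (P ⟶ Q) →+ Q.obj.obj T :=
  AddMonoidHom.mk' (fun f => f.hom.app T x) (fun f g => by
    show (f + g).1.app T x = f.1.app T x + g.1.app T x
    rw [Sheaf.Hom.add_app]
    rfl)

theorem nsmul_hom_app (P Q : Sheaf J AddCommGrpCat.{w}) (T : Dᵒᵖ) (x : P.obj.obj T) (m : ℕ)
    (f : P ⟶ Q) : (m • f).hom.app T x = m • f.hom.app T x :=
  map_nsmul (ev P Q T x) m f

end SheafEv

section Pts

variable {S : Scheme.{u}} (K : Precoverage Scheme.{u}) [(QuotSh.J K S).Subcanonical]

theorem nsmul_id_pts (G : Over S) [GrpObj G] [IsCommMonObj G] (m : ℕ)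
    (h : ∀ (T : Over S) (g : T ⟶ G), g ^ m = 1) :
    m • 𝟙 (CGrpSh.pts K G) = 0 := by
  apply Sheaf.hom_ext
  apply NatTrans.ext
  funext T
  apply AddCommGrpCat.ext
  intro x
  have h1 : (m • 𝟙 (CGrpSh.pts K G)).hom.app T x = m • x :=
    nsmul_hom_app (CGrpSh.pts K G) (CGrpSh.pts K G) T x m (𝟙 _)
  refine h1.trans ?_
  apply ULift.ext
  show m • x.down = 0
  have h2 := h (unop T) x.down.toMul
  have h3 : m • x.down = Additive.ofMul (x.down.toMul ^ m) := rfl
  rw [h3, h2]
  rfl

theorem nsmul_extS_eq_zero (G H : Over S) [GrpObj G] [IsCommMonObj G] [GrpObj H] [IsCommMonObj H]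
    (m : ℕ) (h : ∀ (T : Over S) (g : T ⟶ G), g ^ m = 1) (n : ℕ) (x : CGrpSh.ExtS K G H n) :
    m • x = 0 :=
  nsmul_ext_eq_zero m (nsmul_id_pts K G m h) x

end Pts

end Groth.Agent.Lib.Helper16.ExtKill
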