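import Mathlib
import Groth.Agent.Lib.Helper16.FinHopfEtale

/-!
# Finite locally free Hopf algebras of invertible order are étale (helper16)

`etale_of_rankAtStalk_ne_zero`: a finite flat finitely presented commutative Hopf algebra `A` over
a ring `R` whose rank at every prime `p` is non-zero in the residue field `κ(p)` is étale.
-/

set_option autoImplicit false

namespace Groth.Agent.Lib.Helper16.FinHopf

open TensorProduct

universe u v

/-- a finite module all of whose fibres vanish is zero -/
theorem subsingleton_of_forall_residueField_tensor (R : Type u) [CommRing R] (N : Type v)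
    [AddCommGroup N] [Module R N] [Module.Finite R N]
    (h : ∀ p : PrimeSpectrum R, Subsingleton (p.asIdeal.ResidueField ⊗[R] N)) :
    Subsingleton N := by
  rw [← Module.support_eq_empty_iff (R := R), Set.eq_empty_iff_forall_notMem]
  intro p
  rw [Module.notMem_support_iff]
  have hp := h p
  rw [← IsLocalRing.subsingleton_tensorProduct (R := Localization.AtPrime p.asIdeal)]
  let e1 : IsLocalRing.ResidueField (Localization.AtPrime p.asIdeal)
        ⊗[Localization.AtPrime p.asIdeal] LocalizedModule p.asIdeal.primeCompl N
      ≃ₗ[Localization.AtPrime p.asIdeal]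
      p.asIdeal.ResidueField ⊗[Localization.AtPrime p.asIdeal]
        (Localization.AtPrime p.asIdeal ⊗[R] N) :=
    TensorProduct.congr (LinearEquiv.refl _ _)
      (LocalizedModule.equivTensorProduct p.asIdeal.primeCompl N)
  let e2 : p.asIdeal.ResidueField ⊗[Localization.AtPrime p.asIdeal]
        (Localization.AtPrime p.asIdeal ⊗[R] N) ≃ₗ[p.asIdeal.ResidueField]
      p.asIdeal.ResidueField ⊗[R] N :=
    AlgebraTensorModule.cancelBaseChange _ _ _ _ _
  exact (e1.toEquiv.trans e2.toEquiv).subsingleton

attribute [local instance] Algebra.TensorProduct.rightAlgebra in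
/-- **A finite locally free commutative Hopf algebra whose rank is invertible in every residue
field is étale.** -/
theorem etale_of_rankAtStalk_ne_zero (R : Type u) [CommRing R] (A : Type v) [CommRing A]
    [HopfAlgebra R A] [Module.Finite R A] [Module.Flat R A] [Algebra.FinitePresentation R A]
    (h : ∀ p : PrimeSpectrum R, ((Module.rankAtStalk A p : ℕ) : p.asIdeal.ResidueField) ≠ 0) :
    Algebra.Etale R A := by
  have hunr : Algebra.FormallyUnramified R A := by
    rw [Algebra.formallyUnramified_iff]
    haveI : Module.Finite A Ω[A⁄R] := inferInstance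
    haveI : Module.Finite R Ω[A⁄R] := Module.Finite.trans A _
    apply subsingleton_of_forall_residueField_tensor R
    intro p
    have hrank : Module.finrank p.asIdeal.ResidueField (p.asIdeal.ResidueField ⊗[R] A) =
        Module.rankAtStalk A p := (Module.rankAtStalk_eq p).symm
    have het : Algebra.Etale p.asIdeal.ResidueField (p.asIdeal.ResidueField ⊗[R] A) :=
      etale_of_finrank_ne_zero _ _ (by rw [hrank]; exact h p)
    haveI : Algebra.FormallyUnramified p.asIdeal.ResidueField (p.asIdeal.ResidueField ⊗[R] A) :=
      inferInstance
    haveI : Subsingleton Ω[p.asIdeal.ResidueField ⊗[R] A⁄p.asIdeal.ResidueField] :=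
      (Algebra.formallyUnramified_iff _ _).1 inferInstance
    exact (KaehlerDifferential.tensorKaehlerEquivBase R p.asIdeal.ResidueField A
      (p.asIdeal.ResidueField ⊗[R] A)).toEquiv.subsingleton
  exact Algebra.Etale.of_formallyUnramified_of_flat

end Groth.Agent.Lib.Helper16.FinHopf
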