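import Mathlib
import Groth.Agent.Lib.Helper16.FinHopfEtaleRank

/-!
# Fibrewise criterion for unramified / étale (helper16)

* `Algebra.formallyUnramified_of_fiber`: a finite type algebra whose fibres over all primes are
  formally unramified is formally unramified.
* `Algebra.etale_of_fiber`: flat + finitely presented + unramified fibres ⇒ étale.
* scheme versions.
-/

set_option autoImplicit false

namespace Groth.Agent.Lib.Helper16.FiberUnr

open TensorProduct

universe u v

attribute [local instance] Algebra.TensorProduct.rightAlgebra in
/-- a finite type algebra all of whose fibres are formally unramified is formally unramified -/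
theorem formallyUnramified_of_fiber (A : Type u) (B : Type v) [CommRing A] [CommRing B]
    [Algebra A B] [Algebra.FiniteType A B]
    (H : ∀ (p : Ideal A) [p.IsPrime],
      Algebra.FormallyUnramified p.ResidueField (p.ResidueField ⊗[A] B)) :
    Algebra.FormallyUnramified A B := by
  rw [Algebra.formallyUnramified_iff]
  haveI : Module.Finite B Ω[B⁄A] := inferInstance
  apply FinHopf.subsingleton_of_forall_residueField_tensor B
  intro q
  let p : Ideal A := q.asIdeal.comap (algebraMap A B)
  haveI : p.IsPrime := Ideal.comap_isPrime _ _
  let K := p.ResidueField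
  let L := q.asIdeal.ResidueField
  let φ : K →ₐ[A] L := Ideal.ResidueField.mapₐ p q.asIdeal (Algebra.ofId A B) rfl
  algebraize [φ.toRingHom]
  haveI : IsScalarTower A K L := .of_algebraMap_eq' φ.comp_algebraMap.symm
  haveI := H p
  haveI : Algebra.FormallyUnramified L (L ⊗[K] (K ⊗[A] B)) := inferInstance
  haveI : Algebra.FormallyUnramified L (L ⊗[A] B) :=
    .of_equiv (Algebra.TensorProduct.cancelBaseChange A K L L B)
  haveI : Subsingleton Ω[L ⊗[A] B⁄L] := (Algebra.formallyUnramified_iff _ _).1 inferInstance
  haveI : Subsingleton (L ⊗[A] Ω[B⁄A]) :=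
    (KaehlerDifferential.tensorKaehlerEquivBase A L B (L ⊗[A] B)).toEquiv.subsingleton
  exact (TensorProduct.mapOfCompatibleSMul_surjective B A L L Ω[B⁄A]).subsingleton


open CategoryTheory Limits AlgebraicGeometry

set_option backward.isDefEq.respectTransparency false in
/-- If `f : X ⟶ Y` is locally of finite presentation, flat and has étale fibres, then `f` is
étale. -/
theorem etale_of_etale_fiber {X Y : Scheme.{u}} (f : X ⟶ Y) [LocallyOfFinitePresentation f]
    [Flat f] (h : ∀ y, Etale (f.fiberToSpecResidueField y)) :
    Etale f := by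
  wlog h : ∃ R, Y = Spec R
  · rw [IsZariskiLocalAtTarget.iff_of_openCover (P := @Etale) Y.affineCover]
    intro i
    dsimp [Scheme.Cover.pullbackHom]
    refine this _ (fun y ↦ ?_) ⟨_, rfl⟩
    apply MorphismProperty.of_isPullback
    · exact isPullback_fiberToSpecResidueField_of_isPullback (IsPullback.of_hasPullback _ _) _
    · infer_instance
  obtain ⟨R, rfl⟩ := h
  wlog h : ∃ S, X = Spec S generalizing f X
  · rw [IsZariskiLocalAtSource.iff_of_openCover (P := @Etale) X.affineCover]
    intro i
    have _ (y) : Etale (pullback.snd f ((Spec R).fromSpecResidueField y)) :=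
      inferInstanceAs <| Etale (f.fiberToSpecResidueField y)
    refine this _ (fun y ↦ ?_) ⟨_, rfl⟩
    rw [Scheme.Hom.fiberToSpecResidueField, ← pullbackRightPullbackFstIso_inv_snd_snd]
    infer_instance
  obtain ⟨S, rfl⟩ := h
  obtain ⟨φ, rfl⟩ := Spec.map_surjective f
  simp only [HasRingHomProperty.Spec_iff] at *
  algebraize [φ.hom]
  have hunr : Algebra.FormallyUnramified R S := by
    apply formallyUnramified_of_fiber
    intro p hp
    have : Algebra.Etale p.ResidueField (p.Fiber S) := by
      rw [← RingHom.etale_algebraMap,
        ← CommRingCat.hom_ofHom (algebraMap p.ResidueField (p.Fiber ↑S)),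
        ← HasRingHomProperty.Spec_iff (P := @Etale),
        ← MorphismProperty.arrow_mk_iso_iff (P := @Etale)
          (Spec.fiberToSpecResidueFieldIso R S ⟨p, hp⟩)]
      exact h ⟨p, hp⟩
    infer_instance
  exact Algebra.Etale.of_formallyUnramified_of_flat

end Groth.Agent.Lib.Helper16.FiberUnr
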