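import Mathlib
import Groth.Agent.Lib.Helper16.FinHopfEtaleRank
import Groth.Agent.Lib.Helper23.AffGrpHopf

/-!
# Finite locally free group schemes of invertible order are étale (helper16)

Scheme-level form: `etale_of_finrank_ne_zero`.
-/

set_option autoImplicit false

namespace Groth.Agent.Lib.Helper16.FinGrpSch

open CategoryTheory CategoryTheory.Limits MonoidalCategory CartesianMonoidalCategory MonObj GrpObj
  AlgebraicGeometry

universe u

/-- the affine-base case -/
theorem etale_of_affine_base {R : CommRingCat.{u}} (G : Over (Spec R)) [GrpObj G]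
    [IsFinite G.hom] [Flat G.hom] [LocallyOfFinitePresentation G.hom]
    (h : ∀ x : PrimeSpectrum R,
      ((Scheme.Hom.finrank G.hom x : ℕ) : x.asIdeal.ResidueField) ≠ 0) :
    Etale G.hom := by
  haveI : IsAffine G.left := isAffine_of_isAffineHom G.hom
  obtain ⟨A, _, _, a, ha⟩ := Groth.Agent.Lib.Helper23.AffGrpHopf.exists_model G
  have hG : G.hom = a.inv ≫ Spec.map (CommRingCat.ofHom (algebraMap R A)) := by
    rw [← ha, Iso.inv_hom_id_assoc]
  haveI hfin : IsFinite (Spec.map (CommRingCat.ofHom (algebraMap R A))) := by
    rw [← ha]; infer_instance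
  haveI hflat : Flat (Spec.map (CommRingCat.ofHom (algebraMap R A))) := by
    rw [← ha]; infer_instance
  haveI hfp : LocallyOfFinitePresentation (Spec.map (CommRingCat.ofHom (algebraMap R A))) := by
    rw [← ha]; infer_instance
  have h1 : (algebraMap R A).Finite := (IsFinite.SpecMap_iff _).1 hfin
  have h2 : (algebraMap R A).Flat := Flat.SpecMap_iff.1 hflat
  have h3 : (algebraMap R A).FinitePresentation :=
    (LocallyOfFinitePresentation.SpecMap_iff _).1 hfp
  haveI : Module.Finite R A := RingHom.finite_algebraMap.1 h1
  haveI : Module.Flat R A := RingHom.flat_algebraMap_iff.1 h2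
  haveI : Algebra.FinitePresentation R A := RingHom.finitePresentation_algebraMap.1 h3
  have het : Algebra.Etale R A := FinHopf.etale_of_rankAtStalk_ne_zero R A (fun p => by
    have := h p
    rwa [hG, Scheme.Hom.finrank_comp_left_of_isIso, Scheme.Hom.finrank_SpecMap_algebraMap]
      at this)
  haveI : Etale (Spec.map (CommRingCat.ofHom (algebraMap R A))) :=
    (HasRingHomProperty.Spec_iff (P := @Etale)).2 (RingHom.etale_algebraMap.2 het)
  rw [hG]
  infer_instance

/-- **A finite locally free group scheme whose order is invertible on the base is étale.** -/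
theorem etale_of_finrank_ne_zero {S : Scheme.{u}} (G : Over S) [GrpObj G]
    [IsFinite G.hom] [Flat G.hom] [LocallyOfFinitePresentation G.hom]
    (h : ∀ s : S, (Scheme.Hom.finrank G.hom s : S.residueField s) ≠ 0) : Etale G.hom := by
  rw [IsZariskiLocalAtTarget.iff_of_openCover (P := @Etale) S.affineOpenCover.openCover]
  intro i
  letI : GrpObj ((Over.pullback (S.affineOpenCover.f i)).obj G) :=
    Functor.grpObjObj (F := Over.pullback (S.affineOpenCover.f i)) (G := G)
  haveI : IsFinite ((Over.pullback (S.affineOpenCover.f i)).obj G).hom :=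
    inferInstanceAs (IsFinite (pullback.snd G.hom (S.affineOpenCover.f i)))
  haveI : Flat ((Over.pullback (S.affineOpenCover.f i)).obj G).hom :=
    inferInstanceAs (Flat (pullback.snd G.hom (S.affineOpenCover.f i)))
  haveI : LocallyOfFinitePresentation ((Over.pullback (S.affineOpenCover.f i)).obj G).hom :=
    inferInstanceAs (LocallyOfFinitePresentation (pullback.snd G.hom (S.affineOpenCover.f i)))
  have key := etale_of_affine_base ((Over.pullback (S.affineOpenCover.f i)).obj G) (fun x => by
    have h1 : Scheme.Hom.finrank ((Over.pullback (S.affineOpenCover.f i)).obj G).hom x =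
        Scheme.Hom.finrank G.hom ((S.affineOpenCover.f i) x) :=
      Scheme.Hom.finrank_pullback_snd G.hom (S.affineOpenCover.f i) x
    rw [h1]
    intro h0
    apply h ((S.affineOpenCover.f i) x)
    let ψ : S.residueField ((S.affineOpenCover.f i) x) →+* x.asIdeal.ResidueField :=
      ((Scheme.Spec.residueFieldIso (S.affineOpenCover.X i) x).hom.hom).comp
        ((S.affineOpenCover.f i).residueFieldMap x).hom
    have h2 : ψ ((Scheme.Hom.finrank G.hom ((S.affineOpenCover.f i) x) : ℕ) :
        S.residueField ((S.affineOpenCover.f i) x)) = 0 := by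
      rw [map_natCast]
      exact h0
    exact (map_eq_zero ψ).1 h2)
  exact key

end Groth.Agent.Lib.Helper16.FinGrpSch
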