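import Mathlib.RingTheory.Bialgebra.Quotient
import Mathlib.RingTheory.Coalgebra.Quotient
import Mathlib.LinearAlgebra.TensorProduct.RightExactness
import Mathlib.RingTheory.Ideal.Operations

/-!
# The connected component: `A ⧸ I ^ N` for `I ^ N` idempotent (helper16)
-/

set_option autoImplicit false

namespace Groth.Agent.Lib.Helper16.FinHopf

open TensorProduct

universe u v

section

variable {k : Type u} [CommRing k] {A : Type v} [CommRing A] [Bialgebra k A]

theorem comul_mem_of_mem_ker_counit (a : A) (ha : a ∈ RingHom.ker (Bialgebra.counitAlgHom k A)) :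
    Bialgebra.comulAlgHom k A a ∈
      (RingHom.ker (Bialgebra.counitAlgHom k A)).map
          (Algebra.TensorProduct.includeLeft : A →ₐ[k] A ⊗[k] A) ⊔
        (RingHom.ker (Bialgebra.counitAlgHom k A)).map
          (Algebra.TensorProduct.includeRight : A →ₐ[k] A ⊗[k] A) := by
  have hsurj : Function.Surjective (Bialgebra.counitAlgHom k A) :=
    fun c => ⟨algebraMap k A c, by simp⟩
  rw [← Algebra.TensorProduct.map_ker _ _ hsurj hsurj, RingHom.mem_ker]
  have h1 : Algebra.TensorProduct.map (Bialgebra.counitAlgHom k A) (Bialgebra.counitAlgHom k A) =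
      (Algebra.TensorProduct.map (AlgHom.id k k) (Bialgebra.counitAlgHom k A)).comp
        (Algebra.TensorProduct.map (Bialgebra.counitAlgHom k A) (AlgHom.id k A)) := by
    apply Algebra.TensorProduct.ext'
    intro x y
    simp
  rw [h1, AlgHom.comp_apply]
  have h2 : Algebra.TensorProduct.map (Bialgebra.counitAlgHom k A) (AlgHom.id k A)
      (Bialgebra.comulAlgHom k A a) = (1 : k) ⊗ₜ[k] a :=
    Coalgebra.rTensor_counit_comul (R := k) a
  rw [h2, Algebra.TensorProduct.map_tmul]
  have ha' : Bialgebra.counitAlgHom k A a = 0 := ha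
  rw [ha', TensorProduct.tmul_zero]

/-- If `I ^ N = I ^ (N + N)` (and `N ≠ 0`) then `I ^ N` is a coideal. -/
theorem isCoideal_pow (N : ℕ) (hN : N ≠ 0)
    (hNN : (RingHom.ker (Bialgebra.counitAlgHom k A)) ^ N =
      (RingHom.ker (Bialgebra.counitAlgHom k A)) ^ (N + N)) :
    (((RingHom.ker (Bialgebra.counitAlgHom k A)) ^ N).restrictScalars k).IsCoideal := by
  set I := RingHom.ker (Bialgebra.counitAlgHom k A) with hI
  rw [Submodule.isCoideal_iff_comul_mem]
  refine ⟨?_, ?_⟩
  · intro x hx
    have h1 : x ∈ I := Ideal.pow_le_self hN hx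
    exact h1
  · intro x hx
    have hx' : x ∈ I ^ (N + N) := by rw [← hNN]; exact hx
    have h1 : Bialgebra.comulAlgHom k A x ∈ (I ^ (N + N)).map (Bialgebra.comulAlgHom k A) :=
      Ideal.mem_map_of_mem _ hx'
    rw [Ideal.map_pow] at h1
    have h2 : I.map (Bialgebra.comulAlgHom k A) ≤
        I.map (Algebra.TensorProduct.includeLeft : A →ₐ[k] A ⊗[k] A) ⊔
          I.map (Algebra.TensorProduct.includeRight : A →ₐ[k] A ⊗[k] A) := by
      rw [Ideal.map_le_iff_le_comap]
      intro a ha
      exact comul_mem_of_mem_ker_counit a ha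
    have h3 := Ideal.sup_pow_add_le_pow_sup_pow (n := N) (m := N) (Ideal.pow_right_mono h2 _ h1)
    rw [← Ideal.map_pow, ← Ideal.map_pow] at h3
    obtain ⟨y, hy, z, hz, hyz⟩ := Submodule.mem_sup.1 h3
    have hy' : y ∈ ((I ^ N).map
        (Algebra.TensorProduct.includeLeft : A →ₐ[k] A ⊗[k] A)).restrictScalars k := hy
    have hz' : z ∈ ((I ^ N).map
        (Algebra.TensorProduct.includeRight : A →ₐ[k] A ⊗[k] A)).restrictScalars k := hz
    rw [Ideal.map_includeLeft_eq] at hy'
    rw [Ideal.map_includeRight_eq] at hz'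
    have : Coalgebra.comul (R := k) x = z + y := by rw [add_comm]; exact hyz.symm
    rw [this]
    exact Submodule.add_mem_sup hz' hy'

end

end Groth.Agent.Lib.Helper16.FinHopf
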