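import Groth.Agent.Lib.Helper16.FinHopfPrimePow
import Groth.Agent.Lib.Helper16.FinHopfCartier
import Mathlib.RingTheory.Bialgebra.Convolution
import Mathlib.RingTheory.HopfAlgebra.Convolution
import Mathlib.RingTheory.Nakayama

/-!
# An infinitesimal finite group scheme is killed by its order (helper16)
-/

set_option autoImplicit false

namespace Groth.Agent.Lib.Helper16.FinHopf

open TensorProduct Module WithConv

universe u v

section PowBot

variable {k : Type u} [Field k] {H : Type v} [CommRing H] [Algebra k H] [Module.Finite k H]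

/-- A nilpotent ideal of a finite-dimensional algebra satisfies `I ^ dim = 0`. -/
theorem pow_finrank_eq_bot (I : Ideal H) (hI : IsNilpotent I) : I ^ (finrank k H) = ⊥ := by
  haveI : IsNoetherianRing H := IsNoetherianRing.of_finite k H
  obtain ⟨n₀, hn₀⟩ := hI
  have hjac : I ≤ Ideal.jacobson ⊥ := by
    intro f hf
    rw [Ideal.mem_jacobson_bot]
    intro y
    have h1 : IsNilpotent f := by
      refine ⟨n₀, ?_⟩
      have : f ^ n₀ ∈ I ^ n₀ := Ideal.pow_mem_pow hf n₀
      rw [hn₀] at this
      exact this
    exact ((Commute.all f y).isNilpotent_mul_right h1).isUnit_add_one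
  have key : ∀ j : ℕ, I ^ j = ⊥ ∨ finrank k ((I ^ j).restrictScalars k) + j ≤ finrank k H := by
    intro j
    induction j with
    | zero =>
      right
      simp only [pow_zero, Ideal.one_eq_top, add_zero]
      exact Submodule.finrank_le _
    | succ j ih =>
      rcases ih with h0 | hle
      · left; rw [pow_succ, h0, Ideal.bot_mul]
      · by_cases hj : I ^ (j + 1) = I ^ j
        · left
          have h1 : I ^ j = ⊥ := by
            refine Submodule.eq_bot_of_le_smul_of_le_jacobson_bot I (I ^ j)
              (IsNoetherian.noetherian _) ?_ hjac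
            rw [smul_eq_mul, ← pow_succ', hj]
          rw [hj, h1]
        · right
          have hlt : (I ^ (j + 1)).restrictScalars k < (I ^ j).restrictScalars k := by
            refine lt_of_le_of_ne ?_ ?_
            · intro x hx
              exact Ideal.pow_le_pow_right (Nat.le_succ j) hx
            · intro h
              apply hj
              ext x
              exact (SetLike.ext_iff.1 h) x
          have := Submodule.finrank_lt_finrank_of_lt hlt
          omega
  rcases key (finrank k H) with h | h
  · exact h
  · have h0 : finrank k ((I ^ finrank k H).restrictScalars k) = 0 := by omega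
    rw [Submodule.finrank_eq_zero] at h0
    ext x
    have := SetLike.ext_iff.1 h0 x
    simpa using this

end PowBot

section Conv

variable {k : Type u} [Field k] {H : Type v} [CommRing H] [Bialgebra k H]

theorem conv_mem_mul (g₁ g₂ : WithConv (H →ₗ[k] H)) (J₁ J₂ : Ideal H)
    (h₁ : ∀ c, g₁.ofConv c ∈ J₁) (h₂ : ∀ c, g₂.ofConv c ∈ J₂) (c : H) :
    (g₁ * g₂).ofConv c ∈ J₁ * J₂ := by
  have : (g₁ * g₂).ofConv c = LinearMap.mul' k H (TensorProduct.map g₁.ofConv g₂.ofConv
      (Coalgebra.comul (R := k) c)) := rfl
  rw [this]
  generalize Coalgebra.comul (R := k) c = z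
  induction z using TensorProduct.induction_on with
  | zero => simp
  | tmul x y =>
    simp only [TensorProduct.map_tmul, LinearMap.mul'_apply]
    exact Ideal.mul_mem_mul (h₁ x) (h₂ y)
  | add x y hx hy =>
    rw [map_add, map_add]
    exact Ideal.add_mem _ hx hy

theorem conv_pow_mem (g : WithConv (H →ₗ[k] H)) (J : Ideal H)
    (h : ∀ c, g.ofConv c ∈ J) (n : ℕ) (c : H) : (g ^ n).ofConv c ∈ J ^ n := by
  induction n generalizing c with
  | zero => simp
  | succ n ih =>
    rw [pow_succ, pow_succ]
    exact conv_mem_mul _ _ _ _ ih h c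

/-- In characteristic `p`, if `I ^ (p ^ d) = 0` then the `p ^ d`-th convolution power of the
identity is the unit. -/
theorem convPow_id_eq_one_of_pow_eq_bot (p : ℕ) [Fact p.Prime] [CharP k p] (d : ℕ)
    (hI : (RingHom.ker (Bialgebra.counitAlgHom k H)) ^ (p ^ d) = ⊥) :
    (toConv (AlgHom.id k H)) ^ (p ^ d) = 1 := by
  haveI : Nontrivial H := nontrivial_of_counit k H
  haveI : Nontrivial (WithConv (H →ₗ[k] H)) := by
    refine ⟨⟨0, 1, fun h => ?_⟩⟩
    have h1 := congrArg (fun f => f.ofConv (1 : H)) h
    simp at h1
  haveI : CharP (WithConv (H →ₗ[k] H)) p :=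
    charP_of_injective_algebraMap (algebraMap k (WithConv (H →ₗ[k] H))).injective p
  -- work in the linear convolution ring
  apply (WithConv.toConv_injective.comp <|
    AlgHom.toLinearMap_injective.comp WithConv.ofConv_injective)
  simp only [Function.comp_apply]
  rw [AlgHom.toLinearMap_convPow, AlgHom.toLinearMap_convOne]
  set I₀ : WithConv (H →ₗ[k] H) := toConv (toConv (AlgHom.id k H)).ofConv.toLinearMap with hI₀
  set u : WithConv (H →ₗ[k] H) := I₀ - 1 with hu
  have h1 : I₀ = 1 + u := by rw [hu]; abel
  have hu_mem : ∀ c, u.ofConv c ∈ RingHom.ker (Bialgebra.counitAlgHom k H) := by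
    intro c
    have : u.ofConv c = c - algebraMap k H (Coalgebra.counit (R := k) c) := rfl
    rw [this]
    exact sub_algebraMap_mem_ker (Bialgebra.counitAlgHom k H) c
  have h2 : u ^ (p ^ d) = 0 := by
    apply WithConv.ofConv_injective
    ext c
    have := conv_pow_mem u _ hu_mem (p ^ d) c
    rw [hI] at this
    simpa using this
  rw [h1, add_pow_char_pow_of_commute p d (Commute.one_left u), one_pow, h2, add_zero]

/-- **An infinitesimal finite group scheme is killed by its order.** -/
theorem convPow_id_finrank_eq_one_of_isNilpotent [Module.Finite k H]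
    (hnil : IsNilpotent (RingHom.ker (Bialgebra.counitAlgHom k H))) :
    (toConv (AlgHom.id k H)) ^ (finrank k H) = 1 := by
  obtain ⟨q, hq⟩ := ExpChar.exists k
  cases hq with
  | zero =>
    have hI := ker_counit_eq_bot_of_charZero H hnil
    have hinj : Function.Injective (Bialgebra.counitAlgHom k H) :=
      (RingHom.injective_iff_ker_eq_bot (Bialgebra.counitAlgHom k H).toRingHom).2 hI
    have hsurj : Function.Surjective (Bialgebra.counitAlgHom k H) :=
      fun c => ⟨algebraMap k H c, by simp⟩
    have e : H ≃ₗ[k] k :=
      LinearEquiv.ofBijective (Bialgebra.counitAlgHom k H).toLinearMap ⟨hinj, hsurj⟩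
    rw [e.finrank_eq, Module.finrank_self, pow_one]
    apply WithConv.ofConv_injective
    apply AlgHom.ext
    intro c
    apply hinj
    show Bialgebra.counitAlgHom k H c =
      Bialgebra.counitAlgHom k H (algebraMap k H (Coalgebra.counit (R := k) c))
    simp
  | prime hprime =>
    haveI : Fact q.Prime := ⟨hprime⟩
    obtain ⟨d, hd⟩ := exists_finrank_eq_prime_pow q _ H hnil le_rfl
    have hI := pow_finrank_eq_bot (k := k) _ hnil
    rw [hd] at hI ⊢
    exact convPow_id_eq_one_of_pow_eq_bot q d hI

end Conv

end Groth.Agent.Lib.Helper16.FinHopf
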