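import Groth.Agent.Lib.Helper16.FinHopfPoints
import Groth.Agent.Lib.Helper16.FinHopfConn
import Groth.Agent.Lib.Helper16.FinHopfKill

/-!
# A finite group scheme over an algebraically closed field is killed by its order (helper16)
-/

set_option autoImplicit false

namespace Groth.Agent.Lib.Helper16.FinHopf

open WithConv Module Function

universe u v

section

/-- The powers of an ideal of an Artinian ring stabilise, beyond any given bound. -/
theorem exists_pow_stable {A : Type v} [CommRing A] [IsArtinianRing A] (I : Ideal A) (N₁ : ℕ) :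
    ∃ N, N₁ ≤ N ∧ N ≠ 0 ∧ I ^ N = I ^ (N + N) := by
  let f : ℕ →o (Ideal A)ᵒᵈ :=
    ⟨fun j => OrderDual.toDual (I ^ j), fun i j hij => Ideal.pow_le_pow_right hij⟩
  obtain ⟨n, hn⟩ := IsArtinian.monotone_stabilizes f
  refine ⟨max N₁ n + 1, by omega, by omega, ?_⟩
  have h1 : f n = f (max N₁ n + 1) := hn _ (by omega)
  have h2 : f n = f (max N₁ n + 1 + (max N₁ n + 1)) := hn _ (by omega)
  have h1' : I ^ n = I ^ (max N₁ n + 1) := congrArg OrderDual.ofDual h1
  have h2' : I ^ n = I ^ (max N₁ n + 1 + (max N₁ n + 1)) := congrArg OrderDual.ofDual h2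
  rw [← h1', ← h2']

end

section Main

variable {k : Type u} [Field k] [IsAlgClosed k] {A : Type v} [CommRing A] [HopfAlgebra k A]
  [Module.Finite k A]

/-- Key step: a point of `A ⧸ (ker γ)^N` is killed by `#G(k) * dim (A ⧸ I^N)`. -/
theorem point_pow_eq_one (N : ℕ) (hN0 : N ≠ 0)
    (hNN : (RingHom.ker (Bialgebra.counitAlgHom k A)) ^ N =
      (RingHom.ker (Bialgebra.counitAlgHom k A)) ^ (N + N))
    (γ : WithConv (A →ₐ[k] k)) :
    (toConv (Ideal.Quotient.mkₐ k ((RingHom.ker γ.ofConv) ^ N))) ^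
      (Nat.card (WithConv (A →ₐ[k] k)) *
        finrank k (A ⧸ (RingHom.ker (Bialgebra.counitAlgHom k A)) ^ N)) = 1 := by
  classical
  set ε := Bialgebra.counitAlgHom k A with hε
  set I := RingHom.ker ε with hI
  set K := I ^ N with hK
  haveI : (K.restrictScalars k).IsCoideal := isCoideal_pow N hN0 hNN
  set R := A ⧸ (RingHom.ker γ.ofConv) ^ N with hR
  set g : WithConv (A →ₐ[k] R) := toConv (Ideal.Quotient.mkₐ k ((RingHom.ker γ.ofConv) ^ N)) with hg
  -- the residue map
  have hle : ∀ a ∈ (RingHom.ker γ.ofConv) ^ N, γ.ofConv a = 0 := by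
    intro a ha
    exact Ideal.pow_le_self hN0 ha
  set ρ : R →ₐ[k] k := Ideal.Quotient.liftₐ _ γ.ofConv hle with hρ
  have hρg : postComp ρ g = γ := by
    apply WithConv.ofConv_injective
    apply AlgHom.ext
    intro a
    rfl
  set r := Nat.card (WithConv (A →ₐ[k] k)) with hr
  set h : WithConv (A →ₐ[k] R) := g ^ r with hh
  have hρh : postComp ρ h = 1 := by
    rw [hh, map_pow, hρg, hr]
    exact pow_card_eq_one'
  -- `ker ρ` is nilpotent
  have hkerρ : (RingHom.ker ρ) ^ N = ⊥ := by
    have h1 : RingHom.ker ρ ≤ (RingHom.ker γ.ofConv).map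
        (Ideal.Quotient.mk ((RingHom.ker γ.ofConv) ^ N)) := by
      intro x hx
      obtain ⟨a, rfl⟩ := Ideal.Quotient.mk_surjective x
      exact Ideal.mem_map_of_mem _ (show a ∈ RingHom.ker γ.ofConv from hx)
    rw [eq_bot_iff]
    refine le_trans (Ideal.pow_right_mono h1 N) ?_
    rw [← Ideal.map_pow, Ideal.map_quotient_self]
  -- `h` kills `K`
  have hhK : ∀ a ∈ K, h.ofConv a = 0 := by
    intro a ha
    have h1 : I.map h.ofConv ≤ RingHom.ker ρ := by
      rw [Ideal.map_le_iff_le_comap]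
      intro a ha
      rw [Ideal.mem_comap, RingHom.mem_ker]
      have h2 : ρ (h.ofConv a) = (postComp ρ h).ofConv a := rfl
      rw [h2, hρh]
      have ha' : ε a = 0 := ha
      simp [AlgHom.convOne_apply, ← Bialgebra.counitAlgHom_apply, ← hε, ha']
    have h3 : h.ofConv a ∈ (I ^ N).map h.ofConv := Ideal.mem_map_of_mem _ ha
    rw [Ideal.map_pow] at h3
    have h4 := Ideal.pow_right_mono h1 N h3
    rw [hkerρ] at h4
    exact h4
  -- factor `h` through `A ⧸ K`
  set hbar : (A ⧸ K) →ₐ[k] R := Ideal.Quotient.liftₐ K h.ofConv hhK with hhbar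
  set π : A →ₐc[k] A ⧸ K := Bialgebra.Quotient.mkBialgHom K with hπ
  have h5 : h = preComp π (toConv hbar) := by
    apply WithConv.ofConv_injective
    apply AlgHom.ext
    intro a
    rfl
  have h6 : toConv hbar = postComp hbar (toConv (AlgHom.id k (A ⧸ K))) := by
    apply WithConv.ofConv_injective
    apply AlgHom.ext
    intro a
    rfl
  -- the quotient is killed by its order
  have hnilK : IsNilpotent (RingHom.ker (Bialgebra.counitAlgHom k (A ⧸ K))) := by
    refine ⟨N, ?_⟩
    have h1 : RingHom.ker (Bialgebra.counitAlgHom k (A ⧸ K)) ≤ I.map (Ideal.Quotient.mk K) := by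
      intro x hx
      obtain ⟨a, rfl⟩ := Ideal.Quotient.mk_surjective x
      exact Ideal.mem_map_of_mem _ (show a ∈ I from hx)
    rw [Ideal.zero_eq_bot, eq_bot_iff]
    refine le_trans (Ideal.pow_right_mono h1 N) ?_
    rw [← Ideal.map_pow, Ideal.map_quotient_self]
  have hkill := convPow_id_finrank_eq_one_of_isNilpotent (k := k) (H := A ⧸ K) hnilK
  rw [pow_mul, ← hh, h5, ← map_pow, h6, ← map_pow, hkill, map_one, map_one]

/-- **A finite group scheme over an algebraically closed field is killed by its order.** -/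
theorem convPow_id_finrank_eq_one_of_isAlgClosed :
    (toConv (AlgHom.id k A)) ^ (finrank k A) = 1 := by
  classical
  haveI : IsArtinianRing A := IsArtinianRing.of_finite k A
  obtain ⟨N₁, hN₁⟩ := IsArtinianRing.isNilpotent_jacobson_bot (R := A)
  obtain ⟨N, hle, hN0, hNN⟩ := exists_pow_stable
    (RingHom.ker (Bialgebra.counitAlgHom k A)) N₁
  have hjac : (Ideal.jacobson (⊥ : Ideal A)) ^ N = ⊥ := by
    have h1 : (Ideal.jacobson (⊥ : Ideal A)) ^ N ≤ (Ideal.jacobson (⊥ : Ideal A)) ^ N₁ :=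
      Ideal.pow_le_pow_right hle
    rw [hN₁] at h1
    exact le_bot_iff.1 h1
  rw [finrank_eq_card_mul N hjac]
  apply WithConv.ofConv_injective
  apply AlgHom.ext
  intro a
  rw [← sub_eq_zero, ← Ideal.mem_bot, ← iInf_ker_pow_eq_bot (k := k) N hjac, Ideal.mem_iInf]
  intro γ
  have h1 := point_pow_eq_one N hN0 hNN (toConv γ)
  have h2 : toConv (Ideal.Quotient.mkₐ k ((RingHom.ker (toConv γ).ofConv) ^ N)) =
      postComp (Ideal.Quotient.mkₐ k ((RingHom.ker (toConv γ).ofConv) ^ N))
        (toConv (AlgHom.id k A)) := by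
    apply WithConv.ofConv_injective
    apply AlgHom.ext
    intro a
    rfl
  rw [h2, ← map_pow] at h1
  have h3 := congrArg (fun f => f.ofConv a) h1
  simp only [postComp_apply, WithConv.ofConv_toConv, AlgHom.comp_apply] at h3
  rw [← Ideal.Quotient.eq_zero_iff_mem, map_sub, sub_eq_zero]
  have h4 : (1 : WithConv (A →ₐ[k] A ⧸ (RingHom.ker (toConv γ).ofConv) ^ N)).ofConv a =
      Ideal.Quotient.mk _ ((1 : WithConv (A →ₐ[k] A)).ofConv a) := by
    show algebraMap k _ _ = Ideal.Quotient.mk _ (algebraMap k A _)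
    rfl
  rw [h4] at h3
  exact h3

end Main

end Groth.Agent.Lib.Helper16.FinHopf
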