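import Groth.Agent.Lib.Helper16.FinHopfSimple
import Groth.Prelude.Def_AlphaP
import Mathlib.RingTheory.Bialgebra.Equiv
import Mathlib.RingTheory.Bialgebra.MonoidAlgebra
import Mathlib.Data.ZMod.Basic

/-!
# Recognising `α_p` and `μ_p` (helper16)
-/

set_option autoImplicit false

namespace Groth.Agent.Lib.Helper16.FinHopf

open TensorProduct Module WithConv Coalgebra

universe u v

section

variable {k : Type u} [Field k] (p : ℕ) [Fact p.Prime] [CharP k p]
  {A : Type v} [CommRing A] [HopfAlgebra k A] [Module.Finite k A]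

/-- A Hopf algebra of dimension `p` with basis the powers of a primitive element `x`, `x^p = 0`,
is the Hopf algebra of `α_p`. -/
theorem nonempty_bialgEquiv_alphaP (x : A)
    (hx : comul (R := k) x = x ⊗ₜ[k] (1 : A) + (1 : A) ⊗ₜ[k] x) (hxp : x ^ p = 0)
    (hli : LinearIndependent k (fun i : Fin p => x ^ (i : ℕ))) (hfin : finrank k A = p) :
    Nonempty (A ≃ₐc[k] AlphaP.A p k) := by
  set f : AlphaP.A p k →ₐ[k] A := AlphaP.lift p k x hxp with hf
  have hfx : f (AlphaP.x p k) = x := AlphaP.lift_x x hxp
  let F : AlphaP.A p k →ₐc[k] A := BialgHom.ofAlgHom f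
    (by
      apply AlphaP.algHom_ext
      rw [AlgHom.comp_apply, hfx, Bialgebra.counitAlgHom_apply, Bialgebra.counitAlgHom_apply,
        counit_eq_zero_of_primitive x hx, AlphaP.counit_x])
    (by
      apply AlphaP.algHom_ext
      rw [AlgHom.comp_apply, AlgHom.comp_apply, hfx, Bialgebra.comulAlgHom_apply,
        Bialgebra.comulAlgHom_apply, AlphaP.comul_x, hx, map_add,
        Algebra.TensorProduct.map_tmul, Algebra.TensorProduct.map_tmul, hfx, map_one])
  have hspan : Submodule.span k (Set.range fun i : Fin p => x ^ (i : ℕ)) = ⊤ :=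
    hli.span_eq_top_of_card_eq_finrank' (by simp [hfin])
  have hsurj : Function.Surjective F := by
    have h1 : LinearMap.range f.toLinearMap = ⊤ := by
      rw [eq_top_iff, ← hspan, Submodule.span_le]
      rintro _ ⟨i, rfl⟩
      exact ⟨AlphaP.x p k ^ (i : ℕ), by simp [hfx]⟩
    exact LinearMap.range_eq_top.1 h1
  have hdim : finrank k (AlphaP.A p k) = finrank k A := by rw [AlphaP.finrank_eq, hfin]
  have hinj : Function.Injective F :=
    (LinearMap.injective_iff_surjective_of_finrank_eq_finrank (f := f.toLinearMap) hdim).2 hsurj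
  exact ⟨(BialgEquiv.ofBijective F ⟨hinj, hsurj⟩).symm⟩

/-- The monoid homomorphism `ℤ/p → A`, `i ↦ g^i`, for `g^p = 1`. -/
noncomputable def zmodPowHom (g : A) (hgp : g ^ p = 1) : Multiplicative (ZMod p) →* A where
  toFun z := g ^ (Multiplicative.toAdd z).val
  map_one' := by simp
  map_mul' z w := by
    rw [toAdd_mul, ZMod.val_add, ← pow_eq_pow_mod _ hgp, pow_add]

omit [CharP k p] [Module.Finite k A] in
theorem zmodPowHom_ofAdd_natCast (g : A) (hgp : g ^ p = 1) (i : ℕ) (hi : i < p) :
    zmodPowHom p g hgp (Multiplicative.ofAdd (i : ZMod p)) = g ^ i := by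
  show g ^ (Multiplicative.toAdd (Multiplicative.ofAdd (i : ZMod p))).val = g ^ i
  rw [toAdd_ofAdd, ZMod.val_natCast, Nat.mod_eq_of_lt hi]

/-- A Hopf algebra of dimension `p` with basis the powers of a group-like element `g`, `g^p = 1`,
is the Hopf algebra of `μ_p`. -/
theorem nonempty_bialgEquiv_muP (g : A) (hg : IsGroupLikeElem k g) (hgp : g ^ p = 1)
    (hli : LinearIndependent k (fun i : Fin p => g ^ (i : ℕ))) (hfin : finrank k A = p) :
    Nonempty (A ≃ₐc[k] MonoidAlgebra k (Multiplicative (ZMod p))) := by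
  set ψ := zmodPowHom p g hgp with hψ
  set f : MonoidAlgebra k (Multiplicative (ZMod p)) →ₐ[k] A :=
    MonoidAlgebra.lift k A (Multiplicative (ZMod p)) ψ with hf
  have hfz : ∀ z : Multiplicative (ZMod p),
      f (MonoidAlgebra.single z 1) = g ^ (Multiplicative.toAdd z).val := by
    intro z
    rw [hf, MonoidAlgebra.lift_single, one_smul]
    rfl
  have hgl : ∀ z : Multiplicative (ZMod p),
      IsGroupLikeElem k (MonoidAlgebra.single z (1 : k)) :=
    fun z => MonoidAlgebra.isGroupLikeElem_single_one z
  let F : MonoidAlgebra k (Multiplicative (ZMod p)) →ₐc[k] A := BialgHom.ofAlgHom f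
    (by
      apply MonoidAlgebra.algHom_ext
      · intro z
        rw [AlgHom.comp_apply, hfz, Bialgebra.counitAlgHom_apply, Bialgebra.counitAlgHom_apply,
          (hg.pow).counit_eq_one, (hgl z).counit_eq_one]
      · exact Subsingleton.elim _ _)
    (by
      apply MonoidAlgebra.algHom_ext
      · intro z
        rw [AlgHom.comp_apply, AlgHom.comp_apply, hfz, Bialgebra.comulAlgHom_apply,
          Bialgebra.comulAlgHom_apply, (hg.pow).comul_eq_tmul_self, (hgl z).comul_eq_tmul_self,
          Algebra.TensorProduct.map_tmul, hfz]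
      · exact Subsingleton.elim _ _)
  have hspan : Submodule.span k (Set.range fun i : Fin p => g ^ (i : ℕ)) = ⊤ :=
    hli.span_eq_top_of_card_eq_finrank' (by simp [hfin])
  have hsurj : Function.Surjective F := by
    have h1 : LinearMap.range f.toLinearMap = ⊤ := by
      rw [eq_top_iff, ← hspan, Submodule.span_le]
      rintro _ ⟨i, rfl⟩
      refine ⟨MonoidAlgebra.single (Multiplicative.ofAdd ((i : ℕ) : ZMod p)) 1, ?_⟩
      show f _ = _
      rw [hfz, toAdd_ofAdd, ZMod.val_natCast, Nat.mod_eq_of_lt i.2]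
    exact LinearMap.range_eq_top.1 h1
  have hdim : finrank k (MonoidAlgebra k (Multiplicative (ZMod p))) = finrank k A := by
    rw [hfin]
    have h1 : finrank k (MonoidAlgebra k (Multiplicative (ZMod p))) =
        Fintype.card (Multiplicative (ZMod p)) := by
      rw [Module.finrank_eq_card_basis (MonoidAlgebra.basis _ k)]
    rw [h1, Fintype.card_multiplicative, ZMod.card]
  have hinj : Function.Injective F :=
    (LinearMap.injective_iff_surjective_of_finrank_eq_finrank (f := f.toLinearMap) hdim).2 hsurj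
  exact ⟨(BialgEquiv.ofBijective F ⟨hinj, hsurj⟩).symm⟩

end

end Groth.Agent.Lib.Helper16.FinHopf
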