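import Groth.Agent.Lib.Helper16.FinHopfConvHom
import Mathlib.RingTheory.Ideal.Quotient.Operations

/-!
# Translations of a commutative Hopf algebra by rational points (helper16)
-/

set_option autoImplicit false

namespace Groth.Agent.Lib.Helper16.FinHopf

open WithConv

universe u v

section

variable {k : Type u} [CommRing k] {A : Type v} [CommRing A] [HopfAlgebra k A]

/-- Translation by a rational point `γ`: `a ↦ ∑ γ(a₁) a₂`. -/
noncomputable def transl (γ : WithConv (A →ₐ[k] k)) : A →ₐ[k] A :=
  ofConv (postComp (Algebra.ofId k A) γ * toConv (AlgHom.id k A))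

theorem toConv_transl (γ : WithConv (A →ₐ[k] k)) :
    toConv (transl γ) = postComp (Algebra.ofId k A) γ * toConv (AlgHom.id k A) := rfl

theorem transl_comp (γ δ : WithConv (A →ₐ[k] k)) :
    (transl δ).comp (transl γ) = transl (γ * δ) := by
  apply WithConv.toConv_injective
  have h1 : toConv ((transl δ).comp (transl γ)) = postComp (transl δ) (toConv (transl γ)) := rfl
  rw [h1, toConv_transl γ, map_mul]
  have h2 : postComp (transl δ) (postComp (Algebra.ofId k A) γ) =
      postComp (Algebra.ofId k A) γ := by
    apply WithConv.ofConv_injective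
    apply AlgHom.ext
    intro a
    simp [Algebra.ofId_apply]
  have h3 : postComp (transl δ) (toConv (AlgHom.id k A)) = toConv (transl δ) := by
    apply WithConv.ofConv_injective
    apply AlgHom.ext
    intro a
    simp
  rw [h2, h3, toConv_transl δ, toConv_transl (γ * δ), map_mul, mul_assoc]

theorem transl_one : transl (1 : WithConv (A →ₐ[k] k)) = AlgHom.id k A := by
  apply WithConv.toConv_injective
  rw [toConv_transl, map_one, one_mul]

/-- Translation as an algebra automorphism. -/
noncomputable def translEquiv (γ : WithConv (A →ₐ[k] k)) : A ≃ₐ[k] A :=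
  AlgEquiv.ofAlgHom (transl γ) (transl γ⁻¹)
    (by rw [transl_comp, inv_mul_cancel, transl_one])
    (by rw [transl_comp, mul_inv_cancel, transl_one])

@[simp] theorem translEquiv_apply (γ : WithConv (A →ₐ[k] k)) (a : A) :
    translEquiv γ a = transl γ a := rfl

theorem counit_comp_transl (γ : WithConv (A →ₐ[k] k)) :
    (Bialgebra.counitAlgHom k A).comp (transl γ) = γ.ofConv := by
  apply WithConv.toConv_injective
  have h1 : toConv ((Bialgebra.counitAlgHom k A).comp (transl γ)) =
      postComp (Bialgebra.counitAlgHom k A) (toConv (transl γ)) := rfl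
  rw [h1, toConv_transl γ, map_mul]
  have h2 : postComp (Bialgebra.counitAlgHom k A) (postComp (Algebra.ofId k A) γ) = γ := by
    apply WithConv.ofConv_injective
    apply AlgHom.ext
    intro a
    simp [Algebra.ofId_apply]
  have h3 : postComp (Bialgebra.counitAlgHom k A) (toConv (AlgHom.id k A)) =
      (1 : WithConv (A →ₐ[k] k)) := by
    apply WithConv.ofConv_injective
    apply AlgHom.ext
    intro a
    simp [AlgHom.convOne_apply]
  rw [h2, h3, mul_one]

theorem counit_transl (γ : WithConv (A →ₐ[k] k)) (a : A) :
    Bialgebra.counitAlgHom k A (transl γ a) = γ.ofConv a := by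
  have := congrArg (fun f => f a) (counit_comp_transl γ)
  simpa using this

/-- `ker γ` is the preimage of the augmentation ideal under translation by `γ`. -/
theorem ker_eq_comap_transl (γ : WithConv (A →ₐ[k] k)) :
    RingHom.ker γ.ofConv = (RingHom.ker (Bialgebra.counitAlgHom k A)).comap (transl γ) := by
  ext a
  rw [Ideal.mem_comap, RingHom.mem_ker, RingHom.mem_ker, counit_transl]

end

end Groth.Agent.Lib.Helper16.FinHopf
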