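import Groth.Agent.Lib.Helper16.FinHopfGraded
import Groth.Agent.Lib.Helper16.FinHopfTransl
import Mathlib.RingTheory.Filtration
import Mathlib.RingTheory.Jacobson.Ring
import Mathlib.RingTheory.FiniteStability
import Mathlib.RingTheory.HopfAlgebra.TensorProduct
import Mathlib.FieldTheory.IsAlgClosed.AlgebraicClosure
import Mathlib.RingTheory.Flat.Basic

/-!
# Cartier's theorem: finitely generated commutative Hopf algebras in characteristic zero are
reduced (helper16)
-/

set_option autoImplicit false

namespace Groth.Agent.Lib.Helper16.FinHopf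

open TensorProduct Module WithConv MvPolynomial

universe u v

section Filtration

variable {R : Type*} [CommRing R]

/-- If `a ≡ b mod I^(n+1)` and `a, b ∈ I^n`, then `a^m ≡ b^m mod I^(n m + 1)`. -/
theorem pow_sub_pow_mem (I : Ideal R) (n m : ℕ) (a b : R) (ha : a ∈ I ^ n) (hb : b ∈ I ^ n)
    (hab : a - b ∈ I ^ (n + 1)) (hm : 1 ≤ m) : a ^ m - b ^ m ∈ I ^ (n * m + 1) := by
  have h1 := (Commute.all a b).mul_geom_sum₂ m
  rw [← h1]
  have h2 : ∑ i ∈ Finset.range m, a ^ i * b ^ (m - 1 - i) ∈ I ^ (n * (m - 1)) := by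
    refine Ideal.sum_mem _ fun i hi => ?_
    have hi' : i < m := Finset.mem_range.1 hi
    have h3 : a ^ i ∈ I ^ (n * i) := by rw [pow_mul]; exact Ideal.pow_mem_pow ha i
    have h4 : b ^ (m - 1 - i) ∈ I ^ (n * (m - 1 - i)) := by
      rw [pow_mul]; exact Ideal.pow_mem_pow hb _
    have h5 : n * (m - 1) = n * i + n * (m - 1 - i) := by
      rw [← mul_add]; congr 1; omega
    rw [h5, pow_add]
    exact Ideal.mul_mem_mul h3 h4
  have h6 : n * m + 1 = (n + 1) + n * (m - 1) := by
    have : m = (m - 1) + 1 := by omega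
    conv_lhs => rw [this]
    ring
  rw [h6, pow_add]
  exact Ideal.mul_mem_mul hab h2

end Filtration

section CharZero

variable {k : Type u} [Field k] [CharZero k] {A : Type v} [CommRing A] [HopfAlgebra k A]

/-- In characteristic zero, nilpotent elements lie in all powers of the augmentation ideal. -/
theorem isNilpotent_mem_pow (hfg : (RingHom.ker (Bialgebra.counitAlgHom k A)).FG) (y : A)
    (hy : IsNilpotent y) : ∀ n : ℕ, y ∈ (RingHom.ker (Bialgebra.counitAlgHom k A)) ^ n := by
  classical
  set ε := Bialgebra.counitAlgHom k A with hε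
  haveI := finite_cotangent_of_fg ε hfg
  set r := finrank k (RingHom.ker ε).Cotangent with hr
  let b : Basis (Fin r) k (RingHom.ker ε).Cotangent := Module.finBasisOfFinrankEq k _ rfl
  choose x hx using fun i => (RingHom.ker ε).toCotangent_surjective (b i)
  let D : Fin r → Derivation k A A := fun i =>
    invDer (pointDer ε (b.coord i)) (fun a c => pointDer_mul ε (b.coord i) a c)
  have hD : ∀ i j, ε (D i (x j : A)) = if i = j then 1 else 0 := by
    intro i j
    have h1 : ε (D i (x j : A)) = pointDer ε (b.coord i) (x j : A) := counit_invDer _ _ _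
    rw [h1, pointDer_apply_of_mem ε _ _ (x j).2]
    have : (⟨(x j : A), (x j).2⟩ : RingHom.ker ε) = x j := rfl
    rw [this, hx, Basis.coord_apply, Basis.repr_self, Finsupp.single_apply]
    by_cases h : i = j
    · simp [h]
    · simp [h, Ne.symm h]
  obtain ⟨m, hm⟩ := hy
  have hm1 : 1 ≤ m + 1 := Nat.le_add_left 1 m
  have hym : y ^ (m + 1) = 0 := by rw [pow_succ, hm, zero_mul]
  intro n
  induction n with
  | zero => simp
  | succ n ih =>
    obtain ⟨P, hP, hPy⟩ := exists_isHomogeneous_sub_mem ε b x hx n y ih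
    set u := aeval (fun i => (x i : A)) P with hu
    have huI : u ∈ (RingHom.ker ε) ^ n :=
      aeval_mem_pow_of_isHomogeneous (RingHom.ker ε) _ (fun i => (x i).2) hP
    have h1 := pow_sub_pow_mem (RingHom.ker ε) n (m + 1) y u ih huI hPy hm1
    rw [hym, zero_sub, neg_mem_iff, hu, ← map_pow] at h1
    have hP0 : P ^ (m + 1) = 0 :=
      eq_zero_of_aeval_mem_pow_succ ε (fun i => (x i : A)) (fun i => (x i).2) D hD
        (n * (m + 1)) (Nat.cast_ne_zero.2 (Nat.factorial_ne_zero _)) _
        (hP.pow (m + 1)) h1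
    have hP0' : P = 0 := pow_eq_zero_iff (Nat.succ_ne_zero m) |>.1 hP0
    have hu0 : u = 0 := by rw [hu, hP0', map_zero]
    rw [hu0, sub_zero] at hPy
    exact hPy

/-- A nilpotent element is killed by an element of augmentation `1`. -/
theorem exists_mul_eq_zero_of_isNilpotent [IsNoetherianRing A] (y : A) (hy : IsNilpotent y) :
    ∃ s : A, Bialgebra.counitAlgHom k A s = 1 ∧ s * y = 0 := by
  set I := RingHom.ker (Bialgebra.counitAlgHom k A) with hI
  have hmem : y ∈ (⨅ i : ℕ, I ^ i • ⊤ : Submodule A A) := by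
    rw [Submodule.mem_iInf]
    intro i
    have h1 := isNilpotent_mem_pow (IsNoetherian.noetherian I) y hy i
    rw [Ideal.smul_top_eq_map]
    simpa using h1
  obtain ⟨r, hr⟩ := (Ideal.mem_iInf_smul_pow_eq_bot_iff I y).1 hmem
  refine ⟨1 - r, ?_, ?_⟩
  · have h0 : Bialgebra.counitAlgHom k A (r : A) = 0 := r.2
    rw [map_sub, map_one, h0, sub_zero]
  · rw [sub_mul, one_mul, ← smul_eq_mul, hr, sub_self]

end CharZero

section Nullstellensatz

variable {k : Type u} [Field k] {A : Type v} [CommRing A] [Algebra k A]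

/-- Maximal ideals of a finitely generated algebra over an algebraically closed field are kernels
of rational points. -/
theorem exists_algHom_ker_eq_of_finiteType [IsAlgClosed k] [Algebra.FiniteType k A] (m : Ideal A)
    [m.IsMaximal] : ∃ γ : A →ₐ[k] k, RingHom.ker γ = m := by
  letI := Ideal.Quotient.field m
  haveI : Algebra.FiniteType k (A ⧸ m) :=
    Algebra.FiniteType.of_surjective (Ideal.Quotient.mkₐ k m) (Ideal.Quotient.mkₐ_surjective k m)
  haveI : Module.Finite k (A ⧸ m) := finite_of_finite_type_of_isJacobsonRing k (A ⧸ m)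
  haveI : Algebra.IsIntegral k (A ⧸ m) := Algebra.IsIntegral.of_finite k _
  have hbij := IsAlgClosed.algebraMap_bijective_of_isIntegral (k := k) (K := A ⧸ m)
  let e : k ≃ₐ[k] A ⧸ m := AlgEquiv.ofBijective (Algebra.ofId k (A ⧸ m)) hbij
  refine ⟨(e.symm : (A ⧸ m) →ₐ[k] k).comp (Ideal.Quotient.mkₐ k m), ?_⟩
  ext a
  rw [RingHom.mem_ker, AlgHom.comp_apply]
  constructor
  · intro h
    have h1 : Ideal.Quotient.mkₐ k m a = 0 := by
      have := congrArg e h
      simpa using this
    rwa [Ideal.Quotient.mkₐ_eq_mk, Ideal.Quotient.eq_zero_iff_mem] at h1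
  · intro h
    have h1 : Ideal.Quotient.mkₐ k m a = 0 := by
      rwa [Ideal.Quotient.mkₐ_eq_mk, Ideal.Quotient.eq_zero_iff_mem]
    rw [h1]; simp

end Nullstellensatz

section Cartier

variable {k : Type u} [Field k] [CharZero k] {A : Type v} [CommRing A] [HopfAlgebra k A]
  [Algebra.FiniteType k A]

/-- Cartier's theorem over an algebraically closed field of characteristic zero. -/
theorem isReduced_of_charZero_of_isAlgClosed (k : Type u) [Field k] [CharZero k] (A : Type v)
    [CommRing A] [HopfAlgebra k A] [Algebra.FiniteType k A] [IsAlgClosed k] : IsReduced A := by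
  haveI : IsNoetherianRing A := Algebra.FiniteType.isNoetherianRing k A
  refine ⟨fun y hy => ?_⟩
  by_contra hy0
  -- the annihilator of `y`
  set J : Ideal A := Ideal.span {y} |>.annihilator with hJ
  have hJmem : ∀ s : A, s ∈ J ↔ s * y = 0 := by
    intro s
    rw [hJ, Submodule.mem_annihilator_span_singleton, smul_eq_mul]
  have hJne : J ≠ ⊤ := by
    intro h
    have h1 : (1 : A) ∈ J := by rw [h]; trivial
    rw [hJmem, one_mul] at h1
    exact hy0 h1
  obtain ⟨m, hm, hJm⟩ := Ideal.exists_le_maximal J hJne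
  obtain ⟨γ, hγ⟩ := exists_algHom_ker_eq_of_finiteType (k := k) m
  set τ := translEquiv (toConv γ) with hτ
  have hτy : IsNilpotent (τ y) := hy.map τ
  obtain ⟨s, hs1, hs0⟩ := exists_mul_eq_zero_of_isNilpotent (k := k) (τ y) hτy
  have h1 : τ.symm s * y = 0 := by
    apply τ.injective
    rw [map_mul, AlgEquiv.apply_symm_apply, hs0, map_zero]
  have h2 : τ.symm s ∈ m := hJm ((hJmem _).2 h1)
  rw [← hγ, RingHom.mem_ker] at h2
  have h3 : Bialgebra.counitAlgHom k A (τ (τ.symm s)) = γ (τ.symm s) :=
    counit_transl (toConv γ) (τ.symm s)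
  rw [AlgEquiv.apply_symm_apply, hs1, h2] at h3
  exact one_ne_zero h3

/-- **Cartier's theorem**: a finitely generated commutative Hopf algebra over a field of
characteristic zero is reduced. -/
theorem isReduced_of_charZero (k : Type u) [Field k] [CharZero k] (A : Type v) [CommRing A]
    [HopfAlgebra k A] [Algebra.FiniteType k A] : IsReduced A := by
  haveI : CharZero (AlgebraicClosure k) :=
    charZero_of_injective_algebraMap (algebraMap k (AlgebraicClosure k)).injective
  haveI : IsReduced (AlgebraicClosure k ⊗[k] A) :=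
    isReduced_of_charZero_of_isAlgClosed (AlgebraicClosure k) (AlgebraicClosure k ⊗[k] A)
  have hinj : Function.Injective
      (Algebra.TensorProduct.includeRight : A →ₐ[k] AlgebraicClosure k ⊗[k] A) :=
    Algebra.TensorProduct.includeRight_injective (algebraMap k (AlgebraicClosure k)).injective
  exact isReduced_of_injective
    (Algebra.TensorProduct.includeRight : A →ₐ[k] AlgebraicClosure k ⊗[k] A) hinj

end Cartier

end Groth.Agent.Lib.Helper16.FinHopf
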