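import Groth.Agent.Lib.Helper16.FinHopfPoints
import Groth.Prelude.Def_ConstGrp
import Mathlib.RingTheory.Bialgebra.Equiv
import Mathlib.FieldTheory.Fixed

/-!
# Recognising a constant group scheme (helper16)

A finite commutative Hopf algebra over a field with as many rational points as its dimension is the
algebra of functions on its group of points.
-/

set_option autoImplicit false

namespace Groth.Agent.Lib.Helper16.FinHopf

open TensorProduct Module WithConv

universe u v w

section

variable {k : Type u} [Field k] {A : Type v} [CommRing A] [HopfAlgebra k A] [Module.Finite k A]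
  {G : Type w} [Group G] [Fintype G] [DecidableEq G]

/-- Evaluation at the points `φ z`. -/
noncomputable def evalPts (φ : G → WithConv (A →ₐ[k] k)) : A →ₐ[k] ConstGrp.F k G :=
  (ConstGrp.equivFun k G).symm.toAlgHom.comp (Pi.algHom k (fun _ : G => k) fun z => (φ z).ofConv)

omit [Module.Finite k A] [Group G] [Fintype G] [DecidableEq G] in
@[simp] theorem evalPts_apply (φ : G → WithConv (A →ₐ[k] k)) (a : A) (z : G) :
    evalPts φ a z = (φ z).ofConv a := rfl

omit [Module.Finite k A] [Group G] in
theorem evalPts_tmul (φ : G → WithConv (A →ₐ[k] k)) (t : A ⊗[k] A) :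
    Algebra.TensorProduct.map (evalPts φ) (evalPts φ) t =
      ∑ z : G, ∑ w : G, (Algebra.TensorProduct.lift (φ z).ofConv (φ w).ofConv
        (fun _ _ => Commute.all _ _) t) • (ConstGrp.e k z ⊗ₜ[k] ConstGrp.e k w) := by
  induction t using TensorProduct.induction_on with
  | zero => simp
  | add x y hx hy =>
    rw [map_add, hx, hy, ← Finset.sum_add_distrib]
    refine Finset.sum_congr rfl fun z _ => ?_
    rw [← Finset.sum_add_distrib]
    refine Finset.sum_congr rfl fun w _ => ?_
    rw [map_add, add_smul]
  | tmul x y =>
    rw [Algebra.TensorProduct.map_tmul]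
    conv_lhs => rw [ConstGrp.eq_sum_smul_e (evalPts φ x), ConstGrp.eq_sum_smul_e (evalPts φ y)]
    rw [TensorProduct.sum_tmul]
    refine Finset.sum_congr rfl fun z _ => ?_
    rw [TensorProduct.tmul_sum]
    refine Finset.sum_congr rfl fun w _ => ?_
    rw [Algebra.TensorProduct.lift_tmul, TensorProduct.smul_tmul_smul, evalPts_apply, evalPts_apply]

/-- Evaluation at a group of points is a bialgebra map. -/
noncomputable def evalPtsBialgHom (φ : G →* WithConv (A →ₐ[k] k)) : A →ₐc[k] ConstGrp.F k G :=
  BialgHom.ofAlgHom (evalPts φ)
    (by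
      apply AlgHom.ext
      intro a
      rw [AlgHom.comp_apply, ConstGrp.counitAlgHom_eq, ConstGrp.counitAlg_apply, evalPts_apply,
        map_one]
      rfl)
    (by
      apply AlgHom.ext
      intro a
      rw [AlgHom.comp_apply, AlgHom.comp_apply, Bialgebra.comulAlgHom_apply,
        Bialgebra.comulAlgHom_apply, evalPts_tmul, ConstGrp.comul_eq_sum]
      refine Finset.sum_congr rfl fun z _ => ?_
      refine Finset.sum_congr rfl fun w _ => ?_
      rw [evalPts_apply, map_mul, ← AlgHom.convMul_apply])

omit [DecidableEq G] [Group G] [Fintype G] in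
theorem evalPts_injective (φ : G ≃ WithConv (A →ₐ[k] k))
    (hcard : Nat.card (WithConv (A →ₐ[k] k)) = finrank k A) :
    Function.Injective (evalPts (k := k) (A := A) (G := G) φ) := by
  classical
  rw [injective_iff_map_eq_zero]
  intro a ha
  -- the points form a basis of the dual
  have hli : LinearIndependent k (fun γ : WithConv (A →ₐ[k] k) => γ.ofConv.toLinearMap) :=
    (linearIndependent_algHom_toLinearMap k A k).comp (fun γ : WithConv (A →ₐ[k] k) => γ.ofConv)
      WithConv.ofConv_injective
  have : Finite (A →ₐ[k] k) := inferInstance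
  have : Finite (WithConv (A →ₐ[k] k)) := Finite.of_equiv _ (WithConv.equiv _).symm
  cases nonempty_fintype (WithConv (A →ₐ[k] k))
  have hspan : Submodule.span k (Set.range fun γ : WithConv (A →ₐ[k] k) => γ.ofConv.toLinearMap) =
      ⊤ := by
    refine hli.span_eq_top_of_card_eq_finrank' ?_
    rw [← Nat.card_eq_fintype_card, hcard]
    exact Subspace.dual_finrank_eq.symm
  apply (Module.forall_dual_apply_eq_zero_iff k a).1
  intro f
  have hf : f ∈ Submodule.span k
      (Set.range fun γ : WithConv (A →ₐ[k] k) => γ.ofConv.toLinearMap) := by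
    rw [hspan]; trivial
  induction hf using Submodule.span_induction with
  | mem x hx =>
    obtain ⟨γ, rfl⟩ := hx
    have h1 := congrFun ha (φ.symm γ)
    rw [evalPts_apply, Equiv.apply_symm_apply] at h1
    exact h1
  | zero => rfl
  | add x y _ _ hx hy => rw [LinearMap.add_apply, hx, hy, add_zero]
  | smul c x _ hx => rw [LinearMap.smul_apply, hx, smul_zero]

/-- A finite commutative Hopf algebra with as many rational points as its dimension is the algebra
of functions on (any group isomorphic to) its group of points. -/
theorem nonempty_bialgEquiv_constGrp (φ : G ≃* WithConv (A →ₐ[k] k))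
    (hcard : Nat.card (WithConv (A →ₐ[k] k)) = finrank k A) :
    Nonempty (A ≃ₐc[k] ConstGrp.F k G) := by
  have hinj : Function.Injective (evalPtsBialgHom (k := k) (A := A) φ.toMonoidHom) :=
    evalPts_injective φ.toEquiv hcard
  have hdim : finrank k A = finrank k (ConstGrp.F k G) := by
    rw [← hcard, Nat.card_congr φ.symm.toEquiv, Nat.card_eq_fintype_card,
      Module.finrank_eq_card_basis (ConstGrp.basis k G)]
  have hsurj : Function.Surjective (evalPtsBialgHom (k := k) (A := A) φ.toMonoidHom) :=
    (LinearMap.injective_iff_surjective_of_finrank_eq_finrank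
      (f := (evalPts (k := k) (A := A) (G := G) φ).toLinearMap) hdim).1 hinj
  exact ⟨BialgEquiv.ofBijective _ ⟨hinj, hsurj⟩⟩

end

end Groth.Agent.Lib.Helper16.FinHopf
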