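import Mathlib.RingTheory.Bialgebra.Convolution
import Mathlib.RingTheory.HopfAlgebra.Convolution
import Mathlib.RingTheory.Bialgebra.Hom

/-!
# Functoriality of the convolution monoid of points `WithConv (A →ₐ[k] R)` (helper16)
-/

set_option autoImplicit false

namespace Groth.Agent.Lib.Helper16.FinHopf

open WithConv

universe u v w

section

variable {k : Type u} [CommRing k] {A : Type v} [CommRing A] [Bialgebra k A]
  {R : Type*} [CommRing R] [Algebra k R] {R' : Type*} [CommRing R'] [Algebra k R']

/-- Post-composition with an algebra map, as a monoid homomorphism of point monoids. -/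
noncomputable def postComp (φ : R →ₐ[k] R') :
    WithConv (A →ₐ[k] R) →* WithConv (A →ₐ[k] R') where
  toFun g := toConv (φ.comp g.ofConv)
  map_one' := by
    apply WithConv.ofConv_injective
    apply AlgHom.ext
    intro a
    simp [AlgHom.convOne_apply]
  map_mul' f g := by
    apply WithConv.ofConv_injective
    exact AlgHom.comp_convMul_distrib φ f g

@[simp] theorem postComp_apply (φ : R →ₐ[k] R') (g : WithConv (A →ₐ[k] R)) :
    postComp φ g = toConv (φ.comp g.ofConv) := rfl

variable {A' : Type*} [CommRing A'] [Bialgebra k A']

/-- Pre-composition with a bialgebra map, as a monoid homomorphism of point monoids. -/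
noncomputable def preComp (π : A →ₐc[k] A') :
    WithConv (A' →ₐ[k] R) →* WithConv (A →ₐ[k] R) where
  toFun g := toConv (g.ofConv.comp (π : A →ₐ[k] A'))
  map_one' := by
    apply WithConv.ofConv_injective
    apply AlgHom.ext
    intro a
    simp [AlgHom.convOne_apply]
  map_mul' f g := by
    apply WithConv.ofConv_injective
    exact AlgHom.convMul_comp_bialgHom_distrib f g π

@[simp] theorem preComp_apply (π : A →ₐc[k] A') (g : WithConv (A' →ₐ[k] R)) :
    preComp π g = toConv (g.ofConv.comp (π : A →ₐ[k] A')) := rfl

end

end Groth.Agent.Lib.Helper16.FinHopf
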