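import Mathlib.RingTheory.Derivation.Basic
import Mathlib.RingTheory.Ideal.Cotangent
import Mathlib.LinearAlgebra.Dimension.Finite
import Mathlib.LinearAlgebra.FiniteDimensional.Lemmas
import Mathlib.Algebra.CharP.Algebra
import Mathlib.RingTheory.Nilpotent.Lemmas
import Mathlib.RingTheory.Nilpotent.Basic

/-!
# Derivation criterion: truncated polynomial structure (helper16)

`finrank_eq_mul_quotient`: if `y ^ p = 0`, `E y = 1` for a derivation `E` of a finite-dimensional
commutative algebra over a field of characteristic `p`, then `dim C = p * dim C/(y)`.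
-/

set_option autoImplicit false

namespace Groth.Agent.Lib.Helper16.FinHopf

open Module

section KL

variable {k : Type*} [Field k] {C : Type*} [CommRing C] [Algebra k C]

/-- Key lemma: if `E y = 1` and `(i : k) ≠ 0` for `0 < i ≤ n`, then `y ^ n * e = 0` implies
`e ∈ (y)`. -/
theorem exists_eq_mul_of_pow_mul_eq_zero (E : Derivation k C C) (y : C) (hE : E y = 1)
    (n : ℕ) (hn : ∀ i : ℕ, 0 < i → i ≤ n → (i : k) ≠ 0) :
    ∀ e : C, y ^ n * e = 0 → ∃ e', e = y * e' := by
  induction n with
  | zero => intro e he; exact ⟨0, by simpa using he⟩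
  | succ n ih =>
    intro e he
    have h1 : E (y ^ (n + 1) * e) = 0 := by rw [he]; exact map_zero E
    rw [Derivation.leibniz, Derivation.leibniz_pow, hE] at h1
    simp only [smul_eq_mul, Nat.add_sub_cancel, mul_one, nsmul_eq_mul] at h1
    have h2 : y ^ n * (y * E e + ((n + 1 : ℕ) : C) * e) = 0 := by
      rw [← h1]; push_cast; ring
    obtain ⟨e'', he''⟩ := ih (fun i hi hin => hn i hi (by omega)) _ h2
    have hne : ((n + 1 : ℕ) : k) ≠ 0 := hn (n + 1) (by omega) le_rfl
    refine ⟨algebraMap k C (((n + 1 : ℕ) : k)⁻¹) * (e'' - E e), ?_⟩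
    have h3 : ((n + 1 : ℕ) : C) * e = y * (e'' - E e) := by
      rw [mul_sub, ← he'']; ring
    have h4 : algebraMap k C (((n + 1 : ℕ) : k)⁻¹) * ((n + 1 : ℕ) : C) = 1 := by
      rw [← map_natCast (algebraMap k C), ← map_mul, inv_mul_cancel₀ hne, map_one]
    calc e = (algebraMap k C (((n + 1 : ℕ) : k)⁻¹) * ((n + 1 : ℕ) : C)) * e := by rw [h4, one_mul]
      _ = algebraMap k C (((n + 1 : ℕ) : k)⁻¹) * (((n + 1 : ℕ) : C) * e) := by ring
      _ = _ := by rw [h3]; ring

end KL

section Dim

variable {k : Type*} [Field k] {C : Type*} [CommRing C] [Algebra k C]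

/-- If `E y = 1`, `y ^ p = 0` in characteristic `p`, then `dim C = p * dim C/(y)`. -/
theorem finrank_eq_mul_quotient [Module.Finite k C] (p : ℕ) [Fact p.Prime] [CharP k p]
    (E : Derivation k C C) (y : C) (hE : E y = 1) (hy : y ^ p = 0) :
    finrank k C = p * finrank k (C ⧸ Ideal.span {y}) := by
  classical
  set K : ℕ → Submodule k C := fun i => LinearMap.ker (LinearMap.mulLeft k (y ^ i)) with hK
  have memK : ∀ i c, c ∈ K i ↔ y ^ i * c = 0 := fun i c => by
    simp [hK, LinearMap.mem_ker]
  have hcast : ∀ i : ℕ, 0 < i → i < p → (i : k) ≠ 0 := by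
    intro i hi hip h
    rw [CharP.cast_eq_zero_iff k p] at h
    exact absurd (Nat.le_of_dvd hi h) (by omega)
  have K1le : ∀ i, K 1 ≤ K (i + 1) := by
    intro i c hc
    rw [memK] at hc ⊢
    rw [pow_succ, mul_assoc]
    rw [pow_one] at hc
    rw [hc, mul_zero]
  have step : ∀ i, i < p → finrank k (K (i + 1)) = finrank k (K i) + finrank k (K 1) := by
    intro i hi
    set f : K (i + 1) →ₗ[k] C := (LinearMap.mulLeft k y).domRestrict (K (i + 1)) with hf
    have hrange : LinearMap.range f = K i := by
      ext e
      constructor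
      · rintro ⟨⟨c, hc⟩, rfl⟩
        rw [memK] at hc ⊢
        simp only [hf, LinearMap.domRestrict_apply, LinearMap.mulLeft_apply]
        rw [← mul_assoc, ← pow_succ]; exact hc
      · intro he
        rw [memK] at he
        obtain ⟨e', rfl⟩ := exists_eq_mul_of_pow_mul_eq_zero E y hE i
          (fun j hj hji => hcast j hj (by omega)) e he
        refine ⟨⟨e', ?_⟩, ?_⟩
        · rw [memK, pow_succ, mul_assoc]; exact he
        · simp [hf]
    have hker : finrank k (LinearMap.ker f) = finrank k (K 1) := by
      have h1 : LinearMap.ker f = (K 1).comap (K (i + 1)).subtype := by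
        ext ⟨c, hc⟩
        simp only [hf, LinearMap.mem_ker, LinearMap.domRestrict_apply, LinearMap.mulLeft_apply,
          Submodule.mem_comap, Submodule.subtype_apply]
        rw [memK, pow_one]
      rw [h1]
      exact (Submodule.comapSubtypeEquivOfLe (K1le i)).finrank_eq
    have := LinearMap.finrank_range_add_finrank_ker f
    rw [hrange, hker] at this
    exact this.symm
  have hKi : ∀ i, i ≤ p → finrank k (K i) = i * finrank k (K 1) := by
    intro i
    induction i with
    | zero =>
      intro _
      have : K 0 = ⊥ := by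
        ext c; rw [memK]; simp
      rw [this]; simp
    | succ i ih =>
      intro hi
      rw [step i (by omega), ih (by omega)]; ring
  have hKp : K p = ⊤ := by
    ext c; rw [memK, hy]; simp
  have h1 : finrank k C = p * finrank k (K 1) := by
    rw [← hKi p le_rfl, hKp, finrank_top]
  -- now `finrank (K 1) = finrank (C ⧸ (y))`
  have hK1 : K 1 = LinearMap.ker (LinearMap.mulLeft k y) := by
    ext c; rw [memK, pow_one]; simp
  have h2 := LinearMap.finrank_range_add_finrank_ker (LinearMap.mulLeft k y)
  have hrange : LinearMap.range (LinearMap.mulLeft k y) = (Ideal.span {y}).restrictScalars k := by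
    ext c
    simp only [LinearMap.mem_range, LinearMap.mulLeft_apply, Submodule.restrictScalars_mem,
      Ideal.mem_span_singleton']
    constructor
    · rintro ⟨a, rfl⟩; exact ⟨a, mul_comm _ _⟩
    · rintro ⟨a, rfl⟩; exact ⟨a, mul_comm _ _⟩
  have h3 := Submodule.finrank_quotient_add_finrank ((Ideal.span {y}).restrictScalars k)
  have h4 : finrank k (C ⧸ Ideal.span {y}) = finrank k (C ⧸ (Ideal.span {y}).restrictScalars k) :=
    (Submodule.Quotient.restrictScalarsEquiv k (Ideal.span {y})).symm.finrank_eq
  rw [h1, h4, hK1]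
  congr 1
  rw [hrange] at h2
  omega

end Dim

section Main

universe u v

/-- **Truncated polynomial criterion (dimension form).** A finite-dimensional augmented commutative
algebra over a field of characteristic `p`, whose augmentation ideal is generated by `x₁..x_r` with
`xᵢ^p = 0`, admitting derivations `Dᵢ` with `ε (Dᵢ xⱼ) = δᵢⱼ`, has dimension `p ^ r`. -/
theorem finrank_eq_pow_of_derivations {k : Type u} [Field k] (p : ℕ) [Fact p.Prime] [CharP k p]
    (r : ℕ) : ∀ (C : Type v) [CommRing C] [Algebra k C] [Module.Finite k C] (ε : C →ₐ[k] k)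
      (x : Fin r → C) (D : Fin r → Derivation k C C),
      Ideal.span (Set.range x) = RingHom.ker ε → (∀ i, x i ^ p = 0) →
      (∀ i j, ε (D i (x j)) = if i = j then 1 else 0) → finrank k C = p ^ r := by
  induction r with
  | zero =>
    intro C _ _ _ ε x D hspan _ _
    have hker : RingHom.ker ε = ⊥ := by
      rw [← hspan]
      have : Set.range x = ∅ := Set.range_eq_empty x
      rw [this, Ideal.span_empty]
    have hinj : Function.Injective ε := (RingHom.injective_iff_ker_eq_bot ε.toRingHom).2 hker
    have hsurj : Function.Surjective ε := fun c => ⟨algebraMap k C c, by simp⟩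
    have e : C ≃ₗ[k] k := LinearEquiv.ofBijective ε.toLinearMap ⟨hinj, hsurj⟩
    rw [e.finrank_eq, Module.finrank_self, pow_zero]
  | succ r ih =>
    intro C _ _ _ ε x D hspan hx hD
    set y := x (Fin.last r) with hy
    set E := D (Fin.last r) with hE
    have hnil : ∀ c, ε c = 0 → IsNilpotent c := by
      intro c hc
      have : c ∈ Ideal.span (Set.range x) := by rw [hspan]; exact hc
      have hle : Ideal.span (Set.range x) ≤ nilradical C := by
        rw [Ideal.span_le]
        rintro _ ⟨i, rfl⟩
        exact ⟨p, hx i⟩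
      exact hle this
    have hyker : ε y = 0 := by
      have : y ∈ Ideal.span (Set.range x) := Ideal.subset_span ⟨_, rfl⟩
      rw [hspan] at this; exact this
    have hεu : ε (E y) = 1 := by simpa using hD (Fin.last r) (Fin.last r)
    have hu : IsUnit (E y) := by
      have h1 : IsNilpotent (E y - 1) := hnil _ (by rw [map_sub, hεu, map_one, sub_self])
      have := IsNilpotent.isUnit_one_add h1
      simpa using this
    obtain ⟨u, hu'⟩ := hu
    set E' : Derivation k C C := (↑u⁻¹ : C) • E with hE'
    have hE'y : E' y = 1 := by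
      rw [hE', Derivation.smul_apply, ← hu', smul_eq_mul, Units.inv_mul]
    have hdim := finrank_eq_mul_quotient p E' y hE'y (hx _)
    -- the quotient
    have hker_y : ∀ a ∈ Ideal.span {y}, ε a = 0 := by
      intro a ha
      obtain ⟨b, rfl⟩ := Ideal.mem_span_singleton'.1 ha
      rw [map_mul, hyker, mul_zero]
    set ε₀ : (C ⧸ Ideal.span {y}) →ₐ[k] k := Ideal.Quotient.liftₐ (Ideal.span {y}) ε hker_y with hε₀
    set x₀ : Fin r → C ⧸ Ideal.span {y} := fun i => Ideal.Quotient.mk _ (x i.castSucc) with hx₀
    set D' : Fin r → Derivation k C C := fun i => D i.castSucc - (D i.castSucc y) • E' with hD'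
    have hD'y : ∀ i, D' i y = 0 := by
      intro i
      simp only [hD', Derivation.sub_apply, Derivation.smul_apply, hE'y, smul_eq_mul, mul_one,
        sub_self]
    have hsurj : Function.Surjective (Ideal.Quotient.mkₐ k (Ideal.span {y})) :=
      Ideal.Quotient.mkₐ_surjective k _
    have hd : ∀ i, ∀ c, (Ideal.Quotient.mkₐ k (Ideal.span {y})) c = 0 →
        (Ideal.Quotient.mkₐ k (Ideal.span {y})) (D' i c) = 0 := by
      intro i c hc
      rw [Ideal.Quotient.mkₐ_eq_mk, Ideal.Quotient.eq_zero_iff_mem] at hc ⊢
      obtain ⟨b, rfl⟩ := Ideal.mem_span_singleton'.1 hc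
      rw [Derivation.leibniz, hD'y, smul_zero, zero_add, smul_eq_mul]
      exact Ideal.mul_mem_right _ _ (Ideal.mem_span_singleton_self y)
    set D₀ : Fin r → Derivation k (C ⧸ Ideal.span {y}) (C ⧸ Ideal.span {y}) :=
      fun i => Derivation.liftOfSurjective hsurj (hd i) with hD₀
    have key := ih (C ⧸ Ideal.span {y}) ε₀ x₀ D₀ ?_ ?_ ?_
    · rw [hdim, key, pow_succ, mul_comm]
    · -- span
      apply le_antisymm
      · rw [Ideal.span_le]
        rintro _ ⟨i, rfl⟩
        show ε₀ (x₀ i) = 0
        simp only [hε₀, hx₀, Ideal.Quotient.liftₐ_apply, Ideal.Quotient.lift_mk]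
        have : x i.castSucc ∈ Ideal.span (Set.range x) := Ideal.subset_span ⟨_, rfl⟩
        rw [hspan] at this; exact this
      · intro c₀ hc₀
        obtain ⟨c, rfl⟩ := Ideal.Quotient.mk_surjective c₀
        have hc : ε c = 0 := by
          simpa [hε₀] using hc₀
        have hc' : c ∈ Ideal.span (Set.range x) := by rw [hspan]; exact hc
        have hmap : Ideal.Quotient.mk (Ideal.span {y}) c ∈
            (Ideal.span (Set.range x)).map (Ideal.Quotient.mk (Ideal.span {y})) :=
          Ideal.mem_map_of_mem _ hc'
        rw [Ideal.map_span] at hmap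
        refine (Ideal.span_le.2 ?_) hmap
        rintro _ ⟨_, ⟨j, rfl⟩, rfl⟩
        induction j using Fin.lastCases with
        | last =>
          have : Ideal.Quotient.mk (Ideal.span {y}) (x (Fin.last r)) = 0 :=
            Ideal.Quotient.eq_zero_iff_mem.2 (Ideal.mem_span_singleton_self y)
          rw [this]; exact Ideal.zero_mem _
        | cast i => exact Ideal.subset_span ⟨i, rfl⟩
    · intro i
      simp only [hx₀, ← map_pow, hx, map_zero]
    · intro i j
      have h1 : D₀ i (x₀ j) = Ideal.Quotient.mkₐ k (Ideal.span {y}) (D' i (x j.castSucc)) :=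
        Derivation.liftOfSurjective_apply hsurj (hd i) (x j.castSucc)
      rw [h1]
      simp only [hε₀, Ideal.Quotient.mkₐ_eq_mk, Ideal.Quotient.liftₐ_apply, Ideal.Quotient.lift_mk]
      simp only [hD', Derivation.sub_apply, Derivation.smul_apply, smul_eq_mul]
      have h2 : ε (D i.castSucc y) = 0 := by
        rw [hD i.castSucc (Fin.last r), if_neg (Fin.castSucc_lt_last i).ne]
      have h3 : ε (D i.castSucc (x j.castSucc)) = if i = j then 1 else 0 := by
        rw [hD]; simp only [Fin.castSucc_inj]
      simp only [RingHom.coe_coe, map_sub, map_mul, h2, zero_mul, sub_zero, h3]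

end Main

end Groth.Agent.Lib.Helper16.FinHopf
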