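import Groth.Agent.Lib.Helper16.FinHopfInv
import Mathlib.RingTheory.Coalgebra.Convolution
import Mathlib.RingTheory.Bialgebra.Convolution
import Mathlib.LinearAlgebra.TensorProduct.Basis
import Mathlib.LinearAlgebra.FreeModule.Finite.Basic
import Mathlib.LinearAlgebra.Dual.Lemmas

/-!
# The dual algebra of a finite-dimensional bialgebra (helper16)

Separation of `A ⊗ A` by product functionals; cocommutativity from commutativity of the
convolution algebra `Hom(A, k)`.
-/

set_option autoImplicit false

namespace Groth.Agent.Lib.Helper16.FinHopf

open TensorProduct Module WithConv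

universe u v

section Separation

variable {k : Type u} [Field k] {A : Type v} [AddCommGroup A] [Module k A] [Module.Finite k A]

/-- Product functionals separate the points of `A ⊗ A`. -/
theorem eq_zero_of_forall_dual_tmul (t : A ⊗[k] A)
    (h : ∀ f g : A →ₗ[k] k, LinearMap.mul' k k (TensorProduct.map f g t) = 0) : t = 0 := by
  classical
  let b := Module.finBasis k A
  have key : ∀ i j, (Finsupp.lapply (i, j) : _ →ₗ[k] k) ∘ₗ
      ((b.tensorProduct b).repr : A ⊗[k] A →ₗ[k] _) =
      LinearMap.mul' k k ∘ₗ TensorProduct.map (b.coord i) (b.coord j) := by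
    intro i j
    apply TensorProduct.ext'
    intro x y
    simp [Basis.tensorProduct_repr_tmul_apply, mul_comm]
  apply (b.tensorProduct b).repr.injective
  ext ⟨i, j⟩
  have h1 := LinearMap.congr_fun (key i j) t
  simp only [LinearMap.coe_comp, LinearEquiv.coe_coe, Function.comp_apply,
    Finsupp.lapply_apply] at h1
  rw [h1, h, map_zero, Finsupp.zero_apply]

end Separation

section Cocomm

variable {k : Type u} [Field k] {A : Type v} [CommRing A] [Bialgebra k A]

theorem convMul_dual_apply (f g : WithConv (A →ₗ[k] k)) (a : A) :
    (f * g).ofConv a =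
      LinearMap.mul' k k (TensorProduct.map f.ofConv g.ofConv (Coalgebra.comul (R := k) a)) :=
  LinearMap.convMul_apply f g a

/-- If the dual algebra is commutative then the coalgebra is cocommutative. -/
theorem isCocomm_of_dual_comm [Module.Finite k A]
    (h : ∀ f g : WithConv (A →ₗ[k] k), f * g = g * f) : Coalgebra.IsCocomm k A := by
  constructor
  apply LinearMap.ext
  intro a
  rw [← sub_eq_zero]
  apply eq_zero_of_forall_dual_tmul
  intro f g
  have h1 := congrArg (fun φ : WithConv (A →ₗ[k] k) => φ.ofConv a) (h (toConv g) (toConv f))
  simp only [convMul_dual_apply, WithConv.ofConv_toConv] at h1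
  rw [map_sub, map_sub, sub_eq_zero, ← h1]
  simp only [LinearMap.comp_apply, LinearEquiv.coe_coe]
  generalize Coalgebra.comul (R := k) a = t
  induction t using TensorProduct.induction_on with
  | zero => simp
  | add x y hx hy => simp only [map_add, hx, hy]
  | tmul x y => simp [mul_comm]

/-- Right convolution with a functional `d` is precomposition with `(id ⊗ d) ∘ Δ`. -/
theorem convMul_dual_eq_comp (f d : WithConv (A →ₗ[k] k)) (a : A) :
    (f * d).ofConv a = f.ofConv (contractR d.ofConv (Coalgebra.comul (R := k) a)) := by
  rw [convMul_dual_apply]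
  generalize Coalgebra.comul (R := k) a = t
  induction t using TensorProduct.induction_on with
  | zero => simp
  | add x y hx hy => simp only [map_add, hx, hy]
  | tmul x y => simp [mul_comm]

/-- A spanning set of pairwise commuting elements makes the dual algebra commutative. -/
theorem dual_comm_of_span {S : Set (WithConv (A →ₗ[k] k))}
    (hS : Submodule.span k S = ⊤) (hc : ∀ f ∈ S, ∀ g ∈ S, f * g = g * f) :
    ∀ f g : WithConv (A →ₗ[k] k), f * g = g * f := by
  have h1 : ∀ g ∈ S, ∀ f : WithConv (A →ₗ[k] k), f * g = g * f := by
    intro g hg f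
    have hf : f ∈ Submodule.span k S := by rw [hS]; trivial
    induction hf using Submodule.span_induction with
    | mem x hx => exact hc x hx g hg
    | zero => simp
    | add x y _ _ hx hy => rw [add_mul, mul_add, hx, hy]
    | smul c x _ hx => rw [smul_mul_assoc, mul_smul_comm, hx]
  intro f g
  have hg : g ∈ Submodule.span k S := by rw [hS]; trivial
  induction hg using Submodule.span_induction with
  | mem x hx => exact h1 x hx f
  | zero => simp
  | add x y _ _ hx hy => rw [add_mul, mul_add, hx, hy]
  | smul c x _ hx => rw [smul_mul_assoc, mul_smul_comm, hx]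

end Cocomm

end Groth.Agent.Lib.Helper16.FinHopf
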