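import Groth.Agent.Lib.Helper16.FinHopfInv
import Mathlib.RingTheory.MvPolynomial.EulerIdentity
import Mathlib.RingTheory.MvPolynomial.Homogeneous
import Mathlib.Algebra.MvPolynomial.PDeriv
import Mathlib.Data.Sym.Card
import Mathlib.Data.Finsupp.Multiset
import Mathlib.LinearAlgebra.Dimension.Free
import Mathlib.LinearAlgebra.FreeModule.Finite.Basic
import Mathlib.RingTheory.Finiteness.Finsupp
import Mathlib.RingTheory.FiniteType
import Mathlib.RingTheory.Polynomial.Basic
import Mathlib.LinearAlgebra.FiniteDimensional.Lemmas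

/-!
# The associated graded of the augmentation ideal in low degrees (helper16)

For an augmented algebra `(C, ε)` over a field with enough derivations (e.g. a Hopf algebra),
the monomials of degree `n` in a basis of `I/I²` are a basis of `Iⁿ/Iⁿ⁺¹` when `n! ≠ 0`.
-/

set_option autoImplicit false

namespace Groth.Agent.Lib.Helper16.FinHopf

open Module MvPolynomial

universe u v

section General

variable {k : Type u} [Field k] {C : Type v} [CommRing C] [Algebra k C] (ε : C →ₐ[k] k)

/-- chain rule -/
theorem derivation_aeval {r : ℕ} (D : Derivation k C C) (x : Fin r → C)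
    (P : MvPolynomial (Fin r) k) :
    D (aeval x P) = ∑ j, aeval x (pderiv j P) * D (x j) := by
  induction P using MvPolynomial.induction_on with
  | C a => simp
  | add p q hp hq => simp only [map_add, hp, hq, add_mul, Finset.sum_add_distrib]
  | mul_X p i hp =>
    rw [map_mul, aeval_X, Derivation.leibniz, hp]
    simp only [Derivation.leibniz, pderiv_X, smul_eq_mul, map_add, map_mul, aeval_X]
    simp only [add_mul, Finset.sum_add_distrib]
    have h1 : ∑ j, aeval x p * aeval x (Pi.single (M := fun _ => MvPolynomial (Fin r) k) j 1 i) *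
        D (x j) = aeval x p * D (x i) := by
      rw [Finset.sum_eq_single i]
      · simp
      · intro j _ hj
        simp [Pi.single_apply, Ne.symm hj]
      · simp
    rw [h1, Finset.mul_sum]
    congr 1
    refine Finset.sum_congr rfl fun j _ => by ring

/-- A derivation lowers the `I`-adic filtration by one. -/
theorem derivation_pow_succ_le (D : Derivation k C C) (I : Ideal C) (m : ℕ) :
    ∀ a ∈ I ^ (m + 1), D a ∈ I ^ m := by
  induction m with
  | zero => intro a _; simp
  | succ m ih =>
    intro a ha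
    rw [pow_succ] at ha
    refine Submodule.mul_induction_on ha ?_ ?_
    · intro b hb c hc
      rw [Derivation.leibniz, smul_eq_mul, smul_eq_mul]
      refine Ideal.add_mem _ ?_ ?_
      · exact Ideal.mul_mem_right _ _ hb
      · rw [pow_succ, mul_comm (I ^ m)]
        exact Ideal.mul_mem_mul hc (ih b hb)
    · intro b c hb hc
      rw [map_add]
      exact Ideal.add_mem _ hb hc

/-- A homogeneous polynomial of degree `m` evaluated at elements of `I` lies in `I ^ m`. -/
theorem aeval_mem_pow_of_isHomogeneous {r : ℕ} (I : Ideal C) (x : Fin r → C) (hx : ∀ i, x i ∈ I)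
    {m : ℕ} {P : MvPolynomial (Fin r) k} (hP : P.IsHomogeneous m) : aeval x P ∈ I ^ m := by
  classical
  rw [P.as_sum, map_sum]
  refine Ideal.sum_mem _ fun d hd => ?_
  rw [aeval_monomial]
  refine Ideal.mul_mem_left _ _ ?_
  have hdeg : d.degree = m := by
    have := hP (mem_support_iff.1 hd)
    rwa [Finsupp.degree_eq_weight_one]
  rw [← hdeg, Finsupp.degree_apply, Finsupp.prod, ← Finset.prod_pow_eq_pow_sum]
  exact Ideal.prod_mem_prod fun i _ => Ideal.pow_mem_pow (hx i) _

end General

section Graded

variable {k : Type u} [Field k] {C : Type v} [CommRing C] [Algebra k C] (ε : C →ₐ[k] k)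
  {r : ℕ}

/-- Injectivity of `Symᵐ(I/I²) → Iᵐ/Iᵐ⁺¹` when `m! ≠ 0`, given enough derivations. -/
theorem eq_zero_of_aeval_mem_pow_succ (x : Fin r → C) (hx : ∀ i, x i ∈ RingHom.ker ε)
    (D : Fin r → Derivation k C C)
    (hD : ∀ i j, ε (D i (x j)) = if i = j then 1 else 0) :
    ∀ m : ℕ, (m.factorial : k) ≠ 0 → ∀ P : MvPolynomial (Fin r) k, P.IsHomogeneous m →
      aeval x P ∈ (RingHom.ker ε) ^ (m + 1) → P = 0 := by
  intro m
  induction m with
  | zero =>
    intro _ P hP hmem
    rw [← totalDegree_zero_iff_isHomogeneous, totalDegree_eq_zero_iff_eq_C] at hP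
    rw [hP] at hmem ⊢
    rw [aeval_C, zero_add, pow_one, RingHom.mem_ker, AlgHom.commutes] at hmem
    have h0 : coeff 0 P = 0 := by simpa using hmem
    rw [h0, map_zero]
  | succ m ih =>
    intro hfact P hP hmem
    have hm1 : ((m + 1 : ℕ) : k) ≠ 0 := by
      intro h0; apply hfact; rw [Nat.factorial_succ, Nat.cast_mul, h0, zero_mul]
    have hm : (m.factorial : k) ≠ 0 := by
      intro h0; apply hfact; rw [Nat.factorial_succ, Nat.cast_mul, h0, mul_zero]
    have hpdh : ∀ j, (pderiv j P).IsHomogeneous m := fun j => by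
      simpa using hP.pderiv (i := j)
    have hpd : ∀ i, pderiv i P = 0 := by
      intro i
      refine ih hm _ (hpdh i) ?_
      have h1 := derivation_pow_succ_le (D i) (RingHom.ker ε) (m + 1) _ hmem
      rw [derivation_aeval] at h1
      have h2 : ∀ j, aeval x (pderiv j P) * D i (x j) -
          (if i = j then aeval x (pderiv j P) else 0) ∈ (RingHom.ker ε) ^ (m + 1) := by
        intro j
        have h3 : aeval x (pderiv j P) ∈ (RingHom.ker ε) ^ m :=
          aeval_mem_pow_of_isHomogeneous _ x hx (hpdh j)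
        have h4 : D i (x j) - (if i = j then 1 else 0) ∈ RingHom.ker ε := by
          rw [RingHom.mem_ker, map_sub, hD]
          split_ifs <;> simp
        have h5 : aeval x (pderiv j P) * D i (x j) -
            (if i = j then aeval x (pderiv j P) else 0) =
            aeval x (pderiv j P) * (D i (x j) - (if i = j then 1 else 0)) := by
          split_ifs <;> ring
        rw [h5, pow_succ]
        exact Ideal.mul_mem_mul h3 h4
      have h6 : aeval x (pderiv i P) = ∑ j, aeval x (pderiv j P) * D i (x j) -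
          ∑ j, (aeval x (pderiv j P) * D i (x j) -
            (if i = j then aeval x (pderiv j P) else 0)) := by
        rw [Finset.sum_sub_distrib]
        simp
      rw [h6]
      exact Ideal.sub_mem _ h1 (Ideal.sum_mem _ fun j _ => h2 j)
    have heuler := hP.sum_X_mul_pderiv
    simp only [hpd, mul_zero, Finset.sum_const_zero] at heuler
    have h7 : ((m + 1 : ℕ) : k) • P = 0 := by
      rw [Nat.cast_smul_eq_nsmul]; exact heuler.symm
    rcases smul_eq_zero.1 h7 with h8 | h8
    · exact absurd h8 hm1
    · exact h8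

/-- Elements of `I` are linear combinations of the lifted basis modulo `I²`. -/
theorem exists_linear_sub_mem (b : Basis (Fin r) k (RingHom.ker ε).Cotangent)
    (x : Fin r → RingHom.ker ε) (hb : ∀ i, (RingHom.ker ε).toCotangent (x i) = b i)
    (c : C) (hc : c ∈ RingHom.ker ε) :
    ∃ Q : MvPolynomial (Fin r) k, Q.IsHomogeneous 1 ∧
      c - aeval (fun i => (x i : C)) Q ∈ (RingHom.ker ε) ^ 2 := by
  set cc : RingHom.ker ε := ⟨c, hc⟩ with hcc
  refine ⟨∑ i, MvPolynomial.C (b.repr ((RingHom.ker ε).toCotangent cc) i) * MvPolynomial.X i,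
    ?_, ?_⟩
  · refine IsHomogeneous.sum _ _ _ fun i _ => ?_
    have := (isHomogeneous_C (Fin r) (b.repr ((RingHom.ker ε).toCotangent cc) i)).mul
      (isHomogeneous_X k i)
    simpa using this
  · have h1 : (RingHom.ker ε).toCotangent cc =
        (RingHom.ker ε).toCotangent (∑ i, b.repr ((RingHom.ker ε).toCotangent cc) i • x i) := by
      rw [map_sum]
      conv_lhs => rw [← b.sum_repr ((RingHom.ker ε).toCotangent cc)]
      refine Finset.sum_congr rfl fun i _ => ?_
      rw [LinearMap.map_smul_of_tower, hb]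
    rw [Ideal.toCotangent_eq] at h1
    have h3 : ((cc : C) - ((∑ i, b.repr ((RingHom.ker ε).toCotangent cc) i • x i :
        RingHom.ker ε) : C)) = c - aeval (fun i => (x i : C))
          (∑ i, MvPolynomial.C (b.repr ((RingHom.ker ε).toCotangent cc) i) * MvPolynomial.X i) := by
      simp [hcc, Submodule.coe_sum, Submodule.coe_smul_of_tower, Algebra.smul_def]
    rw [h3] at h1
    exact h1

/-- Surjectivity of `Symᵐ(I/I²) → Iᵐ/Iᵐ⁺¹`. -/
theorem exists_isHomogeneous_sub_mem (b : Basis (Fin r) k (RingHom.ker ε).Cotangent)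
    (x : Fin r → RingHom.ker ε) (hb : ∀ i, (RingHom.ker ε).toCotangent (x i) = b i) :
    ∀ m : ℕ, ∀ a ∈ (RingHom.ker ε) ^ m, ∃ P : MvPolynomial (Fin r) k, P.IsHomogeneous m ∧
      a - aeval (fun i => (x i : C)) P ∈ (RingHom.ker ε) ^ (m + 1) := by
  intro m
  induction m with
  | zero =>
    intro a _
    refine ⟨MvPolynomial.C (ε a), isHomogeneous_C _ _, ?_⟩
    rw [zero_add, pow_one, RingHom.mem_ker, map_sub, aeval_C, AlgHom.commutes]
    simp
  | succ m ih =>
    intro a ha
    rw [pow_succ] at ha
    refine Submodule.mul_induction_on ha ?_ ?_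
    · intro b' hb' c hc
      obtain ⟨P, hP, hPm⟩ := ih b' hb'
      obtain ⟨Q, hQ, hQm⟩ := exists_linear_sub_mem ε b x hb c hc
      refine ⟨P * Q, hP.mul hQ, ?_⟩
      have h1 : b' * c - aeval (fun i => (x i : C)) (P * Q) =
          (b' - aeval (fun i => (x i : C)) P) * c +
            aeval (fun i => (x i : C)) P * (c - aeval (fun i => (x i : C)) Q) := by
        rw [map_mul]; ring
      rw [h1]
      refine Ideal.add_mem _ ?_ ?_
      · rw [pow_succ (RingHom.ker ε) (m + 1)]
        exact Ideal.mul_mem_mul hPm hc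
      · have h2 : aeval (fun i => (x i : C)) P ∈ (RingHom.ker ε) ^ m :=
          aeval_mem_pow_of_isHomogeneous _ _ (fun i => (x i).2) hP
        have h3 : (RingHom.ker ε) ^ (m + 1 + 1) = (RingHom.ker ε) ^ m * (RingHom.ker ε) ^ 2 := by
          rw [← pow_add]
        rw [h3]
        exact Ideal.mul_mem_mul h2 hQm
    · intro a₁ a₂ h₁ h₂
      obtain ⟨P₁, hP₁, hm₁⟩ := h₁
      obtain ⟨P₂, hP₂, hm₂⟩ := h₂
      refine ⟨P₁ + P₂, hP₁.add hP₂, ?_⟩
      have : a₁ + a₂ - aeval (fun i => (x i : C)) (P₁ + P₂) =
          (a₁ - aeval (fun i => (x i : C)) P₁) + (a₂ - aeval (fun i => (x i : C)) P₂) := by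
        rw [map_add]; ring
      rw [this]
      exact Ideal.add_mem _ hm₁ hm₂

end Graded

section Count

variable (k : Type u) [Field k]

/-- The number of monomials of degree `m` in `r` variables. -/
theorem finrank_homogeneousSubmodule (r m : ℕ) :
    finrank k (homogeneousSubmodule (Fin r) k m) = (r + m - 1).choose m := by
  classical
  rw [homogeneousSubmodule_eq_finsupp_supported]
  rw [(AddMonoidAlgebra.supportedEquivFinsupp (R := k) (S := k)
    {d : Fin r →₀ ℕ | d.degree = m}).finrank_eq]
  -- the index set is equivalent to `Sym (Fin r) m`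
  have hcard : ∀ d : Fin r →₀ ℕ, Multiset.card (Finsupp.toMultiset d) = d.degree := by
    intro d
    rw [Finsupp.card_toMultiset, Finsupp.degree_apply, Finsupp.sum]
    rfl
  let e : {d : Fin r →₀ ℕ | d.degree = m} ≃ Sym (Fin r) m :=
    { toFun := fun d => ⟨Finsupp.toMultiset d.1, (hcard d.1).trans d.2⟩
      invFun := fun s => ⟨Multiset.toFinsupp s.1, by
        show (Multiset.toFinsupp s.1).degree = m
        rw [← hcard, Multiset.toFinsupp_toMultiset]
        exact s.2⟩
      left_inv := fun d => by
        apply Subtype.ext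
        simp
      right_inv := fun s => by
        apply Subtype.ext
        simp }
  letI : Fintype {d : Fin r →₀ ℕ | d.degree = m} := Fintype.ofEquiv _ e.symm
  rw [Module.finrank_finsupp_self, Fintype.card_congr e, Sym.card_sym_eq_choose, Fintype.card_fin]

end Count

section Assembly

variable {k : Type u} [Field k] {C : Type v} [CommRing C] [Algebra k C] (ε : C →ₐ[k] k) {r : ℕ}

/-- The map `P ↦ [P(x)]` from degree-`m` forms to `C ⧸ I^(m+1)`. -/
noncomputable def gradedMap (x : Fin r → C) (m : ℕ) :
    homogeneousSubmodule (Fin r) k m →ₗ[k] C ⧸ (RingHom.ker ε) ^ (m + 1) :=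
  ((Ideal.Quotient.mkₐ k ((RingHom.ker ε) ^ (m + 1))).toLinearMap ∘ₗ
    (aeval x).toLinearMap) ∘ₗ (homogeneousSubmodule (Fin r) k m).subtype

theorem gradedMap_apply (x : Fin r → C) (m : ℕ) (P : homogeneousSubmodule (Fin r) k m) :
    gradedMap ε x m P = Ideal.Quotient.mk _ (aeval x (P : MvPolynomial (Fin r) k)) := rfl

/-- The projection `C ⧸ I^(m+1) → C ⧸ I^m`. -/
noncomputable abbrev projPow (m : ℕ) :
    (C ⧸ (RingHom.ker ε) ^ (m + 1)) →ₐ[k] C ⧸ (RingHom.ker ε) ^ m :=
  Ideal.Quotient.factorₐ k (Ideal.pow_le_pow_right (Nat.le_succ m))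

theorem exact_gradedMap_projPow (b : Basis (Fin r) k (RingHom.ker ε).Cotangent)
    (x : Fin r → RingHom.ker ε) (hb : ∀ i, (RingHom.ker ε).toCotangent (x i) = b i) (m : ℕ) :
    Function.Exact (gradedMap ε (fun i => (x i : C)) m) (projPow ε m).toLinearMap := by
  intro y
  constructor
  · intro hy
    obtain ⟨a, rfl⟩ := Ideal.Quotient.mk_surjective y
    have ha : a ∈ (RingHom.ker ε) ^ m := by
      rw [← Ideal.Quotient.eq_zero_iff_mem]
      exact hy
    obtain ⟨P, hP, hPm⟩ := exists_isHomogeneous_sub_mem ε b x hb m a ha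
    refine ⟨⟨P, hP⟩, ?_⟩
    rw [gradedMap_apply]
    symm
    rw [← sub_eq_zero, ← map_sub, Ideal.Quotient.eq_zero_iff_mem]
    exact hPm
  · rintro ⟨P, rfl⟩
    rw [gradedMap_apply]
    show Ideal.Quotient.mk ((RingHom.ker ε) ^ m) (aeval (fun i => (x i : C)) (P : MvPolynomial (Fin r) k)) = 0
    rw [Ideal.Quotient.eq_zero_iff_mem]
    exact aeval_mem_pow_of_isHomogeneous _ _ (fun i => (x i).2) P.2

theorem projPow_surjective (m : ℕ) : Function.Surjective (projPow ε m).toLinearMap := by
  intro y
  obtain ⟨a, rfl⟩ := Ideal.Quotient.mk_surjective y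
  exact ⟨Ideal.Quotient.mk _ a, rfl⟩

theorem finite_quotient_pow (b : Basis (Fin r) k (RingHom.ker ε).Cotangent)
    (x : Fin r → RingHom.ker ε) (hb : ∀ i, (RingHom.ker ε).toCotangent (x i) = b i) :
    ∀ m : ℕ, Module.Finite k (C ⧸ (RingHom.ker ε) ^ m) := by
  intro m
  induction m with
  | zero =>
    haveI : Subsingleton (C ⧸ (RingHom.ker ε) ^ 0) := by
      rw [pow_zero, Ideal.one_eq_top]
      exact Ideal.Quotient.subsingleton_iff.2 rfl
    infer_instance
  | succ m ih =>
    haveI := ih
    haveI : Module.Finite k (homogeneousSubmodule (Fin r) k m) :=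
      Module.Finite.iff_fg.2 (homogeneousSubmodule_fg (Fin r) k m)
    exact Module.Finite.of_exact (exact_gradedMap_projPow ε b x hb m) (projPow_surjective ε m)

/-- **Dimension of `C ⧸ I^(m+1)`** when `m! ≠ 0`. -/
theorem finrank_quotient_pow_succ (b : Basis (Fin r) k (RingHom.ker ε).Cotangent)
    (x : Fin r → RingHom.ker ε) (hb : ∀ i, (RingHom.ker ε).toCotangent (x i) = b i)
    (D : Fin r → Derivation k C C)
    (hD : ∀ i j, ε (D i (x j : C)) = if i = j then 1 else 0)
    (m : ℕ) (hm : (m.factorial : k) ≠ 0) :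
    finrank k (C ⧸ (RingHom.ker ε) ^ (m + 1)) =
      finrank k (C ⧸ (RingHom.ker ε) ^ m) + (r + m - 1).choose m := by
  haveI := finite_quotient_pow ε b x hb (m + 1)
  haveI := finite_quotient_pow ε b x hb m
  have hex := exact_gradedMap_projPow ε b x hb m
  have hsurj := projPow_surjective ε m
  have hinj : Function.Injective (gradedMap ε (fun i => (x i : C)) m) := by
    rw [← LinearMap.ker_eq_bot, LinearMap.ker_eq_bot']
    intro P hP
    rw [gradedMap_apply, Ideal.Quotient.eq_zero_iff_mem] at hP
    apply Subtype.ext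
    exact eq_zero_of_aeval_mem_pow_succ ε (fun i => (x i : C)) (fun i => (x i).2) D hD m hm _ P.2 hP
  have h1 := (projPow ε m).toLinearMap.finrank_range_add_finrank_ker
  rw [LinearMap.range_eq_top.2 hsurj, finrank_top] at h1
  have h2 : LinearMap.ker (projPow ε m).toLinearMap =
      LinearMap.range (gradedMap ε (fun i => (x i : C)) m) := (LinearMap.exact_iff.1 hex)
  rw [h2, LinearMap.finrank_range_of_inj hinj, finrank_homogeneousSubmodule] at h1
  exact h1.symm

end Assembly

section Cotangent

variable {k : Type u} [Field k] {C : Type v} [CommRing C] [Algebra k C] (ε : C →ₐ[k] k)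

/-- `C` acts on `I/I²` through `ε`. -/
theorem smul_cotangent (c : C) (m : (RingHom.ker ε).Cotangent) : c • m = ε c • m := by
  obtain ⟨y, rfl⟩ := (RingHom.ker ε).toCotangent_surjective m
  rw [← sub_eq_zero, ← LinearMap.map_smul_of_tower (RingHom.ker ε).toCotangent (ε c) y,
    ← map_smul, ← map_sub, Ideal.toCotangent_eq_zero]
  have h1 : ((c • y - ε c • y : RingHom.ker ε) : C) = (c - algebraMap k C (ε c)) * (y : C) := by
    rw [Submodule.coe_sub, Submodule.coe_smul_of_tower, Submodule.coe_smul_of_tower]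
    simp [Algebra.smul_def, sub_mul]
  rw [h1, pow_two]
  exact Ideal.mul_mem_mul (sub_algebraMap_mem_ker ε c) y.2

/-- If `I = ker ε` is finitely generated then `I/I²` is finite-dimensional. -/
theorem finite_cotangent_of_fg (hfg : (RingHom.ker ε).FG) :
    Module.Finite k (RingHom.ker ε).Cotangent := by
  classical
  obtain ⟨S, hS⟩ := hfg
  have hSI : ∀ s ∈ S, s ∈ RingHom.ker ε := fun s hs => by
    rw [← hS]; exact Submodule.subset_span hs
  set t : S → (RingHom.ker ε).Cotangent :=
    fun s => (RingHom.ker ε).toCotangent ⟨s.1, hSI s.1 s.2⟩ with ht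
  rw [Module.finite_def]
  have htop : (⊤ : Submodule k (RingHom.ker ε).Cotangent) = Submodule.span k (Set.range t) := by
    symm
    rw [eq_top_iff]
    rintro m -
    obtain ⟨y, rfl⟩ := (RingHom.ker ε).toCotangent_surjective m
    have hy : (y : C) ∈ Submodule.span C (S : Set C) :=
      (le_of_eq hS.symm : RingHom.ker ε ≤ Ideal.span (S : Set C)) y.2
    obtain ⟨f, hf⟩ := (Submodule.mem_span_finset' ).1 hy
    have h1 : y = ∑ s : S, f s • (⟨s.1, hSI s.1 s.2⟩ : RingHom.ker ε) := by
      apply Subtype.ext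
      rw [← hf, Submodule.coe_sum]
      refine Finset.sum_congr rfl fun s _ => ?_
      simp
    rw [h1, map_sum]
    refine Submodule.sum_mem _ fun s _ => ?_
    rw [map_smul, smul_cotangent]
    exact Submodule.smul_mem _ _ (Submodule.subset_span ⟨s, rfl⟩)
  rw [htop]
  exact Submodule.fg_span (Set.finite_range t)

end Cotangent

section Hopf

/-- **`dim A/I^(n+1) = dim A/I^n + C(r+n-1, n)`** for a commutative bialgebra with finitely
generated augmentation ideal, `r = dim I/I²`, when `n! ≠ 0`. -/
theorem finrank_quotient_augIdeal_pow_succ (k : Type u) [Field k] (A : Type v) [CommRing A]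
    [Bialgebra k A] (hfg : (RingHom.ker (Bialgebra.counitAlgHom k A)).FG) (n : ℕ)
    (hn : (n.factorial : k) ≠ 0) :
    finrank k (A ⧸ RingHom.ker (Bialgebra.counitAlgHom k A) ^ (n + 1)) =
      finrank k (A ⧸ RingHom.ker (Bialgebra.counitAlgHom k A) ^ n) +
        Nat.choose (finrank k (RingHom.ker (Bialgebra.counitAlgHom k A)).Cotangent + n - 1) n := by
  classical
  set ε := Bialgebra.counitAlgHom k A with hε
  haveI := finite_cotangent_of_fg ε hfg
  set r := finrank k (RingHom.ker ε).Cotangent with hr
  let b : Basis (Fin r) k (RingHom.ker ε).Cotangent := Module.finBasisOfFinrankEq k _ rfl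
  choose x hx using fun i => (RingHom.ker ε).toCotangent_surjective (b i)
  let D : Fin r → Derivation k A A := fun i =>
    invDer (pointDer ε (b.coord i)) (fun a c => pointDer_mul ε (b.coord i) a c)
  refine finrank_quotient_pow_succ ε b x hx D ?_ n hn
  intro i j
  have h1 : ε (D i (x j : A)) = pointDer ε (b.coord i) (x j : A) := counit_invDer _ _ _
  rw [h1, pointDer_apply_of_mem ε _ _ (x j).2]
  have : (⟨(x j : A), (x j).2⟩ : RingHom.ker ε) = x j := rfl
  rw [this, hx, Basis.coord_apply, Basis.repr_self, Finsupp.single_apply]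
  by_cases h : i = j
  · simp [h]
  · simp [h, Ne.symm h]

end Hopf

end Groth.Agent.Lib.Helper16.FinHopf
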