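import Groth.Agent.Lib.Helper16.FinHopfTransl
import Mathlib.FieldTheory.IsAlgClosed.Basic
import Mathlib.RingTheory.Artinian.Ring
import Mathlib.RingTheory.Artinian.Module
import Mathlib.LinearAlgebra.FreeModule.Finite.Matrix
import Mathlib.RingTheory.Ideal.Quotient.Operations
import Mathlib.RingTheory.Jacobson.Ideal
import Mathlib.LinearAlgebra.Dimension.Constructions
import Mathlib.LinearAlgebra.Dimension.Free

/-!
# Rational points and maximal ideals of a finite Hopf algebra over an algebraically closed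
field; decomposition of the dimension (helper16)
-/

set_option autoImplicit false

namespace Groth.Agent.Lib.Helper16.FinHopf

open WithConv Module Function

universe u v

section

variable {k : Type u} [Field k] {A : Type v} [CommRing A] [Algebra k A]

theorem algHom_eq_of_ker_eq (γ γ' : A →ₐ[k] k) (h : RingHom.ker γ = RingHom.ker γ') : γ = γ' := by
  apply AlgHom.ext
  intro a
  have h1 : a - algebraMap k A (γ a) ∈ RingHom.ker γ := by
    rw [RingHom.mem_ker, map_sub, AlgHom.commutes]; simp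
  rw [h, RingHom.mem_ker, map_sub, AlgHom.commutes, sub_eq_zero] at h1
  exact h1.symm

theorem ker_isMaximal (γ : A →ₐ[k] k) : (RingHom.ker γ).IsMaximal :=
  RingHom.ker_isMaximal_of_surjective γ (fun c => ⟨algebraMap k A c, by simp⟩)

theorem exists_algHom_ker_eq [IsAlgClosed k] [Module.Finite k A] (m : Ideal A) [m.IsMaximal] :
    ∃ γ : A →ₐ[k] k, RingHom.ker γ = m := by
  haveI : Module.Finite k (A ⧸ m) :=
    Module.Finite.of_surjective (Ideal.Quotient.mkₐ k m).toLinearMap
      (Ideal.Quotient.mkₐ_surjective k m)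
  haveI : Algebra.IsIntegral k (A ⧸ m) := Algebra.IsIntegral.of_finite k _
  letI := Ideal.Quotient.field m
  have hbij := IsAlgClosed.algebraMap_bijective_of_isIntegral (k := k) (K := A ⧸ m)
  let e : k ≃ₐ[k] A ⧸ m := AlgEquiv.ofBijective (Algebra.ofId k (A ⧸ m)) hbij
  refine ⟨(e.symm : (A ⧸ m) →ₐ[k] k).comp (Ideal.Quotient.mkₐ k m), ?_⟩
  ext a
  rw [RingHom.mem_ker, AlgHom.comp_apply]
  constructor
  · intro h
    have h1 : Ideal.Quotient.mkₐ k m a = 0 := by
      have := congrArg e h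
      simpa using this
    rwa [Ideal.Quotient.mkₐ_eq_mk, Ideal.Quotient.eq_zero_iff_mem] at h1
  · intro h
    have h1 : Ideal.Quotient.mkₐ k m a = 0 := by
      rwa [Ideal.Quotient.mkₐ_eq_mk, Ideal.Quotient.eq_zero_iff_mem]
    rw [h1]; simp

/-- The powers of the kernels of the rational points intersect in zero. -/
theorem iInf_ker_pow_eq_bot [IsAlgClosed k] [Module.Finite k A] (N : ℕ)
    (hN : (Ideal.jacobson (⊥ : Ideal A)) ^ N = ⊥) :
    ⨅ γ : A →ₐ[k] k, (RingHom.ker γ) ^ N = ⊥ := by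
  classical
  haveI : Finite (A →ₐ[k] k) := inferInstance
  cases nonempty_fintype (A →ₐ[k] k)
  have hcop : ((Finset.univ : Finset (A →ₐ[k] k)) : Set (A →ₐ[k] k)).Pairwise
      (IsCoprime on fun γ : A →ₐ[k] k => (RingHom.ker γ) ^ N) := by
    intro γ _ γ' _ hne
    haveI := ker_isMaximal γ
    haveI := ker_isMaximal γ'
    have : RingHom.ker γ ≠ RingHom.ker γ' := fun h => hne (algHom_eq_of_ker_eq γ γ' h)
    exact (Ideal.isCoprime_of_isMaximal this).pow
  have h1 := Ideal.prod_eq_iInf_of_pairwise_isCoprime hcop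
  have h2 : ⨅ γ : A →ₐ[k] k, (RingHom.ker γ) ^ N =
      ⨅ γ ∈ (Finset.univ : Finset (A →ₐ[k] k)), (RingHom.ker γ) ^ N := by simp
  rw [h2, ← h1, Finset.prod_pow, eq_bot_iff, ← hN]
  refine Ideal.pow_right_mono ?_ N
  refine le_trans Ideal.prod_le_inf ?_
  rw [Ideal.jacobson, le_sInf_iff]
  rintro m ⟨-, hm⟩
  haveI := hm
  obtain ⟨γ, rfl⟩ := exists_algHom_ker_eq (k := k) m
  exact Finset.inf_le (Finset.mem_univ γ)

end

section Dim

variable {k : Type u} [Field k] [IsAlgClosed k] {A : Type v} [CommRing A] [HopfAlgebra k A]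
  [Module.Finite k A]

/-- All the local factors have the same dimension, by translation. -/
theorem finrank_quotient_ker_pow (γ : WithConv (A →ₐ[k] k)) (N : ℕ) :
    finrank k (A ⧸ (RingHom.ker γ.ofConv) ^ N) =
      finrank k (A ⧸ (RingHom.ker (Bialgebra.counitAlgHom k A)) ^ N) := by
  have h1 : (RingHom.ker (Bialgebra.counitAlgHom k A)) ^ N =
      ((RingHom.ker γ.ofConv) ^ N).map ((translEquiv γ : A ≃ₐ[k] A) : A →+* A) := by
    rw [Ideal.map_pow, ker_eq_comap_transl γ]
    congr 1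
    have hsurj : Function.Surjective ((translEquiv γ : A ≃ₐ[k] A) : A →+* A) :=
      (translEquiv γ).surjective
    exact (Ideal.map_comap_of_surjective _ hsurj _).symm
  exact (Ideal.quotientEquivAlg _ _ (translEquiv γ) h1).toLinearEquiv.finrank_eq

/-- `dim A = #G(k) * dim (A ⧸ I ^ N)` for `N` large. -/
theorem finrank_eq_card_mul (N : ℕ) (hN : (Ideal.jacobson (⊥ : Ideal A)) ^ N = ⊥) :
    finrank k A = Nat.card (WithConv (A →ₐ[k] k)) *
      finrank k (A ⧸ (RingHom.ker (Bialgebra.counitAlgHom k A)) ^ N) := by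
  classical
  haveI : Finite (A →ₐ[k] k) := inferInstance
  cases nonempty_fintype (A →ₐ[k] k)
  set Ψ : A →ₗ[k] (∀ γ : A →ₐ[k] k, A ⧸ (RingHom.ker γ) ^ N) :=
    LinearMap.pi (fun γ => (Ideal.Quotient.mkₐ k ((RingHom.ker γ) ^ N)).toLinearMap) with hΨ
  have hinj : Function.Injective Ψ := by
    rw [← LinearMap.ker_eq_bot, LinearMap.ker_eq_bot']
    intro a ha
    have h1 : a ∈ ⨅ γ : A →ₐ[k] k, (RingHom.ker γ) ^ N := by
      rw [Ideal.mem_iInf]
      intro γ
      have := congrFun ha γ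
      simpa [hΨ, Ideal.Quotient.eq_zero_iff_mem] using this
    rw [iInf_ker_pow_eq_bot N hN] at h1
    exact h1
  have hsurj : Function.Surjective Ψ := by
    intro g
    have hcop : Pairwise (IsCoprime on fun γ : A →ₐ[k] k => (RingHom.ker γ) ^ N) := by
      intro γ γ' hne
      haveI := ker_isMaximal γ
      haveI := ker_isMaximal γ'
      have : RingHom.ker γ ≠ RingHom.ker γ' := fun h => hne (algHom_eq_of_ker_eq γ γ' h)
      exact (Ideal.isCoprime_of_isMaximal this).pow
    obtain ⟨y, hy⟩ := Ideal.quotientInfToPiQuotient_surj hcop g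
    obtain ⟨a, rfl⟩ := Ideal.Quotient.mk_surjective y
    exact ⟨a, hy⟩
  have e : A ≃ₗ[k] (∀ γ : A →ₐ[k] k, A ⧸ (RingHom.ker γ) ^ N) :=
    LinearEquiv.ofBijective Ψ ⟨hinj, hsurj⟩
  rw [e.finrank_eq, Module.finrank_pi_fintype]
  have h2 : ∀ γ : A →ₐ[k] k, finrank k (A ⧸ (RingHom.ker γ) ^ N) =
      finrank k (A ⧸ (RingHom.ker (Bialgebra.counitAlgHom k A)) ^ N) :=
    fun γ => finrank_quotient_ker_pow (toConv γ) N
  rw [Finset.sum_congr rfl (fun γ _ => h2 γ), Finset.sum_const, smul_eq_mul, Finset.card_univ]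
  congr 1
  rw [Nat.card_congr (WithConv.equiv (A →ₐ[k] k)), Nat.card_eq_fintype_card]

end Dim

end Groth.Agent.Lib.Helper16.FinHopf
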