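import Groth.Agent.Lib.Helper16.FinHopfDual
import Groth.Agent.Lib.Helper16.FinHopfGraded
import Groth.Agent.Lib.Helper16.FinHopfPrimePow
import Groth.Agent.Lib.Helper16.FinHopfCartier
import Groth.Agent.Lib.Helper16.FinHopfPoints
import Groth.Agent.Lib.Helper16.FinHopfAlgClosed
import Mathlib.LinearAlgebra.LinearIndependent.Lemmas
import Mathlib.LinearAlgebra.Matrix.Block
import Mathlib.LinearAlgebra.Matrix.Nondegenerate
import Mathlib.GroupTheory.SpecificGroups.Cyclic.Basic
import Mathlib.RingTheory.HopfAlgebra.Convolution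
import Mathlib.Data.Nat.Prime.Factorial

/-!
# Finite group schemes of prime order are commutative (helper16)
-/

set_option autoImplicit false

namespace Groth.Agent.Lib.Helper16.FinHopf

open TensorProduct Module WithConv

universe u v

section Cot

variable {k : Type u} [Field k] {A : Type v} [CommRing A] [Algebra k A] [Module.Finite k A]
  (ε : A →ₐ[k] k)

/-- A nonzero nilpotent augmentation ideal has a nonzero cotangent space. -/
theorem one_le_finrank_cotangent (hnil : IsNilpotent (RingHom.ker ε))
    (hI : RingHom.ker ε ≠ ⊥) : 1 ≤ finrank k (RingHom.ker ε).Cotangent := by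
  obtain ⟨n₀, hn₀⟩ := hnil
  haveI : Nontrivial A := by
    refine ⟨⟨0, 1, fun h => ?_⟩⟩
    have := congrArg ε h
    simp at this
  haveI := finite_cotangent ε
  by_contra hcon
  have hd0 : finrank k (RingHom.ker ε).Cotangent = 0 := by omega
  have hsub : Subsingleton (RingHom.ker ε).Cotangent := Module.finrank_zero_iff.1 hd0
  rw [Ideal.cotangent_subsingleton_iff] at hsub
  have hidem : ∀ m : ℕ, 1 ≤ m → (RingHom.ker ε) ^ m = RingHom.ker ε := by
    intro m hm
    induction m with
    | zero => omega
    | succ m ihm =>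
      by_cases hm0 : m = 0
      · subst hm0; simp
      · rw [pow_succ, ihm (by omega)]; exact hsub
  by_cases hn0 : n₀ = 0
  · subst hn0
    rw [pow_zero] at hn₀
    have : (1 : A) ∈ (⊥ : Ideal A) := by
      have h1 : (1 : A) ∈ (1 : Ideal A) := by simp
      rw [hn₀] at h1; exact h1
    exact one_ne_zero ((Ideal.mem_bot).1 this)
  · apply hI
    rw [← hidem n₀ (by omega)]
    exact hn₀

end Cot

section DualFin

variable {k : Type u} [Field k] {A : Type v} [AddCommGroup A] [Module k A] [Module.Finite k A]

instance finite_dual_conv : Module.Finite k (WithConv (A →ₗ[k] k)) :=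
  Module.Finite.equiv (WithConv.linearEquiv k (A →ₗ[k] k)).symm

theorem finrank_dual_conv : finrank k (WithConv (A →ₗ[k] k)) = finrank k A := by
  rw [(WithConv.linearEquiv k (A →ₗ[k] k)).finrank_eq]
  exact Subspace.dual_finrank_eq

end DualFin

section Points

variable {k : Type u} [Field k] {A : Type v} [CommRing A] [HopfAlgebra k A] [Module.Finite k A]

/-- If there are as many points as the dimension, and the group of points is commutative, the
dual algebra is commutative. -/
theorem dual_comm_of_card_points (hcard : Nat.card (WithConv (A →ₐ[k] k)) = finrank k A)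
    (hcomm : ∀ γ γ' : WithConv (A →ₐ[k] k), γ * γ' = γ' * γ) :
    ∀ f g : WithConv (A →ₗ[k] k), f * g = g * f := by
  classical
  haveI : Finite (A →ₐ[k] k) := inferInstance
  cases nonempty_fintype (A →ₐ[k] k)
  set φ : (A →ₐ[k] k) → WithConv (A →ₗ[k] k) := fun γ => toConv γ.toLinearMap with hφ
  have hli : LinearIndependent k φ := by
    have h1 := linearIndependent_algHom_toLinearMap k A k
    exact h1.map' (WithConv.linearEquiv k (A →ₗ[k] k)).symm.toLinearMap
      (LinearEquiv.ker _)
  have hcard' : Fintype.card (A →ₐ[k] k) = finrank k (WithConv (A →ₗ[k] k)) := by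
    rw [finrank_dual_conv, ← hcard, ← Nat.card_eq_fintype_card]
    exact Nat.card_congr (WithConv.equiv _).symm
  have hspan := hli.span_eq_top_of_card_eq_finrank' hcard'
  refine dual_comm_of_span hspan ?_
  rintro _ ⟨γ, rfl⟩ _ ⟨γ', rfl⟩
  have h1 := hcomm (toConv γ) (toConv γ')
  have h2 := congrArg (fun δ : WithConv (A →ₐ[k] k) => toConv δ.ofConv.toLinearMap) h1
  exact h2

end Points

section LocalCase

variable {k : Type u} [Field k] (p : ℕ) [Fact p.Prime] [CharP k p]
  {A : Type v} [CommRing A] [Bialgebra k A] [Module.Finite k A]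

/-- An infinitesimal group scheme of order `p` has commutative dual algebra. -/
theorem dual_comm_of_finrank_eq_prime_of_isNilpotent
    (hnil : IsNilpotent (RingHom.ker (Bialgebra.counitAlgHom k A))) (hdim : finrank k A = p) :
    ∀ f g : WithConv (A →ₗ[k] k), f * g = g * f := by
  classical
  have hpp : p.Prime := Fact.out
  set ε := Bialgebra.counitAlgHom k A with hε
  set I := RingHom.ker ε with hI
  have hI0 : I ≠ ⊥ := by
    intro hI0
    have hinj : Function.Injective ε := (RingHom.injective_iff_ker_eq_bot ε.toRingHom).2 hI0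
    have hsurj : Function.Surjective ε := fun c => ⟨algebraMap k A c, by simp⟩
    have e : A ≃ₗ[k] k := LinearEquiv.ofBijective ε.toLinearMap ⟨hinj, hsurj⟩
    rw [e.finrank_eq, Module.finrank_self] at hdim
    exact hpp.one_lt.ne hdim
  have hd1 := one_le_finrank_cotangent ε hnil hI0
  haveI := finite_cotangent ε
  let b : Basis (Fin (finrank k I.Cotangent)) k I.Cotangent := Module.finBasis k _
  let i₀ : Fin (finrank k I.Cotangent) := ⟨0, hd1⟩
  obtain ⟨x, hx⟩ := I.toCotangent_surjective (b i₀)
  set d₀ := pointDer ε (b.coord i₀) with hd₀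
  set D : Derivation k A A := invDer d₀ (fun a c => pointDer_mul ε (b.coord i₀) a c) with hD
  have hDx : ε (D (x : A)) = 1 := by
    have h1 : ε (D (x : A)) = d₀ (x : A) := counit_invDer _ _ _
    rw [h1, hd₀, pointDer_apply_of_mem ε _ _ x.2]
    have : (⟨(x : A), x.2⟩ : I) = x := rfl
    rw [this, hx, Basis.coord_apply, Basis.repr_self, Finsupp.single_apply]
    simp
  set DL : A →ₗ[k] A := D.toLinearMap with hDL
  have hDLa : ∀ a, DL a = D a := fun a => rfl
  set dconv : WithConv (A →ₗ[k] k) := toConv d₀ with hdconv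
  -- convolution powers of `d`
  have hpow : ∀ (i : ℕ) (a : A), (dconv ^ i).ofConv a = ε ((DL ^ i) a) := by
    intro i
    induction i with
    | zero =>
      intro a
      rw [pow_zero, pow_zero]
      show algebraMap k k (Coalgebra.counit (R := k) a) = ε a
      rfl
    | succ i ih =>
      intro a
      rw [pow_succ, convMul_dual_eq_comp, ih, pow_succ]
      rfl
  -- the filtration
  have hfil : ∀ (i j : ℕ) (a : A), a ∈ I ^ (i + j) → (DL ^ i) a ∈ I ^ j := by
    intro i
    induction i with
    | zero => intro j a ha; simpa using ha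
    | succ i ih =>
      intro j a ha
      rw [pow_succ, Module.End.mul_apply]
      apply ih
      rw [hDLa]
      apply derivation_pow_succ_le D I (i + j)
      have : i + 1 + j = i + j + 1 := by ring
      rwa [this] at ha
  have hxI : ∀ j : ℕ, (x : A) ^ j ∈ I ^ j := fun j => Ideal.pow_mem_pow x.2 j
  have hupper : ∀ i j : ℕ, i < j → ε ((DL ^ i) ((x : A) ^ j)) = 0 := by
    intro i j hij
    have h1 : (DL ^ i) ((x : A) ^ j) ∈ I ^ (j - i) := by
      apply hfil
      have : i + (j - i) = j := by omega
      rw [this]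
      exact hxI j
    have h2 : I ^ (j - i) ≤ I := Ideal.pow_le_self (by omega)
    exact h2 h1
  have hdiag : ∀ i : ℕ, ε ((DL ^ i) ((x : A) ^ i)) = (i.factorial : k) := by
    intro i
    induction i with
    | zero => simp
    | succ i ih =>
      rw [pow_succ DL, Module.End.mul_apply, hDLa, Derivation.leibniz_pow]
      simp only [Nat.add_sub_cancel]
      have h1 : ((i + 1 : ℕ) • ((x : A) ^ i • D (x : A))) =
          ((i + 1 : ℕ) : k) • (x : A) ^ i + ((i + 1 : ℕ) : k) • ((x : A) ^ i * (D (x : A) - 1)) := by
        rw [Nat.cast_smul_eq_nsmul, Nat.cast_smul_eq_nsmul, smul_eq_mul]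
        rw [← smul_add]
        congr 1
        ring
      rw [h1, map_add, map_add, map_smul, map_smul, map_smul, map_smul, ih]
      have h2 : (x : A) ^ i * (D (x : A) - 1) ∈ I ^ (i + 1) := by
        rw [pow_succ]
        refine Ideal.mul_mem_mul (hxI i) ?_
        show ε (D (x : A) - 1) = 0
        rw [map_sub, hDx, map_one, sub_self]
      have h3 : ε ((DL ^ i) ((x : A) ^ i * (D (x : A) - 1))) = 0 := by
        have h4 := hfil i 1 _ h2
        rw [pow_one] at h4
        exact h4
      rw [h3, smul_zero, add_zero, Nat.factorial_succ, Nat.cast_mul, smul_eq_mul]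
  -- the matrix
  set M : Matrix (Fin p) (Fin p) k := fun j i => ε ((DL ^ (i : ℕ)) ((x : A) ^ (j : ℕ))) with hM
  have hMtri : M.BlockTriangular id := by
    intro j i hij
    exact hupper i j hij
  have hdet : M.det ≠ 0 := by
    rw [Matrix.det_of_upperTriangular hMtri]
    rw [Finset.prod_ne_zero_iff]
    intro i _
    show ε ((DL ^ (i : ℕ)) ((x : A) ^ (i : ℕ))) ≠ 0
    rw [hdiag]
    intro h0
    rw [CharP.cast_eq_zero_iff k p, Nat.Prime.dvd_factorial hpp] at h0
    exact absurd i.2 (not_lt.2 h0)
  have hli : LinearIndependent k (fun i : Fin p => dconv ^ (i : ℕ)) := by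
    rw [Fintype.linearIndependent_iff]
    intro c hc
    have hv : M.mulVec c = 0 := by
      funext j
      have h1 := congrArg (fun φ : WithConv (A →ₗ[k] k) => φ.ofConv ((x : A) ^ (j : ℕ))) hc
      simp only [WithConv.ofConv_sum, WithConv.ofConv_smul, LinearMap.sum_apply,
        LinearMap.smul_apply, hpow, WithConv.ofConv_zero, LinearMap.zero_apply] at h1
      rw [Matrix.mulVec, dotProduct, Pi.zero_apply, ← h1]
      refine Finset.sum_congr rfl fun i _ => ?_
      rw [smul_eq_mul, mul_comm]
    have := Matrix.eq_zero_of_mulVec_eq_zero hdet hv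
    intro i
    exact congrFun this i
  have hcard : Fintype.card (Fin p) = finrank k (WithConv (A →ₗ[k] k)) := by
    rw [finrank_dual_conv, hdim, Fintype.card_fin]
  have hspan := hli.span_eq_top_of_card_eq_finrank' hcard
  refine dual_comm_of_span hspan ?_
  rintro _ ⟨i, rfl⟩ _ ⟨j, rfl⟩
  show dconv ^ (i : ℕ) * dconv ^ (j : ℕ) = dconv ^ (j : ℕ) * dconv ^ (i : ℕ)
  rw [← pow_add, ← pow_add, add_comm]

end LocalCase

section Main

variable {k : Type u} [Field k] [IsAlgClosed k] {A : Type v} [CommRing A] [HopfAlgebra k A]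
  [Module.Finite k A]

/-- **A finite group scheme of prime order over an algebraically closed field is commutative.** -/
theorem isCocomm_of_finrank_eq_prime (p : ℕ) (hp : p.Prime) (hA : finrank k A = p) :
    Coalgebra.IsCocomm k A := by
  classical
  apply isCocomm_of_dual_comm
  haveI : IsArtinianRing A := IsArtinianRing.of_finite k A
  obtain ⟨N₁, hN₁⟩ := IsArtinianRing.isNilpotent_jacobson_bot (R := A)
  obtain ⟨N, hle, hN0, hNN⟩ := exists_pow_stable
    (RingHom.ker (Bialgebra.counitAlgHom k A)) N₁
  have hjac : (Ideal.jacobson (⊥ : Ideal A)) ^ N = ⊥ := by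
    have h1 : (Ideal.jacobson (⊥ : Ideal A)) ^ N ≤ (Ideal.jacobson (⊥ : Ideal A)) ^ N₁ :=
      Ideal.pow_le_pow_right hle
    rw [hN₁] at h1
    exact le_bot_iff.1 h1
  have hcard := finrank_eq_card_mul (k := k) (A := A) N hjac
  set I := RingHom.ker (Bialgebra.counitAlgHom k A) with hI
  rw [hA] at hcard
  rcases (Nat.Prime.eq_one_or_self_of_dvd hp (Nat.card (WithConv (A →ₐ[k] k)))
    ⟨_, hcard⟩) with hr1 | hrp
  · -- the infinitesimal case
    have hq : finrank k (A ⧸ I ^ N) = finrank k A := by
      rw [hA, hcard, hr1, one_mul]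
    have hIN : I ^ N = ⊥ := by
      have hsurj : Function.Surjective (Ideal.Quotient.mkₐ k (I ^ N)).toLinearMap :=
        Ideal.Quotient.mkₐ_surjective k _
      have hinj := (LinearMap.injective_iff_surjective_of_finrank_eq_finrank hq.symm).2 hsurj
      rw [eq_bot_iff]
      intro a ha
      have h1 : (Ideal.Quotient.mkₐ k (I ^ N)).toLinearMap a = 0 := by
        show Ideal.Quotient.mk (I ^ N) a = 0
        exact Ideal.Quotient.eq_zero_iff_mem.2 ha
      rw [← map_zero (Ideal.Quotient.mkₐ k (I ^ N)).toLinearMap] at h1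
      exact hinj h1
    have hnil : IsNilpotent I := ⟨N, hIN⟩
    obtain ⟨ℓ, hℓ⟩ := CharP.exists k
    rcases CharP.char_is_prime_or_zero k ℓ with hℓp | hℓ0
    · haveI : Fact ℓ.Prime := ⟨hℓp⟩
      obtain ⟨m, hm⟩ := exists_finrank_eq_prime_pow ℓ _ A hnil le_rfl
      rw [hA] at hm
      obtain ⟨rfl, -⟩ := (Nat.Prime.pow_eq_iff hp).1 hm.symm
      exact dual_comm_of_finrank_eq_prime_of_isNilpotent ℓ hnil hA
    · subst hℓ0
      haveI : CharZero k := CharP.charP_to_charZero k
      have hbot := ker_counit_eq_bot_of_charZero A hnil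
      exfalso
      have hinj : Function.Injective (Bialgebra.counitAlgHom k A) :=
        (RingHom.injective_iff_ker_eq_bot (Bialgebra.counitAlgHom k A).toRingHom).2 hbot
      have hsurj : Function.Surjective (Bialgebra.counitAlgHom k A) :=
        fun c => ⟨algebraMap k A c, by simp⟩
      have e : A ≃ₗ[k] k :=
        LinearEquiv.ofBijective (Bialgebra.counitAlgHom k A).toLinearMap ⟨hinj, hsurj⟩
      rw [e.finrank_eq, Module.finrank_self] at hA
      exact hp.one_lt.ne hA
  · -- as many points as the dimension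
    refine dual_comm_of_card_points (by rw [hrp, hA]) ?_
    haveI : Fact p.Prime := ⟨hp⟩
    haveI := isCyclic_of_prime_card (α := WithConv (A →ₐ[k] k)) hrp
    intro γ γ'
    exact (IsCyclic.commGroup (α := WithConv (A →ₐ[k] k))).mul_comm γ γ'

end Main

end Groth.Agent.Lib.Helper16.FinHopf
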