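import Groth.Agent.Lib.Helper16.FinHopfEtale
import Groth.Agent.Lib.Helper16.FinHopfPrimeOrder
import Groth.Agent.Lib.Helper16.FinHopfMain
import Mathlib.LinearAlgebra.FreeModule.Finite.Matrix
import Mathlib.RingTheory.TensorProduct.Maps

/-!
# Geometric points of an étale finite group scheme and the dual algebra (helper16)
-/

set_option autoImplicit false

namespace Groth.Agent.Lib.Helper16.FinHopf

open TensorProduct Module WithConv

universe u v w

section Count

variable (k : Type u) [Field k] (A : Type v) [CommRing A] [HopfAlgebra k A] [Module.Finite k A]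

/-- Over an algebraically closed field, a finite group scheme with idempotent augmentation ideal
has as many points as its order. -/
theorem card_points_of_idem_algClosed [IsAlgClosed k]
    (h : IsIdempotentElem (RingHom.ker (Bialgebra.counitAlgHom k A))) :
    Nat.card (WithConv (A →ₐ[k] k)) = finrank k A := by
  classical
  haveI : IsArtinianRing A := IsArtinianRing.of_finite k A
  obtain ⟨N₁, hN₁⟩ := IsArtinianRing.isNilpotent_jacobson_bot (R := A)
  obtain ⟨N, hle, hN0, hNN⟩ := exists_pow_stable
    (RingHom.ker (Bialgebra.counitAlgHom k A)) N₁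
  have hjac : (Ideal.jacobson (⊥ : Ideal A)) ^ N = ⊥ := by
    have h1 : (Ideal.jacobson (⊥ : Ideal A)) ^ N ≤ (Ideal.jacobson (⊥ : Ideal A)) ^ N₁ :=
      Ideal.pow_le_pow_right hle
    rw [hN₁] at h1
    exact le_bot_iff.1 h1
  have hcard := finrank_eq_card_mul (k := k) (A := A) N hjac
  have hpow : (RingHom.ker (Bialgebra.counitAlgHom k A)) ^ N =
      RingHom.ker (Bialgebra.counitAlgHom k A) := by
    have h5 := h.pow_succ_eq (N - 1)
    have h6 : N - 1 + 1 = N := by omega
    rwa [h6] at h5
  have hsurj : Function.Surjective (Bialgebra.counitAlgHom k A) :=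
    fun c => ⟨algebraMap k A c, by simp⟩
  have h1 : finrank k (A ⧸ (RingHom.ker (Bialgebra.counitAlgHom k A)) ^ N) = 1 := by
    rw [hpow]
    rw [(Ideal.quotientKerAlgEquivOfSurjective hsurj).toLinearEquiv.finrank_eq,
      Module.finrank_self]
  rw [hcard, h1, mul_one]

/-- An étale finite group scheme of order `n` has `n` geometric points. -/
theorem card_algHom_algebraicClosure [Algebra.Etale k A] :
    Nat.card (A →ₐ[k] AlgebraicClosure k) = finrank k A := by
  haveI : Algebra.Etale (AlgebraicClosure k) (AlgebraicClosure k ⊗[k] A) := inferInstance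
  have hidem := (formallyUnramified_iff_idem (AlgebraicClosure k)
    (AlgebraicClosure k ⊗[k] A)).1 inferInstance
  have h1 := card_points_of_idem_algClosed (AlgebraicClosure k) (AlgebraicClosure k ⊗[k] A) hidem
  rw [Module.finrank_baseChange] at h1
  rw [← h1]
  exact Nat.card_congr ((Algebra.TensorProduct.liftEquivRight k (AlgebraicClosure k) A
    (AlgebraicClosure k)).trans (WithConv.equiv _).symm)

end Count

section DualK

variable {k : Type u} [Field k] {A : Type v} [CommRing A] [HopfAlgebra k A]
  [Coalgebra.IsCocomm k A] [Module.Finite k A] (K : Type w) [Field K] [Algebra k K]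

/-- Points as elements of the dual algebra `Hom_k(A, K)`. -/
def pointToDual (γ : WithConv (A →ₐ[k] K)) : WithConv (A →ₗ[k] K) :=
  toConv γ.ofConv.toLinearMap

theorem pointToDual_one : pointToDual K (1 : WithConv (A →ₐ[k] K)) = 1 := rfl

theorem pointToDual_mul (γ γ' : WithConv (A →ₐ[k] K)) :
    pointToDual K (γ * γ') = pointToDual K γ * pointToDual K γ' := rfl

theorem pointToDual_pow (γ : WithConv (A →ₐ[k] K)) (m : ℕ) :
    pointToDual K (γ ^ m) = pointToDual K γ ^ m :=
  AlgHom.toLinearMap_convPow γ m

theorem pointToDual_apply (γ : WithConv (A →ₐ[k] K)) (a : A) :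
    (pointToDual K γ).ofConv a = γ.ofConv a := rfl

theorem linearIndependent_pointToDual :
    LinearIndependent K (pointToDual K : WithConv (A →ₐ[k] K) → WithConv (A →ₗ[k] K)) := by
  have h1 := linearIndependent_algHom_toLinearMap k A K
  have h2 := h1.map' (WithConv.linearEquiv K (A →ₗ[k] K)).symm.toLinearMap (LinearEquiv.ker _)
  exact h2.comp (fun γ : WithConv (A →ₐ[k] K) => γ.ofConv) WithConv.ofConv_injective

instance finite_dualK : Module.Finite K (WithConv (A →ₗ[k] K)) :=
  Module.Finite.equiv (WithConv.linearEquiv K (A →ₗ[k] K)).symm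

theorem finrank_dualK : finrank K (WithConv (A →ₗ[k] K)) = finrank k A := by
  rw [(WithConv.linearEquiv K (A →ₗ[k] K)).finrank_eq]
  exact Module.finrank_linearMap_self k K A

theorem span_pointToDual (hcard : Nat.card (A →ₐ[k] K) = finrank k A) :
    Submodule.span K (Set.range (pointToDual K :
      WithConv (A →ₐ[k] K) → WithConv (A →ₗ[k] K))) = ⊤ := by
  classical
  haveI : Finite (WithConv (A →ₐ[k] K)) := by
    haveI : Nontrivial A := nontrivial_of_counit k A
    have hpos : 0 < Nat.card (A →ₐ[k] K) := by rw [hcard]; exact Module.finrank_pos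
    haveI : Finite (A →ₐ[k] K) := (Nat.card_pos_iff.1 hpos).2
    exact Finite.of_equiv _ (WithConv.equiv _).symm
  cases nonempty_fintype (WithConv (A →ₐ[k] K))
  refine (linearIndependent_pointToDual K).span_eq_top_of_card_eq_finrank' ?_
  rw [finrank_dualK, ← hcard, ← Nat.card_eq_fintype_card]
  exact Nat.card_congr (WithConv.equiv _)

theorem nontrivial_dualK : Nontrivial (WithConv (A →ₗ[k] K)) := by
  refine ⟨⟨0, 1, fun h => ?_⟩⟩
  have h1 := congrArg (fun F : WithConv (A →ₗ[k] K) => F.ofConv 1) h
  simp only [WithConv.ofConv_zero, LinearMap.zero_apply] at h1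
  have h2 : (1 : WithConv (A →ₗ[k] K)).ofConv 1 = algebraMap k K (Coalgebra.counit (R := k) (1 : A)) :=
    rfl
  rw [h2, Bialgebra.counit_one, map_one] at h1
  exact zero_ne_one h1

/-- In characteristic `p`, if the points span the dual algebra and the group of points has
order `p ^ n`, then `F ^ (p ^ n) = F(1) ^ (p ^ n)` in the dual algebra. -/
theorem dualK_pow_eq (p : ℕ) [Fact p.Prime] [CharP K p] (n : ℕ)
    (hcard : Nat.card (A →ₐ[k] K) = finrank k A) (hn : finrank k A = p ^ n)
    (F : WithConv (A →ₗ[k] K)) :
    F ^ (p ^ n) = (F.ofConv 1) ^ (p ^ n) • (1 : WithConv (A →ₗ[k] K)) := by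
  classical
  haveI := nontrivial_dualK (k := k) (A := A) K
  haveI : CharP (WithConv (A →ₗ[k] K)) p :=
    charP_of_injective_algebraMap (algebraMap K (WithConv (A →ₗ[k] K))).injective p
  haveI : Finite (WithConv (A →ₐ[k] K)) := by
    haveI : Nontrivial A := nontrivial_of_counit k A
    have hpos : 0 < Nat.card (A →ₐ[k] K) := by rw [hcard]; exact Module.finrank_pos
    haveI : Finite (A →ₐ[k] K) := (Nat.card_pos_iff.1 hpos).2
    exact Finite.of_equiv _ (WithConv.equiv _).symm
  cases nonempty_fintype (WithConv (A →ₐ[k] K))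
  have hcardΓ : Nat.card (WithConv (A →ₐ[k] K)) = p ^ n := by
    rw [← hn, ← hcard]
    exact Nat.card_congr (WithConv.equiv _)
  have hF : F ∈ Submodule.span K (Set.range (pointToDual K :
      WithConv (A →ₐ[k] K) → WithConv (A →ₗ[k] K))) := by
    rw [span_pointToDual K hcard]; trivial
  obtain ⟨c, rfl⟩ := (Submodule.mem_span_range_iff_exists_fun K).1 hF
  rw [sum_pow_char_pow]
  have h1 : ∀ γ : WithConv (A →ₐ[k] K), (c γ • pointToDual K γ) ^ p ^ n =
      (c γ) ^ p ^ n • (1 : WithConv (A →ₗ[k] K)) := by
    intro γ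
    have hγ : γ ^ (p ^ n) = 1 := by
      rw [← hn]
      exact convPow_finrank_eq_one k A K γ.ofConv
    rw [smul_pow, ← pointToDual_pow, hγ, pointToDual_one]
  rw [Finset.sum_congr rfl fun γ _ => h1 γ, ← Finset.sum_smul]
  congr 1
  have h2 : (∑ γ, c γ • pointToDual K γ : WithConv (A →ₗ[k] K)).ofConv 1 = ∑ γ, c γ := by
    simp only [WithConv.ofConv_sum, WithConv.ofConv_smul, LinearMap.sum_apply,
      LinearMap.smul_apply, pointToDual_apply, map_one, smul_eq_mul, mul_one]
  rw [h2, sum_pow_char_pow]

end DualK

section LocalDual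

variable {k : Type u} [Field k] {A : Type v} [CommRing A] [HopfAlgebra k A]
  [Coalgebra.IsCocomm k A] [Module.Finite k A]

/-- Post-composition with `k → K` as a ring homomorphism of dual algebras. -/
noncomputable def dualToDualK (K : Type w) [Field K] [Algebra k K] :
    WithConv (A →ₗ[k] k) →+* WithConv (A →ₗ[k] K) where
  toFun f := toConv ((Algebra.ofId k K).toLinearMap ∘ₗ f.ofConv)
  map_one' := by
    apply WithConv.ofConv_injective
    apply LinearMap.ext
    intro a
    show algebraMap k K (algebraMap k k (Coalgebra.counit (R := k) a)) =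
      algebraMap k K (Coalgebra.counit (R := k) a)
    rfl
  map_mul' f g := by
    apply WithConv.ofConv_injective
    exact LinearMap.algHom_comp_convMul_distrib (Algebra.ofId k K) f g
  map_zero' := by
    apply WithConv.ofConv_injective
    simp
  map_add' f g := by
    apply WithConv.ofConv_injective
    simp [LinearMap.comp_add]

theorem dualToDualK_apply (K : Type w) [Field K] [Algebra k K] (f : WithConv (A →ₗ[k] k))
    (a : A) : (dualToDualK K f).ofConv a = algebraMap k K (f.ofConv a) := rfl

theorem dualToDualK_injective (K : Type w) [Field K] [Algebra k K] :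
    Function.Injective (dualToDualK (k := k) (A := A) K) := by
  intro f g h
  apply WithConv.ofConv_injective
  apply LinearMap.ext
  intro a
  have h1 := congrArg (fun F : WithConv (A →ₗ[k] K) => F.ofConv a) h
  simp only [dualToDualK_apply] at h1
  exact (algebraMap k K).injective h1

/-- **The Cartier dual of an étale group scheme of `p`-power order in characteristic `p` is
infinitesimal.** -/
theorem isLocalRing_dual_of_etale (p : ℕ) [Fact p.Prime] [CharP k p] [Algebra.Etale k A] (n : ℕ)
    (hn : finrank k A = p ^ n) : IsLocalRing (WithConv (A →ₗ[k] k)) := by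
  haveI : CharP (AlgebraicClosure k) p := charP_of_injective_algebraMap
    (algebraMap k (AlgebraicClosure k)).injective p
  have hcard := card_algHom_algebraicClosure k A
  have hnilp : ∀ f : WithConv (A →ₗ[k] k), f.ofConv 1 = 0 → f ^ (p ^ n) = 0 := by
    intro f hf
    apply dualToDualK_injective (AlgebraicClosure k)
    rw [map_pow, map_zero, dualK_pow_eq (AlgebraicClosure k) p n hcard hn, dualToDualK_apply, hf,
      map_zero, zero_pow (pow_ne_zero _ (Fact.out : p.Prime).ne_zero), zero_smul]
  haveI := nontrivial_dualK (k := k) (A := A) k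
  refine IsLocalRing.of_isUnit_or_isUnit_one_sub_self fun f => ?_
  by_cases hf : f.ofConv 1 = 0
  · right
    exact (IsNilpotent.isUnit_one_sub ⟨p ^ n, hnilp f hf⟩)
  · left
    set c := f.ofConv 1 with hc
    have h1 : (f - c • (1 : WithConv (A →ₗ[k] k))).ofConv 1 = 0 := by
      have h2 : (1 : WithConv (A →ₗ[k] k)).ofConv 1 =
          algebraMap k k (Coalgebra.counit (R := k) (1 : A)) := rfl
      simp only [WithConv.ofConv_sub, WithConv.ofConv_smul, LinearMap.sub_apply,
        LinearMap.smul_apply, h2, Bialgebra.counit_one, map_one, smul_eq_mul, mul_one]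
      rw [← hc, sub_self]
    have h3 : IsNilpotent (f - c • (1 : WithConv (A →ₗ[k] k))) := ⟨p ^ n, hnilp _ h1⟩
    have h4 : IsUnit (c • (1 : WithConv (A →ₗ[k] k))) := by
      have : c • (1 : WithConv (A →ₗ[k] k)) = algebraMap k _ c := by
        rw [Algebra.algebraMap_eq_smul_one]
      rw [this]
      exact (IsUnit.mk0 c hf).map _
    have h5 : f = c • (1 : WithConv (A →ₗ[k] k)) + (f - c • (1 : WithConv (A →ₗ[k] k))) := by ring
    rw [h5]
    exact h3.isUnit_add_left_of_commute h4 (Commute.all _ _)

end LocalDual

end Groth.Agent.Lib.Helper16.FinHopf
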