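import Mathlib.LinearAlgebra.TensorProduct.RightExactness
import Mathlib.RingTheory.Bialgebra.Basic
import Mathlib.LinearAlgebra.Dimension.Constructions
import Mathlib.LinearAlgebra.Dimension.Free
import Mathlib.LinearAlgebra.FiniteDimensional.Lemmas
import Mathlib.LinearAlgebra.FreeModule.Finite.Basic
import Mathlib.RingTheory.Ideal.Quotient.Operations
import Mathlib.RingTheory.Ideal.Maps
import Mathlib.RingTheory.Noetherian.Basic
import Mathlib.RingTheory.TensorProduct.Finite

/-!
# Freeness over a sub-bialgebra, local case (helper16)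

`finrank_eq_finrank_mul`: for a finite-dimensional commutative bialgebra `H` with nilpotent
augmentation ideal and a subalgebra `B` with `(id ⊗ π) Δ b = b ⊗ 1`, `π : H → H/B⁺H`:
`dim H = dim B * dim H/B⁺H`.
-/

set_option autoImplicit false

namespace Groth.Agent.Lib.Helper16.FinHopf

open TensorProduct Module

universe u v

section Nak

/-- An elementary Nakayama-type lemma for a nilpotent ideal generated by a set `S`. -/
theorem nak {R : Type*} [CommRing R] (S : Set R) (N : AddSubgroup R) (n₀ : ℕ)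
    (hnil : (Ideal.span S) ^ n₀ = ⊥) (hstab : ∀ σ ∈ S, ∀ x ∈ N, σ * x ∈ N)
    (happrox : ∀ r : R, ∃ x ∈ N, r - x ∈ Ideal.span S) (r : R) : r ∈ N := by
  have Q : ∀ n : ℕ, ∀ r : R, ∃ x ∈ N, r - x ∈ (Ideal.span S) ^ n := by
    intro n
    induction n with
    | zero => intro r; exact ⟨0, N.zero_mem, by simp⟩
    | succ n ih =>
      intro r
      obtain ⟨x₀, hx₀, hτ⟩ := happrox r
      have M : ∀ τ ∈ Ideal.span S, ∀ t' : R, ∃ x ∈ N, t' * τ - x ∈ (Ideal.span S) ^ (n + 1) := by
        intro τ hτ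
        induction hτ using Submodule.span_induction with
        | mem σ hσ =>
          intro t'
          obtain ⟨x', hx', h⟩ := ih t'
          refine ⟨σ * x', hstab σ hσ x' hx', ?_⟩
          have : t' * σ - σ * x' = (t' - x') * σ := by ring
          rw [this, pow_succ]
          exact Ideal.mul_mem_mul h (Ideal.subset_span hσ)
        | zero => intro t'; exact ⟨0, N.zero_mem, by simp⟩
        | add a b _ _ ha hb =>
          intro t'
          obtain ⟨x, hx, h⟩ := ha t'
          obtain ⟨y, hy, h'⟩ := hb t'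
          refine ⟨x + y, N.add_mem hx hy, ?_⟩
          have : t' * (a + b) - (x + y) = (t' * a - x) + (t' * b - y) := by ring
          rw [this]; exact Ideal.add_mem _ h h'
        | smul a τ' _ hτ' =>
          intro t'
          obtain ⟨x, hx, h⟩ := hτ' (t' * a)
          refine ⟨x, hx, ?_⟩
          rw [smul_eq_mul, ← mul_assoc]; exact h
      obtain ⟨x₁, hx₁, h⟩ := M _ hτ 1
      refine ⟨x₀ + x₁, N.add_mem hx₀ hx₁, ?_⟩
      have : r - (x₀ + x₁) = 1 * (r - x₀) - x₁ := by ring
      rw [this]; exact h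
  obtain ⟨x, hx, h⟩ := Q n₀ r
  rw [hnil, Ideal.mem_bot, sub_eq_zero] at h
  rw [h]; exact hx

end Nak

section Free

variable {k : Type u} [Field k] {H : Type v} [CommRing H] [Bialgebra k H]

/-- Elements of `B` with zero counit. -/
def augSet (B : Subalgebra k H) : Set H := {b | b ∈ B ∧ Bialgebra.counitAlgHom k H b = 0}

/-- `θ = (id ⊗ π) ∘ Δ`. -/
noncomputable def theta (J : Ideal H) : H →ₐ[k] H ⊗[k] (H ⧸ J) :=
  (Algebra.TensorProduct.map (AlgHom.id k H) (Ideal.Quotient.mkₐ k J)).comp
    (Bialgebra.comulAlgHom k H)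

theorem counit_theta (J : Ideal H) (a : H) :
    Algebra.TensorProduct.map (Bialgebra.counitAlgHom k H) (AlgHom.id k (H ⧸ J)) (theta J a) =
      (1 : k) ⊗ₜ[k] (Ideal.Quotient.mk J a) := by
  have h1 : (Algebra.TensorProduct.map (Bialgebra.counitAlgHom k H) (AlgHom.id k (H ⧸ J))).comp
      (Algebra.TensorProduct.map (AlgHom.id k H) (Ideal.Quotient.mkₐ k J)) =
      (Algebra.TensorProduct.map (AlgHom.id k k) (Ideal.Quotient.mkₐ k J)).comp
        (Algebra.TensorProduct.map (Bialgebra.counitAlgHom k H) (AlgHom.id k H)) := by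
    apply Algebra.TensorProduct.ext'
    intro x y
    simp
  have h2 := congrArg (fun f => f (Coalgebra.comul (R := k) a)) h1
  simp only [AlgHom.comp_apply] at h2
  have h3 : Algebra.TensorProduct.map (Bialgebra.counitAlgHom k H) (AlgHom.id k H)
      (Coalgebra.comul (R := k) a) = (1 : k) ⊗ₜ[k] a := Coalgebra.rTensor_counit_comul (R := k) a
  rw [h3] at h2
  rw [theta, AlgHom.comp_apply]
  exact h2.trans (by simp)

theorem finrank_eq_finrank_mul [Module.Finite k H] (B : Subalgebra k H) (n₀ : ℕ)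
    (hnil : (RingHom.ker (Bialgebra.counitAlgHom k H)) ^ n₀ = ⊥)
    (hθ : ∀ b ∈ B, theta (Ideal.span (augSet B)) b = b ⊗ₜ[k] (1 : H ⧸ Ideal.span (augSet B))) :
    finrank k H = finrank k B * finrank k (H ⧸ Ideal.span (augSet B)) := by
  classical
  set ε := Bialgebra.counitAlgHom k H with hε
  set J := Ideal.span (augSet B) with hJ
  have hJI : J ≤ RingHom.ker ε := by
    rw [hJ, Ideal.span_le]
    rintro b ⟨-, hb⟩
    exact hb
  haveI : Module.Finite k B := Module.Finite.of_injective B.val.toLinearMap Subtype.val_injective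
  set s := finrank k (H ⧸ J) with hs
  let c : Basis (Fin s) k (H ⧸ J) := Module.finBasis k (H ⧸ J)
  choose a ha using fun i => Ideal.Quotient.mk_surjective (c i)
  -- the map `Φ`
  set Φ : (Fin s → B) →ₗ[k] H :=
    ∑ i, (LinearMap.mulRight k (a i)) ∘ₗ B.val.toLinearMap ∘ₗ LinearMap.proj i with hΦ
  have Φ_apply : ∀ v, Φ v = ∑ i, (v i : H) * a i := by
    intro v
    simp [hΦ, LinearMap.sum_apply]
  -- surjectivity of `Φ`
  have hΦsurj : Function.Surjective Φ := by
    intro r
    have := nak (augSet B) (LinearMap.range Φ).toAddSubgroup n₀ ?_ ?_ ?_ r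
    · exact this
    · rw [eq_bot_iff, ← hnil]
      exact Ideal.pow_right_mono hJI n₀
    · rintro σ ⟨hσ, -⟩ x ⟨v, rfl⟩
      refine ⟨fun i => ⟨σ, hσ⟩ * v i, ?_⟩
      rw [Φ_apply, Φ_apply, Finset.mul_sum]
      refine Finset.sum_congr rfl fun i _ => ?_
      simp only [MulMemClass.coe_mul]
      ring
    · intro r
      refine ⟨Φ (fun i => algebraMap k B (c.repr (Ideal.Quotient.mk J r) i)), ⟨_, rfl⟩, ?_⟩
      rw [← hJ, ← Ideal.Quotient.eq_zero_iff_mem, map_sub, Φ_apply, map_sum, sub_eq_zero]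
      conv_lhs => rw [← c.sum_repr (Ideal.Quotient.mk J r)]
      refine Finset.sum_congr rfl fun i _ => ?_
      rw [map_mul, ha, Algebra.smul_def]
      rfl
  -- the map `Θ`
  set θ := theta (k := k) J with hθdef
  set Θ : (Fin s → H) →ₗ[k] H ⊗[k] (H ⧸ J) :=
    ∑ i, (LinearMap.mulRight k (θ (a i))) ∘ₗ
      (Algebra.TensorProduct.includeLeft : H →ₐ[k] H ⊗[k] (H ⧸ J)).toLinearMap ∘ₗ
        LinearMap.proj i with hΘ
  have Θ_apply : ∀ w, Θ w = ∑ i, (w i ⊗ₜ[k] (1 : H ⧸ J)) * θ (a i) := by
    intro w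
    simp [hΘ, LinearMap.sum_apply]
  set εC := Algebra.TensorProduct.map ε (AlgHom.id k (H ⧸ J)) with hεC
  have hεsurj : Function.Surjective ε := fun x => ⟨algebraMap k H x, by simp⟩
  have hker : RingHom.ker εC =
      (RingHom.ker ε).map (Algebra.TensorProduct.includeLeft : H →ₐ[k] H ⊗[k] (H ⧸ J)) :=
    Algebra.TensorProduct.rTensor_ker ε hεsurj
  have hΘsurj : Function.Surjective Θ := by
    intro t
    have := nak ((Algebra.TensorProduct.includeLeft : H →ₐ[k] H ⊗[k] (H ⧸ J)) ''
      (RingHom.ker ε : Set H)) (LinearMap.range Θ).toAddSubgroup n₀ ?_ ?_ ?_ t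
    · exact this
    · have h1 : Ideal.span ((Algebra.TensorProduct.includeLeft : H →ₐ[k] H ⊗[k] (H ⧸ J)) ''
          (RingHom.ker ε : Set H)) = (RingHom.ker ε).map
            (Algebra.TensorProduct.includeLeft : H →ₐ[k] H ⊗[k] (H ⧸ J)) := rfl
      rw [h1, ← Ideal.map_pow, hnil, Ideal.map_bot]
    · rintro _ ⟨i, -, rfl⟩ x ⟨w, rfl⟩
      refine ⟨fun j => i * w j, ?_⟩
      rw [Θ_apply, Θ_apply, Finset.mul_sum]
      refine Finset.sum_congr rfl fun j _ => ?_
      rw [← mul_assoc]
      congr 1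
      simp [Algebra.TensorProduct.tmul_mul_tmul]
    · intro t
      -- choose `w` with the same image under `εC`
      set u : H ⧸ J := TensorProduct.lid k (H ⧸ J) (εC t) with hu
      refine ⟨Θ (fun i => algebraMap k H (c.repr u i)), ⟨_, rfl⟩, ?_⟩
      have h1 : Ideal.span ((Algebra.TensorProduct.includeLeft : H →ₐ[k] H ⊗[k] (H ⧸ J)) ''
          (RingHom.ker ε : Set H)) = RingHom.ker εC := by rw [hker]; rfl
      rw [h1, RingHom.mem_ker, map_sub, sub_eq_zero, Θ_apply, map_sum]
      have h2 : ∀ i, εC ((algebraMap k H (c.repr u i) ⊗ₜ[k] (1 : H ⧸ J)) * θ (a i)) =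
          (c.repr u i) ⊗ₜ[k] c i := by
        intro i
        rw [map_mul, hεC, hθdef, counit_theta, ha]
        simp [Algebra.TensorProduct.tmul_mul_tmul]
      simp only [h2]
      have h3 : εC t = (1 : k) ⊗ₜ[k] u := by
        rw [hu, ← TensorProduct.lid_symm_apply, LinearEquiv.symm_apply_apply]
      rw [h3]
      conv_lhs => rw [← c.sum_repr u, TensorProduct.tmul_sum]
      refine Finset.sum_congr rfl fun i _ => ?_
      rw [TensorProduct.tmul_smul, TensorProduct.smul_tmul', smul_eq_mul, mul_one]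
  have hΘinj : Function.Injective Θ := by
    have hdim : finrank k (Fin s → H) = finrank k (H ⊗[k] (H ⧸ J)) := by
      rw [Module.finrank_tensorProduct, Module.finrank_pi_fintype]
      simp [hs, mul_comm]
    exact (LinearMap.injective_iff_surjective_of_finrank_eq_finrank hdim).2 hΘsurj
  -- injectivity of `Φ`
  have hΦinj : Function.Injective Φ := by
    rw [← LinearMap.ker_eq_bot, LinearMap.ker_eq_bot']
    intro v hv
    have h1 : Θ (fun i => (v i : H)) = 0 := by
      rw [Θ_apply]
      have h2 : θ (Φ v) = ∑ i, ((v i : H) ⊗ₜ[k] (1 : H ⧸ J)) * θ (a i) := by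
        rw [Φ_apply, map_sum]
        refine Finset.sum_congr rfl fun i _ => ?_
        rw [map_mul, hθdef, hθ _ (v i).2]
      rw [← h2, hv, map_zero]
    have h3 := hΘinj (h1.trans (map_zero Θ).symm)
    funext i
    exact Subtype.ext (congrFun h3 i)
  have e : (Fin s → B) ≃ₗ[k] H := LinearEquiv.ofBijective Φ ⟨hΦinj, hΦsurj⟩
  rw [← e.finrank_eq, Module.finrank_pi_fintype]
  simp [hs, mul_comm]

end Free

end Groth.Agent.Lib.Helper16.FinHopf
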