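import Groth.Agent.Lib.Helper16.FinHopfHeightOne

/-!
# The Frobenius-kernel quotient `A ⧸ (f^p : f ∈ I)` (helper16)
-/

set_option autoImplicit false

namespace Groth.Agent.Lib.Helper16.FinHopf

open Module

universe u v

section

variable (k : Type u) [Field k] (p : ℕ) (A : Type v) [CommRing A] [Bialgebra k A]

/-- The ideal generated by the `p`-th powers of the elements of the augmentation ideal. -/
def frobKerIdeal : Ideal A :=
  Ideal.span ((fun a : A => a ^ p) '' (RingHom.ker (Bialgebra.counitAlgHom k A) : Set A))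

variable {k p A}

theorem frobKerIdeal_le_ker (hp : p ≠ 0) :
    frobKerIdeal k p A ≤ RingHom.ker (Bialgebra.counitAlgHom k A) := by
  rw [frobKerIdeal, Ideal.span_le]
  rintro _ ⟨a, ha, rfl⟩
  exact Ideal.pow_mem_of_mem _ ha p (Nat.pos_of_ne_zero hp)

variable (k p A) in
/-- The counit of the quotient. -/
noncomputable def counitQ (hp : p ≠ 0) : (A ⧸ frobKerIdeal k p A) →ₐ[k] k :=
  Ideal.Quotient.liftₐ (frobKerIdeal k p A) (Bialgebra.counitAlgHom k A)
    (fun a ha => frobKerIdeal_le_ker hp ha)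

@[simp] theorem counitQ_mk (hp : p ≠ 0) (a : A) :
    counitQ k p A hp (Ideal.Quotient.mk _ a) = Bialgebra.counitAlgHom k A a := rfl

theorem ker_counitQ (hp : p ≠ 0) :
    RingHom.ker (counitQ k p A hp) =
      (RingHom.ker (Bialgebra.counitAlgHom k A)).map (Ideal.Quotient.mk (frobKerIdeal k p A)) := by
  ext c
  obtain ⟨a, rfl⟩ := Ideal.Quotient.mk_surjective c
  constructor
  · intro h
    exact Ideal.mem_map_of_mem _ (show a ∈ RingHom.ker (Bialgebra.counitAlgHom k A) from h)
  · intro h
    rw [Ideal.mem_map_iff_of_surjective _ Ideal.Quotient.mk_surjective] at h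
    obtain ⟨a', ha', h⟩ := h
    rw [RingHom.mem_ker, ← h]
    exact ha'

/-- A derivation maps `frobKerIdeal` into itself in characteristic `p`. -/
theorem derivation_mem_frobKerIdeal [CharP A p] (D : Derivation k A A) (c : A)
    (hc : c ∈ frobKerIdeal k p A) : D c ∈ frobKerIdeal k p A := by
  rw [frobKerIdeal] at hc ⊢
  induction hc using Submodule.span_induction with
  | mem x hx =>
    obtain ⟨a, -, rfl⟩ := hx
    rw [Derivation.leibniz_pow]
    simp
  | zero => simp
  | add x y _ _ hx hy => rw [map_add]; exact Ideal.add_mem _ hx hy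
  | smul a x hx hDx =>
    rw [smul_eq_mul, Derivation.leibniz]
    exact Ideal.add_mem _ (Ideal.mul_mem_left _ _ hDx)
      (Ideal.mul_mem_right _ _ hx)

end

/-- **Structure of the Frobenius-kernel quotient**: `dim A/(f^p) = p ^ dim I/I²`, with generators. -/
theorem frobKer_exists_gens {k : Type u} [Field k] (p : ℕ) [Fact p.Prime] [CharP k p]
    (A : Type v) [CommRing A] [Bialgebra k A] [Module.Finite k A]
    (hnil : ∀ f : A, Bialgebra.counitAlgHom k A f = 0 → IsNilpotent f) :
    ∃ x : Fin (finrank k (RingHom.ker (Bialgebra.counitAlgHom k A)).Cotangent) →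
        A ⧸ frobKerIdeal k p A,
      Ideal.span (Set.range x) = RingHom.ker (counitQ k p A (Fact.out : p.Prime).ne_zero) ∧
      (∀ i, x i ^ p = 0) ∧
      finrank k (A ⧸ frobKerIdeal k p A) =
        p ^ finrank k (RingHom.ker (Bialgebra.counitAlgHom k A)).Cotangent := by
  classical
  have hp0 : p ≠ 0 := (Fact.out : p.Prime).ne_zero
  set ε := Bialgebra.counitAlgHom k A with hε
  haveI := finite_cotangent ε
  haveI : Nontrivial A := by
    refine ⟨⟨0, 1, fun h => ?_⟩⟩
    have := congrArg ε h
    simp at this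
  haveI : CharP A p := charP_of_injective_algebraMap (algebraMap k A).injective p
  set r := finrank k (RingHom.ker ε).Cotangent with hr
  let b : Basis (Fin r) k (RingHom.ker ε).Cotangent := Module.finBasisOfFinrankEq k _ rfl
  choose x hx using fun i => (RingHom.ker ε).toCotangent_surjective (b i)
  have hspan := span_eq_of_basis_cotangent ε hnil b x hx
  set D : Fin r → Derivation k A A := fun i =>
    invDer (pointDer ε (b.coord i)) (fun a b' => pointDer_mul ε (b.coord i) a b') with hD
  have hDx : ∀ i j, ε (D i (x j : A)) = if i = j then 1 else 0 := by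
    intro i j
    have h1 : ε (D i (x j : A)) = pointDer ε (b.coord i) (x j : A) := counit_invDer _ _ _
    rw [h1, pointDer_apply_of_mem ε _ _ (x j).2]
    have : (⟨(x j : A), (x j).2⟩ : RingHom.ker ε) = x j := rfl
    rw [this, hx, Basis.coord_apply, Basis.repr_self, Finsupp.single_apply]
    by_cases h : i = j
    · simp [h]
    · simp [h, Ne.symm h]
  -- pass to the quotient
  set J := frobKerIdeal k p A with hJ
  have hsurj : Function.Surjective (Ideal.Quotient.mkₐ k J) := Ideal.Quotient.mkₐ_surjective k _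
  have hd : ∀ i, ∀ c, (Ideal.Quotient.mkₐ k J) c = 0 → (Ideal.Quotient.mkₐ k J) (D i c) = 0 := by
    intro i c hc
    rw [Ideal.Quotient.mkₐ_eq_mk, Ideal.Quotient.eq_zero_iff_mem] at hc ⊢
    exact derivation_mem_frobKerIdeal (D i) c hc
  set D₀ : Fin r → Derivation k (A ⧸ J) (A ⧸ J) :=
    fun i => Derivation.liftOfSurjective hsurj (hd i) with hD₀
  set x₀ : Fin r → A ⧸ J := fun i => Ideal.Quotient.mk J (x i : A) with hx₀
  have hspan₀ : Ideal.span (Set.range x₀) = RingHom.ker (counitQ k p A hp0) := by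
    rw [ker_counitQ, ← hspan, Ideal.map_span]
    congr 1
    ext c
    constructor
    · rintro ⟨i, rfl⟩; exact ⟨_, ⟨i, rfl⟩, rfl⟩
    · rintro ⟨_, ⟨i, rfl⟩, rfl⟩; exact ⟨i, rfl⟩
  have hxp : ∀ i, x₀ i ^ p = 0 := by
    intro i
    simp only [hx₀, ← map_pow]
    rw [Ideal.Quotient.eq_zero_iff_mem]
    exact Ideal.subset_span ⟨_, (x i).2, rfl⟩
  refine ⟨x₀, hspan₀, hxp, ?_⟩
  refine finrank_eq_pow_of_derivations p r (A ⧸ J) (counitQ k p A hp0) x₀ D₀ hspan₀ hxp ?_
  intro i j
  have h1 : D₀ i (x₀ j) = Ideal.Quotient.mkₐ k J (D i (x j : A)) :=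
    Derivation.liftOfSurjective_apply hsurj (hd i) (x j : A)
  rw [h1, Ideal.Quotient.mkₐ_eq_mk, counitQ_mk]
  exact hDx i j

end Groth.Agent.Lib.Helper16.FinHopf
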