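import Groth.Agent.Lib.Helper16.FinHopfSub
import Groth.Agent.Lib.Helper16.FinHopfFree
import Groth.Agent.Lib.Helper16.FinHopfFrobKer
import Mathlib.Algebra.CharP.Lemmas
import Mathlib.Algebra.CharP.Algebra

/-!
# The Frobenius image `k[H^p]` of a commutative bialgebra (helper16)
-/

set_option autoImplicit false

namespace Groth.Agent.Lib.Helper16.FinHopf

open TensorProduct Module

universe u v

theorem nontrivial_of_counit (k : Type u) [Field k] (H : Type v) [CommRing H] [Bialgebra k H] :
    Nontrivial H := by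
  refine ⟨⟨0, 1, fun h => ?_⟩⟩
  have := congrArg (Bialgebra.counitAlgHom k H) h
  simp at this

section

variable (k : Type u) [Field k] (p : ℕ) [Fact p.Prime] [CharP k p]
  (H : Type v) [CommRing H] [Bialgebra k H]

/-- The subalgebra generated by the `p`-th powers. -/
def frobImage : Subalgebra k H := Algebra.adjoin k (Set.range fun a : H => a ^ p)

variable {k p H}

theorem pow_mem_frobImage (a : H) : a ^ p ∈ frobImage k p H :=
  Algebra.subset_adjoin ⟨a, rfl⟩


omit [Fact p.Prime] in
theorem charP_of_nontrivial_algebra (R : Type*) [CommRing R] [Nontrivial R] [Algebra k R] :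
    CharP R p := charP_of_injective_algebraMap (algebraMap k R).injective p

/-- `Δ(H^p) ⊆ k[H^p] ⊗ k[H^p]`. -/
theorem isSubBialg_frobImage : IsSubBialg (frobImage k p H) := by
  haveI : Nontrivial H := nontrivial_of_counit k H
  haveI : Nontrivial (H ⊗[k] H) :=
    Algebra.TensorProduct.nontrivial_of_algebraMap_injective_of_flat_left k H H
      (algebraMap k H).injective
  haveI : CharP (H ⊗[k] H) p := charP_of_nontrivial_algebra (k := k) _
  have hp0 : p ≠ 0 := (Fact.out : p.Prime).ne_zero
  have key : ∀ t : H ⊗[k] H, t ^ p ∈ (incl₂ (frobImage k p H)).range := by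
    intro t
    induction t using TensorProduct.induction_on with
    | zero => rw [zero_pow hp0]; exact Subalgebra.zero_mem _
    | add s t hs ht => rw [add_pow_char]; exact Subalgebra.add_mem _ hs ht
    | tmul x y =>
      refine ⟨(⟨x ^ p, pow_mem_frobImage x⟩ : frobImage k p H) ⊗ₜ[k]
        (⟨y ^ p, pow_mem_frobImage y⟩ : frobImage k p H), ?_⟩
      show incl₂ (frobImage k p H) (_ ⊗ₜ[k] _) = _
      rw [incl₂_tmul, Algebra.TensorProduct.tmul_pow]
  have hle : frobImage k p H ≤ (incl₂ (frobImage k p H)).range.comap (Bialgebra.comulAlgHom k H) := by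
    refine Algebra.adjoin_le ?_
    rintro _ ⟨a, rfl⟩
    rw [SetLike.mem_coe, Subalgebra.mem_comap]
    show Bialgebra.comulAlgHom k H (a ^ p) ∈ _
    rw [map_pow]
    exact key _
  intro b
  exact hle b.2

/-- `b - ε b ∈ (f^p : f ∈ I)` for `b ∈ k[H^p]`. -/
theorem sub_counit_mem_frobKerIdeal (b : H) (hb : b ∈ frobImage k p H) :
    b - algebraMap k H (Bialgebra.counitAlgHom k H b) ∈ frobKerIdeal k p H := by
  haveI : Nontrivial H := nontrivial_of_counit k H
  haveI : CharP H p := charP_of_nontrivial_algebra (k := k) _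
  induction hb using Algebra.adjoin_induction with
  | mem x hx =>
    obtain ⟨a, rfl⟩ := hx
    rw [map_pow, map_pow, ← sub_pow_char]
    exact Ideal.subset_span ⟨_, sub_algebraMap_mem_ker _ a, rfl⟩
  | algebraMap r => simp
  | add x y _ _ hx hy =>
    have : x + y - algebraMap k H (Bialgebra.counitAlgHom k H (x + y)) =
        (x - algebraMap k H (Bialgebra.counitAlgHom k H x)) +
          (y - algebraMap k H (Bialgebra.counitAlgHom k H y)) := by
      rw [map_add, map_add]; ring
    rw [this]; exact Ideal.add_mem _ hx hy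
  | mul x y _ _ hx hy =>
    have : x * y - algebraMap k H (Bialgebra.counitAlgHom k H (x * y)) =
        (x - algebraMap k H (Bialgebra.counitAlgHom k H x)) * y +
          algebraMap k H (Bialgebra.counitAlgHom k H x) *
            (y - algebraMap k H (Bialgebra.counitAlgHom k H y)) := by
      rw [map_mul, map_mul]; ring
    rw [this]
    exact Ideal.add_mem _ (Ideal.mul_mem_right _ _ hx) (Ideal.mul_mem_left _ _ hy)

/-- `k[H^p]⁺ H = (f^p : f ∈ I)`. -/
theorem span_augSet_frobImage :
    Ideal.span (augSet (frobImage k p H)) = frobKerIdeal k p H := by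
  apply le_antisymm
  · rw [Ideal.span_le]
    rintro b ⟨hb, hb0⟩
    have := sub_counit_mem_frobKerIdeal b hb
    rwa [hb0, map_zero, sub_zero] at this
  · rw [frobKerIdeal, Ideal.span_le]
    rintro _ ⟨a, ha, rfl⟩
    refine Ideal.subset_span ⟨pow_mem_frobImage a, ?_⟩
    have ha' : Bialgebra.counitAlgHom k H a = 0 := ha
    rw [map_pow, ha', zero_pow (Fact.out : p.Prime).ne_zero]

/-- `θ b = b ⊗ 1` on the Frobenius image. -/
theorem theta_frobImage (b : H) (hb : b ∈ frobImage k p H) :
    theta (k := k) (Ideal.span (augSet (frobImage k p H))) b =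
      b ⊗ₜ[k] (1 : H ⧸ Ideal.span (augSet (frobImage k p H))) := by
  classical
  set ε := Bialgebra.counitAlgHom k H with hε
  set J := Ideal.span (augSet (frobImage k p H)) with hJ
  haveI : Nontrivial H := nontrivial_of_counit k H
  haveI : CharP H p := charP_of_nontrivial_algebra (k := k) _
  have hp0 : p ≠ 0 := (Fact.out : p.Prime).ne_zero
  have hJI : ∀ a ∈ J, ε a = 0 := by
    intro a ha
    have hle : J ≤ RingHom.ker ε := by
      rw [hJ, Ideal.span_le]
      rintro b ⟨-, hb⟩
      exact hb
    exact hle ha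
  set εC : (H ⧸ J) →ₐ[k] k := Ideal.Quotient.liftₐ J ε hJI with hεC
  haveI : Nontrivial (H ⧸ J) := by
    refine ⟨⟨0, 1, fun h => ?_⟩⟩
    have := congrArg εC h
    simp at this
  haveI : Nontrivial (H ⊗[k] (H ⧸ J)) :=
    Algebra.TensorProduct.nontrivial_of_algebraMap_injective_of_flat_left k H (H ⧸ J)
      (algebraMap k (H ⧸ J)).injective
  haveI : CharP (H ⊗[k] (H ⧸ J)) p := charP_of_nontrivial_algebra (k := k) _
  have key1 : ∀ y : H ⧸ J, y ^ p = algebraMap k (H ⧸ J) ((εC y) ^ p) := by
    intro y
    obtain ⟨h, rfl⟩ := Ideal.Quotient.mk_surjective y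
    have h1 : (h - algebraMap k H (ε h)) ^ p ∈ J := by
      refine Ideal.subset_span ⟨pow_mem_frobImage _, ?_⟩
      rw [map_pow, map_sub, AlgHom.commutes]
      have : ε h - algebraMap k k (ε h) = 0 := sub_self _
      rw [this, zero_pow hp0]
    have h2 : Ideal.Quotient.mk J (h ^ p) = Ideal.Quotient.mk J ((algebraMap k H (ε h)) ^ p) :=
      Ideal.Quotient.eq.2 (by rw [← sub_pow_char]; exact h1)
    show _ = algebraMap k (H ⧸ J) ((ε h) ^ p)
    calc (Ideal.Quotient.mk J h) ^ p = Ideal.Quotient.mk J (h ^ p) := (map_pow _ _ _).symm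
      _ = Ideal.Quotient.mk J ((algebraMap k H (ε h)) ^ p) := h2
      _ = algebraMap k (H ⧸ J) ((ε h) ^ p) := by rw [← map_pow]; rfl
  set ρ : H ⊗[k] (H ⧸ J) →ₐ[k] H :=
    Algebra.TensorProduct.lift (AlgHom.id k H) ((Algebra.ofId k H).comp εC)
      (fun _ _ => Commute.all _ _) with hρ
  have key2 : ∀ t : H ⊗[k] (H ⧸ J), t ^ p = ((ρ t) ^ p) ⊗ₜ[k] (1 : H ⧸ J) := by
    intro t
    induction t using TensorProduct.induction_on with
    | zero => simp [hp0]
    | add s t hs ht => rw [add_pow_char, hs, ht, map_add, add_pow_char, TensorProduct.add_tmul]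
    | tmul x y =>
      have h1 : ρ (x ⊗ₜ[k] y) = x * algebraMap k H (εC y) := by
        simp [hρ, Algebra.ofId_apply]
      have h2 : ∀ c : k, (x ^ p) ⊗ₜ[k] (algebraMap k (H ⧸ J) c) =
          (x ^ p * algebraMap k H c) ⊗ₜ[k] (1 : H ⧸ J) := by
        intro c
        rw [Algebra.algebraMap_eq_smul_one, TensorProduct.tmul_smul, TensorProduct.smul_tmul',
          Algebra.smul_def, mul_comm]
      rw [Algebra.TensorProduct.tmul_pow, key1, h1, mul_pow, ← map_pow (algebraMap k H), h2]
  have key3 : ∀ a : H, ρ (theta (k := k) J a) = a := by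
    intro a
    have h1 : ρ.comp (Algebra.TensorProduct.map (AlgHom.id k H) (Ideal.Quotient.mkₐ k J)) =
        Algebra.TensorProduct.lift (AlgHom.id k H) ((Algebra.ofId k H).comp ε)
          (fun _ _ => Commute.all _ _) := by
      apply Algebra.TensorProduct.ext'
      intro x y
      simp [hρ, hεC]
    have h2 : ∀ t : H ⊗[k] H, Algebra.TensorProduct.lift (AlgHom.id k H)
        ((Algebra.ofId k H).comp ε) (fun _ _ => Commute.all _ _) t =
        TensorProduct.rid k H (LinearMap.lTensor H (Coalgebra.counit (R := k) (A := H)) t) := by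
      intro t
      induction t using TensorProduct.induction_on with
      | zero => simp
      | add s t hs ht => simp only [map_add, hs, ht]
      | tmul x y =>
        simp [Algebra.ofId_apply, Algebra.algebraMap_eq_smul_one, hε, mul_comm]
    rw [theta, AlgHom.comp_apply, ← AlgHom.comp_apply, h1, h2]
    have h3 := Coalgebra.lTensor_counit_comul (R := k) a
    rw [Bialgebra.comulAlgHom_apply, h3]
    simp
  have hle : frobImage k p H ≤ AlgHom.equalizer (theta (k := k) J)
      (Algebra.TensorProduct.includeLeft : H →ₐ[k] H ⊗[k] (H ⧸ J)) := by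
    refine Algebra.adjoin_le ?_
    rintro _ ⟨a, rfl⟩
    rw [SetLike.mem_coe, AlgHom.mem_equalizer]
    show theta (k := k) J (a ^ p) = (a ^ p) ⊗ₜ[k] 1
    rw [map_pow, key2, key3]
  exact hle hb

end

end Groth.Agent.Lib.Helper16.FinHopf
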