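import Groth.Agent.Lib.Helper16.FinHopfHeightOne
import Groth.Agent.Lib.Helper16.FinHopfTrunc
import Mathlib.RingTheory.LocalRing.Module
import Mathlib.RingTheory.HopfAlgebra.TensorProduct
import Mathlib.RingTheory.Bialgebra.TensorProduct
import Mathlib.RingTheory.IntegralClosure.IsIntegralClosure.Basic
import Mathlib.RingTheory.FiniteType
import Mathlib.Algebra.CharP.Algebra
import Mathlib.LinearAlgebra.Dimension.OrzechProperty

/-!
# Height-one Hopf algebras over a local ring are truncated polynomial algebras (helper16)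
-/

set_option autoImplicit false

namespace Groth.Agent.Lib.Helper16.FinHopf

open Module MvPolynomial TensorProduct

universe u v w

section TruncRing

variable (R : Type u) [CommRing R] (p d : ℕ)

/-- The truncation ideal `(X_i ^ p)` over a commutative ring. -/
noncomputable abbrev truncIdealR : Ideal (MvPolynomial (Fin d) R) :=
  Ideal.span (Set.range fun i : Fin d => (MvPolynomial.X i : MvPolynomial (Fin d) R) ^ p)

/-- The images of the monomials with exponents `< p`. -/
noncomputable def truncMonR (α : Fin d → Fin p) : MvPolynomial (Fin d) R ⧸ truncIdealR R p d :=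
  Ideal.Quotient.mk _ (∏ i, (MvPolynomial.X i : MvPolynomial (Fin d) R) ^ (α i : ℕ))

theorem span_truncMonR : Submodule.span R (Set.range (truncMonR R p d)) = ⊤ := by
  classical
  rw [eq_top_iff]
  rintro q -
  obtain ⟨f, rfl⟩ := Ideal.Quotient.mk_surjective q
  induction f using MvPolynomial.induction_on' with
  | add f g hf hg => rw [map_add]; exact Submodule.add_mem _ hf hg
  | monomial s a =>
    have h1 : (monomial s a : MvPolynomial (Fin d) R) =
        a • ∏ i, (MvPolynomial.X i : MvPolynomial (Fin d) R) ^ (s i) := by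
      rw [MvPolynomial.monomial_eq, Finsupp.prod_fintype _ _ (fun i => pow_zero _),
        MvPolynomial.C_mul']
    rw [h1]
    by_cases hs : ∀ i, s i < p
    · have h2 : Ideal.Quotient.mk (truncIdealR R p d)
          (a • ∏ i, (MvPolynomial.X i : MvPolynomial (Fin d) R) ^ (s i)) =
          a • truncMonR R p d (fun i => ⟨s i, hs i⟩) := by
        rw [truncMonR, ← Ideal.Quotient.mkₐ_eq_mk R, map_smul]
      rw [h2]
      exact Submodule.smul_mem _ _ (Submodule.subset_span ⟨_, rfl⟩)
    · push_neg at hs
      obtain ⟨i, hi⟩ := hs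
      have h2 : (a • ∏ i, (MvPolynomial.X i : MvPolynomial (Fin d) R) ^ (s i)) ∈
          truncIdealR R p d := by
        rw [Algebra.smul_def]
        refine Ideal.mul_mem_left _ _ ?_
        rw [← Finset.mul_prod_erase Finset.univ _ (Finset.mem_univ i)]
        refine Ideal.mul_mem_right _ _ ?_
        have : s i = p + (s i - p) := by omega
        rw [this, pow_add]
        exact Ideal.mul_mem_right _ _ (Ideal.subset_span ⟨i, rfl⟩)
      rw [Ideal.Quotient.eq_zero_iff_mem.2 h2]
      exact Submodule.zero_mem _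

variable {R p d}
variable {B : Type v} [CommRing B] [Algebra R B]

/-- The map `R[X]/(X_i^p) → B`, `X_i ↦ x_i`, for `x_i ^ p = 0`. -/
noncomputable def truncLift (x : Fin d → B) (hx : ∀ i, x i ^ p = 0) :
    (MvPolynomial (Fin d) R ⧸ truncIdealR R p d) →ₐ[R] B :=
  Ideal.Quotient.liftₐ (truncIdealR R p d) (MvPolynomial.aeval x) (by
    intro a ha
    have hle : truncIdealR R p d ≤
        RingHom.ker (MvPolynomial.aeval x : MvPolynomial (Fin d) R →ₐ[R] B) := by
      rw [Ideal.span_le]
      rintro _ ⟨i, rfl⟩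
      simp [RingHom.mem_ker, hx]
    exact hle ha)

@[simp]
theorem truncLift_mk (x : Fin d → B) (hx : ∀ i, x i ^ p = 0) (f : MvPolynomial (Fin d) R) :
    truncLift x hx (Ideal.Quotient.mk _ f) = MvPolynomial.aeval x f := rfl

theorem truncLift_truncMonR (x : Fin d → B) (hx : ∀ i, x i ^ p = 0) (α : Fin d → Fin p) :
    truncLift x hx (truncMonR R p d α) = ∏ i, x i ^ (α i : ℕ) := by
  rw [truncMonR, truncLift_mk, map_prod]
  simp

/-- If the monomials `∏ xᵢ^{αᵢ}` form a basis of `B`, then `R[X]/(Xᵢ^p) ≃ B`. -/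
theorem truncLift_bijective (x : Fin d → B) (hx : ∀ i, x i ^ p = 0)
    (hb : Function.Bijective (Finsupp.linearCombination R
      (fun α : Fin d → Fin p => ∏ i, x i ^ (α i : ℕ)))) :
    Function.Bijective (truncLift (R := R) x hx) := by
  have hcomp : ∀ c : (Fin d → Fin p) →₀ R,
      truncLift x hx (Finsupp.linearCombination R (truncMonR R p d) c) =
        Finsupp.linearCombination R (fun α : Fin d → Fin p => ∏ i, x i ^ (α i : ℕ)) c := by
    intro c
    rw [Finsupp.linearCombination_apply, Finsupp.linearCombination_apply, Finsupp.sum, Finsupp.sum,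
      map_sum]
    refine Finset.sum_congr rfl fun α _ => ?_
    rw [map_smul, truncLift_truncMonR]
  constructor
  · rw [injective_iff_map_eq_zero]
    intro t ht
    have h1 : t ∈ Submodule.span R (Set.range (truncMonR R p d)) := by
      rw [span_truncMonR]; trivial
    obtain ⟨c, rfl⟩ := (Finsupp.mem_span_range_iff_exists_finsupp).1 h1
    have h2 : Finsupp.linearCombination R (truncMonR R p d) c =
        Finsupp.linearCombination R (truncMonR R p d) c := rfl
    rw [← Finsupp.linearCombination_apply, hcomp] at ht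
    have h3 : c = 0 := hb.1 (by rw [ht, map_zero])
    rw [h3]
    simp
  · intro b
    obtain ⟨c, rfl⟩ := hb.2 b
    exact ⟨_, hcomp c⟩

end TruncRing

/-- A nontrivial semiring in which the prime `p` vanishes has characteristic `p`. -/
theorem charP_of_prime_of_natCast_eq_zero (S : Type*) [NonAssocSemiring S] [Nontrivial S] (p : ℕ)
    [Fact p.Prime] (h : (p : S) = 0) : CharP S p := by
  have h1 : ringChar S ∣ p := ringChar.dvd h
  rcases (Nat.dvd_prime Fact.out).1 h1 with h2 | h2
  · exfalso
    haveI : CharP S 1 := h2 ▸ ringChar.charP S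
    exact CharP.char_ne_one S 1 rfl
  · exact h2 ▸ ringChar.charP S


section Local

variable {R : Type u} [CommRing R] {A : Type v} [CommRing A] [HopfAlgebra R A]

/-- A Hopf algebra of finite type whose augmentation ideal is nil is module-finite. -/
theorem finite_of_nil_ker_counit [Algebra.FiniteType R A]
    (h1 : ∀ a : A, Bialgebra.counitAlgHom R A a = 0 → IsNilpotent a) : Module.Finite R A := by
  haveI : Algebra.IsIntegral R A := by
    constructor
    intro a
    have h2 : a = algebraMap R A (Bialgebra.counitAlgHom R A a) +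
        (a - algebraMap R A (Bialgebra.counitAlgHom R A a)) := by ring
    rw [h2]
    refine IsIntegral.add isIntegral_algebraMap ?_
    obtain ⟨n, hn⟩ := h1 (a - algebraMap R A (Bialgebra.counitAlgHom R A a)) (by simp)
    by_cases hn0 : n = 0
    · subst hn0
      rw [pow_zero] at hn
      haveI : Subsingleton A := subsingleton_of_zero_eq_one hn.symm
      rw [Subsingleton.elim (a - _) 0]
      exact isIntegral_zero
    · refine IsIntegral.of_pow (Nat.pos_of_ne_zero hn0) ?_
      rw [hn]
      exact isIntegral_zero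
  exact Algebra.IsIntegral.finite

variable (κ : Type w) [Field κ] [Algebra R κ]

/-- Elements of the augmentation ideal of `κ ⊗ A` lift to the augmentation ideal of `A`,
when `R → κ` is surjective. -/
theorem exists_lift_of_counit_eq_zero (hκ : Function.Surjective (algebraMap R κ))
    (f : κ ⊗[R] A) (hf : Bialgebra.counitAlgHom κ (κ ⊗[R] A) f = 0) :
    ∃ b : A, Bialgebra.counitAlgHom R A b = 0 ∧ (1 : κ) ⊗ₜ[R] b = f := by
  obtain ⟨a, rfl⟩ := Algebra.TensorProduct.includeRight_surjective (R := R) (S := κ) A hκ f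
  refine ⟨a - algebraMap R A (Bialgebra.counitAlgHom R A a), by simp, ?_⟩
  have h1 : Bialgebra.counitAlgHom κ (κ ⊗[R] A) ((1 : κ) ⊗ₜ[R] a) =
      algebraMap R κ (Bialgebra.counitAlgHom R A a) := by
    show Coalgebra.counit (R := κ) ((1 : κ) ⊗ₜ[R] a) = _
    rw [TensorProduct.counit_tmul, Algebra.algebraMap_eq_smul_one]
    simp
  have h2 : algebraMap R κ (Bialgebra.counitAlgHom R A a) = 0 := by
    rw [← h1]; exact hf
  show (1 : κ) ⊗ₜ[R] (a - algebraMap R A (Bialgebra.counitAlgHom R A a)) = (1 : κ) ⊗ₜ[R] a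
  rw [TensorProduct.tmul_sub, Algebra.algebraMap_eq_smul_one (A := A), TensorProduct.tmul_smul,
    TensorProduct.smul_tmul', Algebra.smul_def, mul_one, h2, TensorProduct.zero_tmul, sub_zero]

end Local

/-- **Height-one Hopf algebras over a local ring are truncated polynomial algebras.** -/
theorem nonempty_algEquiv_trunc_of_isLocalRing (p : ℕ) [Fact p.Prime] (R : Type u) [CommRing R]
    [IsLocalRing R] [CharP R p] (A : Type v) [CommRing A] [HopfAlgebra R A]
    [Algebra.FiniteType R A] [Module.Flat R A]
    (h1 : ∀ a : A, Bialgebra.counitAlgHom R A a = 0 → a ^ p = 0) :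
    ∃ n : ℕ, Nonempty (A ≃ₐ[R] (MvPolynomial (Fin n) R ⧸
      Ideal.span (Set.range fun i : Fin n => (MvPolynomial.X i : MvPolynomial (Fin n) R) ^ p))) := by
  classical
  haveI : Module.Finite R A := finite_of_nil_ker_counit (fun a ha => ⟨p, h1 a ha⟩)
  set κ := IsLocalRing.ResidueField R with hκdef
  have hsurj : Function.Surjective (algebraMap R κ) := IsLocalRing.residue_surjective
  haveI : CharP κ p := charP_of_prime_of_natCast_eq_zero κ p (by
    rw [← map_natCast (algebraMap R κ), CharP.cast_eq_zero, map_zero])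
  -- height one for the fibre
  have hκ1 : ∀ f : κ ⊗[R] A, Bialgebra.counitAlgHom κ (κ ⊗[R] A) f = 0 → f ^ p = 0 := by
    intro f hf
    obtain ⟨b, hb, rfl⟩ := exists_lift_of_counit_eq_zero κ hsurj f hf
    rw [Algebra.TensorProduct.tmul_pow, one_pow, h1 b hb, TensorProduct.tmul_zero]
  obtain ⟨n, xbar, hspan, hxbar, hdim⟩ : ∃ n : ℕ, ∃ xbar : Fin n → κ ⊗[R] A,
      Ideal.span (Set.range xbar) = RingHom.ker (Bialgebra.counitAlgHom κ (κ ⊗[R] A)) ∧
      (∀ i, xbar i ^ p = 0) ∧ finrank κ (κ ⊗[R] A) = p ^ n :=
    ⟨_, bialgebra_exists_gens_finrank_eq_pow p (κ ⊗[R] A) hκ1⟩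
  -- lift the generators
  have hxmem : ∀ i, Bialgebra.counitAlgHom κ (κ ⊗[R] A) (xbar i) = 0 := by
    intro i
    have : xbar i ∈ RingHom.ker (Bialgebra.counitAlgHom κ (κ ⊗[R] A)) := by
      rw [← hspan]; exact Ideal.subset_span ⟨i, rfl⟩
    exact this
  choose x hx0 hx using fun i => exists_lift_of_counit_eq_zero κ hsurj (xbar i) (hxmem i)
  have hxp : ∀ i, x i ^ p = 0 := fun i => h1 _ (hx0 i)
  refine ⟨n, ?_⟩
  -- the monomials
  set v : (Fin n → Fin p) → A := fun α => ∏ i, x i ^ (α i : ℕ) with hv
  set vbar : (Fin n → Fin p) → κ ⊗[R] A := fun α => ∏ i, xbar i ^ (α i : ℕ) with hvbar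
  have hvv : (TensorProduct.mk R κ A 1 ∘ v) = vbar := by
    funext α
    show (1 : κ) ⊗ₜ[R] (∏ i, x i ^ (α i : ℕ)) = ∏ i, xbar i ^ (α i : ℕ)
    have : (1 : κ) ⊗ₜ[R] (∏ i, x i ^ (α i : ℕ)) =
        Algebra.TensorProduct.includeRight (R := R) (A := κ) (∏ i, x i ^ (α i : ℕ)) := rfl
    rw [this, map_prod]
    refine Finset.prod_congr rfl fun i _ => ?_
    rw [map_pow]
    congr 1
    exact hx i
  -- the monomials form a basis of the fibre
  have hbij : Function.Bijective (Finsupp.linearCombination κ vbar) := by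
    have hspan' : ⊤ ≤ Submodule.span κ (Set.range vbar) := by
      -- nilpotency
      have hnil : IsNilpotent (RingHom.ker (Bialgebra.counitAlgHom κ (κ ⊗[R] A))) := by
        have hfg : (RingHom.ker (Bialgebra.counitAlgHom κ (κ ⊗[R] A))).FG := by
          rw [← hspan]; exact Submodule.fg_span (Set.finite_range xbar)
        rw [hfg.isNilpotent_iff_le_nilradical, ← hspan, Ideal.span_le]
        rintro _ ⟨i, rfl⟩
        exact ⟨p, hxbar i⟩
      obtain ⟨N, hN⟩ := hnil
      have hsurj' := aeval_surjective_of_span (Bialgebra.counitAlgHom κ (κ ⊗[R] A)) xbar hspan N hN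
      rintro q -
      obtain ⟨f, rfl⟩ := hsurj' q
      have h2 : (Ideal.Quotient.mk (truncIdealR κ p n) f) ∈
          Submodule.span κ (Set.range (truncMonR κ p n)) := by
        rw [span_truncMonR]; trivial
      have h3 := Submodule.apply_mem_span_image_of_mem_span (truncLift xbar hxbar).toLinearMap h2
      rw [← Set.range_comp] at h3
      have h4 : ((truncLift xbar hxbar).toLinearMap ∘ truncMonR κ p n) = vbar := by
        funext α
        exact truncLift_truncMonR xbar hxbar α
      rw [h4] at h3
      exact h3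
    have hcard : Fintype.card (Fin n → Fin p) = finrank κ (κ ⊗[R] A) := by
      rw [hdim]; simp
    have hli := linearIndependent_of_top_le_span_of_card_eq_finrank hspan' hcard
    refine ⟨hli, ?_⟩
    rw [← LinearMap.range_eq_top, Finsupp.range_linearCombination]
    exact top_le_iff.1 hspan'
  rw [← hvv] at hbij
  have hb := IsLocalRing.linearCombination_bijective_of_flat v hbij
  exact ⟨(AlgEquiv.ofBijective (truncLift x hxp) (truncLift_bijective x hxp hb)).symm⟩

end Groth.Agent.Lib.Helper16.FinHopf
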