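import Mathlib.RingTheory.HopfAlgebra.Basic
import Mathlib.RingTheory.Bialgebra.Convolution
import Mathlib.RingTheory.Derivation.Basic
import Mathlib.RingTheory.Nilpotent.Basic
import Mathlib.RingTheory.Ideal.Operations
import Mathlib.LinearAlgebra.Dimension.Constructions
import Mathlib.LinearAlgebra.FiniteDimensional.Lemmas

/-!
# Commutative bialgebras with nilpotent augmentation ideal are Hopf algebras;
the space of left-invariant derivations (helper16)
-/

set_option autoImplicit false

namespace Groth.Agent.Lib.Helper16.FinHopf

open TensorProduct WithConv Coalgebra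

universe u v

section NilAntipode

variable {k : Type u} [CommRing k] {A : Type v} [CommRing A] [Bialgebra k A]

theorem convPow_sub_one_apply_mem (m : ℕ) (a : A) :
    (((toConv (LinearMap.id : A →ₗ[k] A)) - 1) ^ m).ofConv a ∈
      (RingHom.ker (Bialgebra.counitAlgHom k A)) ^ m := by
  induction m generalizing a with
  | zero => simp
  | succ m ih =>
    rw [pow_succ, pow_succ, LinearMap.convMul_apply]
    generalize comul (R := k) a = t
    induction t using TensorProduct.induction_on with
    | zero => simp
    | add s t hs ht =>
      rw [map_add, map_add]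
      exact Ideal.add_mem _ hs ht
    | tmul s t =>
      rw [TensorProduct.map_tmul, LinearMap.mul'_apply]
      refine Ideal.mul_mem_mul (ih s) ?_
      rw [RingHom.mem_ker]
      simp [LinearMap.convOne_apply]

theorem isUnit_toConv_id (hnil : IsNilpotent (RingHom.ker (Bialgebra.counitAlgHom k A))) :
    IsUnit (toConv (LinearMap.id : A →ₗ[k] A)) := by
  obtain ⟨N, hN⟩ := hnil
  have h1 : IsNilpotent ((toConv (LinearMap.id : A →ₗ[k] A)) - 1) := by
    refine ⟨N, ?_⟩
    apply WithConv.ofConv_injective
    apply LinearMap.ext
    intro a
    have := convPow_sub_one_apply_mem (k := k) N a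
    rw [hN] at this
    simpa using this
  have h2 := h1.isUnit_one_add
  rwa [add_sub_cancel] at h2

/-- A commutative bialgebra with nilpotent augmentation ideal is a Hopf algebra. -/
@[reducible] noncomputable def hopfOfNilpotent
    (hnil : IsNilpotent (RingHom.ker (Bialgebra.counitAlgHom k A))) : HopfAlgebra k A :=
  HopfAlgebra.ofConvInverse ((isUnit_toConv_id hnil).unit⁻¹ : (WithConv (A →ₗ[k] A))ˣ).val.ofConv
    (by
      have := (isUnit_toConv_id hnil).unit.inv_mul
      simp)
    (by
      have := (isUnit_toConv_id hnil).unit.mul_inv
      simp)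

theorem hopfOfNilpotent_toBialgebra
    (hnil : IsNilpotent (RingHom.ker (Bialgebra.counitAlgHom k A))) :
    (hopfOfNilpotent hnil).toBialgebra = ‹Bialgebra k A› := rfl

end NilAntipode

section InvDer

variable {k : Type u} [Field k] {A : Type v} [CommRing A] [Bialgebra k A]

variable (k A) in
/-- The left-invariant derivations: `Δ ∘ D = (id ⊗ D) ∘ Δ`. -/
def invDerSubmodule : Submodule k (Derivation k A A) where
  carrier := {D | comul (R := k) (A := A) ∘ₗ D.toLinearMap =
    LinearMap.lTensor A D.toLinearMap ∘ₗ comul (R := k) (A := A)}
  add_mem' := by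
    intro D E hD hE
    simp only [Set.mem_ofPred_eq] at hD hE ⊢
    have : (D + E).toLinearMap = D.toLinearMap + E.toLinearMap := rfl
    rw [this, LinearMap.comp_add, LinearMap.lTensor_add, LinearMap.add_comp, hD, hE]
  zero_mem' := by
    simp only [Set.mem_ofPred_eq]
    have : (0 : Derivation k A A).toLinearMap = 0 := rfl
    rw [this, LinearMap.comp_zero, LinearMap.lTensor_zero, LinearMap.zero_comp]
  smul_mem' := by
    intro c D hD
    simp only [Set.mem_ofPred_eq] at hD ⊢
    have : (c • D).toLinearMap = c • D.toLinearMap := rfl
    rw [this, LinearMap.comp_smul, LinearMap.lTensor_smul, LinearMap.smul_comp, hD]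

theorem mem_invDerSubmodule (D : Derivation k A A) :
    D ∈ invDerSubmodule k A ↔ comul (R := k) (A := A) ∘ₗ D.toLinearMap =
      LinearMap.lTensor A D.toLinearMap ∘ₗ comul (R := k) (A := A) := Iff.rfl

/-- An invariant derivation is determined by its value at the unit section. -/
theorem eq_zero_of_counit_comp_eq_zero (D : Derivation k A A) (hD : D ∈ invDerSubmodule k A)
    (h : ∀ a, counit (R := k) (D a) = 0) : D = 0 := by
  apply Derivation.ext
  intro a
  have h1 := congrArg (fun f => f (D a)) (Coalgebra.lTensor_counit_comp_comul (R := k) (A := A))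
  simp only [LinearMap.comp_apply] at h1
  have h2 := congrArg (fun f => f a) ((mem_invDerSubmodule D).1 hD)
  simp only [LinearMap.comp_apply] at h2
  have h2' : comul (R := k) (D a) = LinearMap.lTensor A D.toLinearMap (comul (R := k) a) := h2
  rw [h2', ← LinearMap.comp_apply, ← LinearMap.lTensor_comp] at h1
  have h3 : (counit (R := k) (A := A)) ∘ₗ D.toLinearMap = 0 := by
    apply LinearMap.ext
    intro b
    exact h b
  rw [h3, LinearMap.lTensor_zero, LinearMap.zero_apply] at h1
  have h4 : (TensorProduct.rid k A) (D a ⊗ₜ[k] (1 : k)) = 0 := by
    have : D a ⊗ₜ[k] (1 : k) = 0 := by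
      simpa using h1.symm
    rw [this, map_zero]
  simpa using h4

/-- The space of invariant derivations has dimension at most the number of generators of the
augmentation ideal. -/
theorem finrank_invDerSubmodule_le {r : ℕ} (x : Fin r → A)
    (hx : Ideal.span (Set.range x) = RingHom.ker (Bialgebra.counitAlgHom k A)) :
    Module.Finite k (invDerSubmodule k A) ∧ Module.finrank k (invDerSubmodule k A) ≤ r := by
  let Ψ : invDerSubmodule k A →ₗ[k] (Fin r → k) :=
    { toFun := fun D i => counit (R := k) (D.1 (x i))
      map_add' := by
        intro D E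
        funext i
        simp
      map_smul' := by
        intro c D
        funext i
        simp }
  have hΨ : Function.Injective Ψ := by
    rw [injective_iff_map_eq_zero]
    intro D hD
    apply Subtype.ext
    apply eq_zero_of_counit_comp_eq_zero D.1 D.2
    have hxi : ∀ i, counit (R := k) (D.1 (x i)) = 0 := fun i => congrFun hD i
    have hεx : ∀ i, counit (R := k) (x i) = 0 := by
      intro i
      have : x i ∈ RingHom.ker (Bialgebra.counitAlgHom k A) := by
        rw [← hx]
        exact Ideal.subset_span ⟨i, rfl⟩
      exact this
    -- `ε ∘ D` vanishes on the augmentation ideal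
    have hI : ∀ a ∈ RingHom.ker (Bialgebra.counitAlgHom k A), counit (R := k) (D.1 a) = 0 := by
      intro a ha
      rw [← hx] at ha
      induction ha using Submodule.span_induction with
      | mem y hy =>
        obtain ⟨i, rfl⟩ := hy
        exact hxi i
      | zero => simp
      | add y z _ _ hy hz => rw [map_add, map_add, hy, hz, add_zero]
      | smul c y hy ih =>
        rw [smul_eq_mul, Derivation.leibniz, map_add]
        have hy' : counit (R := k) y = 0 := by
          have : y ∈ RingHom.ker (Bialgebra.counitAlgHom k A) := by
            rw [← hx]; exact hy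
          exact this
        simp only [smul_eq_mul, Bialgebra.counit_mul, ih, hy', mul_zero, zero_mul, add_zero]
    intro a
    have ha : a - algebraMap k A (counit (R := k) a) ∈ RingHom.ker (Bialgebra.counitAlgHom k A) := by
      rw [RingHom.mem_ker, map_sub]
      simp
    have := hI _ ha
    rw [map_sub, Derivation.map_algebraMap, sub_zero] at this
    exact this
  refine ⟨Module.Finite.of_injective Ψ hΨ, ?_⟩
  have := LinearMap.finrank_le_finrank_of_injective hΨ
  simpa using this

end InvDer

end Groth.Agent.Lib.Helper16.FinHopf
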