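import Groth.Agent.Lib.Helper16.FinHopfPrimeClass
import Groth.Agent.Lib.Helper16.FinHopfNilAntipode
import Groth.Agent.Lib.Helper16.FinHopfConn
import Groth.Agent.Lib.Helper16.FinHopfEtale
import Groth.Agent.Lib.Helper75.KerHopf

/-!
# Non-reduced finite group schemes contain `μ_p` or `α_p` (helper16)
-/

set_option autoImplicit false
set_option linter.unusedSectionVars false
set_option linter.style.haveILetI false

namespace Groth.Agent.Lib.Helper16.FinHopf

open TensorProduct Module WithConv Coalgebra

universe u v

section BiIdeal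

variable {k : Type u} [Field k] {A : Type v} [CommRing A] [HopfAlgebra k A] [Module.Finite k A]

/-- In a finite local Hopf algebra every bi-ideal is a Hopf ideal. -/
theorem isHopfIdeal_of_isCoideal_of_isLocalRing [IsLocalRing A] (J : Ideal A)
    [hJ : (J.restrictScalars k).IsCoideal] : J.IsHopfIdeal k := by
  haveI : Nontrivial (A ⧸ J) := by
    have hne : J ≠ ⊤ := by
      intro h
      have h1 : (1 : A) ∈ J.restrictScalars k := by rw [h]; trivial
      have := hJ.counit_eq_zero h1
      rw [Bialgebra.counit_one] at this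
      exact one_ne_zero this
    exact Ideal.Quotient.nontrivial_iff.2 hne
  haveI : IsLocalRing (A ⧸ J) :=
    IsLocalRing.of_surjective' (Ideal.Quotient.mk J) Ideal.Quotient.mk_surjective
  have hnil : IsNilpotent (RingHom.ker (Bialgebra.counitAlgHom k (A ⧸ J))) :=
    isNilpotent_ker_of_isLocalRing _
  letI : HopfAlgebra k (A ⧸ J) := hopfOfNilpotent hnil
  refine { hJ with antipode_mem := ?_ }
  intro x hx
  have h := LinearMap.congr_fun
    (Groth.Agent.Lib.Helper75.KerHopf.comp_antipode (Bialgebra.Quotient.mkBialgHom (R := k) J)) x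
  simp only [LinearMap.coe_comp, Function.comp_apply] at h
  have hx0 : (Bialgebra.Quotient.mkBialgHom (R := k) J).toLinearMap x = 0 :=
    Ideal.Quotient.eq_zero_iff_mem.2 hx
  rw [hx0, map_zero] at h
  exact Ideal.Quotient.eq_zero_iff_mem.1 h

end BiIdeal

section Cocomm

variable {k : Type u} [Field k] {A : Type v} [CommRing A] [HopfAlgebra k A] [Module.Finite k A]
  (d : A →ₗ[k] k)
  (hd : ∀ a b, d (a * b) = counit (R := k) a * d b + d a * counit (R := k) b)

/-- The functionals `ε ∘ ∂ⁿ`, `∂` the invariant derivation attached to `d`. -/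
noncomputable def dpow (n : ℕ) : A →ₗ[k] k :=
  counit (R := k) (A := A) ∘ₗ (((invDer d hd : Derivation k A A) : A →ₗ[k] A) ^ n)

theorem dpow_apply (n : ℕ) (a : A) :
    dpow d hd n a = counit (R := k) ((((invDer d hd : Derivation k A A) : A →ₗ[k] A) ^ n) a) := rfl

theorem toConv_pow_eq (n : ℕ) :
    (toConv d : WithConv (A →ₗ[k] k)) ^ n = toConv (dpow d hd n) := by
  induction n with
  | zero =>
    rw [pow_zero]
    apply WithConv.ofConv_injective
    apply LinearMap.ext
    intro a
    simp [dpow, LinearMap.convOne_apply]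
  | succ n ih =>
    rw [pow_succ, ih]
    apply WithConv.ofConv_injective
    apply LinearMap.ext
    intro a
    rw [convMul_dual_eq_comp]
    change dpow d hd n (contractR d (comul (R := k) a)) = dpow d hd (n + 1) a
    rw [dpow_apply, dpow_apply, pow_succ, Module.End.mul_apply]
    rfl

/-- The span of the `ε ∘ ∂ⁿ`. -/
noncomputable def dspan : Subspace k (Module.Dual k A) :=
  Submodule.span k (Set.range (dpow d hd))

theorem dspan_mul (F G : A →ₗ[k] k) (hF : F ∈ dspan d hd) (hG : G ∈ dspan d hd) :
    (toConv F * toConv G : WithConv (A →ₗ[k] k)).ofConv ∈ dspan d hd := by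
  unfold dspan at hF
  induction hF using Submodule.span_induction with
  | mem x hx =>
    obtain ⟨n, rfl⟩ := hx
    unfold dspan at hG
    induction hG using Submodule.span_induction with
    | mem y hy =>
      obtain ⟨m, rfl⟩ := hy
      rw [← toConv_pow_eq d hd, ← toConv_pow_eq d hd, ← pow_add, toConv_pow_eq d hd]
      exact Submodule.subset_span ⟨n + m, rfl⟩
    | zero => simp
    | add y z _ _ hy hz =>
      rw [WithConv.toConv_add, mul_add, WithConv.ofConv_add]
      exact Submodule.add_mem _ hy hz
    | smul c y _ hy =>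
      rw [WithConv.toConv_smul, mul_smul_comm, WithConv.ofConv_smul]
      exact Submodule.smul_mem _ c hy
  | zero => simp
  | add y z _ _ hy hz =>
    rw [WithConv.toConv_add, add_mul, WithConv.ofConv_add]
    exact Submodule.add_mem _ hy hz
  | smul c y _ hy =>
    rw [WithConv.toConv_smul, smul_mul_assoc, WithConv.ofConv_smul]
    exact Submodule.smul_mem _ c hy

/-- The annihilator of the `ε ∘ ∂ⁿ`, as an ideal. -/
noncomputable def annIdeal : Ideal A where
  carrier := {a | ∀ n, dpow d hd n a = 0}
  add_mem' := by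
    intro a b ha hb n
    rw [map_add, ha n, hb n, add_zero]
  zero_mem' := by
    intro n
    rw [map_zero]
  smul_mem' := by
    intro b a ha
    have key : ∀ n : ℕ, ∀ a : A, (∀ m, dpow d hd m a = 0) → ∀ b : A, dpow d hd n (b * a) = 0 := by
      intro n
      induction n with
      | zero =>
        intro a ha b
        have h0 := ha 0
        simp only [dpow_apply, pow_zero, Module.End.one_apply] at h0 ⊢
        rw [Bialgebra.counit_mul, h0, mul_zero]
      | succ n ih =>
        intro a ha b
        rw [dpow_apply, pow_succ, Module.End.mul_apply]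
        have h1 : ((invDer d hd : Derivation k A A) : A →ₗ[k] A) (b * a) =
            b * (invDer d hd a) + (invDer d hd b) * a := by
          change invDer d hd (b * a) = _
          rw [Derivation.leibniz, smul_eq_mul, smul_eq_mul, mul_comm a]
        rw [h1, map_add, map_add]
        have h2 := ih (invDer d hd a) (by
          intro m
          have := ha (m + 1)
          rw [dpow_apply, pow_succ, Module.End.mul_apply] at this
          exact this) b
        have h3 := ih a ha (invDer d hd b)
        rw [dpow_apply] at h2 h3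
        rw [h2, h3, add_zero]
    intro n
    exact key n a ha b

theorem mem_annIdeal (a : A) : a ∈ annIdeal d hd ↔ ∀ n, dpow d hd n a = 0 := Iff.rfl

theorem annIdeal_eq : (annIdeal d hd).restrictScalars k = (dspan d hd).dualCoannihilator := by
  ext a
  rw [Submodule.restrictScalars_mem, mem_annIdeal, Submodule.mem_dualCoannihilator]
  constructor
  · intro h φ hφ
    unfold dspan at hφ
    induction hφ using Submodule.span_induction with
    | mem x hx =>
      obtain ⟨n, rfl⟩ := hx
      exact h n
    | zero => simp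
    | add y z _ _ hy hz => rw [LinearMap.add_apply, hy, hz, add_zero]
    | smul c y _ hy => rw [LinearMap.smul_apply, hy, smul_zero]
  · intro h n
    exact h _ (Submodule.subset_span ⟨n, rfl⟩)

theorem mem_dspan_of_vanish (φ : A →ₗ[k] k) (h : ∀ w ∈ annIdeal d hd, φ w = 0) :
    φ ∈ dspan d hd := by
  have h1 : φ ∈ ((dspan d hd).dualCoannihilator).dualAnnihilator := by
    rw [Submodule.mem_dualAnnihilator]
    intro w hw
    rw [← annIdeal_eq] at hw
    exact h w hw
  rwa [Subspace.dualCoannihilator_dualAnnihilator_eq] at h1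

instance isCoideal_annIdeal : ((annIdeal d hd).restrictScalars k).IsCoideal where
  counit_eq_zero := by
    intro a ha
    have := (mem_annIdeal d hd a).1 ha 0
    simpa [dpow_apply] using this
  map_mkQ_comul_eq_zero := by
    intro a ha
    apply eq_zero_of_forall_dual_tmul
    intro f g
    have hcomp : TensorProduct.map f g
        (TensorProduct.map ((annIdeal d hd).restrictScalars k).mkQ
          ((annIdeal d hd).restrictScalars k).mkQ (comul (R := k) a)) =
        TensorProduct.map (f ∘ₗ ((annIdeal d hd).restrictScalars k).mkQ)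
          (g ∘ₗ ((annIdeal d hd).restrictScalars k).mkQ) (comul (R := k) a) := by
      rw [TensorProduct.map_comp, LinearMap.comp_apply]
    rw [hcomp]
    have hmem : ∀ f : (A ⧸ (annIdeal d hd).restrictScalars k) →ₗ[k] k,
        f ∘ₗ ((annIdeal d hd).restrictScalars k).mkQ ∈ dspan d hd := by
      intro f
      apply mem_dspan_of_vanish
      intro w hw
      rw [LinearMap.comp_apply]
      have : ((annIdeal d hd).restrictScalars k).mkQ w = 0 :=
        (Submodule.Quotient.mk_eq_zero _).2 hw
      rw [this, map_zero]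
    have h2 := dspan_mul d hd _ _ (hmem f) (hmem g)
    have h3 : a ∈ (dspan d hd).dualCoannihilator := by
      rw [← annIdeal_eq]; exact ha
    have h4 := (Submodule.mem_dualCoannihilator _).1 h3 _ h2
    rw [convMul_dual_apply] at h4
    exact h4

/-- A simple finite local Hopf algebra is cocommutative. -/
theorem isCocomm_of_simple_of_isLocalRing [IsLocalRing A] (hA : 1 < finrank k A)
    (hsimple : ∀ I : Ideal A, I.IsHopfIdeal k →
      I = ⊥ ∨ I = RingHom.ker (Bialgebra.counitAlgHom k A)) : Coalgebra.IsCocomm k A := by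
  set ε := Bialgebra.counitAlgHom k A with hε
  have hnil : IsNilpotent (RingHom.ker ε) := isNilpotent_ker_of_isLocalRing ε
  have hne : RingHom.ker ε ≠ ⊥ := ker_counit_ne_bot hA
  -- a nonzero point derivation
  have hcot : ¬ Subsingleton (RingHom.ker ε).Cotangent := by
    rw [Ideal.cotangent_subsingleton_iff]
    intro hidem
    apply hne
    apply eq_bot_of_le_sq_of_isNilpotent _ _ hnil
    rw [pow_two]
    exact hidem.ge
  rw [not_subsingleton_iff_nontrivial] at hcot
  obtain ⟨c, hc⟩ := exists_ne (0 : (RingHom.ker ε).Cotangent)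
  obtain ⟨δ, hδ⟩ := Module.Projective.exists_dual_ne_zero k hc
  obtain ⟨x, rfl⟩ := (RingHom.ker ε).toCotangent_surjective c
  set d := pointDer ε δ with hd_def
  have hd : ∀ a b, d (a * b) = counit (R := k) a * d b + d a * counit (R := k) b :=
    fun a b => pointDer_mul ε δ a b
  have hdx : d x ≠ 0 := by
    rw [hd_def, pointDer_apply_of_mem ε δ x x.2]
    exact hδ
  -- the annihilator ideal is a Hopf ideal
  have hHopf : (annIdeal d hd).IsHopfIdeal k := isHopfIdeal_of_isCoideal_of_isLocalRing _
  have hbot : annIdeal d hd = ⊥ := by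
    rcases hsimple _ hHopf with h | h
    · exact h
    · exfalso
      have hx : (x : A) ∈ annIdeal d hd := by rw [h]; exact x.2
      have h1 := (mem_annIdeal d hd x).1 hx 1
      have h2 : dpow d hd 1 = d := by
        have := toConv_pow_eq d hd 1
        rw [pow_one] at this
        exact (WithConv.toConv_injective this).symm
      rw [h2] at h1
      exact hdx h1
  -- hence the `ε ∘ ∂ⁿ` span the dual
  have htop : dspan d hd = ⊤ := by
    have h1 := Subspace.dualCoannihilator_dualAnnihilator_eq (W := dspan d hd)
    rw [← annIdeal_eq, hbot] at h1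
    rw [← h1]
    simp
  apply isCocomm_of_dual_comm
  apply dual_comm_of_span (S := Set.range (fun n : ℕ => (toConv d : WithConv (A →ₗ[k] k)) ^ n))
  · rw [eq_top_iff]
    intro f _
    have hf : f.ofConv ∈ dspan d hd := by rw [htop]; trivial
    unfold dspan at hf
    have key : ∀ F : A →ₗ[k] k, F ∈ Submodule.span k (Set.range (dpow d hd)) →
        toConv F ∈ Submodule.span k
          (Set.range (fun n : ℕ => (toConv d : WithConv (A →ₗ[k] k)) ^ n)) := by
      intro F hF
      induction hF using Submodule.span_induction with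
      | mem y hy =>
        obtain ⟨n, rfl⟩ := hy
        rw [← toConv_pow_eq]
        exact Submodule.subset_span ⟨n, rfl⟩
      | zero => simp
      | add y z _ _ hy hz =>
        rw [WithConv.toConv_add]
        exact Submodule.add_mem _ hy hz
      | smul c y _ hy =>
        rw [WithConv.toConv_smul]
        exact Submodule.smul_mem _ c hy
    exact key _ hf
  · rintro _ ⟨n, rfl⟩ _ ⟨m, rfl⟩
    rw [← pow_add, ← pow_add, add_comm]

end Cocomm

section SimpleClass

variable {k : Type u} [Field k] (p : ℕ) [Fact p.Prime] [CharP k p]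
  {A : Type v} [CommRing A] [HopfAlgebra k A] [Module.Finite k A]

/-- A simple finite local Hopf algebra over an algebraically closed field of characteristic `p`
is the Hopf algebra of `μ_p` or of `α_p`. -/
theorem mu_or_alpha_of_simple [IsAlgClosed k] [IsLocalRing A] (hp1 : 1 < finrank k A)
    (hsimple : ∀ I : Ideal A, I.IsHopfIdeal k →
      I = ⊥ ∨ I = RingHom.ker (Bialgebra.counitAlgHom k A)) :
    Nonempty (A ≃ₐc[k] MonoidAlgebra k (Multiplicative (ZMod p))) ∨
      Nonempty (A ≃ₐc[k] AlphaP.A p k) := by
  haveI : Coalgebra.IsCocomm k A := isCocomm_of_simple_of_isLocalRing hp1 hsimple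
  have hp := pow_eq_zero_of_simple p hp1 hsimple
  by_cases hD : IsLocalRing (WithConv (A →ₗ[k] k))
  · right
    obtain ⟨x, hx0, hx⟩ := exists_primitive_of_isLocalRing_dual hD hp1
    have hxI : Bialgebra.counitAlgHom k A x = 0 := counit_eq_zero_of_primitive x hx
    have hspan : RingHom.ker (Bialgebra.counitAlgHom k A) = Ideal.span {x} := by
      rcases hsimple _ (isHopfIdeal_span_primitive x hx) with h | h
      · exfalso
        apply hx0
        have h1 := Ideal.mem_span_singleton_self x
        rw [h] at h1
        exact h1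
      · exact h.symm
    obtain ⟨hfin, hli⟩ := finrank_eq_prime_of_span_singleton p hp1 hp x hspan
    exact nonempty_bialgEquiv_alphaP p x hx (hp x hxI) hli hfin
  · left
    obtain ⟨g, hg1, hg⟩ := exists_groupLike_of_not_isLocalRing_dual hD
    have hgI : Bialgebra.counitAlgHom k A (g - 1) = 0 := by
      rw [map_sub, map_one, Bialgebra.counitAlgHom_apply, hg.counit_eq_one, sub_self]
    have hspan : RingHom.ker (Bialgebra.counitAlgHom k A) = Ideal.span {g - 1} := by
      rcases hsimple _ (isHopfIdeal_span_groupLike_sub_one g hg) with h | h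
      · exfalso
        apply hg1
        have h1 := Ideal.mem_span_singleton_self (g - 1)
        rw [h] at h1
        exact sub_eq_zero.1 h1
      · exact h.symm
    obtain ⟨hfin, -⟩ := finrank_eq_prime_of_span_singleton p hp1 hp (g - 1) hspan
    haveI : Nontrivial A := nontrivial_of_counit k A
    haveI : CharP A p := charP_of_nontrivial_algebra (k := k) (p := p) A
    have hgp : g ^ p = 1 := by
      have h1 := hp (g - 1) hgI
      rw [sub_pow_char, one_pow, sub_eq_zero] at h1
      exact h1
    have horder : orderOf g = p := orderOf_eq_prime hgp hg1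
    have hli := (linearIndepOn_isGroupLikeElem (R := k) (A := A)).linearIndependent
    have hcomp := hli.comp
      (fun i : Fin p => (⟨g ^ (i : ℕ), hg.pow⟩ : {a : A | IsGroupLikeElem k a}))
      (by
        intro i j hij
        have h1 : g ^ (i : ℕ) = g ^ (j : ℕ) := congrArg Subtype.val hij
        apply Fin.ext
        exact pow_injOn_Iio_orderOf (by rw [horder]; exact i.2) (by rw [horder]; exact j.2) h1)
    exact nonempty_bialgEquiv_muP p g hg hgp hcomp hfin

end SimpleClass

section Reduction

variable {k : Type u} [Field k] {A : Type v} [CommRing A] [HopfAlgebra k A] [Module.Finite k A]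

/-- A Hopf quotient by an ideal between `I ^ M` and `I` is local. -/
theorem isLocalRing_quotient_of_pow_le (J : Ideal A) [J.IsHopfIdeal k] (M : ℕ)
    (hM : (RingHom.ker (Bialgebra.counitAlgHom k A)) ^ M ≤ J) : IsLocalRing (A ⧸ J) := by
  haveI : Nontrivial (A ⧸ J) := nontrivial_of_counit k (A ⧸ J)
  have hunit : ∀ a : A ⧸ J, counit (R := k) a ≠ 0 → IsUnit a := by
    intro a ha
    obtain ⟨a₀, rfl⟩ := Ideal.Quotient.mk_surjective a
    rw [Bialgebra.Quotient.counit_mk] at ha
    set c := counit (R := k) a₀ with hc
    have hn₀ : a₀ - algebraMap k A c ∈ RingHom.ker (Bialgebra.counitAlgHom k A) := by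
      rw [RingHom.mem_ker, map_sub]
      simp [hc]
    have hnil : IsNilpotent (Ideal.Quotient.mk J (a₀ - algebraMap k A c)) := by
      refine ⟨M, ?_⟩
      rw [← map_pow, Ideal.Quotient.eq_zero_iff_mem]
      exact hM (Ideal.pow_mem_pow hn₀ M)
    have hu : IsUnit (Ideal.Quotient.mk J (algebraMap k A c)) :=
      ((isUnit_iff_ne_zero.2 ha).map (algebraMap k A)).map (Ideal.Quotient.mk J)
    have := hnil.isUnit_add_left_of_commute hu (Commute.all _ _)
    rwa [← map_add, add_sub_cancel] at this
  refine IsLocalRing.of_nonunits_add ?_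
  intro a b ha hb
  have ha0 : counit (R := k) a = 0 := by
    by_contra h
    exact ha (hunit a h)
  have hb0 : counit (R := k) b = 0 := by
    by_contra h
    exact hb (hunit b h)
  intro hab
  have h1 : IsUnit (Bialgebra.counitAlgHom k (A ⧸ J) (a + b)) := hab.map _
  rw [map_add, Bialgebra.counitAlgHom_apply, Bialgebra.counitAlgHom_apply, ha0, hb0,
    add_zero] at h1
  exact not_isUnit_zero h1

theorem one_lt_finrank_of_ker_counit_ne_bot
    (h : RingHom.ker (Bialgebra.counitAlgHom k A) ≠ ⊥) : 1 < finrank k A := by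
  obtain ⟨x, hxI, hx0⟩ := Submodule.exists_mem_ne_zero_of_ne_bot h
  have hεx : counit (R := k) x = 0 := hxI
  have hli : LinearIndependent k ![(1 : A), x] := by
    rw [LinearIndependent.pair_iff]
    intro s t hst
    have h1 := congrArg (counit (R := k)) hst
    rw [map_add, map_smul, map_smul, Bialgebra.counit_one, hεx, smul_zero, add_zero, map_zero,
      smul_eq_mul, mul_one] at h1
    rw [h1, zero_smul, zero_add] at hst
    exact ⟨h1, (smul_eq_zero.1 hst).resolve_right hx0⟩
  have := hli.fintype_card_le_finrank
  simp only [Fintype.card_fin] at this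
  omega

/-- A non-reduced finite Hopf algebra over a field has a simple local Hopf quotient
of dimension `> 1`. -/
theorem exists_simple_local_quotient (hA : ¬ IsReduced A) :
    ∃ (J : Ideal A) (_ : J.IsHopfIdeal k), IsLocalRing (A ⧸ J) ∧ 1 < finrank k (A ⧸ J) ∧
      ∀ K : Ideal (A ⧸ J), K.IsHopfIdeal k →
        K = ⊥ ∨ K = RingHom.ker (Bialgebra.counitAlgHom k (A ⧸ J)) := by
  classical
  set I := RingHom.ker (Bialgebra.counitAlgHom k A) with hI
  have hnotidem : ¬ IsIdempotentElem I := by
    intro h
    apply hA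
    haveI : Algebra.FormallyUnramified k A := formallyUnramified_of_idem k A h
    exact Algebra.FormallyUnramified.isReduced_of_field k A
  haveI : IsArtinianRing A := IsArtinianRing.of_finite k A
  obtain ⟨N, hN2, hN0, hNN⟩ := exists_pow_stable I 2
  -- `I ^ N` is a Hopf ideal strictly inside `I`
  have hJ₀lt : I ^ N < I := by
    refine lt_of_le_of_ne (Ideal.pow_le_self hN0) ?_
    intro h
    apply hnotidem
    have h1 : I ≤ I ^ 2 := by
      calc I = I ^ N := h.symm
        _ ≤ I ^ 2 := Ideal.pow_le_pow_right hN2
    have h2 : I ^ 2 ≤ I := Ideal.pow_le_self (by norm_num)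
    have h3 : I ^ 2 = I := le_antisymm h2 h1
    rw [IsIdempotentElem, ← pow_two]
    exact h3
  have hloc : ∀ (J : Ideal A) [J.IsHopfIdeal k], I ^ N ≤ J → IsLocalRing (A ⧸ J) :=
    fun J _ h => isLocalRing_quotient_of_pow_le J N h
  -- the family of Hopf ideals between `I ^ N` and `I`, strictly below `I`
  let 𝒯 : Set (Ideal A) := {J | J.IsHopfIdeal k ∧ I ^ N ≤ J ∧ J < I}
  have hJ₀coideal : ((I ^ N).restrictScalars k).IsCoideal := isCoideal_pow N hN0 hNN
  have hJ₀ : I ^ N ∈ 𝒯 := by
    refine ⟨?_, le_rfl, hJ₀lt⟩
    refine { hJ₀coideal with antipode_mem := ?_ }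
    intro x hx
    have h1 : HopfAlgebra.antipodeAlgHom k A x ∈ (I ^ N).map (HopfAlgebra.antipodeAlgHom k A) :=
      Ideal.mem_map_of_mem _ hx
    rw [Ideal.map_pow] at h1
    have h2 : I.map (HopfAlgebra.antipodeAlgHom k A) ≤ I := by
      rw [Ideal.map_le_iff_le_comap]
      intro a ha
      rw [Ideal.mem_comap, hI, RingHom.mem_ker]
      have ha' : counit (R := k) a = 0 := ha
      change counit (R := k) (HopfAlgebraStruct.antipode (R := k) a) = 0
      rw [HopfAlgebra.counit_antipode, ha']
    exact Ideal.pow_right_mono h2 N h1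
  -- a maximal element
  haveI : IsNoetherianRing A := inferInstance
  obtain ⟨J, hJ𝒯, hJmax⟩ := set_has_maximal_iff_noetherian.2 (inferInstance : IsNoetherian A A)
    𝒯 ⟨_, hJ₀⟩
  obtain ⟨hJH, hJle, hJlt⟩ := hJ𝒯
  haveI := hJH
  haveI : IsLocalRing (A ⧸ J) := hloc J hJle
  refine ⟨J, hJH, inferInstance, ?_, ?_⟩
  · apply one_lt_finrank_of_ker_counit_ne_bot
    obtain ⟨x, hxI, hxJ⟩ := SetLike.exists_of_lt hJlt
    intro hbot
    have h1 : Ideal.Quotient.mk J x ∈ RingHom.ker (Bialgebra.counitAlgHom k (A ⧸ J)) := by
      rw [RingHom.mem_ker]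
      exact hxI
    rw [hbot, Ideal.mem_bot, Ideal.Quotient.eq_zero_iff_mem] at h1
    exact hxJ h1
  · intro K hK
    haveI := hK
    -- pull `K` back to `A`
    let π : A →ₐc[k] (A ⧸ J) ⧸ K :=
      (Bialgebra.Quotient.mkBialgHom (R := k) K).comp (Bialgebra.Quotient.mkBialgHom (R := k) J)
    have hπ : ∀ a, π a = Ideal.Quotient.mk K (Ideal.Quotient.mk J a) := fun a => rfl
    set K' : Ideal A := RingHom.ker (π : A →+* (A ⧸ J) ⧸ K) with hK'
    have hK'H : K'.IsHopfIdeal k := Groth.Agent.Lib.Helper75.KerHopf.isHopfIdeal_ker π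
    have hmem : ∀ a, a ∈ K' ↔ Ideal.Quotient.mk J a ∈ K := by
      intro a
      rw [hK', RingHom.mem_ker]
      change π a = 0 ↔ _
      rw [hπ, Ideal.Quotient.eq_zero_iff_mem]
    have hJK' : J ≤ K' := by
      intro a ha
      rw [hmem, Ideal.Quotient.eq_zero_iff_mem.2 ha]
      exact K.zero_mem
    have hK'I : K' ≤ I := by
      intro a ha
      have h1 : counit (R := k) (Ideal.Quotient.mk J a) = 0 :=
        Submodule.IsCoideal.counit_eq_zero (I := K.restrictScalars k) ((hmem a).1 ha)
      rw [Bialgebra.Quotient.counit_mk] at h1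
      exact h1
    by_cases hKI : K' = I
    · right
      apply le_antisymm
      · intro b hb
        exact Submodule.IsCoideal.counit_eq_zero (I := K.restrictScalars k) hb
      · intro b hb
        obtain ⟨a, rfl⟩ := Ideal.Quotient.mk_surjective b
        rw [← hmem, hKI]
        have hb' : counit (R := k) (Ideal.Quotient.mk J a) = 0 := hb
        rw [Bialgebra.Quotient.counit_mk] at hb'
        exact hb'
    · left
      have hK'𝒯 : K' ∈ 𝒯 := ⟨hK'H, hJle.trans hJK', lt_of_le_of_ne hK'I hKI⟩
      have hnot := hJmax K' hK'𝒯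
      have hEq : K' = J := by
        by_contra hne
        exact hnot (lt_of_le_of_ne hJK' (Ne.symm hne))
      rw [eq_bot_iff]
      intro b hb
      obtain ⟨a, rfl⟩ := Ideal.Quotient.mk_surjective b
      rw [← hmem, hEq] at hb
      rw [Ideal.mem_bot, Ideal.Quotient.eq_zero_iff_mem]
      exact hb

/-- A non-reduced finite group scheme over an algebraically closed field of characteristic `p`
contains `μ_p` or `α_p`. -/
theorem exists_surjective_to_mu_or_alpha [IsAlgClosed k] (p : ℕ) [Fact p.Prime] [CharP k p]
    (hA : ¬ IsReduced A) :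
    (∃ f : A →ₐc[k] MonoidAlgebra k (Multiplicative (ZMod p)), Function.Surjective f) ∨
      (∃ f : A →ₐc[k] AlphaP.A p k, Function.Surjective f) := by
  obtain ⟨J, hJ, hloc, h1, hsimple⟩ := exists_simple_local_quotient (k := k) hA
  haveI := hJ
  haveI := hloc
  rcases mu_or_alpha_of_simple p h1 hsimple with ⟨⟨e⟩⟩ | ⟨⟨e⟩⟩
  · left
    refine ⟨(e : A ⧸ J →ₐc[k] _).comp (Bialgebra.Quotient.mkBialgHom (R := k) J), ?_⟩
    intro y
    obtain ⟨a, ha⟩ := Ideal.Quotient.mk_surjective (e.symm y)
    refine ⟨a, ?_⟩
    change e (Ideal.Quotient.mk J a) = y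
    rw [ha]
    exact e.apply_symm_apply y
  · right
    refine ⟨(e : A ⧸ J →ₐc[k] _).comp (Bialgebra.Quotient.mkBialgHom (R := k) J), ?_⟩
    intro y
    obtain ⟨a, ha⟩ := Ideal.Quotient.mk_surjective (e.symm y)
    refine ⟨a, ?_⟩
    change e (Ideal.Quotient.mk J a) = y
    rw [ha]
    exact e.apply_symm_apply y

end Reduction

end Groth.Agent.Lib.Helper16.FinHopf
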