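import Groth.Agent.Lib.Helper16.FinHopfAlphaMuRecog
import Groth.Agent.Lib.Helper16.FinHopfConstRecog
import Groth.Agent.Lib.Helper16.FinHopfPrimeOrder
import Groth.Agent.Lib.Helper16.FinHopfPrimePow
import Mathlib.GroupTheory.SpecificGroups.Cyclic

/-!
# Classification of finite group schemes of prime order over an algebraically closed field
(helper16)
-/

set_option autoImplicit false

namespace Groth.Agent.Lib.Helper16.FinHopf

open TensorProduct Module WithConv Coalgebra

universe u v

section DualNonLocal

variable {k : Type u} [Field k] {A : Type v} [CommRing A] [HopfAlgebra k A]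
  [Coalgebra.IsCocomm k A] [Module.Finite k A]

/-- Over an algebraically closed field, if the dual algebra is not local then `A` has a group-like
element `≠ 1`. -/
theorem exists_groupLike_of_not_isLocalRing_dual [IsAlgClosed k]
    (hdual : ¬ IsLocalRing (WithConv (A →ₗ[k] k))) :
    ∃ g : A, g ≠ 1 ∧ IsGroupLikeElem k g := by
  classical
  set εD : CartDual.D k A →ₐ[k] k := Bialgebra.counitAlgHom k (CartDual.D k A) with hεD
  have hεD_apply : ∀ F : CartDual.D k A, εD F = F.ofConv 1 := fun F => rfl
  set M : Ideal (CartDual.D k A) := RingHom.ker εD with hM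
  haveI hMmax : M.IsMaximal := ker_isMaximal εD
  have hex : ∃ m : Ideal (CartDual.D k A), m.IsMaximal ∧ m ≠ M := by
    by_contra hcon
    push_neg at hcon
    exact hdual (IsLocalRing.of_unique_max_ideal ⟨M, hMmax, fun m hm => hcon m hm⟩)
  obtain ⟨m, hm, hmM⟩ := hex
  obtain ⟨ψ, hψ⟩ := exists_algHom_ker_eq (k := k) m
  obtain ⟨g, hg⟩ := exists_eval_eq ψ.toLinearMap
  have hg' : ∀ F : CartDual.D k A, ψ F = F.ofConv g := hg
  refine ⟨g, ?_, ?_, ?_⟩
  · rintro rfl
    apply hmM
    rw [← hψ, hM]
    congr 1
    exact AlgHom.ext fun F => (hg' F).trans (hεD_apply F).symm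
  · have h1 := hg' 1
    rw [map_one] at h1
    have h2 : (1 : CartDual.D k A).ofConv g = algebraMap k k (counit (R := k) g) := rfl
    rw [h2] at h1
    exact h1.symm
  · rw [← sub_eq_zero]
    apply eq_zero_of_forall_dual_tmul
    intro f f'
    have h1 := map_mul ψ (toConv f) (toConv f')
    rw [hg', hg', hg', convMul_dual_apply] at h1
    simp only [map_sub, TensorProduct.map_tmul, LinearMap.mul'_apply]
    rw [h1]
    simp

end DualNonLocal

section PrimeLocal

variable {k : Type u} [Field k] (p : ℕ) [Fact p.Prime] [CharP k p]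
  {A : Type v} [CommRing A] [HopfAlgebra k A] [Module.Finite k A]

/-- A local Hopf algebra of dimension `p` is simple. -/
theorem simple_of_finrank_eq_prime_of_isLocalRing [IsLocalRing A] (hA : finrank k A = p) :
    ∀ J : Ideal A, J.IsHopfIdeal k → J = ⊥ ∨ J = RingHom.ker (Bialgebra.counitAlgHom k A) := by
  intro J hJ
  haveI := hJ
  haveI : Nontrivial (A ⧸ J) := nontrivial_of_counit k (A ⧸ J)
  have hJne : J ≠ ⊤ := fun h => by
    have : (1 : A ⧸ J) = 0 := by
      rw [← map_one (Ideal.Quotient.mk J), Ideal.Quotient.eq_zero_iff_mem, h]; trivial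
    exact one_ne_zero this
  haveI : IsLocalRing (A ⧸ J) :=
    IsLocalRing.of_surjective' (Ideal.Quotient.mk J) Ideal.Quotient.mk_surjective
  have hnil : IsNilpotent (RingHom.ker (Bialgebra.counitAlgHom k (A ⧸ J))) :=
    isNilpotent_ker_of_isLocalRing _
  obtain ⟨m, hm⟩ := exists_finrank_eq_prime_pow p (k := k) (finrank k (A ⧸ J)) (A ⧸ J) hnil le_rfl
  -- rank-nullity for the quotient map
  have hrn := LinearMap.finrank_range_add_finrank_ker (Ideal.Quotient.mkₐ k J).toLinearMap
  have hrange : LinearMap.range (Ideal.Quotient.mkₐ k J).toLinearMap = ⊤ :=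
    LinearMap.range_eq_top.2 (Ideal.Quotient.mkₐ_surjective k J)
  rw [hrange, finrank_top, hm, hA] at hrn
  have hJle : J ≤ RingHom.ker (Bialgebra.counitAlgHom k A) := fun a ha =>
    Submodule.IsCoideal.counit_eq_zero (I := J.restrictScalars k) ha
  have hp1 : 1 < p := (Fact.out : p.Prime).one_lt
  rcases Nat.eq_zero_or_pos m with h0 | hpos
  · -- `dim A/J = 1`
    right
    refine le_antisymm hJle fun a ha => ?_
    have h1 : finrank k (A ⧸ J) = 1 := by rw [hm, h0, pow_zero]
    obtain ⟨c, hc⟩ := (finrank_eq_one_iff_of_nonzero' (1 : A ⧸ J) one_ne_zero).1 h1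
      (Ideal.Quotient.mk J a)
    have h2 := congrArg (counit (R := k) (A := A ⧸ J)) hc
    rw [map_smul, Bialgebra.counit_one, Bialgebra.Quotient.counit_mk] at h2
    have h3 : counit (R := k) a = 0 := ha
    rw [h3, smul_eq_mul, mul_one] at h2
    rw [h2, zero_smul] at hc
    exact Ideal.Quotient.eq_zero_iff_mem.1 hc.symm
  · left
    have h1 : p ≤ p ^ m := by
      calc p = p ^ 1 := (pow_one p).symm
        _ ≤ p ^ m := Nat.pow_le_pow_right (Fact.out : p.Prime).pos hpos
    have h2 : finrank k (LinearMap.ker (Ideal.Quotient.mkₐ k J).toLinearMap) = 0 := by omega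
    have h3 : LinearMap.ker (Ideal.Quotient.mkₐ k J).toLinearMap = ⊥ :=
      Submodule.finrank_eq_zero.1 h2
    rw [eq_bot_iff]
    intro a ha
    have h4 : a ∈ LinearMap.ker (Ideal.Quotient.mkₐ k J).toLinearMap := by
      rw [LinearMap.mem_ker]
      exact Ideal.Quotient.eq_zero_iff_mem.2 ha
    rw [h3] at h4
    exact h4

/-- A local commutative cocommutative Hopf algebra of dimension `p` over an algebraically closed
field of characteristic `p` is the Hopf algebra of `μ_p` or of `α_p`. -/
theorem mu_or_alpha_of_isLocalRing [IsAlgClosed k] [IsLocalRing A] [Coalgebra.IsCocomm k A]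
    (hA : finrank k A = p) :
    Nonempty (A ≃ₐc[k] MonoidAlgebra k (Multiplicative (ZMod p))) ∨
      Nonempty (A ≃ₐc[k] AlphaP.A p k) := by
  have hp1 : 1 < finrank k A := by rw [hA]; exact (Fact.out : p.Prime).one_lt
  have hsimple := simple_of_finrank_eq_prime_of_isLocalRing p hA
  have hp := pow_eq_zero_of_simple p hp1 hsimple
  by_cases hD : IsLocalRing (WithConv (A →ₗ[k] k))
  · right
    obtain ⟨x, hx0, hx⟩ := exists_primitive_of_isLocalRing_dual hD hp1
    have hxI : Bialgebra.counitAlgHom k A x = 0 := counit_eq_zero_of_primitive x hx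
    have hspan : RingHom.ker (Bialgebra.counitAlgHom k A) = Ideal.span {x} := by
      rcases hsimple _ (isHopfIdeal_span_primitive x hx) with h | h
      · exfalso
        apply hx0
        have h1 := Ideal.mem_span_singleton_self x
        rw [h] at h1
        exact h1
      · exact h.symm
    obtain ⟨hfin, hli⟩ := finrank_eq_prime_of_span_singleton p hp1 hp x hspan
    exact nonempty_bialgEquiv_alphaP p x hx (hp x hxI) hli hfin
  · left
    obtain ⟨g, hg1, hg⟩ := exists_groupLike_of_not_isLocalRing_dual hD
    have hgI : Bialgebra.counitAlgHom k A (g - 1) = 0 := by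
      rw [map_sub, map_one, Bialgebra.counitAlgHom_apply, hg.counit_eq_one, sub_self]
    have hspan : RingHom.ker (Bialgebra.counitAlgHom k A) = Ideal.span {g - 1} := by
      rcases hsimple _ (isHopfIdeal_span_groupLike_sub_one g hg) with h | h
      · exfalso
        apply hg1
        have h1 := Ideal.mem_span_singleton_self (g - 1)
        rw [h] at h1
        exact sub_eq_zero.1 h1
      · exact h.symm
    obtain ⟨hfin, -⟩ := finrank_eq_prime_of_span_singleton p hp1 hp (g - 1) hspan
    haveI : Nontrivial A := nontrivial_of_counit k A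
    haveI : CharP A p := charP_of_nontrivial_algebra (k := k) (p := p) A
    have hgp : g ^ p = 1 := by
      have h1 := hp (g - 1) hgI
      rw [sub_pow_char, one_pow, sub_eq_zero] at h1
      exact h1
    have horder : orderOf g = p := orderOf_eq_prime hgp hg1
    have hli := (linearIndepOn_isGroupLikeElem (R := k) (A := A)).linearIndependent
    have hcomp := hli.comp
      (fun i : Fin p => (⟨g ^ (i : ℕ), hg.pow⟩ : {a : A | IsGroupLikeElem k a}))
      (by
        intro i j hij
        have h1 : g ^ (i : ℕ) = g ^ (j : ℕ) := congrArg Subtype.val hij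
        apply Fin.ext
        exact pow_injOn_Iio_orderOf (by rw [horder]; exact i.2) (by rw [horder]; exact j.2) h1)
    exact nonempty_bialgEquiv_muP p g hg hgp hcomp hfin

end PrimeLocal

section Main

variable {k : Type u} [Field k] [IsAlgClosed k] (p : ℕ) [Fact p.Prime] [CharP k p]
  {A : Type v} [CommRing A] [HopfAlgebra k A]

/-- **Classification of group schemes of prime order** over an algebraically closed field of
characteristic `p`: constant, or (`ℓ = p`) `μ_p` or `α_p`. -/
theorem prime_order_classification (ℓ : ℕ) [Fact ℓ.Prime] (hA : finrank k A = ℓ) :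
    Nonempty (A ≃ₐc[k] ConstGrp.F k (Multiplicative (ZMod ℓ))) ∨
      (ℓ = p ∧ (Nonempty (A ≃ₐc[k] MonoidAlgebra k (Multiplicative (ZMod p))) ∨
        Nonempty (A ≃ₐc[k] AlphaP.A p k))) := by
  classical
  have hℓ : ℓ.Prime := Fact.out
  haveI : Module.Finite k A := Module.finite_of_finrank_pos (by rw [hA]; exact hℓ.pos)
  haveI : IsArtinianRing A := IsArtinianRing.of_finite k A
  obtain ⟨N, hN⟩ := IsArtinianRing.isNilpotent_jacobson_bot (R := A)
  have hcard := finrank_eq_card_mul (k := k) (A := A) N hN
  rw [hA] at hcard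
  have hdvd : Nat.card (WithConv (A →ₐ[k] k)) ∣ ℓ := ⟨_, hcard⟩
  rcases (Nat.dvd_prime hℓ).1 hdvd with h1 | hℓ'
  · -- one point: local
    right
    have : Finite (A →ₐ[k] k) := inferInstance
    have : Finite (WithConv (A →ₐ[k] k)) := Finite.of_equiv _ (WithConv.equiv _).symm
    haveI : Subsingleton (WithConv (A →ₐ[k] k)) := (Nat.card_eq_one_iff_unique.1 h1).1
    haveI hmax : (RingHom.ker (Bialgebra.counitAlgHom k A)).IsMaximal :=
      ker_isMaximal (Bialgebra.counitAlgHom k A)
    haveI : IsLocalRing A := by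
      refine IsLocalRing.of_unique_max_ideal ⟨_, hmax, fun m hm => ?_⟩
      haveI := hm
      obtain ⟨γ, hγ⟩ := exists_algHom_ker_eq (k := k) m
      have h2 : toConv γ = toConv (Bialgebra.counitAlgHom k A) := Subsingleton.elim _ _
      rw [← hγ, WithConv.toConv_injective h2]
    have hnil : IsNilpotent (RingHom.ker (Bialgebra.counitAlgHom k A)) :=
      isNilpotent_ker_of_isLocalRing _
    obtain ⟨m, hm⟩ := exists_finrank_eq_prime_pow p (k := k) (finrank k A) A hnil le_rfl
    rw [hA] at hm
    have hpm : p = ℓ ∧ m = 1 := (Nat.Prime.pow_eq_iff hℓ).1 hm.symm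
    obtain ⟨hpl, -⟩ := hpm
    refine ⟨hpl.symm, ?_⟩
    have hA' : finrank k A = p := by rw [hA, hpl]
    haveI : Coalgebra.IsCocomm k A := isCocomm_of_finrank_eq_prime p Fact.out hA'
    exact mu_or_alpha_of_isLocalRing p hA'
  · left
    have hG : Nat.card (Multiplicative (ZMod ℓ)) = ℓ := by
      rw [Nat.card_eq_fintype_card, Fintype.card_multiplicative, ZMod.card]
    have φ : Multiplicative (ZMod ℓ) ≃* WithConv (A →ₐ[k] k) := mulEquivOfPrimeCardEq hG hℓ'
    exact nonempty_bialgEquiv_constGrp φ (hℓ'.trans hA.symm)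

end Main

end Groth.Agent.Lib.Helper16.FinHopf
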