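import Groth.Agent.Lib.Helper16.FinHopfFrobKer
import Groth.Agent.Lib.Helper16.FinHopfHeightOne
import Groth.Agent.Lib.Helper16.FinHopfLocal
import Groth.Agent.Lib.Helper16.FinHopfGraded
import Groth.Agent.Lib.Helper16.FinHopfDual
import Groth.Agent.Lib.Helper16.FinHopfFrobImage
import Groth.Agent.Lib.Helper16.FinHopfPoints
import Groth.Prelude.Def_CartDual
import Mathlib.RingTheory.HopfAlgebra.Quotient
import Mathlib.RingTheory.HopfAlgebra.GroupLike
import Mathlib.Algebra.CharP.Frobenius
import Mathlib.LinearAlgebra.Dimension.OrzechProperty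

/-!
# Simple finite commutative group schemes: the infinitesimal cases (helper16)
-/

set_option autoImplicit false

namespace Groth.Agent.Lib.Helper16.FinHopf

open TensorProduct Module WithConv Coalgebra HopfAlgebra

universe u v

section HopfIdeal

variable {k : Type u} [Field k] {A : Type v} [CommRing A] [HopfAlgebra k A]

/-- `(π ⊗ π) ∘ Δ` for the quotient by `J`. -/
noncomputable def comulQ (J : Ideal A) : A →ₐ[k] (A ⧸ J) ⊗[k] (A ⧸ J) :=
  (Algebra.TensorProduct.map (Ideal.Quotient.mkₐ k J) (Ideal.Quotient.mkₐ k J)).comp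
    (Bialgebra.comulAlgHom k A)

/-- Criterion for a span to be a Hopf ideal, checked on generators. -/
theorem isHopfIdeal_span (s : Set A) (h1 : ∀ x ∈ s, counit (R := k) x = 0)
    (h2 : ∀ x ∈ s, comulQ (k := k) (Ideal.span s) x = 0)
    (h3 : ∀ x ∈ s, antipode k x ∈ Ideal.span s) : (Ideal.span s).IsHopfIdeal k := by
  have H1 : Ideal.span s ≤ RingHom.ker (Bialgebra.counitAlgHom k A) := by
    rw [Ideal.span_le]; exact fun x hx => h1 x hx
  have H2 : Ideal.span s ≤ RingHom.ker (comulQ (k := k) (Ideal.span s)) := by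
    rw [Ideal.span_le]; exact fun x hx => h2 x hx
  have H3 : Ideal.span s ≤ (Ideal.span s).comap (antipodeAlgHom k A) := by
    rw [Ideal.span_le]; exact fun x hx => h3 x hx
  exact { counit_eq_zero := fun x hx => H1 hx
          map_mkQ_comul_eq_zero := fun x hx => H2 hx
          antipode_mem := fun x hx => H3 hx }

/-- `(ε ⊗ ε)(Δ a) = 0` for `a` in the augmentation ideal, hence `Δ a ∈ I ⊗ A + A ⊗ I`. -/
theorem comul_mem_sup_of_counit_eq_zero (a : A) (ha : counit (R := k) a = 0) :
    comul (R := k) a ∈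
      (RingHom.ker (Bialgebra.counitAlgHom k A)).map
        (Algebra.TensorProduct.includeLeft : A →ₐ[k] A ⊗[k] A) ⊔
      (RingHom.ker (Bialgebra.counitAlgHom k A)).map
        (Algebra.TensorProduct.includeRight : A →ₐ[k] A ⊗[k] A) := by
  have hsurj : Function.Surjective (Bialgebra.counitAlgHom k A) :=
    fun c => ⟨algebraMap k A c, by simp⟩
  rw [← Algebra.TensorProduct.map_ker (Bialgebra.counitAlgHom k A) (Bialgebra.counitAlgHom k A)
    hsurj hsurj, RingHom.mem_ker]
  have h1 : Algebra.TensorProduct.lmul' k (S := k)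
      (Algebra.TensorProduct.map (Bialgebra.counitAlgHom k A) (Bialgebra.counitAlgHom k A)
        (comul (R := k) a)) = 0 := by
    have h2 := AlgHom.convMul_apply (1 : WithConv (A →ₐ[k] k)) 1 a
    rw [one_mul] at h2
    have h3 : ∀ t : A ⊗[k] A, Algebra.TensorProduct.lmul' k (S := k)
        (Algebra.TensorProduct.map (Bialgebra.counitAlgHom k A) (Bialgebra.counitAlgHom k A) t) =
        Algebra.TensorProduct.lift (1 : WithConv (A →ₐ[k] k)).ofConv
          (1 : WithConv (A →ₐ[k] k)).ofConv (fun _ _ => .all ..) t := by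
      intro t
      induction t using TensorProduct.induction_on with
      | zero => simp
      | add x y hx hy => simp only [map_add, hx, hy]
      | tmul x y => simp [AlgHom.convOne_def]
    rw [h3, ← h2]
    simpa [AlgHom.convOne_def] using ha
  have hinj : Function.Injective (Algebra.TensorProduct.lmul' k (S := k)) := by
    have : (Algebra.TensorProduct.lmul' k (S := k) : k ⊗[k] k → k) =
        (TensorProduct.lid k k : k ⊗[k] k → k) := by
      funext t
      induction t using TensorProduct.induction_on with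
      | zero => simp
      | add x y hx hy => simp only [map_add, hx, hy]
      | tmul x y => simp
    rw [this]; exact (TensorProduct.lid k k).injective
  exact hinj (h1.trans (map_zero _).symm)

/-- The Frobenius ideal `(a^p : a ∈ I)` is a Hopf ideal. -/
theorem isHopfIdeal_frobKerIdeal (p : ℕ) [Fact p.Prime] [CharP k p] :
    (frobKerIdeal k p A).IsHopfIdeal k := by
  set J := frobKerIdeal k p A with hJ
  have hp : p ≠ 0 := (Fact.out : p.Prime).ne_zero
  refine isHopfIdeal_span _ ?_ ?_ ?_
  · rintro _ ⟨a, ha, rfl⟩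
    have h0 : counit (R := k) a = 0 := ha
    rw [← Bialgebra.counitAlgHom_apply, map_pow, Bialgebra.counitAlgHom_apply, h0, zero_pow hp]
  · rintro _ ⟨a, ha, rfl⟩
    show comulQ (k := k) J (a ^ p) = 0
    rcases subsingleton_or_nontrivial ((A ⧸ J) ⊗[k] (A ⧸ J)) with hs | hn
    · exact Subsingleton.elim _ _
    haveI : CharP ((A ⧸ J) ⊗[k] (A ⧸ J)) p := charP_of_nontrivial_algebra (k := k) (p := p) _
    have hmem := comul_mem_sup_of_counit_eq_zero a ha
    set π2 := Algebra.TensorProduct.map (Ideal.Quotient.mkₐ k J) (Ideal.Quotient.mkₐ k J) with hπ2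
    have hle : (RingHom.ker (Bialgebra.counitAlgHom k A)).map
          (Algebra.TensorProduct.includeLeft : A →ₐ[k] A ⊗[k] A) ⊔
        (RingHom.ker (Bialgebra.counitAlgHom k A)).map
          (Algebra.TensorProduct.includeRight : A →ₐ[k] A ⊗[k] A) ≤
        (RingHom.ker (frobenius ((A ⧸ J) ⊗[k] (A ⧸ J)) p)).comap π2 := by
      have hJmem : ∀ u ∈ RingHom.ker (Bialgebra.counitAlgHom k A),
          (Ideal.Quotient.mkₐ k J u) ^ p = 0 := by
        intro u hu
        rw [← map_pow]
        exact Ideal.Quotient.eq_zero_iff_mem.2 (Ideal.subset_span ⟨u, hu, rfl⟩)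
      refine sup_le ?_ ?_
      · rw [Ideal.map_le_iff_le_comap]
        intro u hu
        rw [Ideal.mem_comap, Ideal.mem_comap, RingHom.mem_ker, frobenius_def]
        simp only [hπ2, AlgHom.coe_toRingHom, Algebra.TensorProduct.includeLeft_apply,
          Algebra.TensorProduct.map_tmul, map_one, Algebra.TensorProduct.tmul_pow, one_pow,
          hJmem u hu, zero_tmul]
      · rw [Ideal.map_le_iff_le_comap]
        intro u hu
        rw [Ideal.mem_comap, Ideal.mem_comap, RingHom.mem_ker, frobenius_def]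
        simp only [hπ2, AlgHom.coe_toRingHom, Algebra.TensorProduct.includeRight_apply,
          Algebra.TensorProduct.map_tmul, map_one, Algebra.TensorProduct.tmul_pow, one_pow,
          hJmem u hu, tmul_zero]
    have h1 := hle hmem
    rw [Ideal.mem_comap, RingHom.mem_ker, frobenius_def] at h1
    rw [map_pow]
    exact h1
  · rintro _ ⟨a, ha, rfl⟩
    refine Ideal.subset_span ⟨antipode k a, ?_, ?_⟩
    · have h0 : counit (R := k) a = 0 := ha
      show Bialgebra.counitAlgHom k A (antipode k a) = 0
      rw [Bialgebra.counitAlgHom_apply, HopfAlgebra.counit_antipode, h0]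
    · show (antipode k a) ^ p = antipode k (a ^ p)
      rw [← antipodeAlgHom_apply, ← antipodeAlgHom_apply, map_pow]

end HopfIdeal

theorem eq_bot_of_le_sq_of_isNilpotent {R : Type*} [CommRing R] (I : Ideal R) (h : I ≤ I ^ 2)
    (hn : IsNilpotent I) : I = ⊥ := by
  have hIn : ∀ n : ℕ, I ≤ I ^ (n + 1) := by
    intro n
    induction n with
    | zero => simp
    | succ n ih =>
      calc I ≤ I ^ 2 := h
        _ = I * I := pow_two I
        _ ≤ I ^ (n + 1) * I := Ideal.mul_mono_left ih
        _ = I ^ (n + 1 + 1) := (pow_succ _ _).symm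
  obtain ⟨N, hN⟩ := hn
  have h2 : I ≤ ⊥ := by
    calc I ≤ I ^ (N + 1) := hIn N
      _ ≤ I ^ N := Ideal.pow_le_pow_right (Nat.le_succ N)
      _ = ⊥ := hN
  exact le_bot_iff.1 h2

section Simple

variable {k : Type u} [Field k] {A : Type v} [CommRing A] [HopfAlgebra k A] [Module.Finite k A]

theorem ker_counit_ne_bot (hA : 1 < finrank k A) :
    RingHom.ker (Bialgebra.counitAlgHom k A) ≠ ⊥ := by
  intro h
  have hinj : Function.Injective (Bialgebra.counitAlgHom k A) :=
    (RingHom.injective_iff_ker_eq_bot _).2 h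
  have h1 := LinearMap.finrank_le_finrank_of_injective
    (f := (Bialgebra.counitAlgHom k A).toLinearMap) hinj
  rw [Module.finrank_self] at h1
  omega

/-- A simple infinitesimal finite group scheme has height one. -/
theorem pow_eq_zero_of_simple (p : ℕ) [Fact p.Prime] [CharP k p] [IsLocalRing A]
    (hA : 1 < finrank k A)
    (hsimple : ∀ I : Ideal A, I.IsHopfIdeal k →
      I = ⊥ ∨ I = RingHom.ker (Bialgebra.counitAlgHom k A)) :
    ∀ a : A, Bialgebra.counitAlgHom k A a = 0 → a ^ p = 0 := by
  intro a ha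
  rcases hsimple _ (isHopfIdeal_frobKerIdeal p) with h | h
  · have h1 : a ^ p ∈ frobKerIdeal k p A := Ideal.subset_span ⟨a, ha, rfl⟩
    rw [h] at h1
    exact h1
  · exfalso
    set I := RingHom.ker (Bialgebra.counitAlgHom k A) with hI
    have hJle : frobKerIdeal k p A ≤ I ^ 2 := by
      rw [frobKerIdeal, Ideal.span_le]
      rintro _ ⟨b, hb, rfl⟩
      exact Ideal.pow_le_pow_right (Fact.out : p.Prime).two_le (Ideal.pow_mem_pow hb p)
    have hI2 : I ≤ I ^ 2 := by rw [h] at hJle; exact hJle
    exact ker_counit_ne_bot hA (eq_bot_of_le_sq_of_isNilpotent I hI2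
      (isNilpotent_ker_of_isLocalRing (Bialgebra.counitAlgHom k A)))

/-- A finite commutative Hopf algebra of height one whose augmentation ideal is principal,
generated by `y`, has dimension `p` and basis `1, y, …, y^(p-1)`. -/
theorem finrank_eq_prime_of_span_singleton (p : ℕ) [Fact p.Prime] [CharP k p]
    (hA : 1 < finrank k A)
    (hp : ∀ a : A, Bialgebra.counitAlgHom k A a = 0 → a ^ p = 0)
    (y : A) (hy : RingHom.ker (Bialgebra.counitAlgHom k A) = Ideal.span {y}) :
    finrank k A = p ∧ LinearIndependent k (fun i : Fin p => y ^ (i : ℕ)) := by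
  classical
  set ε := Bialgebra.counitAlgHom k A with hε
  have hyI : y ∈ RingHom.ker ε := by rw [hy]; exact Ideal.mem_span_singleton_self y
  obtain ⟨-, -, -, hfin⟩ := bialgebra_exists_gens_finrank_eq_pow p A hp
  -- the cotangent space is spanned by the class of `y`
  have hr1 : finrank k (RingHom.ker ε).Cotangent ≤ 1 := by
    refine finrank_le_one ((RingHom.ker ε).toCotangent ⟨y, hyI⟩) ?_
    intro w
    obtain ⟨⟨c, hc⟩, rfl⟩ := (RingHom.ker ε).toCotangent_surjective w
    have hc' := hc
    rw [hy, Ideal.mem_span_singleton'] at hc'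
    obtain ⟨b, hb⟩ := hc'
    refine ⟨ε b, ?_⟩
    rw [← smul_cotangent ε b, ← map_smul]
    congr 1
    apply Subtype.ext
    simp [← hb]
  have hr0 : finrank k (RingHom.ker ε).Cotangent ≠ 0 := by
    intro h0
    rw [h0, pow_zero] at hfin
    omega
  have hr : finrank k (RingHom.ker ε).Cotangent = 1 := by omega
  rw [hr, pow_one] at hfin
  refine ⟨hfin, ?_⟩
  -- spanning
  set W := Submodule.span k (Set.range fun i : Fin p => y ^ (i : ℕ)) with hW
  have hstep : ∀ j : ℕ, j ≤ p → ∀ a : A, ∃ w ∈ W, ∃ c : A, a = w + y ^ j * c := by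
    intro j
    induction j with
    | zero => intro _ a; exact ⟨0, W.zero_mem, a, by simp⟩
    | succ j ih =>
      intro hj a
      obtain ⟨w, hw, c, rfl⟩ := ih (Nat.le_of_succ_le hj) a
      have hc := sub_algebraMap_mem_ker ε c
      rw [hy, Ideal.mem_span_singleton'] at hc
      obtain ⟨c', hc'⟩ := hc
      refine ⟨w + ε c • y ^ j, W.add_mem hw (W.smul_mem _ ?_), c', ?_⟩
      · exact Submodule.subset_span ⟨⟨j, hj⟩, rfl⟩
      · have hc2 : c = algebraMap k A (ε c) + c' * y := by rw [hc']; ring
        conv_lhs => rw [hc2]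
        rw [Algebra.smul_def]
        ring
  have hyp : y ^ p = 0 := hp y hyI
  refine linearIndependent_of_top_le_span_of_card_eq_finrank ?_ (by simp [hfin])
  intro a _
  obtain ⟨w, hw, c, rfl⟩ := hstep p le_rfl a
  rw [hyp, zero_mul, add_zero]
  exact hw

end Simple

section Principal

variable {k : Type u} [Field k] {A : Type v} [CommRing A] [HopfAlgebra k A]

theorem counit_eq_zero_of_primitive (x : A)
    (hx : comul (R := k) x = x ⊗ₜ[k] (1 : A) + (1 : A) ⊗ₜ[k] x) : counit (R := k) x = 0 := by
  haveI : Nontrivial A := nontrivial_of_counit k A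
  have h := Coalgebra.rTensor_counit_comul (R := k) x
  rw [hx, map_add, LinearMap.rTensor_tmul, LinearMap.rTensor_tmul, Bialgebra.counit_one] at h
  have h1 : counit (R := k) x ⊗ₜ[k] (1 : A) = 0 := by
    have := add_right_cancel (b := (1 : k) ⊗ₜ[k] x) (h.trans (zero_add _).symm)
    exact this
  have h2 := congrArg (TensorProduct.lid k A) h1
  rw [TensorProduct.lid_tmul, map_zero, ← Algebra.algebraMap_eq_smul_one] at h2
  exact (map_eq_zero_iff _ (algebraMap k A).injective).1 h2

theorem antipode_of_primitive (x : A)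
    (hx : comul (R := k) x = x ⊗ₜ[k] (1 : A) + (1 : A) ⊗ₜ[k] x) : antipode k x = -x := by
  have h := HopfAlgebra.mul_antipode_rTensor_comul_apply (R := k) x
  rw [hx, counit_eq_zero_of_primitive x hx, map_add, LinearMap.rTensor_tmul,
    LinearMap.rTensor_tmul, map_add, LinearMap.mul'_apply, LinearMap.mul'_apply, mul_one,
    HopfAlgebra.antipode_one, one_mul, map_zero] at h
  exact eq_neg_of_add_eq_zero_left h

/-- The ideal generated by a primitive element is a Hopf ideal. -/
theorem isHopfIdeal_span_primitive (x : A)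
    (hx : comul (R := k) x = x ⊗ₜ[k] (1 : A) + (1 : A) ⊗ₜ[k] x) :
    (Ideal.span ({x} : Set A)).IsHopfIdeal k := by
  refine isHopfIdeal_span _ ?_ ?_ ?_
  · rintro _ rfl
    exact counit_eq_zero_of_primitive _ hx
  · rintro y rfl
    have h0 : Ideal.Quotient.mkₐ k (Ideal.span ({y} : Set A)) y = 0 :=
      Ideal.Quotient.eq_zero_iff_mem.2 (Ideal.mem_span_singleton_self y)
    simp only [comulQ, AlgHom.comp_apply, Bialgebra.comulAlgHom_apply, hx, map_add,
      Algebra.TensorProduct.map_tmul, h0, zero_tmul, tmul_zero, add_zero]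
  · rintro y rfl
    rw [antipode_of_primitive y hx]
    exact (Ideal.span ({y} : Set A)).neg_mem (Ideal.mem_span_singleton_self y)

/-- The ideal generated by `g - 1`, `g` group-like, is a Hopf ideal. -/
theorem isHopfIdeal_span_groupLike_sub_one (g : A) (hg : IsGroupLikeElem k g) :
    (Ideal.span ({g - 1} : Set A)).IsHopfIdeal k := by
  refine isHopfIdeal_span _ ?_ ?_ ?_
  · rintro _ rfl
    rw [map_sub, hg.counit_eq_one, Bialgebra.counit_one, sub_self]
  · rintro _ rfl
    have h0 : Ideal.Quotient.mkₐ k (Ideal.span ({g - 1} : Set A)) g = 1 := by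
      have h1 : Ideal.Quotient.mkₐ k (Ideal.span ({g - 1} : Set A)) (g - 1) = 0 :=
        Ideal.Quotient.eq_zero_iff_mem.2 (Ideal.mem_span_singleton_self _)
      rw [map_sub, map_one, sub_eq_zero] at h1
      exact h1
    simp only [comulQ, AlgHom.comp_apply, map_sub, map_one, Bialgebra.comulAlgHom_apply,
      hg.comul_eq_tmul_self, Algebra.TensorProduct.map_tmul, h0]
    rw [Algebra.TensorProduct.one_def, sub_self]
  · rintro _ rfl
    rw [map_sub, HopfAlgebra.antipode_one, Ideal.mem_span_singleton']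
    refine ⟨-antipode k g, ?_⟩
    have h1 := hg.antipode_mul_cancel
    calc -antipode k g * (g - 1) = -(antipode k g * g) + antipode k g := by ring
      _ = antipode k g - 1 := by rw [h1]; ring

end Principal

section DualElements

variable {k : Type u} [Field k] {A : Type v} [CommRing A] [HopfAlgebra k A]
  [Coalgebra.IsCocomm k A] [Module.Finite k A]

omit [Coalgebra.IsCocomm k A] in
/-- Every linear form on the dual is evaluation at an element. -/
theorem exists_eval_eq (φ : WithConv (A →ₗ[k] k) →ₗ[k] k) :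
    ∃ x : A, ∀ F : WithConv (A →ₗ[k] k), φ F = F.ofConv x := by
  set φ' : Module.Dual k (Module.Dual k A) :=
    φ ∘ₗ (WithConv.linearEquiv k (A →ₗ[k] k)).symm.toLinearMap with hφ'
  refine ⟨(Module.evalEquiv k A).symm φ', fun F => ?_⟩
  have h := Module.apply_evalEquiv_symm_apply k A F.ofConv φ'
  rw [h]
  rfl

omit [Coalgebra.IsCocomm k A] in
theorem finrank_dual_eq : finrank k (WithConv (A →ₗ[k] k)) = finrank k A := by
  rw [(WithConv.linearEquiv k (A →ₗ[k] k)).finrank_eq]
  exact Subspace.dual_finrank_eq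

/-- If the dual algebra is local (and `dim A > 1`), then `A` has a nonzero primitive element. -/
theorem exists_primitive_of_isLocalRing_dual (hdual : IsLocalRing (WithConv (A →ₗ[k] k)))
    (hA : 1 < finrank k A) :
    ∃ x : A, x ≠ 0 ∧ comul (R := k) x = x ⊗ₜ[k] (1 : A) + (1 : A) ⊗ₜ[k] x := by
  classical
  set εD : CartDual.D k A →ₐ[k] k := Bialgebra.counitAlgHom k (CartDual.D k A) with hεD
  have hεD_apply : ∀ F : CartDual.D k A, εD F = F.ofConv 1 := fun F => rfl
  set M : Ideal (CartDual.D k A) := RingHom.ker εD with hM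
  have hAD : 1 < finrank k (CartDual.D k A) := by rw [finrank_dual_eq]; exact hA
  have hMne : M ≠ ⊥ := ker_counit_ne_bot (A := CartDual.D k A) hAD
  have hMnil : IsNilpotent M := isNilpotent_ker_of_isLocalRing εD
  -- `M² ≠ M`
  have hM2 : ¬ M ≤ M ^ 2 := fun hle => hMne (eq_bot_of_le_sq_of_isNilpotent M hle hMnil)
  obtain ⟨f₀, hf₀M, hf₀⟩ := Set.not_subset.1 hM2
  -- the subspace `k·1 + M²`
  set W : Submodule k (CartDual.D k A) :=
    Submodule.span k {(1 : CartDual.D k A)} ⊔ (M ^ 2).restrictScalars k with hW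
  have hf₀W : f₀ ∉ W := by
    intro h
    obtain ⟨a, ha, m, hm, rfl⟩ := Submodule.mem_sup.1 h
    obtain ⟨c, rfl⟩ := Submodule.mem_span_singleton.1 ha
    have hm' : m ∈ M ^ 2 := hm
    have hmM : m ∈ M := Ideal.pow_le_self two_ne_zero hm'
    have h1 : εD (c • (1 : CartDual.D k A) + m) = 0 := hf₀M
    have h2 : εD m = 0 := hmM
    rw [map_add, map_smul, map_one, h2, add_zero, smul_eq_mul, mul_one] at h1
    apply hf₀
    rw [h1, zero_smul, zero_add]
    exact hm'
  obtain ⟨φ, hφf₀, hφW⟩ := Submodule.exists_le_ker_of_notMem hf₀W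
  have hφ1 : φ 1 = 0 := hφW (Submodule.mem_sup_left (Submodule.mem_span_singleton_self _))
  have hφM2 : ∀ m ∈ M ^ 2, φ m = 0 := fun m hm => hφW (Submodule.mem_sup_right hm)
  obtain ⟨x, hx⟩ := exists_eval_eq φ
  refine ⟨x, ?_, ?_⟩
  · rintro rfl
    apply hφf₀
    rw [hx]; simp
  · -- `φ(FG) = ε(F) φ(G) + ε(G) φ(F)`
    have hder : ∀ F G : CartDual.D k A, φ (F * G) = εD F * φ G + εD G * φ F := by
      intro F G
      have hF := sub_algebraMap_mem_ker εD F
      have hG := sub_algebraMap_mem_ker εD G
      set F₀ := F - algebraMap k (CartDual.D k A) (εD F) with hF₀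
      set G₀ := G - algebraMap k (CartDual.D k A) (εD G) with hG₀
      have hFG : F * G = (εD F * εD G) • (1 : CartDual.D k A) + εD F • G₀ + εD G • F₀ +
          F₀ * G₀ := by
        rw [hF₀, hG₀]
        simp only [Algebra.algebraMap_eq_smul_one]
        simp only [smul_sub, mul_sub, sub_mul, smul_mul_assoc, mul_smul_comm, one_mul, mul_one,
          smul_smul]
        rw [mul_comm (εD G) (εD F)]
        abel
      have h00 : φ (F₀ * G₀) = 0 := hφM2 _ (by rw [pow_two]; exact Ideal.mul_mem_mul hF hG)
      have hG0 : φ G₀ = φ G := by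
        rw [hG₀, map_sub, Algebra.algebraMap_eq_smul_one, map_smul, hφ1, smul_zero, sub_zero]
      have hF0 : φ F₀ = φ F := by
        rw [hF₀, map_sub, Algebra.algebraMap_eq_smul_one, map_smul, hφ1, smul_zero, sub_zero]
      rw [hFG, map_add, map_add, map_add, map_smul, map_smul, map_smul, hφ1, h00, hG0, hF0]
      simp
    rw [← sub_eq_zero]
    apply eq_zero_of_forall_dual_tmul
    intro f g
    have h1 := hder (toConv f) (toConv g)
    rw [hx, hx, hx, convMul_dual_apply, hεD_apply, hεD_apply] at h1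
    simp only [map_sub, map_add, TensorProduct.map_tmul, LinearMap.mul'_apply]
    rw [h1]
    ring

/-- Over an algebraically closed field, if the dual algebra is reduced (and `dim A > 1`), then
`A` has a group-like element `≠ 1`. -/
theorem exists_groupLike_of_isReduced_dual [IsAlgClosed k]
    (hdual : IsReduced (WithConv (A →ₗ[k] k))) (hA : 1 < finrank k A) :
    ∃ g : A, g ≠ 1 ∧ IsGroupLikeElem k g := by
  classical
  set εD : CartDual.D k A →ₐ[k] k := Bialgebra.counitAlgHom k (CartDual.D k A) with hεD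
  have hεD_apply : ∀ F : CartDual.D k A, εD F = F.ofConv 1 := fun F => rfl
  set M : Ideal (CartDual.D k A) := RingHom.ker εD with hM
  have hAD : 1 < finrank k (CartDual.D k A) := by rw [finrank_dual_eq]; exact hA
  have hMne : M ≠ ⊥ := ker_counit_ne_bot (A := CartDual.D k A) hAD
  haveI hMmax : M.IsMaximal := ker_isMaximal εD
  -- there is a maximal ideal different from `M`
  have hex : ∃ m : Ideal (CartDual.D k A), m.IsMaximal ∧ m ≠ M := by
    by_contra hcon
    push_neg at hcon
    haveI : IsLocalRing (CartDual.D k A) :=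
      IsLocalRing.of_unique_max_ideal ⟨M, hMmax, fun m hm => hcon m hm⟩
    have hMnil : IsNilpotent M := isNilpotent_ker_of_isLocalRing εD
    apply hMne
    obtain ⟨N, hN⟩ := hMnil
    rw [eq_bot_iff]
    intro a ha
    have h1 : a ^ N ∈ M ^ N := Ideal.pow_mem_pow ha N
    rw [hN] at h1
    have h2 : a ^ N = 0 := h1
    have h3 : a = 0 := IsReduced.eq_zero a ⟨N, h2⟩
    rw [h3]; exact Submodule.zero_mem _
  obtain ⟨m, hm, hmM⟩ := hex
  obtain ⟨ψ, hψ⟩ := exists_algHom_ker_eq (k := k) m
  obtain ⟨g, hg⟩ := exists_eval_eq ψ.toLinearMap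
  have hg' : ∀ F : CartDual.D k A, ψ F = F.ofConv g := hg
  refine ⟨g, ?_, ?_, ?_⟩
  · rintro rfl
    apply hmM
    rw [← hψ, hM]
    congr 1
    exact AlgHom.ext fun F => (hg' F).trans (hεD_apply F).symm
  · have h1 := hg' 1
    rw [map_one] at h1
    have h2 : (1 : CartDual.D k A).ofConv g = algebraMap k k (counit (R := k) g) := rfl
    rw [h2] at h1
    exact h1.symm
  · rw [← sub_eq_zero]
    apply eq_zero_of_forall_dual_tmul
    intro f f'
    have h1 := map_mul ψ (toConv f) (toConv f')
    rw [hg', hg', hg', convMul_dual_apply] at h1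
    simp only [map_sub, TensorProduct.map_tmul, LinearMap.mul'_apply]
    rw [h1]
    simp

end DualElements

end Groth.Agent.Lib.Helper16.FinHopf
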