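import Mathlib.RingTheory.Bialgebra.Hom
import Mathlib.RingTheory.Flat.Basic
import Mathlib.RingTheory.Flat.FaithfullyFlat.Basic
import Mathlib.Algebra.Algebra.Subalgebra.Basic
import Mathlib.LinearAlgebra.Basis.VectorSpace
import Mathlib.LinearAlgebra.FreeModule.Basic

/-!
# Sub-bialgebras of a commutative bialgebra over a field (helper16)

`subBialgebra B hB : Bialgebra k B` for a subalgebra `B` with `Δ(B) ⊆ B ⊗ B`.
-/

set_option autoImplicit false

namespace Groth.Agent.Lib.Helper16.FinHopf

open TensorProduct Coalgebra

universe u v

section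

variable {k : Type u} [Field k] {A : Type v} [CommRing A] [Bialgebra k A] (B : Subalgebra k A)

/-- `B ⊗ B → A ⊗ A`. -/
noncomputable def incl₂ : B ⊗[k] B →ₐ[k] A ⊗[k] A := Algebra.TensorProduct.map B.val B.val

@[simp] theorem incl₂_tmul (x y : B) : incl₂ B (x ⊗ₜ[k] y) = (x : A) ⊗ₜ[k] (y : A) := rfl

theorem incl₂_injective : Function.Injective (incl₂ B) := by
  have : Function.Injective (TensorProduct.map B.val.toLinearMap B.val.toLinearMap) :=
    TensorProduct.map_injective_of_flat_flat _ _ Subtype.val_injective Subtype.val_injective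
  exact this

/-- `B ⊗ (B ⊗ B) → A ⊗ (A ⊗ A)`. -/
noncomputable def incl₃ : B ⊗[k] (B ⊗[k] B) →ₐ[k] A ⊗[k] (A ⊗[k] A) :=
  Algebra.TensorProduct.map B.val (incl₂ B)

theorem incl₃_injective : Function.Injective (incl₃ B) := by
  have : Function.Injective (TensorProduct.map B.val.toLinearMap (incl₂ B).toLinearMap) :=
    TensorProduct.map_injective_of_flat_flat _ _ Subtype.val_injective (incl₂_injective B)
  exact this

/-- The sub-bialgebra condition. -/
def IsSubBialg : Prop := ∀ b : B, comul (R := k) (b : A) ∈ (incl₂ B).range

variable {B} (hB : IsSubBialg B)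

/-- The restricted comultiplication. -/
noncomputable def comulSub : B →ₐ[k] B ⊗[k] B :=
  ((AlgEquiv.ofInjective (incl₂ B) (incl₂_injective B)).symm : (incl₂ B).range →ₐ[k] _).comp
    (((Bialgebra.comulAlgHom k A).comp B.val).codRestrict (incl₂ B).range hB)

theorem incl₂_comulSub (b : B) : incl₂ B (comulSub hB b) = comul (R := k) (b : A) := by
  set e := AlgEquiv.ofInjective (incl₂ B) (incl₂_injective B) with he
  set y : (incl₂ B).range :=
    (((Bialgebra.comulAlgHom k A).comp B.val).codRestrict (incl₂ B).range hB) b with hy
  have h1 : comulSub hB b = e.symm y := rfl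
  have h2 : ((e (e.symm y) : (incl₂ B).range) : A ⊗[k] A) = incl₂ B (e.symm y) :=
    AlgEquiv.ofInjective_apply _ _ _
  rw [h1, ← h2, AlgEquiv.apply_symm_apply]
  rfl

/-- The restricted counit. -/
noncomputable def counitSub : B →ₐ[k] k := (Bialgebra.counitAlgHom k A).comp B.val

theorem aux_assoc (s : B ⊗[k] B) (b : B) :
    incl₃ B (Algebra.TensorProduct.assoc k k k B B B (s ⊗ₜ[k] b)) =
      Algebra.TensorProduct.assoc k k k A A A (incl₂ B s ⊗ₜ[k] (b : A)) := by
  induction s using TensorProduct.induction_on with
  | zero => simp
  | add s t hs ht => rw [TensorProduct.add_tmul, map_add, map_add, hs, ht, map_add,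
      TensorProduct.add_tmul, map_add]
  | tmul x y => rfl

theorem aux_N1 (t : B ⊗[k] B) :
    incl₃ B (Algebra.TensorProduct.assoc k k k B B B
      (Algebra.TensorProduct.map (comulSub hB) (AlgHom.id k B) t)) =
    Algebra.TensorProduct.assoc k k k A A A
      (Algebra.TensorProduct.map (Bialgebra.comulAlgHom k A) (AlgHom.id k A) (incl₂ B t)) := by
  induction t using TensorProduct.induction_on with
  | zero => simp
  | add s t hs ht => simp only [map_add, hs, ht]
  | tmul x y =>
    rw [Algebra.TensorProduct.map_tmul, aux_assoc, incl₂_comulSub]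
    rfl

theorem aux_N2 (t : B ⊗[k] B) :
    incl₃ B (Algebra.TensorProduct.map (AlgHom.id k B) (comulSub hB) t) =
      Algebra.TensorProduct.map (AlgHom.id k A) (Bialgebra.comulAlgHom k A) (incl₂ B t) := by
  induction t using TensorProduct.induction_on with
  | zero => simp
  | add s t hs ht => simp only [map_add, hs, ht]
  | tmul x y =>
    rw [Algebra.TensorProduct.map_tmul, incl₃, Algebra.TensorProduct.map_tmul, incl₂_comulSub]
    rfl

theorem aux_N3 (t : B ⊗[k] B) :
    Algebra.TensorProduct.map (AlgHom.id k k) B.val
      (Algebra.TensorProduct.map (counitSub (B := B)) (AlgHom.id k B) t) =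
    Algebra.TensorProduct.map (Bialgebra.counitAlgHom k A) (AlgHom.id k A) (incl₂ B t) := by
  induction t using TensorProduct.induction_on with
  | zero => simp
  | add s t hs ht => simp only [map_add, hs, ht]
  | tmul x y => rfl

theorem aux_N4 (t : B ⊗[k] B) :
    Algebra.TensorProduct.map B.val (AlgHom.id k k)
      (Algebra.TensorProduct.map (AlgHom.id k B) (counitSub (B := B)) t) =
    Algebra.TensorProduct.map (AlgHom.id k A) (Bialgebra.counitAlgHom k A) (incl₂ B t) := by
  induction t using TensorProduct.induction_on with
  | zero => simp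
  | add s t hs ht => simp only [map_add, hs, ht]
  | tmul x y => rfl

theorem lTensor_val_injective :
    Function.Injective (Algebra.TensorProduct.map (AlgHom.id k k) B.val) := by
  have : Function.Injective (TensorProduct.map (AlgHom.id k k).toLinearMap B.val.toLinearMap) :=
    TensorProduct.map_injective_of_flat_flat _ _ (fun _ _ h => h) Subtype.val_injective
  exact this

theorem rTensor_val_injective :
    Function.Injective (Algebra.TensorProduct.map B.val (AlgHom.id k k)) := by
  have : Function.Injective (TensorProduct.map B.val.toLinearMap (AlgHom.id k k).toLinearMap) :=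
    TensorProduct.map_injective_of_flat_flat _ _ Subtype.val_injective (fun _ _ h => h)
  exact this

/-- The bialgebra structure on a sub-bialgebra. -/
@[reducible]
noncomputable def subBialgebra : Bialgebra k B :=
  Bialgebra.ofAlgHom (comulSub hB) (counitSub (B := B))
    (by
      apply AlgHom.ext
      intro b
      apply incl₃_injective B
      show incl₃ B (Algebra.TensorProduct.assoc k k k B B B
        (Algebra.TensorProduct.map (comulSub hB) (AlgHom.id k B) (comulSub hB b))) =
        incl₃ B (Algebra.TensorProduct.map (AlgHom.id k B) (comulSub hB) (comulSub hB b))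
      rw [aux_N1, aux_N2, incl₂_comulSub]
      exact Coalgebra.coassoc_apply (R := k) (b : A))
    (by
      apply AlgHom.ext
      intro b
      apply lTensor_val_injective (B := B)
      simp only [AlgHom.comp_apply]
      rw [aux_N3, incl₂_comulSub]
      exact Coalgebra.rTensor_counit_comul (R := k) (b : A))
    (by
      apply AlgHom.ext
      intro b
      apply rTensor_val_injective (B := B)
      simp only [AlgHom.comp_apply]
      rw [aux_N4, incl₂_comulSub]
      exact Coalgebra.lTensor_counit_comul (R := k) (b : A))

end

end Groth.Agent.Lib.Helper16.FinHopf
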