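import Mathlib
import Groth.Agent.Lib.Helper16.RingCoeff

/-!
# Finitely generated coefficient ideals (helper16)

* `coeffIdeal_fg`: for `B` projective over `A`, the coefficient ideal of a finitely generated ideal
  is finitely generated.
* `HasCoeffFG`, `hasCoeffFG_of_projective`.
* `coeff_unique`: coefficient ideals are unique.
-/

set_option autoImplicit false

namespace Groth.Agent.Lib.Helper16.RingCoeffFG

universe u
open CategoryTheory Limits TensorProduct
open Groth.Agent.Lib.Helper16.RingCoeff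

section Alg

variable {A B : Type u} [CommRing A] [CommRing B] [Algebra A B]

theorem coeffIdeal_fg [Module.Projective A B] (I : Ideal B) (hI : I.FG) : (coeffIdeal A I).FG := by
  classical
  obtain ⟨s, hs⟩ := (inferInstance : Module.Projective A B).out
  obtain ⟨t, rfl⟩ := hI
  let T : Finset A := t.biUnion (fun b => (s b).support.image (fun x => s b x))
  refine ⟨T, ?_⟩
  have key : ∀ b' ∈ Ideal.span (t : Set B), ∀ l : B →ₗ[A] A, l b' ∈ Ideal.span (T : Set A) := by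
    intro b' hb'
    refine Submodule.span_induction
      (p := fun b' _ => ∀ l : B →ₗ[A] A, l b' ∈ Ideal.span (T : Set A)) ?_ ?_ ?_ ?_ hb'
    · intro b hb l
      have : b = Finsupp.linearCombination A id (s b) := (hs b).symm
      rw [this, Finsupp.linearCombination_apply, Finsupp.sum, map_sum]
      refine Ideal.sum_mem _ fun x hx => ?_
      rw [id, map_smul, smul_eq_mul]
      refine Ideal.mul_mem_right _ _ (Ideal.subset_span ?_)
      exact Finset.mem_biUnion.2 ⟨b, hb, Finset.mem_image.2 ⟨x, hx, rfl⟩⟩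
    · intro l
      rw [map_zero]
      exact Ideal.zero_mem _
    · intro x y _ _ hx hy l
      rw [map_add]
      exact Ideal.add_mem _ (hx l) (hy l)
    · intro r x _ hx l
      exact hx (l ∘ₗ LinearMap.mulLeft A r)
  apply le_antisymm
  · rw [Ideal.span_le]
    intro a ha
    obtain ⟨b, hb, hab⟩ := Finset.mem_biUnion.1 ha
    obtain ⟨x, -, rfl⟩ := Finset.mem_image.1 hab
    exact Ideal.subset_span ⟨b, Ideal.subset_span hb, (Finsupp.lapply x).comp s, rfl⟩
  · rw [coeffIdeal, Ideal.span_le]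
    rintro a ⟨b', hb', l, rfl⟩
    exact key b' hb' l

end Alg

/-- `HasCoeffFG φ`: finitely generated ideals have finitely generated coefficient ideals. -/
def HasCoeffFG {A B : CommRingCat.{u}} (φ : A ⟶ B) : Prop :=
  ∀ I : Ideal B, I.FG → ∃ J : Ideal A, J.FG ∧
    ∀ ⦃C D : CommRingCat.{u}⦄ (ψ : A ⟶ C) (β : B ⟶ D) (γ : C ⟶ D),
      IsPushout φ ψ β γ → (I.map β.hom = ⊥ ↔ J.map ψ.hom = ⊥)

theorem hasCoeffFG_of_projective {A B : CommRingCat.{u}} (φ : A ⟶ B)
    (h : letI := φ.hom.toAlgebra; Module.Projective A B) : HasCoeffFG φ := by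
  letI := φ.hom.toAlgebra
  intro I hI
  refine ⟨coeffIdeal A I, coeffIdeal_fg I hI, ?_⟩
  intro C D ψ β γ H
  letI := ψ.hom.toAlgebra
  let e := (CommRingCat.isPushout_tensorProduct A B C).isoIsPushout B C H
  have he : CommRingCat.ofHom (Algebra.TensorProduct.includeLeftRingHom : B →+* B ⊗[A] C) ≫ e.hom
      = β := IsPushout.inl_isoIsPushout_hom _ _ _ _
  have h1 : I.map β.hom = ⊥ ↔
      I.map (Algebra.TensorProduct.includeLeftRingHom : B →+* B ⊗[A] C) = ⊥ := by
    rw [← he, CommRingCat.hom_comp, ← Ideal.map_map, CommRingCat.hom_ofHom]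
    rw [Ideal.map_eq_bot_iff_le_ker (f := e.hom.hom)]
    have hinj : Function.Injective e.hom.hom :=
      (ConcreteCategory.bijective_of_isIso e.hom).1
    rw [(RingHom.injective_iff_ker_eq_bot _).1 hinj, le_bot_iff]
  rw [h1]
  exact map_includeLeft_eq_bot_iff (C := C) I

/-- Coefficient ideals are unique. -/
theorem coeff_unique {A B : CommRingCat.{u}} {φ : A ⟶ B} (I : Ideal B) (J₁ J₂ : Ideal A)
    (h₁ : ∀ ⦃C D : CommRingCat.{u}⦄ (ψ : A ⟶ C) (β : B ⟶ D) (γ : C ⟶ D),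
      IsPushout φ ψ β γ → (I.map β.hom = ⊥ ↔ J₁.map ψ.hom = ⊥))
    (h₂ : ∀ ⦃C D : CommRingCat.{u}⦄ (ψ : A ⟶ C) (β : B ⟶ D) (γ : C ⟶ D),
      IsPushout φ ψ β γ → (I.map β.hom = ⊥ ↔ J₂.map ψ.hom = ⊥)) : J₁ = J₂ := by
  have le_of : ∀ (J J' : Ideal A),
      (∀ ⦃C D : CommRingCat.{u}⦄ (ψ : A ⟶ C) (β : B ⟶ D) (γ : C ⟶ D),
        IsPushout φ ψ β γ → (I.map β.hom = ⊥ ↔ J.map ψ.hom = ⊥)) →
      (∀ ⦃C D : CommRingCat.{u}⦄ (ψ : A ⟶ C) (β : B ⟶ D) (γ : C ⟶ D),
        IsPushout φ ψ β γ → (I.map β.hom = ⊥ ↔ J'.map ψ.hom = ⊥)) → J ≤ J' := by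
    intro J J' hJ hJ'
    let ψ : A ⟶ CommRingCat.of (A ⧸ J') := CommRingCat.ofHom (Ideal.Quotient.mk J')
    have P := IsPushout.of_hasPushout φ ψ
    have e1 : J'.map ψ.hom = ⊥ := Ideal.map_quotient_self J'
    have e2 := (hJ _ _ _ P).1 ((hJ' _ _ _ P).2 e1)
    rw [Ideal.map_eq_bot_iff_le_ker] at e2
    have h3 : RingHom.ker ψ.hom = J' := Ideal.mk_ker
    rwa [h3] at e2
  exact le_antisymm (le_of _ _ h₁ h₂) (le_of _ _ h₂ h₁)

end Groth.Agent.Lib.Helper16.RingCoeffFG
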