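import Mathlib
import Groth.Agent.Lib.Helper16.RingCoeffFG
import Groth.Agent.Lib.Helper16.FixApp
import Groth.Agent.Lib.Helper16.FixFinite

/-!
# Finite presentation of universal vanishing loci (helper16)

* `ideal_fg_of_basis`: an ideal sheaf which is finitely generated on a basis of affine opens is
  finitely generated on every affine open.
* `locallyOfFinitePresentation_subschemeι`: the closed subscheme of an ideal sheaf which is
  finitely generated on every affine open is locally of finite presentation over the ambient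
  scheme.
* `cIdeal_fg`, `exists_closed_fp`.
-/

set_option autoImplicit false

namespace Groth.Agent.Lib.Helper16.FixFG

universe u
open CategoryTheory Limits MonoidalCategory CartesianMonoidalCategory AlgebraicGeometry
open Groth.Agent.Lib.Helper16.RingCoeff Groth.Agent.Lib.Helper16.RingCoeffFG
  Groth.Agent.Lib.Helper16.FixCore Groth.Agent.Lib.Helper16.FixApp

theorem ideal_fg_of_basis {X : Scheme.{u}} (𝓘 : X.IdealSheafData) (small : X.affineOpens → Prop)
    (hbasis : ∀ (x : X) (V : X.Opens), x ∈ V →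
      ∃ W : X.affineOpens, small W ∧ x ∈ W.1 ∧ W.1 ≤ V)
    (hmono : ∀ W W' : X.affineOpens, small W → W'.1 ≤ W.1 → small W')
    (h : ∀ W, small W → (𝓘.ideal W).FG) (V : X.affineOpens) : (𝓘.ideal V).FG := by
  have hV : IsAffineOpen V.1 := V.2
  let s : Set Γ(X, V.1) := {f | small (X.affineBasicOpen f)}
  have hs : Ideal.span s = ⊤ := by
    rw [← hV.self_le_iSup_basicOpen_iff]
    intro x hx
    obtain ⟨W, hW, hxW, hWV⟩ := hbasis x V.1 hx
    obtain ⟨f, hfW, hxf⟩ := hV.exists_basicOpen_le (V := W.1) ⟨x, hxW⟩ hx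
    have hf : f ∈ s := hmono W (X.affineBasicOpen f) hW hfW
    exact TopologicalSpace.Opens.mem_iSup.mpr ⟨⟨f, hf⟩, hxf⟩
  refine Ideal.fg_of_localizationSpan s hs ?_
  intro g
  have h1 : (𝓘.ideal (X.affineBasicOpen g.1)).FG := h _ g.2
  rw [← 𝓘.map_ideal_basicOpen V g.1] at h1
  haveI := hV.isLocalization_basicOpen g.1
  let e : Γ(X, X.basicOpen g.1) ≃ₐ[Γ(X, V.1)] Localization.Away g.1 :=
    IsLocalization.algEquiv (Submonoid.powers g.1) _ _
  have h2 := h1.map (e : Γ(X, X.basicOpen g.1) →+* Localization.Away g.1)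
  have h3 : (𝓘.ideal V).map (algebraMap Γ(X, V.1) (Localization.Away g.1)) =
      ((𝓘.ideal V).map (X.presheaf.map (homOfLE (X.basicOpen_le g.1)).op).hom).map
        (e : Γ(X, X.basicOpen g.1) →+* Localization.Away g.1) := by
    rw [Ideal.map_map]
    congr 1
    ext a
    exact (e.commutes a).symm
  rw [h3]
  exact h2

theorem locallyOfFinitePresentation_subschemeι {X : Scheme.{u}} (𝓘 : X.IdealSheafData)
    (h : ∀ V : X.affineOpens, (𝓘.ideal V).FG) : LocallyOfFinitePresentation 𝓘.subschemeι := by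
  rw [HasRingHomProperty.iff_appLE (P := @LocallyOfFinitePresentation)]
  intro U V e
  have hU : IsAffineOpen (𝓘.subschemeι ⁻¹ᵁ U.1) := U.2.preimage 𝓘.subschemeι
  have e1 : 𝓘.subschemeι.appLE U.1 V.1 e = 𝓘.subschemeι.app U.1 ≫
      Scheme.Hom.appLE (𝟙 𝓘.subscheme) (𝓘.subschemeι ⁻¹ᵁ U.1) V.1 e := by
    rw [Scheme.Hom.appLE, Scheme.Hom.appLE, Scheme.Hom.id_app]
    exact congrArg (fun k => 𝓘.subschemeι.app U.1 ≫ k) (Category.id_comp _).symm
  rw [e1, CommRingCat.hom_comp]
  refine RingHom.FinitePresentation.comp ?_ ?_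
  · exact Scheme.Hom.finitePresentation_appLE (𝟙 _) hU V.2 e
  · apply RingHom.FinitePresentation.of_surjective
    · exact 𝓘.subschemeι_app_surjective U
    · rw [𝓘.ker_subschemeι_app U]
      exact h U

section Core

variable {P X : Scheme.{u}} (p : P ⟶ X) [IsAffineHom p] (𝓔 : P.IdealSheafData)
  (hc : ∀ U : X.affineOpens, HasCoeff (p.app U.1))

theorem cIdeal_fg (U : X.affineOpens) (hfg : HasCoeffFG (p.app U.1))
    (h𝓔 : (𝓔.ideal (pre p U)).FG) : (cIdeal p 𝓔 hc U).FG := by
  obtain ⟨J, hJfg, hJ⟩ := hfg _ h𝓔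
  rw [coeff_unique _ (cIdeal p 𝓔 hc U) J (cIdeal_spec p 𝓔 hc U) hJ]
  exact hJfg

end Core

/-! ### Finite presentation lemmas for schemes -/

theorem locallyOfFinitePresentation_of_comp_aux {X Y Z : Scheme.{u}} (f : X ⟶ Y) (g : Y ⟶ Z)
    (h : LocallyOfFinitePresentation (f ≫ g)) (hg : LocallyOfFiniteType g) :
    LocallyOfFinitePresentation f := by
  wlog hZ : IsAffine Z generalizing X Y Z
  · rw [IsZariskiLocalAtTarget.iff_of_iSup_eq_top (P := @LocallyOfFinitePresentation) _
      (g.iSup_preimage_eq_top (iSup_affineOpens_eq_top Z))]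
    intro U
    have H : LocallyOfFinitePresentation ((f ≫ g) ∣_ U.1) := inferInstance
    rw [morphismRestrict_comp] at H
    exact this (f ∣_ g ⁻¹ᵁ U.1) (g ∣_ U.1) H inferInstance inferInstance
  wlog hY : IsAffine Y generalizing X Y
  · rw [IsZariskiLocalAtTarget.iff_of_iSup_eq_top (P := @LocallyOfFinitePresentation) _
      (iSup_affineOpens_eq_top Y)]
    intro U
    have H : LocallyOfFinitePresentation ((f ⁻¹ᵁ U.1).ι ≫ f ≫ g) := inferInstance
    rw [← morphismRestrict_ι_assoc] at H
    exact this (f ∣_ U.1) (U.1.ι ≫ g) H inferInstance inferInstance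
  wlog hX : IsAffine X generalizing X
  · rw [IsZariskiLocalAtSource.iff_of_iSup_eq_top (P := @LocallyOfFinitePresentation) _
      (iSup_affineOpens_eq_top X)]
    intro U
    have H : LocallyOfFinitePresentation (U.1.ι ≫ f ≫ g) := inferInstance
    rw [← Category.assoc] at H
    exact this (U.1.ι ≫ f) H inferInstance
  rw [HasRingHomProperty.iff_of_isAffine (P := @LocallyOfFinitePresentation)] at h ⊢
  rw [HasRingHomProperty.iff_of_isAffine (P := @LocallyOfFiniteType)] at hg
  rw [Scheme.Hom.comp_appTop, CommRingCat.hom_comp] at h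
  exact RingHom.FinitePresentation.of_comp_finiteType _ h hg

/-- If `f ≫ g` is locally of finite presentation and `g` is locally of finite type, then `f` is
locally of finite presentation. -/
theorem locallyOfFinitePresentation_of_comp {X Y Z : Scheme.{u}} (f : X ⟶ Y) (g : Y ⟶ Z)
    [h : LocallyOfFinitePresentation (f ≫ g)] [hg : LocallyOfFiniteType g] :
    LocallyOfFinitePresentation f :=
  locallyOfFinitePresentation_of_comp_aux f g h hg

theorem locallyOfFinitePresentation_diagonal {X Y : Scheme.{u}} (f : X ⟶ Y)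
    [LocallyOfFinitePresentation f] : LocallyOfFinitePresentation (pullback.diagonal f) := by
  haveI : LocallyOfFinitePresentation (pullback.diagonal f ≫ pullback.fst f f) := by
    rw [pullback.diagonal_fst]; infer_instance
  exact locallyOfFinitePresentation_of_comp (pullback.diagonal f) (pullback.fst f f)

set_option backward.isDefEq.respectTransparency false in
theorem locallyOfFinitePresentation_equalizer_ι_left {S : Scheme.{u}} {X Y : Over S}
    [LocallyOfFinitePresentation Y.hom] (f g : X ⟶ Y) :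
    LocallyOfFinitePresentation (equalizer.ι f g).left := by
  refine MorphismProperty.of_isPullback
    ((Limits.isPullback_equalizer_prod f g).map (Over.forget _)).flip ?_
  rw [← MorphismProperty.cancel_right_of_respectsIso @LocallyOfFinitePresentation _
    (Over.prodLeftIsoPullback Y Y).hom]
  convert! (locallyOfFinitePresentation_diagonal Y.hom)
  ext1 <;> simp [← Over.comp_left]

/-- The ideal sheaf of a closed immersion locally of finite presentation is finitely generated on
affine opens. -/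
theorem ker_ideal_fg {Z Y : Scheme.{u}} (ι : Z ⟶ Y) [IsClosedImmersion ι]
    [LocallyOfFinitePresentation ι] (V : Y.affineOpens) : (ι.ker.ideal V).FG := by
  rw [Scheme.Hom.ker_apply]
  have h1 : (ι.app V.1).hom.FinitePresentation := by
    rw [Scheme.Hom.app_eq_appLE]
    exact ι.finitePresentation_appLE V.2 (V.2.preimage ι) le_rfl
  have h2 : Function.Surjective (ι.app V.1).hom := ι.app_surjective V.1 V.2
  letI := (ι.app V.1).hom.toAlgebra
  haveI : Algebra.FinitePresentation Γ(Y, V.1) Γ(Z, ι ⁻¹ᵁ V.1) := h1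
  exact Algebra.FinitePresentation.ker_fG_of_surjective
    (Algebra.ofId Γ(Y, V.1) Γ(Z, ι ⁻¹ᵁ V.1)) h2

/-- Pullbacks of ideal sheaves which are finitely generated on affine opens are finitely generated
on affine opens. -/
theorem comap_ideal_fg {X Y : Scheme.{u}} (𝓘 : Y.IdealSheafData)
    (h : ∀ V : Y.affineOpens, (𝓘.ideal V).FG) (f : X ⟶ Y) (V : X.affineOpens) :
    ((𝓘.comap f).ideal V).FG := by
  haveI := locallyOfFinitePresentation_subschemeι 𝓘 h
  exact ker_ideal_fg (pullback.fst f 𝓘.subschemeι) V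

/-! ### Finite locally free projections -/

theorem hasCoeffFG_app_of_finite_flat {P X : Scheme.{u}} (p : P ⟶ X) [IsFinite p] [Flat p]
    [LocallyOfFinitePresentation p] (U : X.affineOpens) : HasCoeffFG (p.app U.1) := by
  apply hasCoeffFG_of_projective
  letI := (p.app U.1).hom.toAlgebra
  have h1 : (p.app U.1).hom.Finite := p.finite_app U.1 U.2
  have h2 : (p.app U.1).hom.Flat := by
    rw [Scheme.Hom.app_eq_appLE]
    exact p.flat_appLE U.2 (U.2.preimage p) le_rfl
  have h3 : (p.app U.1).hom.FinitePresentation := by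
    rw [Scheme.Hom.app_eq_appLE]
    exact p.finitePresentation_appLE U.2 (U.2.preimage p) le_rfl
  haveI : Module.Finite Γ(X, U.1) Γ(P, p ⁻¹ᵁ U.1) := h1
  haveI : Module.Flat Γ(X, U.1) Γ(P, p ⁻¹ᵁ U.1) := h2
  haveI : Algebra.FinitePresentation Γ(X, U.1) Γ(P, p ⁻¹ᵁ U.1) := h3
  haveI : Module.FinitePresentation Γ(X, U.1) Γ(P, p ⁻¹ᵁ U.1) :=
    Module.FinitePresentation.of_finite_of_finitePresentation _ _
  exact Module.Flat.projective_of_finitePresentation

section Main

variable {S : Scheme.{u}} {A X W W' : Over S}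

theorem hasCoeffFG_snd [IsFinite A.hom] [Flat A.hom]
    [LocallyOfFinitePresentation A.hom] (U : X.left.affineOpens) :
    HasCoeffFG ((snd A X).left.app U.1) := by
  have hpb : IsPullback (fst A X).left (snd A X).left A.hom X.hom :=
    IsPullback.of_hasPullback A.hom X.hom
  haveI : IsFinite (snd A X).left :=
    MorphismProperty.of_isPullback (P := @IsFinite) hpb (inferInstance : IsFinite A.hom)
  haveI : Flat (snd A X).left :=
    MorphismProperty.of_isPullback (P := @Flat) hpb (inferInstance : Flat A.hom)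
  haveI : LocallyOfFinitePresentation (snd A X).left :=
    MorphismProperty.of_isPullback (P := @LocallyOfFinitePresentation) hpb
      (inferInstance : LocallyOfFinitePresentation A.hom)
  exact hasCoeffFG_app_of_finite_flat (snd A X).left U

/-- The closed subscheme of an ideal sheaf finitely generated on affine opens, as an object over
`S`, with its universal property. -/
theorem exists_closed_of_ideal (𝓘 : X.left.IdealSheafData)
    (hfg : ∀ V : X.left.affineOpens, (𝓘.ideal V).FG) :
    ∃ (Z : Over S) (i : Z ⟶ X), IsClosedImmersion i.left ∧ LocallyOfFinitePresentation i.left ∧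
      ∀ {T : Over S} (x : T ⟶ X), (∃ z : T ⟶ Z, z ≫ i = x) ↔ 𝓘.comap x.left = ⊥ := by
  refine ⟨Over.mk (𝓘.subschemeι ≫ X.hom), Over.homMk 𝓘.subschemeι rfl,
    (inferInstance : IsClosedImmersion 𝓘.subschemeι),
    locallyOfFinitePresentation_subschemeι 𝓘 hfg, ?_⟩
  intro T x
  rw [comap_eq_bot_iff_le_ker]
  constructor
  · rintro ⟨z, rfl⟩
    show 𝓘 ≤ (z.left ≫ 𝓘.subschemeι).ker
    calc 𝓘 = 𝓘.subschemeι.ker := 𝓘.ker_subschemeι.symm
      _ ≤ _ := Scheme.Hom.le_ker_comp _ _
  · intro h
    have hle : 𝓘.subschemeι.ker ≤ x.left.ker := by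
      rw [Scheme.IdealSheafData.ker_subschemeι]; exact h
    let z₀ : T.left ⟶ 𝓘.subscheme := IsClosedImmersion.lift 𝓘.subschemeι x.left hle
    have hz₀ : z₀ ≫ 𝓘.subschemeι = x.left := IsClosedImmersion.lift_fac _ _ _
    refine ⟨Over.homMk z₀ ?_, ?_⟩
    · show z₀ ≫ 𝓘.subschemeι ≫ X.hom = T.hom
      rw [← Category.assoc, hz₀]
      exact Over.w x
    · apply Over.OverMorphism.ext
      exact hz₀

/-- Finite presentation version of the universal vanishing locus. -/
theorem exists_closed_fp [IsAffineHom A.hom] (𝓔 : (A ⊗ X).left.IdealSheafData)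
    (hc : ∀ U : X.left.affineOpens, HasCoeff ((snd A X).left.app U.1))
    (hfg : ∀ U : X.left.affineOpens, HasCoeffFG ((snd A X).left.app U.1))
    (h𝓔fg : ∀ V : (A ⊗ X).left.affineOpens, (𝓔.ideal V).FG) :
    ∃ (Z : Over S) (i : Z ⟶ X), IsClosedImmersion i.left ∧ LocallyOfFinitePresentation i.left ∧
      ∀ {T : Over S} (x : T ⟶ X), (∃ z : T ⟶ Z, z ≫ i = x) ↔ 𝓔.comap (A ◁ x).left = ⊥ := by
  have h1 : ∀ U : X.left.affineOpens, ((coreIdeal (snd A X).left 𝓔 hc).ideal U).FG :=
    fun U => cIdeal_fg (snd A X).left 𝓔 hc U (hfg U) (h𝓔fg _)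
  obtain ⟨Z, i, hi, hi', hZ⟩ := exists_closed_of_ideal (coreIdeal (snd A X).left 𝓔 hc) h1
  refine ⟨Z, i, hi, hi', ?_⟩
  intro T x
  rw [hZ x, comap_eq_bot_iff (snd A X).left 𝓔 hc (isPullback_whiskerLeft x)]

theorem exists_closed_fp_of_finite_flat [IsFinite A.hom] [Flat A.hom]
    [LocallyOfFinitePresentation A.hom] (𝓔 : (A ⊗ X).left.IdealSheafData)
    (h𝓔fg : ∀ V : (A ⊗ X).left.affineOpens, (𝓔.ideal V).FG) :
    ∃ (Z : Over S) (i : Z ⟶ X), IsClosedImmersion i.left ∧ LocallyOfFinitePresentation i.left ∧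
      ∀ {T : Over S} (x : T ⟶ X), (∃ z : T ⟶ Z, z ≫ i = x) ↔ 𝓔.comap (A ◁ x).left = ⊥ :=
  exists_closed_fp 𝓔 (fun U => Groth.Agent.Lib.Helper16.FixFinite.hasCoeff_snd U)
    (fun U => hasCoeffFG_snd U) h𝓔fg

/-- Universal agreement of two maps `A ⊗ X ⟶ W` with `A` finite locally free over `S` and `W`
separated and locally of finite presentation over `S`. -/
theorem exists_closed_fp_of_equalizer (u v : A ⊗ X ⟶ W) [IsFinite A.hom] [Flat A.hom]
    [LocallyOfFinitePresentation A.hom] [IsSeparated W.hom] [LocallyOfFinitePresentation W.hom] :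
    ∃ (Z : Over S) (i : Z ⟶ X), IsClosedImmersion i.left ∧ LocallyOfFinitePresentation i.left ∧
      ∀ {T : Over S} (x : T ⟶ X), (∃ z : T ⟶ Z, z ≫ i = x) ↔ Good u v x := by
  haveI : IsClosedImmersion (equalizer.ι u v).left := inferInstance
  haveI : LocallyOfFinitePresentation (equalizer.ι u v).left :=
    locallyOfFinitePresentation_equalizer_ι_left u v
  obtain ⟨Z, i, hi, hi', hZ⟩ := exists_closed_fp_of_finite_flat (A := A) (X := X)
    (equalizer.ι u v).left.ker (fun V => ker_ideal_fg (equalizer.ι u v).left V)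
  refine ⟨Z, i, hi, hi', ?_⟩
  intro T x
  rw [hZ x, good_iff, ← comp_eq_iff_of_isClosedImmersion u v]
  constructor
  · intro h
    apply Over.OverMorphism.ext
    exact h
  · intro h
    exact congrArg (fun m => m.left) h

/-- `x` is a point transporting `A` into `W'` under `u`. -/
def GoodT (u : A ⊗ X ⟶ W) (y' : W' ⟶ W) {T : Over S} (x : T ⟶ X) : Prop :=
  ∀ (T' : Over S) (t : T' ⟶ T) (a : T' ⟶ A), ∃ a' : T' ⟶ W', lift a (t ≫ x) ≫ u = a' ≫ y'

theorem goodT_iff (u : A ⊗ X ⟶ W) (y' : W' ⟶ W) {T : Over S} (x : T ⟶ X) :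
    GoodT u y' x ↔ ∃ a' : A ⊗ T ⟶ W', (A ◁ x) ≫ u = a' ≫ y' := by
  constructor
  · intro h
    obtain ⟨a', ha'⟩ := h (A ⊗ T) (snd A T) (fst A T)
    have h2 : lift (fst A T) (snd A T ≫ x) = A ◁ x := by
      apply CartesianMonoidalCategory.hom_ext <;> simp
    rw [h2] at ha'
    exact ⟨a', ha'⟩
  · rintro ⟨a', ha'⟩ T' t a
    have h2 : lift a (t ≫ x) = lift a t ≫ (A ◁ x) := by
      apply CartesianMonoidalCategory.hom_ext <;> simp
    refine ⟨lift a t ≫ a', ?_⟩
    rw [h2, Category.assoc, ha', Category.assoc]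

theorem factors_iff (y' : W' ⟶ W) [IsClosedImmersion y'.left] {Q : Over S} (s : Q ⟶ W) :
    (∃ a' : Q ⟶ W', s = a' ≫ y') ↔ (y'.left.ker).comap s.left = ⊥ := by
  rw [comap_eq_bot_iff_le_ker]
  constructor
  · rintro ⟨a', rfl⟩
    exact Scheme.Hom.le_ker_comp _ _
  · intro h
    let z₀ : Q.left ⟶ W'.left := IsClosedImmersion.lift y'.left s.left h
    have hz₀ : z₀ ≫ y'.left = s.left := IsClosedImmersion.lift_fac _ _ _
    refine ⟨Over.homMk z₀ ?_, ?_⟩
    · rw [← Over.w y', ← Category.assoc, hz₀]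
      exact Over.w s
    · apply Over.OverMorphism.ext
      exact hz₀.symm

/-- Transporter of `A` into a closed subscheme `W'` of `W` locally of finite presentation, `A` finite
locally free over `S`. -/
theorem exists_closed_fp_of_transporter (u : A ⊗ X ⟶ W) (y' : W' ⟶ W) [IsFinite A.hom]
    [Flat A.hom] [LocallyOfFinitePresentation A.hom] [IsClosedImmersion y'.left]
    [LocallyOfFinitePresentation y'.left] :
    ∃ (Z : Over S) (i : Z ⟶ X), IsClosedImmersion i.left ∧ LocallyOfFinitePresentation i.left ∧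
      ∀ {T : Over S} (x : T ⟶ X), (∃ z : T ⟶ Z, z ≫ i = x) ↔ GoodT u y' x := by
  obtain ⟨Z, i, hi, hi', hZ⟩ := exists_closed_fp_of_finite_flat (A := A) (X := X)
    ((y'.left.ker).comap u.left)
    (fun V => comap_ideal_fg _ (fun V' => ker_ideal_fg y'.left V') u.left V)
  refine ⟨Z, i, hi, hi', ?_⟩
  intro T x
  rw [hZ x, goodT_iff, factors_iff, Over.comp_left, Scheme.IdealSheafData.comap_comp]

end Main

end Groth.Agent.Lib.Helper16.FixFG
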