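import Mathlib
import Groth.Agent.Lib.Helper16.RingCoeffDescent

/-!
# Coefficient ideals are local on the base (helper16)

* `ideal_descent_family`: descent of a compatible finite family of ideals along a family of flat
  ring maps.
* `hasCoeff_of_family`: if `φ_i : A_i ⟶ B_i` are cobase changes of `φ : A ⟶ B` along a finite
  family of flat maps `θ_i : A ⟶ A_i` which is "jointly injective after any base change", and
  every `φ_i` has coefficient ideals, then so does `φ`.
* `jointlyInjective_of_localization`: a family of localizations `A → A_{f_i}` with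
  `(f_i) = (1)` is jointly injective after any base change.
-/

set_option autoImplicit false

namespace Groth.Agent.Lib.Helper16.RingCoeffLocal

universe u
open CategoryTheory Limits TensorProduct
open Groth.Agent.Lib.Helper16.RingCoeff Groth.Agent.Lib.Helper16.ClosedDescentAlg
  Groth.Agent.Lib.Helper16.RingCoeffDescent

/-- Descent of a compatible finite family of ideals along flat ring maps. -/
theorem ideal_descent_family {ι : Type*} [Finite ι] {A : Type u} [CommRing A] (A' : ι → Type u)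
    [∀ i, CommRing (A' i)] [∀ i, Algebra A (A' i)] [∀ i, Module.Flat A (A' i)]
    (J' : ∀ i, Ideal (A' i))
    (h : ∀ i j, (J' i).map
        (Algebra.TensorProduct.includeRight : A' i →ₐ[A] A' j ⊗[A] A' i).toRingHom ≤
      (J' j).map (Algebra.TensorProduct.includeLeftRingHom : A' j →+* A' j ⊗[A] A' i)) (i : ι) :
    J' i = (⨅ j, (J' j).comap (algebraMap A (A' j))).map (algebraMap A (A' i)) := by
  classical
  cases nonempty_fintype ι
  refine le_antisymm ?_ ?_
  swap
  · rw [Ideal.map_le_iff_le_comap]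
    exact iInf_le _ i
  intro b hb
  have hz : ∀ j, (1 : A' j ⧸ J' j) ⊗ₜ[A] b = 0 := by
    intro j
    let Θ : A' j ⊗[A] A' i →ₐ[A] (A' j ⧸ J' j) ⊗[A] A' i :=
      Algebra.TensorProduct.map (Ideal.Quotient.mkₐ A (J' j)) (AlgHom.id A (A' i))
    have h1 : Θ ((1 : A' j) ⊗ₜ[A] b) = (1 : A' j ⧸ J' j) ⊗ₜ[A] b := by simp [Θ]
    have h2 : (1 : A' j) ⊗ₜ[A] b ∈
        (J' j).map (Algebra.TensorProduct.includeLeftRingHom : A' j →+* A' j ⊗[A] A' i) :=
      h i j (Ideal.mem_map_of_mem _ hb)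
    have h3 : (J' j).map (Algebra.TensorProduct.includeLeftRingHom : A' j →+* A' j ⊗[A] A' i) ≤
        RingHom.ker Θ.toRingHom := by
      rw [Ideal.map_le_iff_le_comap]
      intro x hx
      rw [Ideal.mem_comap, RingHom.mem_ker]
      show Θ (x ⊗ₜ[A] (1 : A' i)) = 0
      have : Ideal.Quotient.mk (J' j) x = 0 := Ideal.Quotient.eq_zero_iff_mem.mpr hx
      simp [Θ, this]
    rw [← h1]
    exact h3 h2
  have hzero : (1 : ∀ j, A' j ⧸ J' j) ⊗ₜ[A] b = 0 := by
    apply (TensorProduct.piLeft A (A' i) (fun j => A' j ⧸ J' j)).injective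
    rw [map_zero]
    ext j
    simpa using hz j
  have := mem_map_of_tmul_eq_zero (A := A) (D := ∀ j, A' j ⧸ J' j) (B := A' i) b hzero
  have hker : RingHom.ker (algebraMap A (∀ j, A' j ⧸ J' j)) =
      ⨅ j, (J' j).comap (algebraMap A (A' j)) := by
    ext x
    simp only [RingHom.mem_ker, Ideal.mem_iInf, Ideal.mem_comap]
    rw [funext_iff]
    refine forall_congr' fun j => ?_
    show algebraMap A (A' j ⧸ J' j) x = 0 ↔ _
    rw [IsScalarTower.algebraMap_apply A (A' j) (A' j ⧸ J' j), Ideal.Quotient.algebraMap_eq,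
      Ideal.Quotient.eq_zero_iff_mem]
  rw [hker] at this
  exact this

section Cat

variable {ι : Type*} {A B : CommRingCat.{u}} {φ : A ⟶ B}
  {A' B' : ι → CommRingCat.{u}} {θ : ∀ i, A ⟶ A' i} {θB : ∀ i, B ⟶ B' i}
  {φ' : ∀ i, A' i ⟶ B' i}

/-- Joint injectivity of a family of ring maps after arbitrary base change. -/
def JointlyInjective (θ : ∀ i, A ⟶ A' i) : Prop :=
  ∀ ⦃C : CommRingCat.{u}⦄ (ψ : A ⟶ C) (C' : ι → CommRingCat.{u}) (j : ∀ i, C ⟶ C' i)
    (ψ' : ∀ i, A' i ⟶ C' i), (∀ i, IsPushout ψ (θ i) (j i) (ψ' i)) →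
      ∀ c : C, (∀ i, (j i).hom c = 0) → c = 0

/-- **Coefficient ideals are local on the base** (for a finite flat jointly injective family). -/
theorem hasCoeff_of_family [Finite ι] (H : ∀ i, IsPushout φ (θ i) (θB i) (φ' i))
    (hflat : ∀ i, (θ i).hom.Flat) (hJI : JointlyInjective θ) (h' : ∀ i, HasCoeff (φ' i)) :
    HasCoeff φ := by
  intro I
  choose J' hJ' using fun i => h' i (I.map (θB i).hom)
  have key : ∀ i {C D : CommRingCat.{u}} (ψ' : A' i ⟶ C) (β₀ : B ⟶ D) (γ : C ⟶ D),
      IsPushout φ (θ i ≫ ψ') β₀ γ → (I.map β₀.hom = ⊥ ↔ (J' i).map ψ'.hom = ⊥) :=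
    fun i _ _ ψ' β₀ γ S => map_eq_bot_iff_of_paste (H i) I (J' i) (hJ' i) ψ' β₀ γ S
  have lemA : ∀ i j {C : CommRingCat.{u}} (ψ₁ : A' i ⟶ C) (ψ₂ : A' j ⟶ C),
      θ i ≫ ψ₁ = θ j ≫ ψ₂ → ((J' i).map ψ₁.hom = ⊥ ↔ (J' j).map ψ₂.hom = ⊥) := by
    intro i j C ψ₁ ψ₂ e
    obtain ⟨D, β, γ, S⟩ : ∃ (D : CommRingCat.{u}) (β : B ⟶ D) (γ : C ⟶ D),
        IsPushout φ (θ i ≫ ψ₁) β γ := ⟨_, _, _, IsPushout.of_hasPushout _ _⟩
    have S2 : IsPushout φ (θ j ≫ ψ₂) β γ := e ▸ S
    rw [← key i ψ₁ β γ S, ← key j ψ₂ β γ S2]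
  letI : ∀ i, Algebra A (A' i) := fun i => (θ i).hom.toAlgebra
  haveI : ∀ i, Module.Flat A (A' i) := fun i => hflat i
  obtain ⟨J, hJdef⟩ : ∃ J : Ideal A, J = ⨅ j, (J' j).comap (θ j).hom := ⟨_, rfl⟩
  have lemB : ∀ i, J' i = J.map (θ i).hom := by
    intro i
    rw [hJdef]
    refine ideal_descent_family (A := A) (fun i => A' i) J' ?_ i
    intro i j
    let T : CommRingCat.{u} := CommRingCat.of (A' j ⊗[A] A' i)
    let i₁ : A' j ⟶ T := CommRingCat.ofHom
      (Algebra.TensorProduct.includeLeftRingHom : A' j →+* A' j ⊗[A] A' i)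
    let i₂ : A' i ⟶ T := CommRingCat.ofHom
      (Algebra.TensorProduct.includeRight : A' i →ₐ[A] A' j ⊗[A] A' i).toRingHom
    let K : Ideal (A' j ⊗[A] A' i) := (J' j).map i₁.hom
    let Q : CommRingCat.{u} := CommRingCat.of ((A' j ⊗[A] A' i) ⧸ K)
    let q : T ⟶ Q := CommRingCat.ofHom (Ideal.Quotient.mk K)
    have e : θ j ≫ (i₁ ≫ q) = θ i ≫ (i₂ ≫ q) := by
      have : θ j ≫ i₁ = θ i ≫ i₂ := by
        ext a
        show (Algebra.TensorProduct.includeLeft : A' j →ₐ[A] A' j ⊗[A] A' i)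
            (algebraMap A (A' j) a) =
          (Algebra.TensorProduct.includeRight : A' i →ₐ[A] A' j ⊗[A] A' i) (algebraMap A (A' i) a)
        rw [AlgHom.commutes, AlgHom.commutes]
      rw [← Category.assoc, this, Category.assoc]
    have h1 : (J' j).map (i₁ ≫ q).hom = ⊥ := by
      rw [CommRingCat.hom_comp, ← Ideal.map_map]
      show (K.map (Ideal.Quotient.mk K)) = ⊥
      exact Ideal.map_quotient_self K
    have h2 : (J' i).map (i₂ ≫ q).hom = ⊥ := (lemA j i _ _ e).1 h1
    rw [CommRingCat.hom_comp, ← Ideal.map_map, Ideal.map_eq_bot_iff_le_ker] at h2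
    have h3 : RingHom.ker q.hom = K := Ideal.mk_ker
    rw [h3] at h2
    exact h2
  refine ⟨J, ?_⟩
  intro C D ψ β γ P
  have P1 : ∀ i, IsPushout ψ (θ i) (pushout.inl ψ (θ i)) (pushout.inr ψ (θ i)) :=
    fun i => IsPushout.of_hasPushout _ _
  have P2 : ∀ i, IsPushout γ (pushout.inl ψ (θ i)) (pushout.inl γ (pushout.inl ψ (θ i)))
      (pushout.inr γ (pushout.inl ψ (θ i))) := fun i => IsPushout.of_hasPushout _ _
  have S : ∀ i, IsPushout φ (θ i ≫ pushout.inr ψ (θ i))
      (β ≫ pushout.inl γ (pushout.inl ψ (θ i))) (pushout.inr γ (pushout.inl ψ (θ i))) := by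
    intro i
    have := P.paste_vert (P2 i)
    rwa [(P1 i).w] at this
  have k1 := fun i => key i _ _ _ (S i)
  have jC : ∀ K : Ideal C, (∀ i, K.map (pushout.inl ψ (θ i)).hom = ⊥) → K = ⊥ := by
    intro K hK
    rw [eq_bot_iff]
    intro c hc
    refine hJI ψ _ _ _ P1 c (fun i => ?_)
    have : (pushout.inl ψ (θ i)).hom c ∈ K.map (pushout.inl ψ (θ i)).hom :=
      Ideal.mem_map_of_mem _ hc
    rw [hK i] at this
    exact this
  have jD : ∀ K : Ideal D, (∀ i, K.map (pushout.inl γ (pushout.inl ψ (θ i))).hom = ⊥) →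
      K = ⊥ := by
    intro K hK
    rw [eq_bot_iff]
    intro c hc
    refine hJI (ψ ≫ γ) _ _ _ (fun i => (P1 i).paste_horiz (P2 i)) c (fun i => ?_)
    have : (pushout.inl γ (pushout.inl ψ (θ i))).hom c ∈
        K.map (pushout.inl γ (pushout.inl ψ (θ i))).hom := Ideal.mem_map_of_mem _ hc
    rw [hK i] at this
    exact this
  constructor
  · intro hI
    apply jC
    intro i
    rw [Ideal.map_map, ← CommRingCat.hom_comp, (P1 i).w, CommRingCat.hom_comp, ← Ideal.map_map,
      ← lemB i, ← k1 i, CommRingCat.hom_comp, ← Ideal.map_map, hI, Ideal.map_bot]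
  · intro hJ
    apply jD
    intro i
    rw [Ideal.map_map, ← CommRingCat.hom_comp, k1 i, lemB i, Ideal.map_map,
      ← CommRingCat.hom_comp, ← (P1 i).w, CommRingCat.hom_comp, ← Ideal.map_map, hJ,
      Ideal.map_bot]

/-- A family of localizations at elements generating the unit ideal is jointly injective after
any base change. -/
theorem jointlyInjective_of_localization (θ : ∀ i, A ⟶ A' i) (f : ι → A)
    (hf : Ideal.span (Set.range f) = ⊤)
    (hloc : ∀ i, letI := (θ i).hom.toAlgebra; IsLocalization.Away (f i) (A' i)) :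
    JointlyInjective θ := by
  intro C ψ C' j ψ' P c hc
  have hn : ∀ i, ∃ n : ℕ, (ψ.hom (f i)) ^ n * c = 0 := by
    intro i
    letI := (θ i).hom.toAlgebra
    haveI := hloc i
    haveI : IsLocalization (Submonoid.map ψ.hom (Submonoid.powers (f i)))
        (Localization.Away (ψ.hom (f i))) := by
      rw [Submonoid.map_powers]; infer_instance
    let fm : A' i →+* Localization.Away (ψ.hom (f i)) :=
      IsLocalization.Away.map (A' i) (Localization.Away (ψ.hom (f i))) ψ.hom (f i)
    have hfm : fm.comp (algebraMap A (A' i)) =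
        (algebraMap C (Localization.Away (ψ.hom (f i)))).comp ψ.hom := IsLocalization.map_comp _
    have Q := CommRingCat.isPushout_of_isLocalization ψ.hom fm hfm (Submonoid.powers (f i))
    let e := (P i).isoIsPushout _ _ Q
    have he : j i ≫ e.hom = CommRingCat.ofHom (algebraMap C (Localization.Away (ψ.hom (f i)))) :=
      IsPushout.inl_isoIsPushout_hom _ _ _ _
    have h0 : algebraMap C (Localization.Away (ψ.hom (f i))) c = 0 := by
      have h1 := congrArg (fun g => g.hom c) he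
      simp only [CommRingCat.hom_comp, RingHom.comp_apply, CommRingCat.hom_ofHom] at h1
      rw [← h1, hc i, map_zero]
    obtain ⟨⟨m, n, rfl⟩, hm⟩ :=
      (IsLocalization.map_eq_zero_iff (Submonoid.powers (ψ.hom (f i))) _ c).1 h0
    exact ⟨n, hm⟩
  have hspan : Ideal.span (Set.range fun i => ψ.hom (f i)) = ⊤ := by
    have := congrArg (Ideal.map ψ.hom) hf
    rw [Ideal.map_span, Ideal.map_top, ← Set.range_comp] at this
    exact this
  have := Submodule.mem_of_span_eq_top_of_smul_pow_mem (⊥ : Submodule C C)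
    (Set.range fun i => ψ.hom (f i)) hspan c ?_
  · exact (Submodule.mem_bot C).1 this
  · rintro ⟨_, i, rfl⟩
    obtain ⟨n, hn⟩ := hn i
    exact ⟨n, (Submodule.mem_bot C).2 hn⟩

/-- **Coefficient ideals are Zariski-local on the base.** -/
theorem hasCoeff_of_localization [Finite ι] (H : ∀ i, IsPushout φ (θ i) (θB i) (φ' i))
    (f : ι → A) (hf : Ideal.span (Set.range f) = ⊤)
    (hloc : ∀ i, letI := (θ i).hom.toAlgebra; IsLocalization.Away (f i) (A' i))
    (h' : ∀ i, HasCoeff (φ' i)) : HasCoeff φ :=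
  hasCoeff_of_family H
    (fun i => by
      letI := (θ i).hom.toAlgebra
      haveI := hloc i
      exact IsLocalization.flat (A' i) (Submonoid.powers (f i)))
    (jointlyInjective_of_localization θ f hf hloc) h'

end Cat

end Groth.Agent.Lib.Helper16.RingCoeffLocal
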