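import Mathlib
import Groth.Agent.Lib.Helper16.RingCoeffLocal

/-!
# Coefficient ideals for affine morphisms are local on the target (helper16)

`hasCoeff_of_basis`: if `p : P ⟶ X` is affine and `p.app W` has coefficient ideals for all `W` in
a basis of affine opens of `X` closed under passing to smaller affine opens, then `p.app V` has
coefficient ideals for every affine open `V`.
-/

set_option autoImplicit false

namespace Groth.Agent.Lib.Helper16.FixLocal

universe u
open CategoryTheory Limits AlgebraicGeometry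
open Groth.Agent.Lib.Helper16.RingCoeff Groth.Agent.Lib.Helper16.RingCoeffLocal

variable {P X : Scheme.{u}} (p : P ⟶ X)

/-- Sections over the preimage of a smaller affine open are the pushout. -/
theorem isPushout_app_res (V D : X.Opens) (hV : IsAffineOpen V) (hD : IsAffineOpen D)
    (hPV : IsAffineOpen (p ⁻¹ᵁ V)) (hDV : D ≤ V) :
    IsPushout (p.app V) (X.presheaf.map (homOfLE hDV).op)
      (P.presheaf.map (homOfLE (p.preimage_mono hDV)).op) (p.app D) := by
  have H : IsPullback (𝟙 P) p p (𝟙 X) := IsPullback.id_horiz p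
  have hUY : p ⁻¹ᵁ D = (𝟙 P) ⁻¹ᵁ (p ⁻¹ᵁ V) ⊓ p ⁻¹ᵁ D :=
    (inf_eq_right.2 (p.preimage_mono hDV)).symm
  have hiso := isIso_pushoutSection_of_isAffineOpen H (US := V) (UT := D) (UX := p ⁻¹ᵁ V)
    hDV le_rfl hUY hV hD hPV
  have hpo := (isIso_pushoutSection_iff H hDV le_rfl hUY).1 hiso
  convert hpo using 1
  · simp [Scheme.Hom.appLE]
  · rw [Scheme.Hom.appLE, Scheme.Hom.id_app]
    exact (Category.id_comp _).symm
  · rw [Scheme.Hom.appLE, Scheme.Hom.id_app]
    exact (Category.id_comp _).symm
  · simp [Scheme.Hom.appLE]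

/-- **Coefficient ideals are local on the target**: it suffices to have them on a basis of affine
opens which is closed under passing to smaller affine opens. -/
theorem hasCoeff_of_basis [IsAffineHom p] (small : X.affineOpens → Prop)
    (hbasis : ∀ (x : X) (V : X.Opens), x ∈ V →
      ∃ W : X.affineOpens, small W ∧ x ∈ W.1 ∧ W.1 ≤ V)
    (hmono : ∀ W W' : X.affineOpens, small W → W'.1 ≤ W.1 → small W')
    (hc : ∀ W, small W → HasCoeff (p.app W.1)) (V : X.affineOpens) : HasCoeff (p.app V.1) := by
  have hV : IsAffineOpen V.1 := V.2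
  let s : Set Γ(X, V.1) := {f | small (X.affineBasicOpen f)}
  have hs : Ideal.span s = ⊤ := by
    rw [← hV.self_le_iSup_basicOpen_iff]
    intro x hx
    obtain ⟨W, hW, hxW, hWV⟩ := hbasis x V.1 hx
    obtain ⟨f, hfW, hxf⟩ := hV.exists_basicOpen_le (V := W.1) ⟨x, hxW⟩ hx
    have hf : f ∈ s := hmono W (X.affineBasicOpen f) hW hfW
    exact TopologicalSpace.Opens.mem_iSup.mpr ⟨⟨f, hf⟩, hxf⟩
  obtain ⟨s', hs's, hs'⟩ := (Ideal.span_eq_top_iff_finite s).1 hs
  refine hasCoeff_of_localization (ι := s') (φ := p.app V.1)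
    (A' := fun i => Γ(X, X.basicOpen i.1)) (B' := fun i => Γ(P, p ⁻¹ᵁ X.basicOpen i.1))
    (θ := fun i => X.presheaf.map (homOfLE (X.basicOpen_le i.1)).op)
    (θB := fun i => P.presheaf.map (homOfLE (p.preimage_mono (X.basicOpen_le i.1))).op)
    (φ' := fun i => p.app (X.basicOpen i.1))
    (fun i => isPushout_app_res p V.1 (X.basicOpen i.1) hV (hV.basicOpen i.1) (hV.preimage p)
      (X.basicOpen_le i.1))
    (fun i => i.1) ?_ (fun i => hV.isLocalization_basicOpen i.1)
    (fun i => hc (X.affineBasicOpen i.1) (hs's i.2))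
  rw [Subtype.range_coe_subtype]
  exact hs'

end Groth.Agent.Lib.Helper16.FixLocal
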