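import Mathlib
import Groth.Agent.Lib.Helper16.RingCoeffLocal

/-!
# Coefficient ideals: descent along a finite jointly faithfully flat family (helper16)

* `map_ann_eq_top`: if `K'` is flat over `K` and `c ⊗ 1 = 0` in `C ⊗[K] K'`, then the annihilator
  of `c` generates the unit ideal of `K'`.
* `jointlyInjective_of_flat_of_comap_surjective`: a family of flat ring maps which is jointly
  surjective on prime spectra is jointly injective after any base change.
* `JointlyInjective.cobaseChange`.
* `hasCoeff_of_fpqc_family`: if `φ : R ⟶ B` is the cobase change of `a0 : K ⟶ A0` and there is a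
  finite jointly faithfully flat family `κ j : K ⟶ K' j` such that every cobase change of `a0`
  along `κ j` is projective, then `φ` has coefficient ideals.
-/

set_option autoImplicit false

namespace Groth.Agent.Lib.Helper16.RingCoeffFpqc

universe u
open CategoryTheory Limits TensorProduct
open Groth.Agent.Lib.Helper16.RingCoeff Groth.Agent.Lib.Helper16.ClosedDescentAlg
  Groth.Agent.Lib.Helper16.RingCoeffDescent Groth.Agent.Lib.Helper16.RingCoeffLocal

/-- If `K'` is flat over `K` and `c ⊗ 1 = 0` in `C ⊗[K] K'`, the annihilator of `c` generates the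
unit ideal in `K'`. -/
theorem map_ann_eq_top {K K' C : Type u} [CommRing K] [CommRing K'] [Algebra K K']
    [Module.Flat K K'] [AddCommGroup C] [Module K C] (c : C)
    (h : c ⊗ₜ[K] (1 : K') = 0) :
    Ideal.map (algebraMap K K') (LinearMap.ker (LinearMap.toSpanSingleton K C c)) = ⊤ := by
  set I : Ideal K := LinearMap.ker (LinearMap.toSpanSingleton K C c) with hI
  let g : (K ⧸ I) →ₗ[K] C := Submodule.liftQ I (LinearMap.toSpanSingleton K C c) le_rfl
  have hg : Function.Injective g := by
    rw [← LinearMap.ker_eq_bot]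
    exact Submodule.ker_liftQ_eq_bot _ _ _ le_rfl
  have hinj : Function.Injective (LinearMap.rTensor K' g) :=
    Module.Flat.rTensor_preserves_injective_linearMap g hg
  have h1 : LinearMap.rTensor K' g ((1 : K ⧸ I) ⊗ₜ[K] (1 : K')) = 0 := by
    rw [LinearMap.rTensor_tmul]
    have : g (1 : K ⧸ I) = c := by
      show g (Submodule.Quotient.mk (1 : K)) = c
      rw [Submodule.liftQ_apply, LinearMap.toSpanSingleton_apply, one_smul]
    rw [this, h]
  have h2 : (1 : K ⧸ I) ⊗ₜ[K] (1 : K') = 0 := hinj (by rw [h1, map_zero])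
  have h3 := mem_map_of_tmul_eq_zero (A := K) (D := K ⧸ I) (B := K') (1 : K') h2
  have hker : RingHom.ker (algebraMap K (K ⧸ I)) = I := by
    rw [Ideal.Quotient.algebraMap_eq]; exact Ideal.mk_ker
  rw [hker] at h3
  exact (Ideal.eq_top_iff_one _).2 h3

section Cat

variable {ι : Type*} {K : CommRingCat.{u}} {K' : ι → CommRingCat.{u}} (κ : ∀ j, K ⟶ K' j)

/-- A family of flat ring maps which is jointly surjective on prime spectra is jointly injective
after any base change. -/
theorem jointlyInjective_of_flat_of_comap_surjective (hflat : ∀ j, (κ j).hom.Flat)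
    (hsurj : ∀ p : PrimeSpectrum K, ∃ (j : ι) (q : PrimeSpectrum (K' j)),
      q.comap (κ j).hom = p) : JointlyInjective κ := by
  intro C ψ C' i ψ' P c hc
  letI := ψ.hom.toAlgebra
  -- the annihilator of `c`
  set I : Ideal K := LinearMap.ker (LinearMap.toSpanSingleton K C c) with hI
  have hmap : ∀ j, I.map (κ j).hom = ⊤ := by
    intro j
    letI := (κ j).hom.toAlgebra
    haveI : Module.Flat K (K' j) := hflat j
    let e := (CommRingCat.isPushout_tensorProduct K C (K' j)).isoIsPushout _ _ (P j)
    have he : CommRingCat.ofHom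
        (Algebra.TensorProduct.includeLeftRingHom : C →+* C ⊗[K] (K' j)) ≫ e.hom = i j :=
      IsPushout.inl_isoIsPushout_hom _ _ _ _
    have hinj : Function.Injective e.hom.hom :=
      (ConcreteCategory.bijective_of_isIso e.hom).1
    have h0 : c ⊗ₜ[K] (1 : K' j) = 0 := by
      apply hinj
      rw [map_zero]
      have h1 := congrArg (fun g => g.hom c) he
      simp only [CommRingCat.hom_comp, RingHom.comp_apply, CommRingCat.hom_ofHom] at h1
      rw [← hc j, ← h1]
      rfl
    exact map_ann_eq_top (K := K) (K' := K' j) (C := C) c h0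
  have hItop : I = ⊤ := by
    by_contra hne
    obtain ⟨m, hm, hIm⟩ := Ideal.exists_le_maximal I hne
    obtain ⟨j, q, hq⟩ := hsurj ⟨m, hm.isPrime⟩
    have h1 : I.map (κ j).hom ≤ q.asIdeal := by
      rw [Ideal.map_le_iff_le_comap]
      have : q.asIdeal.comap (κ j).hom = m := congrArg PrimeSpectrum.asIdeal hq
      rw [this]
      exact hIm
    rw [hmap j, top_le_iff] at h1
    exact q.isPrime.ne_top h1
  have h1 : (1 : K) ∈ I := by rw [hItop]; trivial
  rw [hI, LinearMap.mem_ker, LinearMap.toSpanSingleton_apply, one_smul] at h1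
  exact h1

variable {κ}

/-- Joint injectivity is stable under cobase change. -/
theorem JointlyInjective.cobaseChange (h : JointlyInjective κ) {R : CommRingCat.{u}}
    {R' : ι → CommRingCat.{u}} (ρ : K ⟶ R) (θ : ∀ j, R ⟶ R' j) (ρ' : ∀ j, K' j ⟶ R' j)
    (P : ∀ j, IsPushout ρ (κ j) (θ j) (ρ' j)) : JointlyInjective θ := by
  intro C ψ C' i ψ' Q c hc
  exact h (ρ ≫ ψ) C' i (fun j => ρ' j ≫ ψ' j) (fun j => (P j).paste_horiz (Q j)) c hc

theorem flat_of_isPushout {R R' K'' : CommRingCat.{u}} {κ' : K ⟶ K''} {ρ : K ⟶ R} {θ : R ⟶ R'}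
    {ρ' : K'' ⟶ R'} (P : IsPushout ρ κ' θ ρ') (h : κ'.hom.Flat) : θ.hom.Flat := by
  have := (RingHom.isStableUnderCobaseChange_toMorphismProperty_iff
    (P := @RingHom.Flat)).2 RingHom.Flat.isStableUnderBaseChange
  exact MorphismProperty.IsStableUnderCobaseChange.of_isPushout (P := RingHom.toMorphismProperty
    @RingHom.Flat) P h

/-- **fpqc-local criterion for coefficient ideals** of a cobase change. -/
theorem hasCoeff_of_fpqc_family [Finite ι] {A0 R B : CommRingCat.{u}} {a0 : K ⟶ A0} {ρ : K ⟶ R}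
    {β0 : A0 ⟶ B} {φ : R ⟶ B} (P0 : IsPushout a0 ρ β0 φ)
    (hflat : ∀ j, (κ j).hom.Flat)
    (hsurj : ∀ p : PrimeSpectrum K, ∃ (j : ι) (q : PrimeSpectrum (K' j)),
      q.comap (κ j).hom = p)
    (hproj : ∀ j, ∃ (A' : CommRingCat.{u}) (a' : K' j ⟶ A') (κA : A0 ⟶ A'),
      IsPushout a0 (κ j) κA a' ∧ (letI := a'.hom.toAlgebra; Module.Projective (K' j) A')) :
    HasCoeff φ := by
  have Sq3 : ∀ j, IsPushout ρ (κ j) (pushout.inl ρ (κ j)) (pushout.inr ρ (κ j)) :=
    fun j => IsPushout.of_hasPushout _ _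
  have Sq2 : ∀ j, IsPushout φ (pushout.inl ρ (κ j)) (pushout.inl φ (pushout.inl ρ (κ j)))
      (pushout.inr φ (pushout.inl ρ (κ j))) := fun j => IsPushout.of_hasPushout _ _
  refine hasCoeff_of_family Sq2 (fun j => flat_of_isPushout (Sq3 j) (hflat j))
    (JointlyInjective.cobaseChange
      (jointlyInjective_of_flat_of_comap_surjective κ hflat hsurj) ρ _ _ Sq3) ?_
  intro j
  obtain ⟨A', a', κA, Sq4, hA'⟩ := hproj j
  have S := P0.paste_vert (Sq2 j)
  rw [(Sq3 j).w] at S
  have S' := IsPushout.of_top' S Sq4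
  apply hasCoeff_of_projective
  letI := a'.hom.toAlgebra
  letI := (pushout.inr ρ (κ j)).hom.toAlgebra
  letI := (pushout.inr φ (pushout.inl ρ (κ j))).hom.toAlgebra
  exact projective_of_isPushout (K := K' j) (A0 := A') (R := (pushout ρ (κ j) : CommRingCat.{u}))
    (B := (pushout φ (pushout.inl ρ (κ j)) : CommRingCat.{u})) _ S'

end Cat

end Groth.Agent.Lib.Helper16.RingCoeffFpqc
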