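import Mathlib
import Groth.Prelude.Def_SGA3x
import Groth.Agent.Lib.Helper16.RingCoeffFpqc
import Groth.Agent.Lib.Helper16.FixLocal
import Groth.Agent.Lib.Helper16.FixApp

/-!
# Coefficient ideals for groups of multiplicative type (helper16)

For an `S`-group `H` of multiplicative type (fpqc-locally diagonalisable) and any `S`-scheme `G`,
the projection `H ×_S G ⟶ G` has coefficient ideals over every affine open of `G`
(`hasCoeff_snd_of_isMultTypeFT`).
-/

set_option autoImplicit false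

namespace Groth.Agent.Lib.Helper16.FixMult

universe u
open CategoryTheory Limits MonoidalCategory CartesianMonoidalCategory AlgebraicGeometry
open Groth.Agent.Lib.Helper16.RingCoeff Groth.Agent.Lib.Helper16.RingCoeffDescent
  Groth.Agent.Lib.Helper16.RingCoeffFpqc

/-- Projectivity is preserved by post-composition with an isomorphism. -/
theorem projective_comp_iso {K' A' A'' : CommRingCat.{u}} (a : K' ⟶ A') (ε : A' ⟶ A'') [IsIso ε]
    (h : letI := a.hom.toAlgebra; Module.Projective K' A') :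
    letI := (a ≫ ε).hom.toAlgebra; Module.Projective K' A'' := by
  letI := a.hom.toAlgebra
  letI := (a ≫ ε).hom.toAlgebra
  have P : IsPushout a (𝟙 K') ε (a ≫ ε) := IsPushout.of_vert_isIso ⟨by simp⟩
  exact projective_of_isPushout (K := K') (A0 := A') (R := K') (B := A'') ε P

/-- The coordinate ring of `D_U(M)` over an affine open of `U` is projective. -/
theorem projective_DS_app (U : Scheme.{u}) (M : Type) [AddCommGroup M] (U' : U.Opens)
    (hU' : IsAffineOpen U') :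
    letI := ((Red.DS U M).hom.app U').hom.toAlgebra
    Module.Projective Γ(U, U') Γ((Red.DS U M).left, (Red.DS U M).hom ⁻¹ᵁ U') := by
  let δ : Spec (CommRingCat.of (MonoidAlgebra (ULift.{u} ℤ) (Multiplicative M))) ⟶
      Spec (CommRingCat.of (ULift.{u} ℤ)) :=
    Spec.map (CommRingCat.ofHom (algebraMap (ULift.{u} ℤ)
      (MonoidAlgebra (ULift.{u} ℤ) (Multiplicative M))))
  let τ : U ⟶ Spec (CommRingCat.of (ULift.{u} ℤ)) := Limits.IsTerminal.from specULiftZIsTerminal U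
  have hpb : IsPullback (pullback.fst δ τ) (pullback.snd δ τ) δ τ := IsPullback.of_hasPullback δ τ
  have hUY : (pullback.snd δ τ) ⁻¹ᵁ U' = (pullback.fst δ τ) ⁻¹ᵁ
      (⊤ : (Spec (CommRingCat.of (MonoidAlgebra (ULift.{u} ℤ) (Multiplicative M)))).Opens) ⊓
        (pullback.snd δ τ) ⁻¹ᵁ U' := by
    rw [Scheme.Hom.preimage_top, top_inf_eq]
  have hiso := isIso_pushoutSection_of_isAffineOpen hpb (US := ⊤) (UT := U') (UX := ⊤)
    le_top le_top hUY (isAffineOpen_top _) hU' (isAffineOpen_top _)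
  have hpo := (isIso_pushoutSection_iff hpb le_top le_top hUY).1 hiso
  rw [← Scheme.Hom.app_eq_appLE] at hpo
  have hδtop : δ.appLE ⊤ ⊤ le_top = δ.appTop := by
    rw [Scheme.Hom.appTop, ← Scheme.Hom.appLE_eq_app]
    rfl
  have commf : δ.appLE ⊤ ⊤ le_top ≫ (Scheme.ΓSpecIso (CommRingCat.of
        (MonoidAlgebra (ULift.{u} ℤ) (Multiplicative M)))).hom =
      (Scheme.ΓSpecIso (CommRingCat.of (ULift.{u} ℤ))).hom ≫ CommRingCat.ofHom
        (algebraMap (ULift.{u} ℤ) (MonoidAlgebra (ULift.{u} ℤ) (Multiplicative M))) := by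
    rw [hδtop]
    exact Scheme.ΓSpecIso_naturality _
  have P0 := IsPushout.of_iso hpo (Scheme.ΓSpecIso (CommRingCat.of (ULift.{u} ℤ)))
    (Scheme.ΓSpecIso (CommRingCat.of (MonoidAlgebra (ULift.{u} ℤ) (Multiplicative M))))
    (Iso.refl _) (Iso.refl _)
    (f' := CommRingCat.ofHom (algebraMap (ULift.{u} ℤ)
      (MonoidAlgebra (ULift.{u} ℤ) (Multiplicative M))))
    (g' := (Scheme.ΓSpecIso (CommRingCat.of (ULift.{u} ℤ))).inv ≫ τ.appLE ⊤ U' le_top)
    (inl' := (Scheme.ΓSpecIso (CommRingCat.of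
      (MonoidAlgebra (ULift.{u} ℤ) (Multiplicative M)))).inv ≫
        (pullback.fst δ τ).appLE ⊤ ((pullback.snd δ τ) ⁻¹ᵁ U') le_top)
    (inr' := (pullback.snd δ τ).app U') commf (by simp) (by simp) (by simp)
  letI := ((Scheme.ΓSpecIso (CommRingCat.of (ULift.{u} ℤ))).inv ≫ τ.appLE ⊤ U' le_top).hom.toAlgebra
  letI := ((pullback.snd δ τ).app U').hom.toAlgebra
  exact projective_of_isPushout (K := ULift.{u} ℤ)
    (A0 := MonoidAlgebra (ULift.{u} ℤ) (Multiplicative M)) (R := Γ(U, U'))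
    (B := Γ(pullback δ τ, (pullback.snd δ τ) ⁻¹ᵁ U')) _ P0

variable {S : Scheme.{u}}

/-- **Chart lemma**: if the base change of `H` along `t : T ⟶ S` is isomorphic over `T` to
`D_T(M)`, then for affine opens `U' ⊆ T` mapping into an affine open `O ⊆ S`, some cobase change
of `Γ(S, O) ⟶ Γ(H, H.hom⁻¹ O)` along `Γ(S, O) ⟶ Γ(T, U')` is projective. -/
theorem exists_projective_pushout {H : Over S} [IsAffineHom H.hom] {T : Scheme.{u}} (t : T ⟶ S)
    (M : Type) [AddCommGroup M] (e : Red.bc t H ≅ Red.DS T M)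
    (O : S.affineOpens) (U' : T.Opens) (hU' : IsAffineOpen U') (hle : U' ≤ t ⁻¹ᵁ O.1) :
    ∃ (A' : CommRingCat.{u}) (a' : Γ(T, U') ⟶ A') (κA : Γ(H.left, H.hom ⁻¹ᵁ O.1) ⟶ A'),
      IsPushout (H.hom.app O.1) (t.appLE O.1 U' hle) κA a' ∧
      (letI := a'.hom.toAlgebra; Module.Projective Γ(T, U') A') := by
  have hpb : IsPullback (pullback.fst H.hom t) (pullback.snd H.hom t) H.hom t :=
    IsPullback.of_hasPullback _ _
  have hw : e.hom.left ≫ (Red.DS T M).hom = pullback.snd H.hom t := Over.w e.hom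
  have hUYs : (e.hom.left ≫ (Red.DS T M).hom) ⁻¹ᵁ U' = pullback.snd H.hom t ⁻¹ᵁ U' := by
    rw [hw]
  have hUY : (e.hom.left ≫ (Red.DS T M).hom) ⁻¹ᵁ U' =
      pullback.fst H.hom t ⁻¹ᵁ (H.hom ⁻¹ᵁ O.1) ⊓ pullback.snd H.hom t ⁻¹ᵁ U' := by
    rw [hUYs]
    refine (inf_eq_right.2 ?_).symm
    rw [← Scheme.Hom.comp_preimage, hpb.w, Scheme.Hom.comp_preimage]
    exact (pullback.snd H.hom t).preimage_mono hle
  have hiso := isIso_pushoutSection_of_isAffineOpen hpb (US := O.1) (UT := U')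
    (UX := H.hom ⁻¹ᵁ O.1) hle le_rfl hUY O.2 hU' (O.2.preimage H.hom)
  have hpo := (isIso_pushoutSection_iff hpb hle le_rfl hUY).1 hiso
  rw [← Scheme.Hom.app_eq_appLE] at hpo
  have key : ∀ (g : pullback H.hom t ⟶ T) (hg : g = pullback.snd H.hom t)
      (h : (e.hom.left ≫ (Red.DS T M).hom) ⁻¹ᵁ U' ≤ g ⁻¹ᵁ U')
      (h' : (e.hom.left ≫ (Red.DS T M).hom) ⁻¹ᵁ U' ≤ pullback.snd H.hom t ⁻¹ᵁ U'),
      (pullback.snd H.hom t).appLE U' ((e.hom.left ≫ (Red.DS T M).hom) ⁻¹ᵁ U') h' =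
        g.appLE U' ((e.hom.left ≫ (Red.DS T M).hom) ⁻¹ᵁ U') h := by
    intro g hg h h'
    subst hg
    rfl
  rw [key (e.hom.left ≫ (Red.DS T M).hom) hw le_rfl, Scheme.Hom.appLE_eq_app] at hpo
  refine ⟨_, _, _, hpo, ?_⟩
  haveI : IsIso e.hom.left := inferInstanceAs (IsIso ((Over.forget T).map e.hom))
  have h1 := projective_DS_app T M U' hU'
  have h2 := projective_comp_iso ((Red.DS T M).hom.app U')
    (e.hom.left.app ((Red.DS T M).hom ⁻¹ᵁ U')) h1
  exact h2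

theorem primeIdealOf_fromSpec {X : Scheme.{u}} {O : X.Opens} (hO : IsAffineOpen O)
    (p : PrimeSpectrum Γ(X, O)) (h : hO.fromSpec p ∈ O) :
    hO.primeIdealOf ⟨hO.fromSpec p, h⟩ = p := by
  apply hO.fromSpec.isOpenEmbedding.injective
  exact hO.fromSpec_primeIdealOf ⟨hO.fromSpec p, h⟩

/-- For `H` of multiplicative type (and affine over `S`), the projection `H ×_S G ⟶ G` has
coefficient ideals over every affine open of `G`. -/
theorem hasCoeff_snd_of_isMultTypeFT {H G : Over S} [GrpObj H] [IsAffineHom H.hom]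
    (hH : SGA3x.IsMultTypeFT H) (V : G.left.affineOpens) :
    HasCoeff ((snd H G).left.app V.1) := by
  have hpb : IsPullback (fst H G).left (snd H G).left H.hom G.hom :=
    IsPullback.of_hasPullback H.hom G.hom
  haveI : IsAffineHom (snd H G).left :=
    MorphismProperty.of_isPullback (P := @IsAffineHom) hpb (inferInstance : IsAffineHom H.hom)
  let small : G.left.affineOpens → Prop := fun W => ∃ O : S.affineOpens, W.1 ≤ G.hom ⁻¹ᵁ O.1
  refine FixLocal.hasCoeff_of_basis (snd H G).left small ?_ ?_ ?_ V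
  · intro x V' hx
    obtain ⟨_, ⟨O, hO, rfl⟩, hxO, -⟩ :=
      S.isBasis_affineOpens.exists_subset_of_mem_open (Set.mem_univ (G.hom.base x)) isOpen_univ
    have hx' : x ∈ V' ⊓ G.hom ⁻¹ᵁ O := ⟨hx, hxO⟩
    obtain ⟨_, ⟨W, hW, rfl⟩, hxW, hWV⟩ :=
      G.left.isBasis_affineOpens.exists_subset_of_mem_open hx' (V' ⊓ G.hom ⁻¹ᵁ O).isOpen
    exact ⟨⟨W, hW⟩, ⟨⟨O, hO⟩, fun y hy => (hWV hy).2⟩, hxW, fun y hy => (hWV hy).1⟩
  · rintro W W' ⟨O, hWO⟩ hle
    exact ⟨O, hle.trans hWO⟩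
  · rintro W ⟨O, hWO⟩
    -- the basic pushout square
    have hUY : (snd H G).left ⁻¹ᵁ W.1 =
        (fst H G).left ⁻¹ᵁ (H.hom ⁻¹ᵁ O.1) ⊓ (snd H G).left ⁻¹ᵁ W.1 := by
      refine (inf_eq_right.2 ?_).symm
      rw [← Scheme.Hom.comp_preimage, hpb.w, Scheme.Hom.comp_preimage]
      exact (snd H G).left.preimage_mono hWO
    have hiso := isIso_pushoutSection_of_isAffineOpen hpb (US := O.1) (UT := W.1)
      (UX := H.hom ⁻¹ᵁ O.1) hWO le_rfl hUY O.2 W.2 (O.2.preimage H.hom)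
    have hpo := (isIso_pushoutSection_iff hpb hWO le_rfl hUY).1 hiso
    rw [← Scheme.Hom.app_eq_appLE, ← Scheme.Hom.app_eq_appLE] at hpo
    -- the fpqc chart data
    obtain ⟨S', f, hfl, hsurj, hqc, hloc⟩ := hH
    haveI := hfl
    obtain ⟨Wc, hWc, hWcO⟩ := hqc O.1 O.2
    have hch : ∀ s' : Wc, ∃ (U : S'.Opens) (M : Type) (_ : AddCommGroup M)
        (_ : Red.bc (U.ι ≫ f) H ≅ Red.DS U M) (U' : (U : Scheme.{u}).Opens),
        IsAffineOpen U' ∧ U' ≤ (U.ι ≫ f) ⁻¹ᵁ O.1 ∧ s'.1 ∈ U.ι ''ᵁ U' := by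
      intro s'
      obtain ⟨U, hsU, M, iM, -, ⟨φ⟩⟩ := hloc s'.1
      have hfs : f.base s'.1 ∈ O.1 := by
        have : f.base s'.1 ∈ f.base '' (Wc : Set S') := ⟨s'.1, s'.2, rfl⟩
        rw [hWcO] at this
        exact this
      have hx' : (⟨s'.1, hsU⟩ : (U : Scheme.{u})) ∈ (U.ι ≫ f) ⁻¹ᵁ O.1 := hfs
      obtain ⟨_, ⟨U', hU', rfl⟩, hxU', hU'le⟩ :=
        (U : Scheme.{u}).isBasis_affineOpens.exists_subset_of_mem_open hx'
          ((U.ι ≫ f) ⁻¹ᵁ O.1).isOpen
      exact ⟨U, M, iM, (Grp.forget _).mapIso φ, U', hU', hU'le, ⟨⟨s'.1, hsU⟩, hxU', rfl⟩⟩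
    choose U M iM e U' hU' hle hmem using hch
    -- finite subcover
    have hcov : (Wc : Set S') ⊆ ⋃ s' : Wc, ((U s').ι ''ᵁ (U' s') : Set S') := by
      intro w hw
      exact Set.mem_iUnion.2 ⟨⟨w, hw⟩, hmem ⟨w, hw⟩⟩
    obtain ⟨t, ht⟩ := hWc.elim_finite_subcover (fun s' : Wc => ((U s').ι ''ᵁ (U' s') : Set S'))
      (fun s' => ((U s').ι ''ᵁ (U' s')).isOpen) hcov
    refine hasCoeff_of_fpqc_family (ι := t)
      (K' := fun j => Γ((U j.1 : Scheme.{u}), U' j.1))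
      (κ := fun j => ((U j.1).ι ≫ f).appLE O.1 (U' j.1) (hle j.1)) hpo ?_ ?_ ?_
    · intro j
      exact Scheme.Hom.flat_appLE ((U j.1).ι ≫ f) O.2 (hU' j.1) (hle j.1)
    · intro p
      have hsO : O.2.fromSpec p ∈ O.1 := by
        have : O.2.fromSpec p ∈ Set.range O.2.fromSpec := ⟨p, rfl⟩
        rw [O.2.range_fromSpec] at this
        exact this
      have : O.2.fromSpec p ∈ f.base '' (Wc : Set S') := by rw [hWcO]; exact hsO
      obtain ⟨w, hw, hfw⟩ := this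
      obtain ⟨j, hj, hwj⟩ := Set.mem_iUnion₂.1 (ht hw)
      obtain ⟨w', hw', hww'⟩ := hwj
      refine ⟨⟨j, hj⟩, (hU' j).primeIdealOf ⟨w', hw'⟩, ?_⟩
      rw [IsAffineOpen.comap_primeIdealOf_appLE O.1 O.2 (U' j) (hU' j) (hle j) hw']
      have hpt : ((U j).ι ≫ f) w' = O.2.fromSpec p := by
        rw [Scheme.Hom.comp_apply]
        exact (congrArg (fun z => f.base z) hww').trans hfw
      have := primeIdealOf_fromSpec O.2 p hsO
      rw [← this]
      congr 1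
      exact Subtype.ext hpt
    · intro j
      exact exists_projective_pushout ((U j.1).ι ≫ f) (M j.1) (e j.1) O (U' j.1) (hU' j.1)
        (hle j.1)

end Groth.Agent.Lib.Helper16.FixMult
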