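import Mathlib

/-!
# The reduced quotient of a finite commutative Hopf algebra over a perfect field splits (helper16)

For a finite-dimensional commutative Hopf algebra `E` over a perfect field of characteristic `p` whose
nilradical is a Hopf ideal, the quotient map `E → E/nil(E)` has a bialgebra section
`σ(ȳ) = a ^ (p ^ N)` where `(π a) ^ (p ^ N) = ȳ`.
-/

set_option autoImplicit false

namespace Groth.Agent.Lib.Helper16.RedSec

open TensorProduct

universe u

section Frob

variable {k : Type u} [Field k] [PerfectField k] (p : ℕ) [Fact p.Prime] [CharP k p]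

include k in
theorem expChar_of_algebra (R : Type u) [CommRing R] [Algebra k R] [Nontrivial R] : ExpChar R p := by
  haveI : ExpChar k p := ExpChar.prime Fact.out
  exact expChar_of_injective_algebraMap (algebraMap k R).injective p

/-- `x ↦ x ^ p ^ N` is surjective on a reduced finite-dimensional algebra over a perfect field. -/
theorem iterateFrobenius_surjective (R : Type u) [CommRing R] [Algebra k R] [FiniteDimensional k R]
    [IsReduced R] [ExpChar R p] (N : ℕ) : Function.Surjective (iterateFrobenius R p N) := by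
  classical
  haveI : ExpChar k p := ExpChar.prime Fact.out
  set n := Module.finrank k R with hn
  let b := Module.finBasis k R
  have hroot : ∀ c : k, ∃ d : k, d ^ p ^ N = c := by
    intro c
    refine ⟨(iterateFrobeniusEquiv k p N).symm c, ?_⟩
    have := (iterateFrobeniusEquiv k p N).apply_symm_apply c
    rwa [coe_iterateFrobeniusEquiv, iterateFrobenius_def] at this
  have hli : LinearIndependent k (fun i => (b i) ^ p ^ N) := by
    rw [Fintype.linearIndependent_iff]
    intro g hg
    choose h hh using fun i => hroot (g i)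
    have h1 : iterateFrobenius R p N (∑ i, h i • b i) = 0 := by
      rw [map_sum, ← hg]
      refine Finset.sum_congr rfl fun i _ => ?_
      rw [iterateFrobenius_def, smul_pow, hh]
    have h2 : ∑ i, h i • b i = 0 := iterateFrobenius_inj R p N (by rw [h1, map_zero])
    have h3 := Fintype.linearIndependent_iff.1 b.linearIndependent h h2
    intro i
    rw [← hh i, h3 i, zero_pow (pow_pos (Fact.out : p.Prime).pos N).ne']
  have hspan := hli.span_eq_top_of_card_eq_finrank' (by rw [Fintype.card_fin])
  intro y
  have hy : y ∈ Submodule.span k (Set.range fun i => (b i) ^ p ^ N) := by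
    rw [hspan]
    exact Submodule.mem_top
  obtain ⟨c, hc⟩ := (Submodule.mem_span_range_iff_exists_fun k).1 hy
  choose d hd using fun i => hroot (c i)
  refine ⟨∑ i, d i • b i, ?_⟩
  rw [map_sum, ← hc]
  refine Finset.sum_congr rfl fun i _ => ?_
  rw [iterateFrobenius_def, smul_pow, hd]

end Frob

section Hopf

variable {k : Type u} [Field k] [PerfectField k] (p : ℕ) [Fact p.Prime] [CharP k p]
  {E : Type u} [CommRing E] [HopfAlgebra k E] [FiniteDimensional k E]
  [(nilradical E).IsHopfIdeal k]

include p in
/-- the bialgebra section of `E → E/nil(E)` -/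
theorem exists_section :
    ∃ σ : (E ⧸ nilradical E) →ₐc[k] E,
      (Bialgebra.Quotient.mkBialgHom (R := k) (nilradical E)).comp σ =
        BialgHom.id k (E ⧸ nilradical E) := by
  classical
  haveI : ExpChar k p := ExpChar.prime Fact.out
  -- nontriviality and characteristic
  haveI hEnt : Nontrivial E := by
    refine ⟨⟨0, 1, fun h => ?_⟩⟩
    have h1 := congrArg (Bialgebra.counitAlgHom k E) h
    rw [map_zero, map_one] at h1
    exact zero_ne_one h1
  haveI : Nontrivial (E ⧸ nilradical E) := by
    refine ⟨⟨0, 1, fun h => ?_⟩⟩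
    have h1 := congrArg (Bialgebra.counitAlgHom k (E ⧸ nilradical E)) h
    rw [map_zero, map_one] at h1
    exact zero_ne_one h1
  haveI : Nontrivial (E ⊗[k] E) :=
    RingHom.domain_nontrivial
      ((Algebra.TensorProduct.lmul' k).comp
        (Algebra.TensorProduct.map (Bialgebra.counitAlgHom k E) (Bialgebra.counitAlgHom k E))
        : E ⊗[k] E →ₐ[k] k).toRingHom
  haveI : ExpChar E p := expChar_of_algebra (k := k) p E
  haveI : ExpChar (E ⧸ nilradical E) p := expChar_of_algebra (k := k) p _
  haveI : ExpChar (E ⊗[k] E) p := expChar_of_algebra (k := k) p _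
  have hrad : (nilradical E).IsRadical := Ideal.radical_isRadical _
  haveI : IsReduced (E ⧸ nilradical E) := (Ideal.isRadical_iff_quotient_reduced _).1 hrad
  -- a Frobenius power killing the nilradical
  haveI : IsArtinianRing E := IsArtinianRing.of_finite k E
  obtain ⟨n, hn⟩ := IsArtinianRing.isNilpotent_nilradical (R := E)
  have hkill : ∀ a ∈ nilradical E, iterateFrobenius E p n a = 0 := by
    intro a ha
    have h1 : a ^ n = 0 := by
      have := Ideal.pow_mem_pow ha n
      rwa [hn, Ideal.zero_eq_bot, Ideal.mem_bot] at this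
    rw [iterateFrobenius_def]
    exact pow_eq_zero_of_le (Nat.lt_pow_self (Fact.out : p.Prime).one_lt).le h1
  set π := Ideal.Quotient.mk (nilradical E) with hπ
  let Fbar : (E ⧸ nilradical E) →+* E := Ideal.Quotient.lift (nilradical E) (iterateFrobenius E p n) hkill
  have hFbar : ∀ a : E, Fbar (π a) = a ^ p ^ n := fun a => by
    rw [hπ, Ideal.Quotient.lift_mk, iterateFrobenius_def]
  have hbij : Function.Bijective (iterateFrobenius (E ⧸ nilradical E) p n) :=
    ⟨iterateFrobenius_inj _ p n, iterateFrobenius_surjective (k := k) p _ n⟩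
  let ψ : (E ⧸ nilradical E) ≃+* (E ⧸ nilradical E) := RingEquiv.ofBijective _ hbij
  have hψ : ∀ y, (ψ.symm y) ^ p ^ n = y := by
    intro y
    have := ψ.apply_symm_apply y
    rwa [RingEquiv.ofBijective_apply, iterateFrobenius_def] at this
  have hψ' : ∀ w : E ⧸ nilradical E, ψ.symm (w ^ p ^ n) = w := by
    intro w
    have : ψ w = w ^ p ^ n := by rw [RingEquiv.ofBijective_apply, iterateFrobenius_def]
    rw [← this, RingEquiv.symm_apply_apply]
  let σ₀ : (E ⧸ nilradical E) →+* E := Fbar.comp ψ.symm.toRingHom
  have hσ₀ : ∀ a : E, σ₀ ((π a) ^ p ^ n) = a ^ p ^ n := by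
    intro a
    show Fbar (ψ.symm ((π a) ^ p ^ n)) = _
    rw [hψ', hFbar]
  have hrep : ∀ y : E ⧸ nilradical E, ∃ a : E, y = (π a) ^ p ^ n := by
    intro y
    obtain ⟨a, ha⟩ := Ideal.Quotient.mk_surjective (ψ.symm y)
    exact ⟨a, by rw [hπ, ha, hψ]⟩
  have hcomm : ∀ c : k, σ₀ (algebraMap k (E ⧸ nilradical E) c) = algebraMap k E c := by
    intro c
    obtain ⟨d, hd⟩ : ∃ d : k, d ^ p ^ n = c := by
      refine ⟨(iterateFrobeniusEquiv k p n).symm c, ?_⟩
      have := (iterateFrobeniusEquiv k p n).apply_symm_apply c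
      rwa [coe_iterateFrobeniusEquiv, iterateFrobenius_def] at this
    have h1 : algebraMap k (E ⧸ nilradical E) c = (π (algebraMap k E d)) ^ p ^ n := by
      rw [← map_pow, ← map_pow, hd]
      rfl
    rw [h1, hσ₀, ← map_pow, hd]
  let σ : (E ⧸ nilradical E) →ₐ[k] E := { σ₀ with commutes' := hcomm }
  have hσ : ∀ a : E, σ ((π a) ^ p ^ n) = a ^ p ^ n := hσ₀
  -- counit
  have hcounit : (Bialgebra.counitAlgHom k E).comp σ =
      Bialgebra.counitAlgHom k (E ⧸ nilradical E) := by
    apply AlgHom.ext
    intro y
    obtain ⟨a, rfl⟩ := hrep y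
    rw [AlgHom.comp_apply, hσ, map_pow, map_pow]
    rfl
  -- comultiplication
  have hfrob : ∀ t : E ⊗[k] E,
      (Algebra.TensorProduct.map σ σ
        (Algebra.TensorProduct.map (Ideal.Quotient.mkₐ k (nilradical E))
          (Ideal.Quotient.mkₐ k (nilradical E)) t)) ^ p ^ n = t ^ p ^ n := by
    intro t
    induction t using TensorProduct.induction_on with
    | zero => simp
    | tmul a b =>
      have hσ' : ∀ a : E, (σ (Ideal.Quotient.mkₐ k (nilradical E) a)) ^ p ^ n = a ^ p ^ n := by
        intro a
        rw [← map_pow]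
        exact hσ a
      rw [Algebra.TensorProduct.map_tmul, Algebra.TensorProduct.map_tmul,
        Algebra.TensorProduct.tmul_pow, Algebra.TensorProduct.tmul_pow, hσ', hσ']
    | add s t hs ht =>
      rw [map_add, map_add, add_pow_expChar_pow, add_pow_expChar_pow, hs, ht]
  have hcomul : (Algebra.TensorProduct.map σ σ).comp
      (Bialgebra.comulAlgHom k (E ⧸ nilradical E)) = (Bialgebra.comulAlgHom k E).comp σ := by
    apply AlgHom.ext
    intro y
    obtain ⟨a, rfl⟩ := hrep y
    rw [AlgHom.comp_apply, AlgHom.comp_apply, hσ, map_pow, map_pow, map_pow,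
      ← hfrob (Bialgebra.comulAlgHom k E a)]
    rfl
  refine ⟨BialgHom.ofAlgHom σ hcounit hcomul, ?_⟩
  apply BialgHom.ext
  intro y
  obtain ⟨a, rfl⟩ := hrep y
  show π (σ ((π a) ^ p ^ n)) = _
  rw [hσ, map_pow]
  rfl

end Hopf

end Groth.Agent.Lib.Helper16.RedSec
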