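import Mathlib
import Groth.Agent.Lib.Helper16.FixedLocus

/-!
# Fixed loci over a field, without separatedness (helper16)

If every open subscheme of `X` is stable under `a : Y × X → X`, the fixed locus of `a` is a closed
subscheme of `X` (no separatedness needed).
-/

set_option autoImplicit false

namespace Groth.Agent.Lib.Helper16.FixedLocusStable

open CategoryTheory CategoryTheory.Limits MonoidalCategory CartesianMonoidalCategory
  AlgebraicGeometry Opposite TensorProduct Groth.Agent.Lib.Helper16.FixedLocus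
  Groth.Agent.Lib.Helper16.RedConnSch

universe u

section EqIdeal

variable {k : Type u} [Field k]

/-- the equalizer of two maps from an affine scheme landing in a common affine open is cut out by
an ideal -/
theorem exists_eqIdeal' {R : Type u} [CommRing R] [Algebra k R]
    (X : Over (Spec (CommRingCat.of k)))
    (f g : (Spec (CommRingCat.of R)).asOver (Spec (CommRingCat.of k)) ⟶ X)
    (U : X.left.Opens) (hU : IsAffineOpen U) (hf : Set.range f.left ⊆ U)
    (hg : Set.range g.left ⊆ U) :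
    ∃ I : Ideal R, ∀ (R' : Type u) [CommRing R'] [Algebra k R'] (ψ : R →ₐ[k] R'),
      specHom ψ ≫ f = specHom ψ ≫ g ↔ I ≤ RingHom.ker (ψ : R →+* R') := by
  haveI : IsAffine (U : Scheme) := hU
  let XU : Over (Spec (CommRingCat.of k)) := Over.mk (U.ι ≫ X.hom)
  let ιU : XU ⟶ X := Over.homMk U.ι rfl
  haveI : IsAffineHom XU.hom := inferInstanceAs (IsAffineHom (U.ι ≫ X.hom))
  haveI : IsSeparated XU.hom := inferInstance
  haveI : Mono ιU := by
    haveI : Mono ιU.left := inferInstanceAs (Mono U.ι)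
    exact Over.mono_of_mono_left ιU
  obtain ⟨fl, hfl⟩ : ∃ fl : Spec (CommRingCat.of R) ⟶ X.left, fl = f.left := ⟨_, rfl⟩
  obtain ⟨gl, hgl⟩ : ∃ gl : Spec (CommRingCat.of R) ⟶ X.left, gl = g.left := ⟨_, rfl⟩
  have hf' : Set.range fl ⊆ Set.range U.ι := by
    rw [hfl, Scheme.Opens.range_ι]; exact hf
  have hg' : Set.range gl ⊆ Set.range U.ι := by
    rw [hgl, Scheme.Opens.range_ι]; exact hg
  have hfw : fl ≫ X.hom = Spec.map (CommRingCat.ofHom (algebraMap k R)) := by
    rw [hfl]; exact Over.w f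
  have hgw : gl ≫ X.hom = Spec.map (CommRingCat.ofHom (algebraMap k R)) := by
    rw [hgl]; exact Over.w g
  let f' : (Spec (CommRingCat.of R)).asOver (Spec (CommRingCat.of k)) ⟶ XU :=
    Over.homMk (IsOpenImmersion.lift U.ι fl hf') (by
      show IsOpenImmersion.lift U.ι fl hf' ≫ U.ι ≫ X.hom = _
      rw [IsOpenImmersion.lift_fac_assoc]
      exact hfw)
  let g' : (Spec (CommRingCat.of R)).asOver (Spec (CommRingCat.of k)) ⟶ XU :=
    Over.homMk (IsOpenImmersion.lift U.ι gl hg') (by
      show IsOpenImmersion.lift U.ι gl hg' ≫ U.ι ≫ X.hom = _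
      rw [IsOpenImmersion.lift_fac_assoc]
      exact hgw)
  have hf'' : f' ≫ ιU = f := by
    ext1
    show IsOpenImmersion.lift U.ι fl hf' ≫ U.ι = f.left
    rw [IsOpenImmersion.lift_fac, hfl]
  have hg'' : g' ≫ ιU = g := by
    ext1
    show IsOpenImmersion.lift U.ι gl hg' ≫ U.ι = g.left
    rw [IsOpenImmersion.lift_fac, hgl]
  obtain ⟨I, hI⟩ := exists_eqIdeal XU f' g'
  refine ⟨I, fun R' _ _ ψ => ?_⟩
  rw [← hI R' ψ, ← hf'', ← hg'', ← Category.assoc, ← Category.assoc, cancel_mono]

end EqIdeal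

section Ideal

variable {k : Type u} [Field k] {X Y : Over (Spec (CommRingCat.of k))}

attribute [local instance] chartAlg

variable (a : Y ⊗ X ⟶ X)

/-- every open subscheme of `X` is stable under `a` -/
def Stable : Prop := ∀ U : X.left.Opens, (snd Y X).left ⁻¹ᵁ U ≤ a.left ⁻¹ᵁ U

/-- a chart is small if it lands in an affine open -/
def Small {A : Type u} [CommRing A] [Algebra k A]
    (c : (Spec (CommRingCat.of A)).asOver (Spec (CommRingCat.of k)) ⟶ X) : Prop :=
  ∃ U : X.left.Opens, IsAffineOpen U ∧ Set.range c.left ⊆ U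

theorem Small.comp {A A' : Type u} [CommRing A] [CommRing A'] [Algebra k A] [Algebra k A']
    {c : (Spec (CommRingCat.of A)).asOver (Spec (CommRingCat.of k)) ⟶ X} (hc : Small c)
    (ρ : A →ₐ[k] A') : Small (specHom ρ ≫ c) := by
  obtain ⟨U, hU, hr⟩ := hc
  refine ⟨U, hU, ?_⟩
  rintro _ ⟨p, rfl⟩
  exact hr ⟨(specHom ρ).left p, rfl⟩

theorem small_chartHom (U : X.left.affineOpens) : Small (chartHom X U) := by
  refine ⟨U.1, U.2, ?_⟩
  show Set.range (IsAffineOpen.fromSpec U.2) ⊆ U.1
  rw [IsAffineOpen.range_fromSpec]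

/-- the existence of the pair ideal -/
theorem exists_pairIdeal (hst : Stable a) {A B : Type u} [CommRing A] [CommRing B] [Algebra k A]
    [Algebra k B] (d : (Spec (CommRingCat.of B)).asOver (Spec (CommRingCat.of k)) ⟶ Y)
    (c : (Spec (CommRingCat.of A)).asOver (Spec (CommRingCat.of k)) ⟶ X) (hc : Small c) :
    ∃ I : Ideal (B ⊗[k] A), ∀ (R' : Type u) [CommRing R'] [Algebra k R'] (ψ : B ⊗[k] A →ₐ[k] R'),
      specHom ψ ≫ ((prodIso (k := k) (R := B) (D := A)).hom ≫ (d ⊗ₘ c) ≫ a) =
        specHom ψ ≫ ((prodIso (k := k) (R := B) (D := A)).hom ≫ snd _ _ ≫ c) ↔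
      I ≤ RingHom.ker (ψ : B ⊗[k] A →+* R') := by
  obtain ⟨U, hU, hr⟩ := hc
  refine exists_eqIdeal' X _ _ U hU ?_ ?_
  · rintro _ ⟨p, rfl⟩
    set q := ((prodIso (k := k) (R := B) (D := A)).hom ≫ (d ⊗ₘ c)).left p with hq
    have h1 : (snd Y X).left q ∈ U := by
      have h2 : ((prodIso (k := k) (R := B) (D := A)).hom ≫ (d ⊗ₘ c)) ≫ snd Y X =
          ((prodIso (k := k) (R := B) (D := A)).hom ≫ snd _ _) ≫ c := by
        rw [Category.assoc, tensorHom_snd, Category.assoc]
      have h3 := congrArg (fun m => m.left p) h2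
      have h4 : (snd Y X).left q = c.left (((prodIso (k := k) (R := B) (D := A)).hom ≫
          snd _ _).left p) := h3
      rw [h4]
      exact hr ⟨_, rfl⟩
    have h5 : q ∈ (snd Y X).left ⁻¹ᵁ U := h1
    have h6 := hst U h5
    exact h6
  · rintro _ ⟨p, rfl⟩
    exact hr ⟨((prodIso (k := k) (R := B) (D := A)).hom ≫ snd _ _).left p, rfl⟩

open Classical in
/-- the ideal of `B ⊗ A` cutting out the locus where `a (d, c) = c` -/
noncomputable def pairIdeal' {A B : Type u} [CommRing A] [CommRing B] [Algebra k A] [Algebra k B]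
    (d : (Spec (CommRingCat.of B)).asOver (Spec (CommRingCat.of k)) ⟶ Y)
    (c : (Spec (CommRingCat.of A)).asOver (Spec (CommRingCat.of k)) ⟶ X) : Ideal (B ⊗[k] A) :=
  if h : ∃ I : Ideal (B ⊗[k] A), ∀ (R' : Type u) [CommRing R'] [Algebra k R']
      (ψ : B ⊗[k] A →ₐ[k] R'),
      specHom ψ ≫ ((prodIso (k := k) (R := B) (D := A)).hom ≫ (d ⊗ₘ c) ≫ a) =
        specHom ψ ≫ ((prodIso (k := k) (R := B) (D := A)).hom ≫ snd _ _ ≫ c) ↔
      I ≤ RingHom.ker (ψ : B ⊗[k] A →+* R') then Classical.choose h else ⊥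

theorem pairIdeal'_spec (hst : Stable a) {A B C : Type u} [CommRing A] [CommRing B] [CommRing C]
    [Algebra k A] [Algebra k B] [Algebra k C]
    (d : (Spec (CommRingCat.of B)).asOver (Spec (CommRingCat.of k)) ⟶ Y)
    (c : (Spec (CommRingCat.of A)).asOver (Spec (CommRingCat.of k)) ⟶ X) (hc : Small c)
    (φ : A →ₐ[k] C) :
    IsFixedRel a d (specHom φ ≫ c) ↔
      coeffIdeal (pairIdeal' a d c) ≤ RingHom.ker (φ : A →+* C) := by
  rw [coeffIdeal_le_ker_iff]
  have hex := exists_pairIdeal a hst d c hc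
  have hspec := Classical.choose_spec hex (B ⊗[k] C)
    (Algebra.TensorProduct.map (AlgHom.id k B) φ)
  rw [pairIdeal', dif_pos hex, ← hspec]
  have h1 : ((Spec (CommRingCat.of B)).asOver (Spec (CommRingCat.of k)) ◁ specHom φ) ≫
      (d ⊗ₘ c) = d ⊗ₘ (specHom φ ≫ c) := by
    rw [← id_tensorHom, tensorHom_comp_tensorHom, Category.id_comp]
  have hL : specHom (Algebra.TensorProduct.map (AlgHom.id k B) φ) ≫
      (prodIso (k := k) (R := B) (D := A)).hom ≫ (d ⊗ₘ c) ≫ a =
      (prodIso (k := k) (R := B) (D := C)).hom ≫ (d ⊗ₘ (specHom φ ≫ c)) ≫ a := by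
    rw [← Category.assoc, specHom_map_prodIso, Category.assoc, ← Category.assoc (_ ◁ _), h1]
  have hR : specHom (Algebra.TensorProduct.map (AlgHom.id k B) φ) ≫
      (prodIso (k := k) (R := B) (D := A)).hom ≫ snd _ _ ≫ c =
      (prodIso (k := k) (R := B) (D := C)).hom ≫ snd _ _ ≫ specHom φ ≫ c := by
    rw [← Category.assoc, specHom_map_prodIso, Category.assoc, whiskerLeft_snd_assoc]
  rw [hL, hR, cancel_epi]
  rfl

/-- the ideal of a chart cutting out the fixed locus -/
noncomputable def chartIdeal' {A : Type u} [CommRing A] [Algebra k A]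
    (c : (Spec (CommRingCat.of A)).asOver (Spec (CommRingCat.of k)) ⟶ X) : Ideal A :=
  ⨆ V : Y.left.affineOpens, coeffIdeal (pairIdeal' a (chartHom Y V) c)

theorem chartIdeal'_le_ker_iff (hst : Stable a) {A C : Type u} [CommRing A] [CommRing C]
    [Algebra k A] [Algebra k C]
    (c : (Spec (CommRingCat.of A)).asOver (Spec (CommRingCat.of k)) ⟶ X) (hc : Small c)
    (φ : A →ₐ[k] C) :
    chartIdeal' a c ≤ RingHom.ker (φ : A →+* C) ↔ IsFixed a (specHom φ ≫ c) := by
  rw [chartIdeal', iSup_le_iff]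
  constructor
  · intro h
    refine isFixed_of_rel (specHom φ ≫ c)
      (fun V : Y.left.affineOpens =>
        (Spec (CommRingCat.of Γ(Y.left, V))).asOver (Spec (CommRingCat.of k)))
      (fun V => chartHom Y V)
      (fun _ : PUnit.{u + 1} => (Spec (CommRingCat.of C)).asOver (Spec (CommRingCat.of k)))
      (fun _ => 𝟙 _) (chartHom_covers Y) (fun p => ⟨PUnit.unit, p, rfl⟩) (fun V _ => ?_)
    rw [Category.id_comp]
    exact (pairIdeal'_spec a hst (chartHom Y V) c hc φ).2 (h V)
  · intro h V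
    exact (pairIdeal'_spec a hst (chartHom Y V) c hc φ).1 (h.rel _)

theorem chartIdeal'_map (hst : Stable a) {A A' : Type u} [CommRing A] [CommRing A'] [Algebra k A]
    [Algebra k A']
    (c : (Spec (CommRingCat.of A)).asOver (Spec (CommRingCat.of k)) ⟶ X) (hc : Small c)
    (ρ : A →ₐ[k] A') :
    chartIdeal' a (specHom ρ ≫ c) = (chartIdeal' a c).map (ρ : A →+* A') := by
  have key : ∀ (C : Type u) [CommRing C] [Algebra k C] (ψ : A' →ₐ[k] C),
      chartIdeal' a (specHom ρ ≫ c) ≤ RingHom.ker (ψ : A' →+* C) ↔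
        (chartIdeal' a c).map (ρ : A →+* A') ≤ RingHom.ker (ψ : A' →+* C) := by
    intro C _ _ ψ
    rw [chartIdeal'_le_ker_iff a hst _ (hc.comp ρ), Ideal.map_le_iff_le_comap]
    have h1 : Ideal.comap (ρ : A →+* A') (RingHom.ker (ψ : A' →+* C)) =
        RingHom.ker ((ψ.comp ρ : A →ₐ[k] C) : A →+* C) := by
      ext x
      simp [RingHom.mem_ker]
    rw [h1, chartIdeal'_le_ker_iff a hst _ hc, ← specHom_comp, Category.assoc]
  apply le_antisymm
  · have h := (key (A' ⧸ (chartIdeal' a c).map (ρ : A →+* A'))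
      (Ideal.Quotient.mkₐ k _)).2 (le_of_eq (Ideal.mk_ker).symm)
    exact h.trans (le_of_eq Ideal.mk_ker)
  · have h := (key (A' ⧸ chartIdeal' a (specHom ρ ≫ c))
      (Ideal.Quotient.mkₐ k _)).1 (le_of_eq (Ideal.mk_ker).symm)
    exact h.trans (le_of_eq Ideal.mk_ker)

/-- restriction to a basic open as an algebra map of charts -/
noncomputable def resAlgHom' (U : X.left.affineOpens) (f : Γ(X.left, U)) :
    Γ(X.left, U) →ₐ[k] Γ(X.left, X.left.affineBasicOpen f) :=
  algHomOfComm (𝟙 X) (chartHom X U) (chartHom X (X.left.affineBasicOpen f))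
    (X.left.presheaf.map (homOfLE (X.left.basicOpen_le f)).op).hom (by
      rw [CommRingCat.ofHom_hom]
      show Spec.map (X.left.presheaf.map (homOfLE (X.left.basicOpen_le f)).op) ≫
        U.2.fromSpec = (X.left.affineBasicOpen f).2.fromSpec ≫ 𝟙 _
      rw [Category.comp_id]
      exact IsAffineOpen.map_fromSpec U.2 (X.left.affineBasicOpen f).2 _)

theorem specHom_resAlgHom' (U : X.left.affineOpens) (f : Γ(X.left, U)) :
    specHom (resAlgHom' U f) ≫ chartHom X U = chartHom X (X.left.affineBasicOpen f) := by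
  rw [resAlgHom', specHom_algHomOfComm, Category.comp_id]

/-- the ideal sheaf of the fixed locus -/
noncomputable def fixedIdeal' (hst : Stable a) : X.left.IdealSheafData where
  ideal U := chartIdeal' a (chartHom X U)
  map_ideal_basicOpen U f := by
    have h1 := chartIdeal'_map a hst (chartHom X U) (small_chartHom U) (resAlgHom' U f)
    rw [specHom_resAlgHom'] at h1
    exact h1.symm

end Ideal

section Main

variable {k : Type u} [Field k] {X Y : Over (Spec (CommRingCat.of k))}
  (a : Y ⊗ X ⟶ X) (hst : Stable a)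

attribute [local instance] chartAlg

/-- the fixed locus -/
noncomputable def fixedLocus' : Over (Spec (CommRingCat.of k)) :=
  Over.mk ((fixedIdeal' a hst).subschemeι ≫ X.hom)

/-- the inclusion of the fixed locus -/
noncomputable def fixedLocusι' : fixedLocus' a hst ⟶ X :=
  Over.homMk (fixedIdeal' a hst).subschemeι rfl

instance : IsClosedImmersion (fixedLocusι' a hst).left :=
  inferInstanceAs (IsClosedImmersion (fixedIdeal' a hst).subschemeι)

theorem cover_ι' (U : X.left.affineOpens) :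
    ((fixedIdeal' a hst).subschemeCover.f U : Spec (CommRingCat.of (Γ(X.left, U) ⧸
      (fixedIdeal' a hst).ideal U)) ⟶ (fixedIdeal' a hst).subscheme) ≫
        (fixedIdeal' a hst).subschemeι =
      Spec.map (CommRingCat.ofHom (Ideal.Quotient.mk ((fixedIdeal' a hst).ideal U))) ≫
        U.2.fromSpec := by
  rw [Scheme.IdealSheafData.subschemeCover_map_subschemeι,
    Scheme.IdealSheafData.glueDataObjι_ι]

/-- the charts of the fixed locus -/
noncomputable def fixedLocusChart' (U : X.left.affineOpens) :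
    (Spec (CommRingCat.of (Γ(X.left, U) ⧸ (fixedIdeal' a hst).ideal U))).asOver
      (Spec (CommRingCat.of k)) ⟶ fixedLocus' a hst :=
  Over.homMk ((fixedIdeal' a hst).subschemeCover.f U) (by
    obtain ⟨g, hg⟩ : ∃ g : Spec (CommRingCat.of (Γ(X.left, U) ⧸ (fixedIdeal' a hst).ideal U)) ⟶
      (fixedIdeal' a hst).subscheme, g = (fixedIdeal' a hst).subschemeCover.f U := ⟨_, rfl⟩
    have h0 := cover_ι' a hst U
    rw [← hg] at h0 ⊢
    show g ≫ (fixedIdeal' a hst).subschemeι ≫ X.hom =
      Spec.map (CommRingCat.ofHom (algebraMap k (Γ(X.left, U) ⧸ (fixedIdeal' a hst).ideal U)))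
    have h1 : (g ≫ (fixedIdeal' a hst).subschemeι) ≫ X.hom =
        (Spec.map (CommRingCat.ofHom (Ideal.Quotient.mk ((fixedIdeal' a hst).ideal U))) ≫
          U.2.fromSpec) ≫ X.hom := congrArg (fun m => m ≫ X.hom) h0
    have h2 := specMap_algebraMap_chartAlg X U
    have h3 : Spec.map (CommRingCat.ofHom (Ideal.Quotient.mk ((fixedIdeal' a hst).ideal U))) ≫
        (U.2.fromSpec ≫ X.hom) =
        Spec.map (CommRingCat.ofHom (Ideal.Quotient.mk ((fixedIdeal' a hst).ideal U))) ≫
          Spec.map (CommRingCat.ofHom (algebraMap k Γ(X.left, U))) :=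
      congrArg (fun m => Spec.map (CommRingCat.ofHom
        (Ideal.Quotient.mk ((fixedIdeal' a hst).ideal U))) ≫ m) h2.symm
    refine (Category.assoc _ _ _).symm.trans (h1.trans ((Category.assoc _ _ _).trans
      (h3.trans ?_)))
    rw [← Spec.map_comp]
    rfl)

theorem fixedLocusChart_ι' (U : X.left.affineOpens) :
    fixedLocusChart' a hst U ≫ fixedLocusι' a hst =
      specHom (Ideal.Quotient.mkₐ k ((fixedIdeal' a hst).ideal U)) ≫ chartHom X U := by
  ext1
  exact cover_ι' a hst U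

theorem isFixed_fixedLocusι' : IsFixed a (fixedLocusι' a hst) := by
  haveI : ∀ U : X.left.affineOpens, IsOpenImmersion (fixedLocusChart' a hst U).left := fun U =>
    inferInstanceAs (IsOpenImmersion ((fixedIdeal' a hst).subschemeCover.f U))
  refine isFixed_of_rel (fixedLocusι' a hst)
    (fun V : Y.left.affineOpens =>
      (Spec (CommRingCat.of Γ(Y.left, V))).asOver (Spec (CommRingCat.of k)))
    (fun V => chartHom Y V)
    (fun U : X.left.affineOpens =>
      (Spec (CommRingCat.of (Γ(X.left, U) ⧸ (fixedIdeal' a hst).ideal U))).asOver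
        (Spec (CommRingCat.of k)))
    (fun U => fixedLocusChart' a hst U) (chartHom_covers Y) (fun p => ?_) (fun V U => ?_)
  · obtain ⟨q, hq⟩ := (fixedIdeal' a hst).subschemeCover.covers p
    exact ⟨_, q, hq⟩
  · rw [fixedLocusChart_ι']
    have h1 : IsFixed a (specHom (Ideal.Quotient.mkₐ k ((fixedIdeal' a hst).ideal U)) ≫
        chartHom X U) :=
      (chartIdeal'_le_ker_iff a hst (chartHom X U) (small_chartHom U)
        (Ideal.Quotient.mkₐ k ((fixedIdeal' a hst).ideal U))).1
        (le_of_eq (Ideal.mk_ker).symm)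
    exact h1.rel _

theorem fixedIdeal'_le_ker {T : Over (Spec (CommRingCat.of k))} (x : T ⟶ X) (hx : IsFixed a x) :
    fixedIdeal' a hst ≤ x.left.ker := by
  rw [Scheme.Hom.ker, Scheme.IdealSheafData.le_ofIdeals_iff]
  intro U s hs
  rw [RingHom.mem_ker]
  apply T.left.IsSheaf.section_ext
  intro p hp
  obtain ⟨_, ⟨W, hW, rfl⟩, hpW, hWU⟩ :=
    T.left.isBasis_affineOpens.exists_subset_of_mem_open hp (x.left ⁻¹ᵁ U.1).2
  refine ⟨W, hWU, hpW, ?_⟩
  rw [map_zero]
  obtain ⟨W', rfl⟩ : ∃ W' : T.left.affineOpens, W'.1 = W := ⟨⟨W, hW⟩, rfl⟩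
  let φ : Γ(X.left, U) →+* Γ(T.left, W') := (x.left.appLE U.1 W'.1 hWU).hom
  have hcomm : Spec.map (CommRingCat.ofHom φ) ≫ ((chartHom X U).left :
      Spec (CommRingCat.of Γ(X.left, U)) ⟶ X.left) =
      ((chartHom T W').left : Spec (CommRingCat.of Γ(T.left, W')) ⟶ T.left) ≫ x.left := by
    rw [CommRingCat.ofHom_hom]
    exact IsAffineOpen.SpecMap_appLE_fromSpec x.left U.2 W'.2 hWU
  have h1 := specHom_algHomOfComm x (chartHom X U) (chartHom T W') φ hcomm
  have h2 : IsFixed a (specHom (algHomOfComm x (chartHom X U) (chartHom T W') φ hcomm) ≫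
      chartHom X U) := by
    rw [h1]
    exact hx.comp _
  have h3 := (chartIdeal'_le_ker_iff a hst (chartHom X U) (small_chartHom U) _).2 h2 hs
  rw [RingHom.mem_ker] at h3
  exact h3

include hst in
/-- **the fixed locus is a closed subscheme representing the fixed point functor**
(stable version, without separatedness) -/
theorem exists_fixedLocus' :
    ∃ (Z : Over (Spec (CommRingCat.of k))) (j : Z ⟶ X), IsClosedImmersion j.left ∧
      (Y ◁ j) ≫ a = snd Y Z ≫ j ∧
      ∀ (T : Over (Spec (CommRingCat.of k))) (x : T ⟶ X),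
        (Y ◁ x) ≫ a = snd Y T ≫ x → ∃ z : T ⟶ Z, z ≫ j = x := by
  refine ⟨fixedLocus' a hst, fixedLocusι' a hst, inferInstance, isFixed_fixedLocusι' a hst,
    fun T x hx => ?_⟩
  have hle : (fixedIdeal' a hst).subschemeι.ker ≤ x.left.ker := by
    rw [Scheme.IdealSheafData.ker_subschemeι]
    exact fixedIdeal'_le_ker a hst x hx
  let z₀ : T.left ⟶ (fixedIdeal' a hst).subscheme :=
    IsClosedImmersion.lift (fixedIdeal' a hst).subschemeι x.left hle
  have hz₀ : z₀ ≫ (fixedIdeal' a hst).subschemeι = x.left := IsClosedImmersion.lift_fac _ _ _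
  refine ⟨Over.homMk z₀ ?_, ?_⟩
  · show z₀ ≫ (fixedIdeal' a hst).subschemeι ≫ X.hom = T.hom
    rw [← Category.assoc, hz₀]
    exact Over.w x
  · ext1
    exact hz₀

end Main

end Groth.Agent.Lib.Helper16.FixedLocusStable
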