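import Mathlib
import Groth.Prelude.Def_Magnet3
import Groth.Agent.Lib.Helper16.ClosedDescent

/-!
# Descent of representability of fixed points along fixed-point-reflecting flat atlases (helper16)
-/

set_option autoImplicit false

namespace Groth.Agent.Lib.Helper16.FprDescent

universe u
open CategoryTheory Limits MonoidalCategory CartesianMonoidalCategory MonObj AlgebraicGeometry
  Opposite
open Magnet Groth.Agent.Lib.Helper16.ClosedDescent

variable {S : Scheme.{u}} {A : Over S} [MonObj A] {X U : Over S}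

/-- A `T`-point is (universally) fixed. -/
def Fix (a : MonAct A X) {T : Over S} (x : T ⟶ X) : Prop :=
  ∀ (T' : Over S) (t : T' ⟶ T) (g : T' ⟶ A), lift g (t ≫ x) ≫ a.act = t ≫ x

theorem Fix.comp {a : MonAct A X} {T T₁ : Over S} {x : T ⟶ X} (h : Fix a x) (s : T₁ ⟶ T) :
    Fix a (s ≫ x) := by
  intro T' t g
  have := h T' (t ≫ s) g
  simpa only [Category.assoc] using this

theorem Fix.map {aU : MonAct A U} {aX : MonAct A X} {f : U ⟶ X}
    (hf : MonAct.IsEquivariant aU aX f) {T : Over S} {u : T ⟶ U} (h : Fix aU u) :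
    Fix aX (u ≫ f) :=
  ((MonAct.fixedPsh.map f hf).app (op T) ⟨u, h⟩).2

/-- Fixed-point reflection extracted from the cartesian square of presheaves. -/
theorem fix_of_fpr {aU : MonAct A U} {aX : MonAct A X} {f : U ⟶ X}
    (hf : MonAct.IsEquivariant aU aX f)
    (hfpr : IsPullback (MonAct.fixedPsh.map f hf) (MonAct.fixedPshι aU)
      (MonAct.fixedPshι aX) (yoneda.map f)) {T : Over S} (u : T ⟶ U) (h : Fix aX (u ≫ f)) :
    Fix aU u := by
  have h1 := hfpr.map ((evaluation (Over S)ᵒᵖ (Type u)).obj (op T))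
  obtain ⟨x₁, -, hx₁⟩ := Limits.Types.exists_of_isPullback h1
    (⟨u ≫ f, h⟩ : (MonAct.fixedPsh aX).obj (op T)) (u : (yoneda.obj U).obj (op T)) rfl
  have h2 : x₁.1 = u := hx₁
  rw [← h2]
  exact x₁.2

/-- From a representing object of the fixed-point functor: a point is fixed iff it factors. -/
theorem fix_iff_of_representableBy {aU : MonAct A U} {W' : Over S} (i' : W' ⟶ U)
    (e' : (MonAct.fixedPsh aU).RepresentableBy W')
    (he : ∀ (T : Over S) (w : T ⟶ W'),
      (MonAct.fixedPshι aU).app (op T) (e'.homEquiv w) = w ≫ i')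
    {T : Over S} (u : T ⟶ U) : Fix aU u ↔ ∃ w : T ⟶ W', w ≫ i' = u := by
  constructor
  · intro h
    refine ⟨e'.homEquiv.symm ⟨u, h⟩, ?_⟩
    rw [← he, Equiv.apply_symm_apply]
    rfl
  · rintro ⟨w, rfl⟩
    rw [← he]
    exact (e'.homEquiv w).2

/-- Scheme-level form: with `I'` the ideal sheaf of the closed immersion `i'`, a point is fixed
iff its underlying morphism factors through the closed subscheme of `I'`. -/
theorem fix_iff_factors {aU : MonAct A U} {W' : Over S} (i' : W' ⟶ U) [IsClosedImmersion i'.left]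
    (hfix : ∀ {T : Over S} (u : T ⟶ U), Fix aU u ↔ ∃ w : T ⟶ W', w ≫ i' = u)
    {T : Over S} (u : T ⟶ U) :
    Fix aU u ↔ ∃ t : T.left ⟶ i'.left.ker.subscheme, t ≫ i'.left.ker.subschemeι = u.left := by
  have hti : i'.left.toImage ≫ i'.left.ker.subschemeι = i'.left := i'.left.toImage_imageι
  rw [hfix]
  constructor
  · rintro ⟨w, rfl⟩
    refine ⟨w.left ≫ i'.left.toImage, ?_⟩
    rw [Category.assoc, hti, Over.comp_left]
  · rintro ⟨t, ht⟩
    have hinv : inv i'.left.toImage ≫ i'.left = i'.left.ker.subschemeι := by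
      rw [IsIso.inv_comp_eq, hti]
    refine ⟨Over.homMk (t ≫ inv i'.left.toImage) ?_, ?_⟩
    · rw [← Over.w i', Category.assoc, reassoc_of% hinv, reassoc_of% ht, Over.w u]
    · apply Over.OverMorphism.ext
      show (t ≫ inv i'.left.toImage) ≫ i'.left = u.left
      rw [Category.assoc, hinv, ht]

/-- A monomorphism `i : W ⟶ X` through which exactly the fixed points factor represents the
fixed-point functor. -/
theorem exists_representableBy {aX : MonAct A X} {W : Over S} (i : W ⟶ X) [Mono i]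
    (h : ∀ {T : Over S} (x : T ⟶ X), Fix aX x ↔ ∃ w : T ⟶ W, w ≫ i = x) :
    ∃ e : (MonAct.fixedPsh aX).RepresentableBy W, ∀ (T : Over S) (w : T ⟶ W),
      (MonAct.fixedPshι aX).app (op T) (e.homEquiv w) = w ≫ i := by
  refine ⟨{
    homEquiv := fun {T} =>
      { toFun := fun w => ⟨w ≫ i, (h _).2 ⟨w, rfl⟩⟩
        invFun := fun x => ((h x.1).1 x.2).choose
        left_inv := fun w => by
          have := ((h (w ≫ i)).1 ((h _).2 ⟨w, rfl⟩)).choose_spec
          exact (cancel_mono i).1 this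
        right_inv := fun x => Subtype.ext ((h x.1).1 x.2).choose_spec }
    homEquiv_comp := fun {T T'} t g => Subtype.ext (Category.assoc _ _ _) }, ?_⟩
  intro T w
  rfl

section Main

variable {aU : MonAct A U} {aX : MonAct A X} {f : U ⟶ X}
  (hf : MonAct.IsEquivariant aU aX f) (I' : U.left.IdealSheafData)
  (hI' : ∀ {T : Over S} (u : T ⟶ U),
    Fix aU u ↔ ∃ t : T.left ⟶ I'.subscheme, t ≫ I'.subschemeι = u.left)
  (hfpr : ∀ {T : Over S} (u : T ⟶ U), Fix aX (u ≫ f) → Fix aU u)

include hf hI' hfpr in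
/-- Half of the descent condition. -/
theorem comap_le_comap {P : Scheme.{u}} (r₁ r₂ : P ⟶ U.left)
    (h : r₁ ≫ f.left = r₂ ≫ f.left) : I'.comap r₂ ≤ I'.comap r₁ := by
  set K := I'.comap r₁ with hK
  rw [← Scheme.IdealSheafData.le_map_iff_comap_le]
  have hU : f.left ≫ X.hom = U.hom := Over.w f
  have hr : r₂ ≫ U.hom = r₁ ≫ U.hom := by
    rw [← hU, reassoc_of% h]
  let T : Over S := Over.mk (K.subschemeι ≫ r₁ ≫ U.hom)
  let u₁ : T ⟶ U := Over.homMk (K.subschemeι ≫ r₁) (by simp [T])
  let u₂ : T ⟶ U := Over.homMk (K.subschemeι ≫ r₂) (by simp [T, hr])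
  have hu : u₁ ≫ f = u₂ ≫ f := by
    apply Over.OverMorphism.ext
    show (K.subschemeι ≫ r₁) ≫ f.left = (K.subschemeι ≫ r₂) ≫ f.left
    rw [Category.assoc, Category.assoc, h]
  have h1 : Fix aU u₁ := by
    rw [hI']
    refine ⟨(I'.comapIso r₁).hom ≫ pullback.snd _ _, ?_⟩
    show _ = K.subschemeι ≫ r₁
    rw [Category.assoc, ← pullback.condition, ← Category.assoc,
      Scheme.IdealSheafData.comapIso_hom_fst]
  have h2 : Fix aU u₂ := hfpr u₂ (hu ▸ h1.map hf)
  obtain ⟨t, ht⟩ := (hI' u₂).1 h2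
  have ht' : t ≫ I'.subschemeι = K.subschemeι ≫ r₂ := ht
  rw [Scheme.IdealSheafData.map, ← ht']
  calc I' = I'.subschemeι.ker := I'.ker_subschemeι.symm
    _ ≤ _ := Scheme.Hom.le_ker_comp _ _

include hf hI' hfpr in
theorem desc : Desc f.left I' :=
  le_antisymm
    (comap_le_comap hf I' hI' hfpr _ _ pullback.condition.symm)
    (comap_le_comap hf I' hI' hfpr _ _ pullback.condition)

include hf hI' hfpr in
/-- **Main theorem**: the fixed locus of `X` is a closed subscheme, given a flat, open, surjective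
fixed-point reflecting atlas `f : U ⟶ X` whose fixed locus is the closed subscheme of `I'`. -/
theorem exists_fixed_closed [Flat f.left] [Surjective f.left] (hopen : IsOpenMap f.left.base) :
    ∃ (W : Over S) (i : W ⟶ X), IsClosedImmersion i.left ∧
      ∀ {T : Over S} (x : T ⟶ X), Fix aX x ↔ ∃ w : T ⟶ W, w ≫ i = x := by
  have hd : Desc f.left I' := desc hf I' hI' hfpr
  set 𝓘 := descIdeal f.left I' hopen hd with h𝓘def
  have h𝓘 : 𝓘.comap f.left = I' := comap_descIdeal hopen hd
  let W : Over S := Over.mk (𝓘.subschemeι ≫ X.hom)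
  let i : W ⟶ X := Over.homMk 𝓘.subschemeι rfl
  have hU : f.left ≫ X.hom = U.hom := Over.w f
  -- generic cover construction
  have cover : ∀ {T : Over S} (x : T ⟶ X), ∃ (P : Over S) (π₁ : P ⟶ T) (π₂ : P ⟶ U),
      π₂ ≫ f = π₁ ≫ x ∧ Flat π₁.left ∧ Surjective π₁.left ∧
      ∀ {Z : Scheme.{u}} (a : Z ⟶ T.left) (b : Z ⟶ U.left), a ≫ x.left = b ≫ f.left →
        ∃ c : Z ⟶ P.left, c ≫ π₁.left = a ∧ c ≫ π₂.left = b := by
    intro T x
    have hx : x.left ≫ X.hom = T.hom := Over.w x
    refine ⟨Over.mk (pullback.fst x.left f.left ≫ T.hom), Over.homMk (pullback.fst _ _) rfl,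
      Over.homMk (pullback.snd _ _) ?_, ?_, ?_, ?_, ?_⟩
    · show pullback.snd x.left f.left ≫ U.hom = pullback.fst x.left f.left ≫ T.hom
      rw [← hU, ← hx, ← Category.assoc, ← Category.assoc, pullback.condition]
    · apply Over.OverMorphism.ext
      show pullback.snd x.left f.left ≫ f.left = pullback.fst x.left f.left ≫ x.left
      exact pullback.condition.symm
    · show Flat (pullback.fst x.left f.left)
      infer_instance
    · show Surjective (pullback.fst x.left f.left)
      infer_instance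
    · intro Z a b hab
      exact ⟨pullback.lift a b hab, pullback.lift_fst _ _ _, pullback.lift_snd _ _ _⟩
  -- the inclusion of `W` is fixed
  have hfixi : Fix aX i := by
    intro T' t g
    obtain ⟨P, π₁, π₂, hπ, hflat, hsurj, -⟩ := cover (t ≫ i)
    haveI := hflat
    haveI := hsurj
    haveI : Epi π₁.left := Flat.epi_of_flat_of_surjective π₁.left
    haveI : Epi π₁ := Over.epi_of_epi_left π₁
    have h1 : Fix aU π₂ := by
      rw [hI']
      have hcond : π₂.left ≫ f.left = (π₁.left ≫ t.left) ≫ 𝓘.subschemeι := by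
        have := congrArg (fun m => m.left) hπ
        simp only [Over.comp_left] at this
        rw [this, Category.assoc]
        rfl
      have key : ∀ K : U.left.IdealSheafData, K = 𝓘.comap f.left →
          ∃ t' : P.left ⟶ K.subscheme, t' ≫ K.subschemeι = π₂.left := by
        rintro _ rfl
        refine ⟨pullback.lift π₂.left (π₁.left ≫ t.left) hcond ≫ (𝓘.comapIso f.left).inv, ?_⟩
        rw [Category.assoc, Scheme.IdealSheafData.comapIso_inv_subschemeι, pullback.lift_fst]
      exact key I' h𝓘.symm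
    have h2 : Fix aX (π₁ ≫ t ≫ i) := hπ ▸ h1.map hf
    have h3 := h2 P (𝟙 P) (π₁ ≫ g)
    rw [Category.id_comp] at h3
    rw [← cancel_epi π₁, ← Category.assoc, comp_lift]
    exact h3
  refine ⟨W, i, inferInstanceAs (IsClosedImmersion 𝓘.subschemeι), ?_⟩
  intro T x
  constructor
  · intro hx
    obtain ⟨P, π₁, π₂, hπ, hflat, hsurj, -⟩ := cover x
    haveI := hflat
    haveI := hsurj
    have h1 : Fix aX (π₂ ≫ f) := hπ ▸ hx.comp π₁
    obtain ⟨t', ht'⟩ := (hI' π₂).1 (hfpr π₂ h1)
    have hle : 𝓘 ≤ I'.map f.left := by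
      rw [Scheme.IdealSheafData.le_map_iff_comap_le, h𝓘]
    let sm := Scheme.IdealSheafData.subschemeMap I' 𝓘 f.left hle
    have hsm : sm ≫ 𝓘.subschemeι = I'.subschemeι ≫ f.left :=
      Scheme.IdealSheafData.subschemeMap_subschemeι I' 𝓘 f.left hle
    have hcond : π₁.left ≫ x.left = (t' ≫ sm) ≫ 𝓘.subschemeι := by
      have h4 : π₂.left ≫ f.left = π₁.left ≫ x.left := by
        have := congrArg (fun m => m.left) hπ
        simpa using this
      rw [← h4, Category.assoc, hsm, reassoc_of% ht']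
    let c := pullback.fst x.left 𝓘.subschemeι
    haveI : IsIso c := isIso_of_flat_surjective_factor π₁.left c
      (pullback.lift π₁.left (t' ≫ sm) hcond) (pullback.lift_fst _ _ _)
    have hw : (inv c ≫ pullback.snd x.left 𝓘.subschemeι) ≫ 𝓘.subschemeι = x.left := by
      rw [Category.assoc, ← pullback.condition, IsIso.inv_hom_id_assoc]
    refine ⟨Over.homMk (inv c ≫ pullback.snd x.left 𝓘.subschemeι) ?_, ?_⟩
    · show (inv c ≫ pullback.snd x.left 𝓘.subschemeι) ≫ 𝓘.subschemeι ≫ X.hom = T.hom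
      rw [← Category.assoc, hw, Over.w x]
    · apply Over.OverMorphism.ext
      exact hw
  · rintro ⟨w, rfl⟩
    exact hfixi.comp w

end Main

end Groth.Agent.Lib.Helper16.FprDescent
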