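import Mathlib
import Groth.Agent.Lib.Helper23.GaPoly
import Groth.Agent.Lib.Helper16.GaGmPts

/-!
# Finite subgroup schemes of `𝔾_a` over a field are kernels of additive polynomials (helper16)
-/

set_option autoImplicit false

namespace Groth.Agent.Lib.Helper16.GaSub

open CategoryTheory MonoidalCategory CartesianMonoidalCategory MonObj GrpObj AlgebraicGeometry
  Limits Polynomial Groth.Agent.Lib.Helper43 Groth.Agent.Lib.Helper23.GaPoly
  Groth.Agent.Lib.Helper16.GaGmPts Groth.Agent.Lib.Helper16.GaGmAlg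

universe u

variable (K : Type u) [Field K]

theorem ofGaL_toGaL : ofGaL K ≫ toGaL K = 𝟙 _ :=
  congrArg (fun m => m.left) (ofGa_toGa K)

instance : IsIso (ofGaL K) := ⟨toGaL K, ofGaL_toGaL K, toGaL_ofGaL K⟩

instance : IsIso (toGaL K) := ⟨ofGaL K, toGaL_ofGaL K, ofGaL_toGaL K⟩

theorem ofGaL_w : ofGaL K ≫ Spec.map (CommRingCat.ofHom (C : K →+* K[X])) =
    (Red.Ga (Spec (CommRingCat.of K))).hom :=
  Over.w (ofGa K)

variable {K}

/-- a finite monomorphism into `𝔾_a`: its coordinate generates the coordinate ring -/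
theorem surjective_evHom_of_mono {H : Over (Spec (CommRingCat.of K))} [IsFinite H.hom]
    (j : H ⟶ Red.Ga (Spec (CommRingCat.of K))) [Mono j] :
    Function.Surjective (evHom H (Red.gaFn j)) := by
  have hw : (j.left ≫ ofGaL K) ≫ Spec.map (CommRingCat.ofHom (C : K →+* K[X])) = H.hom := by
    rw [Category.assoc, ofGaL_w, Over.w]
  haveI : IsFinite ((j.left ≫ ofGaL K) ≫ Spec.map (CommRingCat.ofHom (C : K →+* K[X]))) := by
    rw [hw]; infer_instance
  haveI : IsFinite (j.left ≫ ofGaL K) :=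
    IsFinite.of_comp _ (Spec.map (CommRingCat.ofHom (C : K →+* K[X])))
  haveI : Mono (j.left ≫ ofGaL K) := mono_comp _ _
  haveI : IsClosedImmersion (j.left ≫ ofGaL K) :=
    (IsClosedImmersion.iff_isFinite_and_mono _).2 ⟨inferInstance, inferInstance⟩
  refine surjective_evHom_of_isClosedImmersion H _ (j.left ≫ ofGaL K) hw ?_
  rw [ptHom_comp, ptHom_ofGaL, RingHom.comp_apply, rho_X]
  have := gaFn_comp j (𝟙 (Red.Ga (Spec (CommRingCat.of K))))
  rw [Category.comp_id] at this
  exact this.symm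

/-- the endomorphism of `𝔾_a` given on points by `t ↦ f(t)` -/
noncomputable def gaEnd (f : K[X]) :
    Red.Ga (Spec (CommRingCat.of K)) ⟶ Red.Ga (Spec (CommRingCat.of K)) :=
  (gaFn_surjective (X := Red.Ga (Spec (CommRingCat.of K)))
    (ev (Red.Ga (Spec (CommRingCat.of K))) f
      (Red.gaFn (𝟙 (Red.Ga (Spec (CommRingCat.of K))))))).choose

theorem gaFn_gaEnd (f : K[X]) :
    Red.gaFn (gaEnd f) = ev (Red.Ga (Spec (CommRingCat.of K))) f
      (Red.gaFn (𝟙 (Red.Ga (Spec (CommRingCat.of K))))) :=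
  (gaFn_surjective (X := Red.Ga (Spec (CommRingCat.of K))) _).choose_spec

theorem gaFn_comp_gaEnd (f : K[X]) {T : Over (Spec (CommRingCat.of K))}
    (x : T ⟶ Red.Ga (Spec (CommRingCat.of K))) :
    Red.gaFn (x ≫ gaEnd f) = ev T f (Red.gaFn x) := by
  rw [gaFn_comp, gaFn_gaEnd, appTop_ev, ← gaFn_comp, Category.comp_id]

theorem gaEnd_conj (f : K[X]) :
    toGaL K ≫ (gaEnd f).left ≫ ofGaL K = Spec.map (CommRingCat.ofHom (polyEnd f)) := by
  apply ptHom_injective (A := K[X])
  apply Polynomial.ringHom_ext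
  · intro a
    have h1 : ptHom (toGaL K ≫ (gaEnd f).left ≫ ofGaL K) (C a) =
        ptHom ((toGaL K ≫ (gaEnd f).left ≫ ofGaL K) ≫
          Spec.map (CommRingCat.ofHom (C : K →+* K[X]))) a := by
      rw [ptHom_comp_SpecMap]; rfl
    have h2 : (toGaL K ≫ (gaEnd f).left ≫ ofGaL K) ≫
        Spec.map (CommRingCat.ofHom (C : K →+* K[X])) =
        Spec.map (CommRingCat.ofHom (C : K →+* K[X])) := by
      rw [Category.assoc, Category.assoc, ofGaL_w, Over.w (gaEnd f)]
      exact toGaL_hom K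
    rw [h1, h2]
    have h3 : Spec.map (CommRingCat.ofHom (polyEnd f)) =
        𝟙 _ ≫ Spec.map (CommRingCat.ofHom (polyEnd f)) := by rw [Category.id_comp]
    have h4 : Spec.map (CommRingCat.ofHom (C : K →+* K[X])) =
        𝟙 _ ≫ Spec.map (CommRingCat.ofHom (C : K →+* K[X])) := by rw [Category.id_comp]
    rw [h3, ptHom_comp_SpecMap, h4, ptHom_comp_SpecMap, RingHom.comp_apply, RingHom.comp_apply,
      polyEnd_C]
  · have h3 : Spec.map (CommRingCat.ofHom (polyEnd f)) =
        𝟙 _ ≫ Spec.map (CommRingCat.ofHom (polyEnd f)) := by rw [Category.id_comp]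
    rw [h3, ptHom_comp_SpecMap, RingHom.comp_apply, polyEnd_X]
    rw [← Category.assoc, ptHom_comp, ptHom_ofGaL, RingHom.comp_apply, rho_X]
    have h5 : (toGaL K ≫ (gaEnd f).left).appTop.hom
        (Red.gaFn (𝟙 (Red.Ga (Spec (CommRingCat.of K))))) = Red.gaFn (toGa K ≫ gaEnd f) := by
      have := gaFn_comp (toGa K ≫ gaEnd f) (𝟙 (Red.Ga (Spec (CommRingCat.of K))))
      rw [Category.comp_id] at this
      exact this.symm
    rw [h5, gaFn_comp_gaEnd, gaFn_toGa]
    have h6 := ev_fn (K := K) (R' := K[X]) f X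
    rw [aeval_X_left_apply] at h6
    exact h6

theorem gaEnd_left (f : K[X]) :
    (gaEnd f).left = ofGaL K ≫ Spec.map (CommRingCat.ofHom (polyEnd f)) ≫ toGaL K := by
  rw [← gaEnd_conj, Category.assoc, Category.assoc, ofGaL_toGaL, Category.comp_id,
    ← Category.assoc, ofGaL_toGaL, Category.id_comp]

theorem flat_gaEnd (f : K[X]) (hn : 0 < f.natDegree) : Flat (gaEnd f).left := by
  haveI : Flat (Spec.map (CommRingCat.ofHom (polyEnd f))) :=
    Flat.SpecMap_iff.2 (polyEnd_flat f hn)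
  rw [gaEnd_left]
  infer_instance

theorem surjective_gaEnd (f : K[X]) (hf : f.Monic) (hn : 0 < f.natDegree) :
    Surjective (gaEnd f).left := by
  haveI : Surjective (Spec.map (CommRingCat.ofHom (polyEnd f))) :=
    ⟨polyEnd_comap_surjective f hf hn⟩
  rw [gaEnd_left]
  infer_instance

theorem isMonHom_gaEnd (f : K[X]) (h0 : f.coeff 0 = 0)
    (hj : ∀ j, 0 < j → hasseDeriv j f = C (f.coeff j)) : IsMonHom (gaEnd f) := by
  apply isMonHom_of_mul
  · apply gaFn_injective
    rw [gaFn_comp_gaEnd, gaFn_mul, gaFn_mul, gaFn_comp_gaEnd, gaFn_comp_gaEnd]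
    exact eval₂_add_of_hasseDeriv f h0 hj _ _ _
  · apply gaFn_injective
    rw [gaFn_comp_gaEnd, MonObj.one_eq_one, gaFn_one]
    unfold ev
    rw [Polynomial.eval₂_at_zero, h0, map_zero]

/-- **Finite subgroup schemes of `𝔾_a` over a field are kernels of flat surjective
endomorphisms.** -/
theorem exists_endo (H : Over (Spec (CommRingCat.of K))) [GrpObj H] [IsFinite H.hom]
    (i : H ⟶ Red.Ga (Spec (CommRingCat.of K))) [IsMonHom i] [Mono i] :
    ∃ φ : Red.Ga (Spec (CommRingCat.of K)) ⟶ Red.Ga (Spec (CommRingCat.of K)),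
      IsMonHom φ ∧ AlgGrp.IsKernel i φ ∧ Flat φ.left ∧ Surjective φ.left := by
  haveI : IsAffine H.left := isAffine_of_isAffineHom H.hom
  set b₀ := Red.gaFn i with hb₀
  have hsurj : Function.Surjective (evHom H b₀) := surjective_evHom_of_mono i
  letI : Algebra K Γ(H.left, ⊤) := (ptHom H.hom).toAlgebra
  haveI : Module.Finite K Γ(H.left, ⊤) := finite_ptHom H
  haveI : Nontrivial Γ(H.left, ⊤) := nontrivial_of_section H η[H]
  have hint : IsIntegral K b₀ := Algebra.IsIntegral.isIntegral b₀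
  set f := minpoly K b₀ with hf
  have hfm : f.Monic := minpoly.monic hint
  have hn : 0 < f.natDegree := minpoly.natDegree_pos hint
  have hfb : ev H f b₀ = 0 := minpoly.aeval K b₀
  have hker : ∀ p : K[X], ev H p b₀ = 0 → f ∣ p := fun p hp => minpoly.dvd K b₀ hp
  have UP := exists_hom_of_ev_eq_zero H b₀ f hsurj hker
  -- additivity
  have hadd : f.coeff 0 = 0 ∧ ∀ j, 0 < j → hasseDeriv j f = C (f.coeff j) := by
    apply hasseDeriv_eq_of_aeval_add f hfm hn
    set B := AdjoinRoot f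
    set fB : B[X] := f.map (algebraMap K B)
    set x' : AdjoinRoot fB := AdjoinRoot.of fB (AdjoinRoot.root f)
    set y : AdjoinRoot fB := AdjoinRoot.root fB
    have hx' : aeval x' f = 0 := by
      have h1 : aeval x' f = AdjoinRoot.of fB (aeval (AdjoinRoot.root f) f) := by
        have := Polynomial.aeval_algebraMap_apply (AdjoinRoot fB) (AdjoinRoot.root f) f
        rw [AdjoinRoot.algebraMap_eq] at this
        exact this
      rw [h1, AdjoinRoot.aeval_eq, AdjoinRoot.mk_self, map_zero]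
    have hy : aeval y f = 0 := by
      have h1 : aeval y f = aeval y fB := (aeval_map_algebraMap B y f).symm
      rw [h1, AdjoinRoot.aeval_eq, AdjoinRoot.mk_self]
    obtain ⟨h₁, hh₁⟩ := UP (specOver (AdjoinRoot fB)) (fn x') (by
      rw [ev_fn, hx']; exact map_zero _)
    obtain ⟨h₂, hh₂⟩ := UP (specOver (AdjoinRoot fB)) (fn y) (by
      rw [ev_fn, hy]; exact map_zero _)
    have h3 : Red.gaFn ((h₁ * h₂) ≫ i) = fn (x' + y) := by
      have hmc : (h₁ * h₂) ≫ i = (h₁ ≫ i) * (h₂ ≫ i) := MonObj.mul_comp h₁ h₂ i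
      rw [hmc, gaFn_mul, gaFn_comp, gaFn_comp, ← hb₀, hh₁, hh₂]
      exact (map_add _ _ _).symm
    have h4 : ev (specOver (AdjoinRoot fB)) f (Red.gaFn ((h₁ * h₂) ≫ i)) = 0 := by
      rw [gaFn_comp, ← hb₀, ← appTop_ev, hfb, map_zero]
    rw [h3, ev_fn] at h4
    exact fn_injective (h4.trans (map_zero _).symm)
  obtain ⟨h0, hj⟩ := hadd
  refine ⟨gaEnd f, isMonHom_gaEnd f h0 hj, ?_, flat_gaEnd f hn, surjective_gaEnd f hfm hn⟩
  apply isKernel_of_up
  · apply gaFn_injective
    rw [gaFn_comp_gaEnd, ← hb₀, hfb, ← Hom.one_def, gaFn_one]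
  · intro T x hx
    have h1 : ev T f (Red.gaFn x) = 0 := by
      rw [← gaFn_comp_gaEnd, hx, ← Hom.one_def, gaFn_one]
    obtain ⟨h, hh⟩ := UP T (Red.gaFn x) h1
    refine ⟨h, ?_⟩
    apply gaFn_injective
    rw [gaFn_comp, ← hb₀, hh]

end Groth.Agent.Lib.Helper16.GaSub
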