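import Mathlib
import Groth.Agent.Lib.Helper23.GaPoly
import Groth.Agent.Lib.Helper23.GmPoly
import Groth.Agent.Lib.Helper16.GaSub

/-!
# Finite subgroup schemes of `𝔾_m` over a field are the `μ_n` (helper16)
-/

set_option autoImplicit false

namespace Groth.Agent.Lib.Helper16.GmSub

open CategoryTheory MonoidalCategory CartesianMonoidalCategory MonObj GrpObj AlgebraicGeometry
  Limits Polynomial Groth.Agent.Lib.Helper43 Groth.Agent.Lib.Helper23.GmPoly
  Groth.Agent.Lib.Helper16.GaGmPts Groth.Agent.Lib.Helper16.GaGmAlg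

universe u

variable (K : Type u) [Field K]

theorem ofGmL_toGmL : ofGmL K ≫ toGmL K = 𝟙 _ :=
  congrArg (fun m => m.left) (ofGm_toGm K)

instance : IsIso (ofGmL K) := ⟨toGmL K, ofGmL_toGmL K, toGmL_ofGmL K⟩

instance : IsIso (toGmL K) := ⟨ofGmL K, toGmL_ofGmL K, ofGmL_toGmL K⟩

theorem ofGmL_w : ofGmL K ≫ Spec.map (CommRingCat.ofHom (algebraMap K (LaurentPolynomial K))) =
    (Red.Gm (Spec (CommRingCat.of K))).hom :=
  Over.w (ofGm K)

/-- the inclusion `𝔾_m ⟶ 𝔾_a` -/
noncomputable def incl : Red.Gm (Spec (CommRingCat.of K)) ⟶ Red.Ga (Spec (CommRingCat.of K)) :=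
  (gaFn_surjective (X := Red.Gm (Spec (CommRingCat.of K)))
    (Red.gmFn (𝟙 (Red.Gm (Spec (CommRingCat.of K)))))).choose

theorem gaFn_incl : Red.gaFn (incl K) = Red.gmFn (𝟙 (Red.Gm (Spec (CommRingCat.of K)))) :=
  (gaFn_surjective (X := Red.Gm (Spec (CommRingCat.of K))) _).choose_spec

variable {K}

theorem gaFn_comp_incl {T : Over (Spec (CommRingCat.of K))}
    (x : T ⟶ Red.Gm (Spec (CommRingCat.of K))) : Red.gaFn (x ≫ incl K) = Red.gmFn x := by
  rw [gaFn_comp, gaFn_incl, ← gmFn_comp, Category.comp_id]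

instance : Mono (incl K) where
  right_cancellation a b h := by
    apply gmFn_injective
    rw [← gaFn_comp_incl, ← gaFn_comp_incl, h]

/-- the endomorphism `t ↦ t ^ n` of `𝔾_m` -/
noncomputable def gmEnd (n : ℕ) :
    Red.Gm (Spec (CommRingCat.of K)) ⟶ Red.Gm (Spec (CommRingCat.of K)) :=
  (gmFn_surjective (X := Red.Gm (Spec (CommRingCat.of K)))
    (Red.gmFn (𝟙 (Red.Gm (Spec (CommRingCat.of K)))) ^ n)
    ((gmFn_isUnit _).pow n)).choose

theorem gmFn_gmEnd (n : ℕ) :
    Red.gmFn (gmEnd (K := K) n) = Red.gmFn (𝟙 (Red.Gm (Spec (CommRingCat.of K)))) ^ n :=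
  (gmFn_surjective (X := Red.Gm (Spec (CommRingCat.of K))) _
    ((gmFn_isUnit _).pow n)).choose_spec

theorem gmFn_comp_gmEnd (n : ℕ) {T : Over (Spec (CommRingCat.of K))}
    (x : T ⟶ Red.Gm (Spec (CommRingCat.of K))) :
    Red.gmFn (x ≫ gmEnd n) = Red.gmFn x ^ n := by
  rw [gmFn_comp, gmFn_gmEnd, map_pow, ← gmFn_comp, Category.comp_id]

theorem isMonHom_gmEnd (n : ℕ) : IsMonHom (gmEnd (K := K) n) := by
  apply isMonHom_of_mul
  · apply gmFn_injective
    rw [gmFn_comp_gmEnd, gmFn_mul, gmFn_mul, gmFn_comp_gmEnd, gmFn_comp_gmEnd, mul_pow]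
  · apply gmFn_injective
    rw [gmFn_comp_gmEnd, MonObj.one_eq_one, gmFn_one, one_pow]

theorem gmEnd_conj (n : ℕ) :
    toGmL K ≫ (gmEnd n).left ≫ ofGmL K = Spec.map (CommRingCat.ofHom (laurentEnd (K := K) n)) := by
  apply ptHom_injective (A := LaurentPolynomial K)
  apply Groth.Agent.Lib.Helper23.LaurentHopf.laurent_ringHom_ext
  · intro a
    have h1 : ptHom (toGmL K ≫ (gmEnd n).left ≫ ofGmL K) (LaurentPolynomial.C a) =
        ptHom ((toGmL K ≫ (gmEnd n).left ≫ ofGmL K) ≫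
          Spec.map (CommRingCat.ofHom (algebraMap K (LaurentPolynomial K)))) a := by
      rw [ptHom_comp_SpecMap]; rfl
    have h2 : (toGmL K ≫ (gmEnd n).left ≫ ofGmL K) ≫
        Spec.map (CommRingCat.ofHom (algebraMap K (LaurentPolynomial K))) =
        Spec.map (CommRingCat.ofHom (algebraMap K (LaurentPolynomial K))) := by
      rw [Category.assoc, Category.assoc, ofGmL_w, Over.w (gmEnd n)]
      exact toGmL_hom K
    rw [h1, h2]
    have h3 : Spec.map (CommRingCat.ofHom (laurentEnd (K := K) n)) =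
        𝟙 _ ≫ Spec.map (CommRingCat.ofHom (laurentEnd (K := K) n)) := by rw [Category.id_comp]
    have h4 : Spec.map (CommRingCat.ofHom (algebraMap K (LaurentPolynomial K))) =
        𝟙 _ ≫ Spec.map (CommRingCat.ofHom (algebraMap K (LaurentPolynomial K))) := by
      rw [Category.id_comp]
    rw [h3, ptHom_comp_SpecMap, h4, ptHom_comp_SpecMap, RingHom.comp_apply, RingHom.comp_apply,
      laurentEnd_C]
    rfl
  · have h3 : Spec.map (CommRingCat.ofHom (laurentEnd (K := K) n)) =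
        𝟙 _ ≫ Spec.map (CommRingCat.ofHom (laurentEnd (K := K) n)) := by rw [Category.id_comp]
    rw [h3, ptHom_comp_SpecMap, RingHom.comp_apply, laurentEnd_T]
    rw [← Category.assoc, ptHom_comp, ptHom_ofGmL, RingHom.comp_apply, rho_T]
    have h5 : (toGmL K ≫ (gmEnd n).left).appTop.hom
        (Red.gmFn (𝟙 (Red.Gm (Spec (CommRingCat.of K))))) = Red.gmFn (toGm K ≫ gmEnd n) := by
      have := gmFn_comp (toGm K ≫ gmEnd n) (𝟙 (Red.Gm (Spec (CommRingCat.of K))))
      rw [Category.comp_id] at this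
      exact this.symm
    rw [h5, gmFn_comp_gmEnd, gmFn_toGm]
    have h6 : coord K ^ n = (Scheme.ΓSpecIso (CommRingCat.of (LaurentPolynomial K))).inv.hom
        ((LaurentPolynomial.T 1 : LaurentPolynomial K) ^ n) := (map_pow _ _ _).symm
    rw [h6, LaurentPolynomial.T_pow]
    rfl

theorem gmEnd_left (n : ℕ) :
    (gmEnd n).left = ofGmL K ≫ Spec.map (CommRingCat.ofHom (laurentEnd (K := K) n)) ≫ toGmL K := by
  rw [← gmEnd_conj, Category.assoc, Category.assoc, ofGmL_toGmL, Category.comp_id,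
    ← Category.assoc, ofGmL_toGmL, Category.id_comp]

theorem flat_gmEnd (n : ℕ) (hn : 0 < n) : Flat (gmEnd (K := K) n).left := by
  haveI : Flat (Spec.map (CommRingCat.ofHom (laurentEnd (K := K) n))) :=
    Flat.SpecMap_iff.2 (laurentEnd_flat n hn)
  rw [gmEnd_left]
  infer_instance

theorem surjective_gmEnd (n : ℕ) (hn : 0 < n) : Surjective (gmEnd (K := K) n).left := by
  haveI : Surjective (Spec.map (CommRingCat.ofHom (laurentEnd (K := K) n))) :=
    ⟨laurentEnd_comap_surjective n hn⟩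
  rw [gmEnd_left]
  infer_instance

/-- **Finite subgroup schemes of `𝔾_m` over a field are kernels of flat surjective
endomorphisms** (they are the `μ_n`). -/
theorem exists_endo (H : Over (Spec (CommRingCat.of K))) [GrpObj H] [IsFinite H.hom]
    (i : H ⟶ Red.Gm (Spec (CommRingCat.of K))) [IsMonHom i] [Mono i] :
    ∃ φ : Red.Gm (Spec (CommRingCat.of K)) ⟶ Red.Gm (Spec (CommRingCat.of K)),
      IsMonHom φ ∧ AlgGrp.IsKernel i φ ∧ Flat φ.left ∧ Surjective φ.left := by
  haveI : IsAffine H.left := isAffine_of_isAffineHom H.hom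
  set b₀ := Red.gmFn i with hb₀
  have hb₀' : Red.gaFn (i ≫ incl K) = b₀ := gaFn_comp_incl i
  have hsurj : Function.Surjective (evHom H b₀) := by
    rw [← hb₀']
    haveI : Mono (i ≫ incl K) := mono_comp _ _
    exact GaSub.surjective_evHom_of_mono (i ≫ incl K)
  letI : Algebra K Γ(H.left, ⊤) := (ptHom H.hom).toAlgebra
  haveI : Module.Finite K Γ(H.left, ⊤) := finite_ptHom H
  haveI : Nontrivial Γ(H.left, ⊤) := nontrivial_of_section H η[H]
  have hint : IsIntegral K b₀ := Algebra.IsIntegral.isIntegral b₀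
  set g := minpoly K b₀ with hg
  have hgm : g.Monic := minpoly.monic hint
  have hn : 0 < g.natDegree := minpoly.natDegree_pos hint
  have hgb : ev H g b₀ = 0 := minpoly.aeval K b₀
  have hker : ∀ p : K[X], ev H p b₀ = 0 → g ∣ p := fun p hp => minpoly.dvd K b₀ hp
  have UP := exists_hom_of_ev_eq_zero H b₀ g hsurj hker
  have hc : g.coeff 0 ≠ 0 := minpoly_coeff_zero_ne_zero b₀ (gmFn_isUnit i) hint
  -- g(1) = 0 from the unit section
  have h1 : g.eval 1 = 0 := by
    have h2 : ev (𝟙_ (Over (Spec (CommRingCat.of K)))) g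
        ((η[H]).left.appTop b₀) = 0 := by
      rw [← appTop_ev, hgb, map_zero]
    have h3 : (η[H]).left.appTop b₀ = 1 := by
      have hone : η[H] ≫ i = η[Red.Gm (Spec (CommRingCat.of K))] := IsMonHom.one_hom i
      rw [hb₀, ← gmFn_comp, hone, MonObj.one_eq_one, gmFn_one]
    rw [h3] at h2
    unfold ev at h2
    rw [Polynomial.eval₂_at_one] at h2
    haveI : Nontrivial Γ((𝟙_ (Over (Spec (CommRingCat.of K)))).left, ⊤) :=
      nontrivial_of_section (𝟙_ _) (𝟙 _)
    exact (map_eq_zero _).1 h2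
  -- multiplicativity
  have hform : g = X ^ g.natDegree - 1 := by
    apply eq_X_pow_sub_one g hgm hn hc h1
    set B := AdjoinRoot g
    set gB : B[X] := g.map (algebraMap K B)
    set x' : AdjoinRoot gB := AdjoinRoot.of gB (AdjoinRoot.root g)
    set y : AdjoinRoot gB := AdjoinRoot.root gB
    have hx' : aeval x' g = 0 := by
      have h1 : aeval x' g = AdjoinRoot.of gB (aeval (AdjoinRoot.root g) g) := by
        have := Polynomial.aeval_algebraMap_apply (AdjoinRoot gB) (AdjoinRoot.root g) g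
        rw [AdjoinRoot.algebraMap_eq] at this
        exact this
      rw [h1, AdjoinRoot.aeval_eq, AdjoinRoot.mk_self, map_zero]
    have hy : aeval y g = 0 := by
      have h1 : aeval y g = aeval y gB := (aeval_map_algebraMap B y g).symm
      rw [h1, AdjoinRoot.aeval_eq, AdjoinRoot.mk_self]
    obtain ⟨h₁, hh₁⟩ := UP (specOver (AdjoinRoot gB)) (fn x') (by
      rw [ev_fn, hx']; exact map_zero _)
    obtain ⟨h₂, hh₂⟩ := UP (specOver (AdjoinRoot gB)) (fn y) (by
      rw [ev_fn, hy]; exact map_zero _)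
    have h3 : Red.gmFn ((h₁ * h₂) ≫ i) = fn (x' * y) := by
      have hmc : (h₁ * h₂) ≫ i = (h₁ ≫ i) * (h₂ ≫ i) := MonObj.mul_comp h₁ h₂ i
      rw [hmc, gmFn_mul, gmFn_comp, gmFn_comp, ← hb₀, hh₁, hh₂]
      exact (map_mul _ _ _).symm
    have h4 : ev (specOver (AdjoinRoot gB)) g (Red.gmFn ((h₁ * h₂) ≫ i)) = 0 := by
      rw [gmFn_comp, ← hb₀, ← appTop_ev, hgb, map_zero]
    rw [h3, ev_fn] at h4
    exact fn_injective (h4.trans (map_zero _).symm)
  set n := g.natDegree with hndef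
  have hev : ∀ (T : Over (Spec (CommRingCat.of K))) (t : Γ(T.left, ⊤)),
      ev T g t = t ^ n - 1 := by
    intro T t
    rw [hform]
    unfold ev
    rw [Polynomial.eval₂_sub, Polynomial.eval₂_pow, Polynomial.eval₂_X, Polynomial.eval₂_one]
  refine ⟨gmEnd n, isMonHom_gmEnd n, ?_, flat_gmEnd n hn, surjective_gmEnd n hn⟩
  apply isKernel_of_up
  · apply gmFn_injective
    rw [gmFn_comp_gmEnd, ← hb₀, ← Hom.one_def, gmFn_one]
    have := hev H b₀
    rw [hgb] at this
    exact (sub_eq_zero.1 this.symm)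
  · intro T x hx
    have h1 : ev T g (Red.gmFn x) = 0 := by
      rw [hev, ← gmFn_comp_gmEnd, hx, ← Hom.one_def, gmFn_one, sub_self]
    obtain ⟨h, hh⟩ := UP T (Red.gmFn x) h1
    refine ⟨h, ?_⟩
    apply gmFn_injective
    rw [gmFn_comp, ← hb₀, hh]

end Groth.Agent.Lib.Helper16.GmSub
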