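import Mathlib
import Groth.Prelude.Def_LefMon
import Groth.Agent.Lib.Cohomology.helper5_HpullComp
import Groth.Agent.S0101

/-!
# Functoriality of `EtAdic.Hmap` (helper16)

`pullConst` is compatible with composition for every coefficient group (helper3's proof for `ℤ`,
verbatim), hence the pullback maps `EtAdic.Hmap` on `H^i(-, ℤ/ℓ^ν)` compose.
-/

set_option autoImplicit false
universe u
open CategoryTheory CategoryTheory.Limits Opposite AlgebraicGeometry CategoryTheory.Abelian

namespace Groth.Agent.Lib.Helper16.HmapComp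

open Groth.Agent.Lib.Cohomology.ExtFunct Groth.Agent.Lib.Cohomology.HpullComp

/-- the coefficient group `M` in the right universe -/
abbrev MM (M : Type) [AddCommGroup M] : AddCommGrpCat.{u + 1} := AddCommGrpCat.of (ULift.{u + 1} M)

section Comp

variable {W U X : Scheme.{u}} (k : W ⟶ U) (j : U ⟶ X) (M : Type) [AddCommGroup M]

/-- `pullConst` is compatible with composition, any coefficient group -/
theorem pullConst_compM (j₃ : W ⟶ X) (w : k ≫ j = j₃) :
    (EtCore.pullConst k M).inv ≫ (EtCoh.pull k).map (EtCore.pullConst j M).inv ≫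
      (((EtCore.pullComp k j).symm ≪≫ EtCore.pullCongr w).app (EtCoh.const X M)).hom =
    (EtCore.pullConst j₃ M).inv := by
  subst w
  have hθ : (((EtCore.pullComp k j).symm ≪≫ EtCore.pullCongr rfl).app (EtCoh.const X M)).hom =
      (EtCore.pullComp k j).inv.app (EtCoh.const X M) := by
    simp [EtCore.pullCongr]
  rw [hθ]
  apply ((EtCore.constAdj W).homEquiv (MM.{u} M) _).injective
  rw [Adjunction.homEquiv_unit, Adjunction.homEquiv_unit]
  have hk : (EtCore.constAdj W).unit.app (MM.{u} M) ≫ (EtCore.gsec W).map (EtCore.pullConst k M).inv =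
      ((EtCore.constAdj U).unit.app (MM.{u} M) ≫ (EtCore.gsec U).map ((EtCoh.pullPushAdj k).unit.app
        (EtCoh.const U M))) ≫ (EtCore.pushGsecIso k).hom.app ((EtCoh.pull k).obj (EtCoh.const U M)) :=
    unit_pullConstIso_inv k (MM.{u} M)
  have hj : (EtCore.constAdj U).unit.app (MM.{u} M) ≫ (EtCore.gsec U).map (EtCore.pullConst j M).inv =
      ((EtCore.constAdj X).unit.app (MM.{u} M) ≫ (EtCore.gsec X).map ((EtCoh.pullPushAdj j).unit.app
        (EtCoh.const X M))) ≫ (EtCore.pushGsecIso j).hom.app ((EtCoh.pull j).obj (EtCoh.const X M)) :=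
    unit_pullConstIso_inv j (MM.{u} M)
  have hkj : (EtCore.constAdj W).unit.app (MM.{u} M) ≫
      (EtCore.gsec W).map (EtCore.pullConst (k ≫ j) M).inv =
      ((EtCore.constAdj X).unit.app (MM.{u} M) ≫ (EtCore.gsec X).map ((EtCoh.pullPushAdj (k ≫ j)).unit.app
        (EtCoh.const X M))) ≫
        (EtCore.pushGsecIso (k ≫ j)).hom.app ((EtCoh.pull (k ≫ j)).obj (EtCoh.const X M)) :=
    unit_pullConstIso_inv (k ≫ j) (MM.{u} M)
  have hc := unit_pullComp_inv k j (EtCoh.const X M)
  have hp := pushGsec_comp k j ((EtCoh.pull k).obj ((EtCoh.pull j).obj (EtCoh.const X M)))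
  have n1 : (EtCore.gsec U).map ((EtCoh.push k).map ((EtCoh.pull k).map (EtCore.pullConst j M).inv)) ≫
      (EtCore.pushGsecIso k).hom.app ((EtCoh.pull k).obj ((EtCoh.pull j).obj (EtCoh.const X M))) =
      (EtCore.pushGsecIso k).hom.app ((EtCoh.pull k).obj (EtCoh.const U M)) ≫
        (EtCore.gsec W).map ((EtCoh.pull k).map (EtCore.pullConst j M).inv) :=
    (EtCore.pushGsecIso k).hom.naturality ((EtCoh.pull k).map (EtCore.pullConst j M).inv)
  have n2 : (EtCore.pullConst j M).inv ≫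
      (EtCoh.pullPushAdj k).unit.app ((EtCoh.pull j).obj (EtCoh.const X M)) =
      (EtCoh.pullPushAdj k).unit.app (EtCoh.const U M) ≫
        (EtCoh.push k).map ((EtCoh.pull k).map (EtCore.pullConst j M).inv) :=
    (EtCoh.pullPushAdj k).unit.naturality (EtCore.pullConst j M).inv
  have n3 : (EtCore.gsec X).map ((EtCoh.push j).map ((EtCoh.pullPushAdj k).unit.app
      ((EtCoh.pull j).obj (EtCoh.const X M)))) ≫
      (EtCore.pushGsecIso j).hom.app ((EtCoh.push k).obj ((EtCoh.pull k).obj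
        ((EtCoh.pull j).obj (EtCoh.const X M)))) =
      (EtCore.pushGsecIso j).hom.app ((EtCoh.pull j).obj (EtCoh.const X M)) ≫
        (EtCore.gsec U).map ((EtCoh.pullPushAdj k).unit.app ((EtCoh.pull j).obj (EtCoh.const X M))) :=
    (EtCore.pushGsecIso j).hom.naturality
      ((EtCoh.pullPushAdj k).unit.app ((EtCoh.pull j).obj (EtCoh.const X M)))
  have n4 : (EtCore.gsec X).map ((EtCoh.push (k ≫ j)).map
      ((EtCore.pullComp k j).inv.app (EtCoh.const X M))) ≫
      (EtCore.pushGsecIso (k ≫ j)).hom.app ((EtCoh.pull (k ≫ j)).obj (EtCoh.const X M)) =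
      (EtCore.pushGsecIso (k ≫ j)).hom.app ((EtCoh.pull k).obj ((EtCoh.pull j).obj (EtCoh.const X M))) ≫
        (EtCore.gsec W).map ((EtCore.pullComp k j).inv.app (EtCoh.const X M)) :=
    (EtCore.pushGsecIso (k ≫ j)).hom.naturality ((EtCore.pullComp k j).inv.app (EtCoh.const X M))
  rw [hkj, hc]
  simp only [Functor.map_comp, Category.assoc]
  rw [reassoc_of% hk, ← reassoc_of% n1]
  rw [← Functor.map_comp_assoc (EtCore.gsec U), ← n2, Functor.map_comp_assoc, reassoc_of% hj,
    ← reassoc_of% n3, reassoc_of% hp, n4]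

theorem pullConst_comp_inv :
    (EtCore.pullConst k M).inv ≫ (EtCoh.pull k).map (EtCore.pullConst j M).inv ≫
      (EtCore.pullComp k j).inv.app (EtCoh.const X M) = (EtCore.pullConst (k ≫ j) M).inv := by
  have h := pullConst_compM k j M (k ≫ j) rfl
  have hθ : (((EtCore.pullComp k j).symm ≪≫ EtCore.pullCongr rfl).app (EtCoh.const X M)).hom =
      (EtCore.pullComp k j).inv.app (EtCoh.const X M) := by
    simp [EtCore.pullCongr]
  rw [hθ] at h
  exact h

theorem pullConst_comp_hom :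
    (EtCore.pullConst (k ≫ j) M).hom =
      (EtCore.pullComp k j).hom.app (EtCoh.const X M) ≫
        (EtCoh.pull k).map (EtCore.pullConst j M).hom ≫ (EtCore.pullConst k M).hom := by
  apply (cancel_epi (EtCore.pullConst (k ≫ j) M).inv).1
  rw [Iso.inv_hom_id, ← pullConst_comp_inv k j M]
  simp only [Category.assoc]
  rw [Iso.inv_hom_id_app_assoc, ← Functor.map_comp_assoc, Iso.inv_hom_id,
    CategoryTheory.Functor.map_id, Category.id_comp, Iso.inv_hom_id]

end Comp

section Hmap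

variable {X : Scheme.{u}} (ℓ : ℕ)

lemma Hmap_eq_conjMap {Y : Scheme.{u}} (f : Y ⟶ X) [hf : PreservesFiniteLimits (EtCoh.pull f)]
    (i ν : ℕ) (x : EtAdic.Hmod X ℓ i ν) :
    EtAdic.Hmap ℓ f hf i ν x =
      conjMap (EtCoh.pull f) (EtCore.pullConst f ℤ).inv
        (EtCore.pullConst f (ZMod (ℓ ^ ν))).hom i x := by
  have h1 : EtAdic.Hmap ℓ f hf i ν x =
      ((EtCoh.HF Y i).map (EtCore.pullConst f (ZMod (ℓ ^ ν))).hom).hom
        (EtCore.Hpull f (EtCoh.const X (ZMod (ℓ ^ ν))) i x) := rfl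
  rw [h1, HF_map_apply, Hpull_eq_conjMap, conjMap_comp_mk₀, Category.id_comp]

theorem Hmap_comp {W U : Scheme.{u}} (k : W ⟶ U) (j : U ⟶ X)
    [hk : PreservesFiniteLimits (EtCoh.pull k)] [hj : PreservesFiniteLimits (EtCoh.pull j)]
    [hkj : PreservesFiniteLimits (EtCoh.pull (k ≫ j))] (i ν : ℕ) (x : EtAdic.Hmod X ℓ i ν) :
    EtAdic.Hmap ℓ (k ≫ j) hkj i ν x = EtAdic.Hmap ℓ k hk i ν (EtAdic.Hmap ℓ j hj i ν x) := by
  have : PreservesFiniteLimits (EtCoh.pull j ⋙ EtCoh.pull k) := comp_preservesFiniteLimits _ _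
  have : PreservesFiniteColimits (EtCoh.pull j ⋙ EtCoh.pull k) :=
    comp_preservesFiniteColimits _ _
  rw [Hmap_eq_conjMap, Hmap_eq_conjMap, Hmap_eq_conjMap, conjMap_comp,
    conjMap_natIso (EtCoh.pull j ⋙ EtCoh.pull k) (EtCoh.pull (k ≫ j)) (EtCore.pullComp k j).symm]
  apply conjMap_congr
  · rw [← pullConst_comp_inv k j ℤ, Category.assoc]
    rfl
  · rw [pullConst_comp_hom k j (ZMod (ℓ ^ ν))]
    rfl

theorem Hmap_congr {Y : Scheme.{u}} {f f' : Y ⟶ X} (h : f = f')
    (hf : PreservesFiniteLimits (EtCoh.pull f)) (hf' : PreservesFiniteLimits (EtCoh.pull f'))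
    (i ν : ℕ) (x : EtAdic.Hmod X ℓ i ν) :
    EtAdic.Hmap ℓ f hf i ν x = EtAdic.Hmap ℓ f' hf' i ν x := by
  subst h
  rfl

end Hmap

end Groth.Agent.Lib.Helper16.HmapComp
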