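import Mathlib

/-!
# A finite projective module of constant rank one is invertible (helper16)
-/

set_option autoImplicit false

namespace Groth.Agent.Lib.Helper16.InvRank

open TensorProduct Module

universe u v

section Free

variable {S : Type u} [CommRing S] {F : Type v} [AddCommGroup F] [Module S F]

theorem smul_comm_of_basis_fin_one (b : Basis (Fin 1) S F) (ψ : F →ₗ[S] S) (X Y : F) :
    ψ X • Y = ψ Y • X := by
  have hX : X = (b.repr X 0) • b 0 := by
    conv_lhs => rw [← b.sum_repr X]
    simp
  have hY : Y = (b.repr Y 0) • b 0 := by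
    conv_lhs => rw [← b.sum_repr Y]
    simp
  rw [hX, hY]
  simp only [map_smul, smul_eq_mul, smul_smul]
  congr 1
  ring

end Free

section Main

variable {R : Type u} [CommRing R] {M : Type v} [AddCommGroup M] [Module R M]
  [Module.Finite R M] [Module.Projective R M]

/-- In a rank one projective module, `ψ x • y = ψ y • x`. -/
theorem dual_smul_comm (h : ∀ q : PrimeSpectrum R, Module.rankAtStalk M q = 1)
    (ψ : Module.Dual R M) (x y : M) : ψ x • y = ψ y • x := by
  refine Module.eq_of_localization_maximal (R := R) (M := M)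
    (Mₚ := fun P _ => Localization.AtPrime P ⊗[R] M)
    (f := fun P _ => TensorProduct.mk R (Localization.AtPrime P) M 1) _ _ ?_
  intro P hP
  have hfree : Module.Free (Localization.AtPrime P) (Localization.AtPrime P ⊗[R] M) :=
    Module.free_of_flat_of_isLocalRing
  have hrank : Module.finrank (Localization.AtPrime P) (Localization.AtPrime P ⊗[R] M) = 1 := by
    rw [← h ⟨P, hP.isPrime⟩, Module.rankAtStalk_eq_finrank_tensorProduct]
  let b := Module.finBasisOfFinrankEq (Localization.AtPrime P) (Localization.AtPrime P ⊗[R] M) hrank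
  let ψP : (Localization.AtPrime P ⊗[R] M) →ₗ[Localization.AtPrime P] Localization.AtPrime P :=
    (TensorProduct.AlgebraTensorModule.rid R (Localization.AtPrime P)
      (Localization.AtPrime P)).toLinearMap ∘ₗ LinearMap.baseChange (Localization.AtPrime P) ψ
  have hψP : ∀ z : M, ψP ((1 : Localization.AtPrime P) ⊗ₜ[R] z) =
      algebraMap R (Localization.AtPrime P) (ψ z) := by
    intro z
    simp [ψP, Algebra.algebraMap_eq_smul_one]
  have key := smul_comm_of_basis_fin_one b ψP ((1 : Localization.AtPrime P) ⊗ₜ[R] x)
    ((1 : Localization.AtPrime P) ⊗ₜ[R] y)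
  rw [hψP, hψP, algebraMap_smul, algebraMap_smul] at key
  simp only [TensorProduct.mk_apply, TensorProduct.tmul_smul]
  exact key


theorem contract_smul_comm (h : ∀ q : PrimeSpectrum R, Module.rankAtStalk M q = 1)
    (s t : Module.Dual R M ⊗[R] M) : contractLeft R M s • t = contractLeft R M t • s := by
  induction s using TensorProduct.induction_on with
  | zero => simp
  | add s₁ s₂ h₁ h₂ => rw [map_add, add_smul, h₁, h₂, smul_add]
  | tmul φ m' =>
    induction t using TensorProduct.induction_on with
    | zero => simp
    | add t₁ t₂ h₁ h₂ => rw [map_add, add_smul, ← h₁, ← h₂, smul_add]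
    | tmul ψ m =>
      rw [contractLeft_apply, contractLeft_apply]
      have h1 : φ m' • m = φ m • m' := dual_smul_comm h φ m' m
      have h2 : φ m • ψ = ψ m • φ := by
        apply LinearMap.ext
        intro y
        have := congrArg φ (dual_smul_comm h ψ m y)
        simp only [map_smul, smul_eq_mul] at this
        simp only [LinearMap.smul_apply, smul_eq_mul]
        rw [mul_comm, ← this, mul_comm]
      calc φ m' • (ψ ⊗ₜ[R] m) = ψ ⊗ₜ[R] (φ m' • m) := by rw [TensorProduct.tmul_smul]
        _ = ψ ⊗ₜ[R] (φ m • m') := by rw [h1]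
        _ = (φ m • ψ) ⊗ₜ[R] m' := by rw [TensorProduct.tmul_smul, TensorProduct.smul_tmul']
        _ = ψ m • (φ ⊗ₜ[R] m') := by rw [h2, TensorProduct.smul_tmul']

theorem exists_contract_eq_one (h : ∀ q : PrimeSpectrum R, Module.rankAtStalk M q = 1) :
    ∃ t : Module.Dual R M ⊗[R] M, contractLeft R M t = 1 := by
  by_contra hne
  push Not at hne
  set 𝔞 : Ideal R := LinearMap.range (contractLeft R M) with h𝔞
  have hne_top : 𝔞 ≠ ⊤ := by
    intro htop
    have h1 : (1 : R) ∈ 𝔞 := by rw [htop]; trivial
    obtain ⟨t, ht⟩ := h1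
    exact hne t ht
  obtain ⟨𝔪, h𝔪, hle⟩ := Ideal.exists_le_maximal 𝔞 hne_top
  obtain ⟨n, f, g, -, -, hfg⟩ := Module.Finite.exists_comp_eq_id_of_projective R M
  have hpos : 0 < Module.rankAtStalk M ⟨𝔪, h𝔪.isPrime⟩ := by rw [h]; exact Nat.one_pos
  rw [Module.rankAtStalk_pos_iff_mem_support,
    Module.mem_support_iff_nontrivial_residueField_tensorProduct] at hpos
  have hzero : ∀ z : 𝔪.ResidueField ⊗[R] M, z = 0 := by
    intro z
    induction z using TensorProduct.induction_on with
    | zero => rfl
    | add a b ha hb => rw [ha, hb, add_zero]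
    | tmul c m =>
      have hm : m = ∑ l : Fin n, (g m l) • f (Pi.single l 1) := by
        have h1 : m = f (g m) := by
          have := LinearMap.congr_fun hfg m
          simpa using this.symm
        conv_lhs => rw [h1]
        have h2 : g m = ∑ l : Fin n, (g m l) • (Pi.single l 1 : Fin n → R) := by
          funext j
          simp [Finset.sum_apply, Pi.single_apply]
        conv_lhs => rw [h2]
        simp [map_sum]
      rw [hm, TensorProduct.tmul_sum]
      apply Finset.sum_eq_zero
      intro l _
      have hmem : g m l ∈ 𝔪 := by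
        apply hle
        refine ⟨((LinearMap.proj l : (Fin n → R) →ₗ[R] R) ∘ₗ g) ⊗ₜ[R] m, ?_⟩
        rw [contractLeft_apply]
        rfl
      rw [TensorProduct.tmul_smul, TensorProduct.smul_tmul', Algebra.smul_def,
        (Ideal.algebraMap_residueField_eq_zero).mpr hmem, zero_mul, TensorProduct.zero_tmul]
  obtain ⟨a, b, hab⟩ := hpos
  exact hab ((hzero a).trans (hzero b).symm)

/-- **A finite projective module of constant rank one is invertible.** -/
theorem invertible_of_rankAtStalk_eq_one (h : ∀ q : PrimeSpectrum R, Module.rankAtStalk M q = 1) :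
    Module.Invertible R M := by
  obtain ⟨t₀, ht₀⟩ := exists_contract_eq_one h
  refine ⟨⟨?_, ?_⟩⟩
  · rw [injective_iff_map_eq_zero]
    intro t ht
    have := contract_smul_comm h t₀ t
    rw [ht₀, ht, one_smul, zero_smul] at this
    exact this
  · intro r
    exact ⟨r • t₀, by rw [map_smul, ht₀, smul_eq_mul, mul_one]⟩

end Main

end Groth.Agent.Lib.Helper16.InvRank
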