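import Mathlib
import Groth.Agent.Lib.Helper16.FinHopfIntegral
import Groth.Agent.Lib.Helper27.HopfAntipode

/-!
# Integrals of finite-dimensional commutative Hopf algebras (Larson–Sweedler) (helper16)

For a finite-dimensional commutative Hopf algebra `H` over a field `k` there are a linear form
`t : H → k` and an element `T : H` with `x₁ t(x₂) = t(x) 1` (a left integral) and
`t (T x) = ε x` (the Frobenius property).  The integral is produced by the trace construction
`t'(x) = Tr (L_x ∘ R_f)`, `R_f x = f(x₁) x₂`.
-/

set_option autoImplicit false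

namespace Groth.Agent.Lib.Helper16.LS

open TensorProduct WithConv Groth.Agent.Lib.Helper16.FinHopf

universe u v

section Shear

variable {k : Type u} [Field k] {H : Type v} [CommRing H] [HopfAlgebra k H]

/-- the opposite shear `a ⊗ x ↦ a x₂ ⊗ x₁`, linear over the left factor -/
noncomputable def shearOp : H ⊗[k] H →ₐ[H] H ⊗[k] H :=
  Algebra.TensorProduct.lift (Algebra.ofId H (H ⊗[k] H))
    ((Algebra.TensorProduct.comm k H H).toAlgHom.comp (Bialgebra.comulAlgHom k H))
    (fun _ _ => Commute.all _ _)

theorem shearOp_tmul (a x : H) :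
    shearOp (k := k) (a ⊗ₜ[k] x) =
      (a ⊗ₜ[k] (1 : H)) * TensorProduct.comm k H H (CoalgebraStruct.comul (R := k) x) := by
  rw [shearOp, Algebra.TensorProduct.lift_tmul]
  rfl

theorem shearOp_eq (z : H ⊗[k] H) :
    shearOp (k := k) z = TensorProduct.comm k H H (shearΨ k H (TensorProduct.comm k H H z)) := by
  induction z using TensorProduct.induction_on with
  | zero => simp
  | add x y hx hy => rw [map_add, hx, hy, map_add, map_add, map_add]
  | tmul a x =>
    rw [shearOp_tmul, TensorProduct.comm_tmul, shearΨ, Algebra.TensorProduct.lift_tmul,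
      Bialgebra.comulAlgHom_apply, Algebra.TensorProduct.includeRight_apply]
    generalize CoalgebraStruct.comul (R := k) x = t
    induction t using TensorProduct.induction_on with
    | zero => simp
    | add x y hx hy => rw [map_add, mul_add, hx, hy, add_mul, map_add]
    | tmul b c =>
      rw [TensorProduct.comm_tmul, Algebra.TensorProduct.tmul_mul_tmul,
        Algebra.TensorProduct.tmul_mul_tmul, TensorProduct.comm_tmul, mul_one, one_mul,
        mul_comm]

theorem shearOp_bijective : Function.Bijective (shearOp (k := k) (H := H)) := by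
  have h : ⇑(shearOp (k := k) (H := H)) =
      ⇑(TensorProduct.comm k H H) ∘ ⇑(shearEquiv k H) ∘ ⇑(TensorProduct.comm k H H) := by
    funext z
    exact shearOp_eq z
  rw [h]
  exact (TensorProduct.comm k H H).bijective.comp
    ((shearEquiv k H).bijective.comp (TensorProduct.comm k H H).bijective)

/-- the opposite shear as an `H`-linear equivalence -/
noncomputable def shearOpEquiv : (H ⊗[k] H) ≃ₗ[H] (H ⊗[k] H) :=
  LinearEquiv.ofBijective (shearOp (k := k) (H := H)).toLinearMap shearOp_bijective

theorem shearOpEquiv_apply (z : H ⊗[k] H) : shearOpEquiv (k := k) z = shearOp (k := k) z := rfl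

end Shear

section Cov

variable {k : Type u} [Field k] {H : Type v} [CommRing H] [HopfAlgebra k H]

/-- `R_f x = f(x₁) x₂` -/
noncomputable def RL (f : H →ₗ[k] k) : H →ₗ[k] H :=
  contractL f ∘ₗ CoalgebraStruct.comul (R := k)

theorem RL_apply (f : H →ₗ[k] k) (x : H) :
    RL f x = contractL f (CoalgebraStruct.comul (R := k) x) := rfl

/-- `a ⊗ s ↦ f a • s` -/
noncomputable def contractL₃ (f : H →ₗ[k] k) : H ⊗[k] (H ⊗[k] H) →ₗ[k] H ⊗[k] H :=
  (TensorProduct.lid k (H ⊗[k] H)).toLinearMap ∘ₗ LinearMap.rTensor (H ⊗[k] H) f

@[simp] theorem contractL₃_tmul (f : H →ₗ[k] k) (a : H) (s : H ⊗[k] H) :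
    contractL₃ f (a ⊗ₜ[k] s) = f a • s := by
  simp [contractL₃]

theorem comul_contractL (f : H →ₗ[k] k) (t : H ⊗[k] H) :
    CoalgebraStruct.comul (R := k) (contractL f t) =
      contractL₃ f (LinearMap.lTensor H (CoalgebraStruct.comul (R := k)) t) := by
  induction t using TensorProduct.induction_on with
  | zero => simp
  | add x y hx hy => simp only [map_add, hx, hy]
  | tmul a b => simp

theorem rTensor_RL_aux (f : H →ₗ[k] k) (s : H ⊗[k] H) (b : H) :
    contractL f s ⊗ₜ[k] b = contractL₃ f (TensorProduct.assoc k H H H (s ⊗ₜ[k] b)) := by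
  induction s using TensorProduct.induction_on with
  | zero => simp
  | add x y hx hy => rw [map_add, TensorProduct.add_tmul, hx, hy, TensorProduct.add_tmul, map_add,
      map_add]
  | tmul a c => simp [TensorProduct.smul_tmul']

theorem rTensor_RL (f : H →ₗ[k] k) (t : H ⊗[k] H) :
    LinearMap.rTensor H (RL f) t =
      contractL₃ f (TensorProduct.assoc k H H H
        (LinearMap.rTensor H (CoalgebraStruct.comul (R := k)) t)) := by
  induction t using TensorProduct.induction_on with
  | zero => simp
  | add x y hx hy => simp only [map_add, hx, hy]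
  | tmul a b =>
    rw [LinearMap.rTensor_tmul, LinearMap.rTensor_tmul, RL_apply, rTensor_RL_aux]

/-- `R_f` is covariant: `Δ (R_f x) = (R_f ⊗ id) (Δ x)` -/
theorem comul_RL (f : H →ₗ[k] k) (x : H) :
    CoalgebraStruct.comul (R := k) (RL f x) =
      LinearMap.rTensor H (RL f) (CoalgebraStruct.comul (R := k) x) := by
  rw [rTensor_RL, Coalgebra.coassoc_apply, RL_apply, comul_contractL]

theorem baseChange_comm (E : H →ₗ[k] H) (t : H ⊗[k] H) :
    E.baseChange H (TensorProduct.comm k H H t) =
      TensorProduct.comm k H H (LinearMap.rTensor H E t) := by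
  induction t using TensorProduct.induction_on with
  | zero => simp
  | add x y hx hy => simp only [map_add, hx, hy]
  | tmul a b => simp

/-- the opposite shear commutes with the base change of a covariant operator -/
theorem shearOp_baseChange (E : H →ₗ[k] H)
    (hE : ∀ x, CoalgebraStruct.comul (R := k) (E x) =
      LinearMap.rTensor H E (CoalgebraStruct.comul (R := k) x)) (z : H ⊗[k] H) :
    shearOp (k := k) (E.baseChange H z) = E.baseChange H (shearOp (k := k) z) := by
  induction z using TensorProduct.induction_on with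
  | zero => simp
  | add x y hx hy => simp only [map_add, hx, hy]
  | tmul a x =>
    rw [LinearMap.baseChange_tmul, shearOp_tmul, shearOp_tmul, hE, ← baseChange_comm]
    have h1 : ∀ w : H ⊗[k] H, (a ⊗ₜ[k] (1 : H)) * w = a • w := by
      intro w
      rw [Algebra.smul_def]
      rfl
    rw [h1, h1, map_smul]

end Cov

section Trace

variable {k : Type u} [Field k] {H : Type v} [CommRing H] [HopfAlgebra k H] [Module.Finite k H]

/-- `x ↦ Tr (L_x ∘ E)` -/
noncomputable def trE (E : H →ₗ[k] H) : H →ₗ[k] k :=
  (LinearMap.trace k H) ∘ₗ (LinearMap.lcomp k H E) ∘ₗ (LinearMap.mul k H)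

theorem trE_apply (E : H →ₗ[k] H) (x : H) :
    trE E x = LinearMap.trace k H (LinearMap.mulLeft k x ∘ₗ E) := rfl

theorem trace_mulLeft_baseChange (E : H →ₗ[k] H) (z : H ⊗[k] H) :
    LinearMap.trace H (H ⊗[k] H) (LinearMap.mulLeft H z ∘ₗ E.baseChange H) =
      contractR (trE E) z := by
  induction z using TensorProduct.induction_on with
  | zero =>
    have : LinearMap.mulLeft H (0 : H ⊗[k] H) = 0 := by
      apply LinearMap.ext; intro w; simp
    rw [this, LinearMap.zero_comp, map_zero, map_zero]
  | add x y hx hy =>
    have : LinearMap.mulLeft H (x + y) = LinearMap.mulLeft H x + LinearMap.mulLeft H y := by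
      apply LinearMap.ext; intro w; simp [add_mul]
    rw [this, LinearMap.add_comp, map_add, hx, hy, map_add]
  | tmul a b =>
    have h1 : LinearMap.mulLeft H (a ⊗ₜ[k] b) ∘ₗ E.baseChange H =
        a • (LinearMap.mulLeft k b ∘ₗ E).baseChange H := by
      apply LinearMap.ext
      intro w
      induction w using TensorProduct.induction_on with
      | zero => simp
      | add x y hx hy => rw [map_add, hx, hy, map_add]
      | tmul c x =>
        simp [Algebra.TensorProduct.tmul_mul_tmul, TensorProduct.smul_tmul']
    rw [h1, map_smul, LinearMap.trace_baseChange, contractR_tmul, trE_apply, Algebra.smul_def,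
      Algebra.smul_def (R := k), mul_comm]
    rfl

omit [Module.Finite k H] in
theorem contractR_comm (g : H →ₗ[k] k) (t : H ⊗[k] H) :
    contractR g (TensorProduct.comm k H H t) = contractL g t := by
  induction t using TensorProduct.induction_on with
  | zero => simp
  | add x y hx hy => simp only [map_add, hx, hy]
  | tmul a b => simp

/-- the trace form of a covariant operator is a right integral: `t(x₁) x₂ = t(x) 1` -/
theorem trE_rightIntegral (E : H →ₗ[k] H)
    (hE : ∀ x, CoalgebraStruct.comul (R := k) (E x) =
      LinearMap.rTensor H E (CoalgebraStruct.comul (R := k) x)) (x : H) :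
    contractL (trE E) (CoalgebraStruct.comul (R := k) x) = trE E x • (1 : H) := by
  have hconj : LinearMap.mulLeft H (shearOp (k := k) ((1 : H) ⊗ₜ[k] x)) ∘ₗ E.baseChange H =
      (shearOpEquiv (k := k) (H := H)).conj
        (LinearMap.mulLeft H ((1 : H) ⊗ₜ[k] x) ∘ₗ E.baseChange H) := by
    apply LinearMap.ext
    intro w
    obtain ⟨w', rfl⟩ := (shearOpEquiv (k := k) (H := H)).surjective w
    rw [LinearEquiv.conj_apply]
    simp only [LinearMap.coe_comp, LinearEquiv.coe_coe, Function.comp_apply,
      LinearMap.mulLeft_apply]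
    rw [LinearEquiv.symm_apply_apply, shearOpEquiv_apply, shearOpEquiv_apply, map_mul,
      shearOp_baseChange E hE]
  have h1 := congrArg (LinearMap.trace H (H ⊗[k] H)) hconj
  rw [LinearMap.trace_conj', trace_mulLeft_baseChange, trace_mulLeft_baseChange, shearOp_tmul] at h1
  have h2 : ((1 : H) ⊗ₜ[k] (1 : H)) = (1 : H ⊗[k] H) := rfl
  rw [h2, one_mul, contractR_comm, contractR_tmul] at h1
  exact h1

omit [Module.Finite k H] in
theorem conv_dualTensorHom_id (f : H →ₗ[k] k) (x : H) :
    (toConv (dualTensorHom k H H (f ⊗ₜ[k] x)) * toConv (LinearMap.id : H →ₗ[k] H)).ofConv =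
      LinearMap.mulLeft k x ∘ₗ RL f := by
  apply LinearMap.ext
  intro h
  show (toConv (dualTensorHom k H H (f ⊗ₜ[k] x)) * toConv (LinearMap.id : H →ₗ[k] H)) h = _
  rw [LinearMap.convMul_apply, LinearMap.comp_apply, RL_apply, LinearMap.mulLeft_apply]
  generalize CoalgebraStruct.comul (R := k) h = t
  induction t using TensorProduct.induction_on with
  | zero => simp
  | add a b ha hb => simp only [map_add, ha, hb, mul_add]
  | tmul a b => simp [dualTensorHom_apply]

/-- some trace form `Tr (L_x ∘ R_f)` does not vanish -/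
theorem exists_trE_ne_zero : ∃ (f : H →ₗ[k] k) (x : H), trE (RL f) x ≠ 0 := by
  by_contra hcon
  push Not at hcon
  have key : ∀ E' : H →ₗ[k] H,
      LinearMap.trace k H (toConv E' * toConv (LinearMap.id : H →ₗ[k] H)).ofConv = 0 := by
    intro E'
    obtain ⟨s, rfl⟩ : ∃ s, dualTensorHom k H H s = E' :=
      (dualTensorHomEquiv k H H).surjective E'
    induction s using TensorProduct.induction_on with
    | zero => simp
    | add a b ha hb =>
      rw [map_add, WithConv.toConv_add, add_mul, WithConv.ofConv_add, map_add, ha, hb, add_zero]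
    | tmul f x =>
      rw [conv_dualTensorHom_id]
      exact hcon f x
  set E₀ : H →ₗ[k] H := dualTensorHom k H H
    ((CoalgebraStruct.counit (R := k) (A := H)) ⊗ₜ[k] (1 : H)) with hE₀
  have h1 : LinearMap.trace k H E₀ = 1 := by
    rw [hE₀, LinearMap.trace_eq_contract_apply, contractLeft_apply, Bialgebra.counit_one]
  have h2 := key (toConv E₀ * toConv (HopfAlgebra.antipode k (A := H))).ofConv
  rw [WithConv.toConv_ofConv, mul_assoc, LinearMap.antipode_mul_id, mul_one,
    WithConv.ofConv_toConv, h1] at h2
  exact one_ne_zero h2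

end Trace

section Frobenius

variable {k : Type u} [Field k] {H : Type v} [CommRing H] [HopfAlgebra k H] [Module.Finite k H]

/-- `a ↦ t (a ·)` -/
noncomputable def kap (t : H →ₗ[k] k) : H →ₗ[k] Module.Dual k H :=
  LinearMap.compr₂ (LinearMap.mul k H) t

omit [Module.Finite k H] in
theorem kap_apply (t : H →ₗ[k] k) (a x : H) : kap t a x = t (a * x) := rfl

variable (t : H →ₗ[k] k)
  (ht : ∀ x : H, contractL t (CoalgebraStruct.comul (R := k) x) = t x • (1 : H))

omit [Module.Finite k H] in
theorem contractR_mul_left (a : H) (u : H ⊗[k] H) :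
    contractR t ((a ⊗ₜ[k] (1 : H)) * u) = a * contractR t u := by
  induction u using TensorProduct.induction_on with
  | zero => simp
  | add x y hx hy => rw [mul_add, map_add, hx, hy, map_add, mul_add]
  | tmul b c => simp [Algebra.TensorProduct.tmul_mul_tmul]

include ht in
omit [Module.Finite k H] in
theorem contractR_shearOp (w : H ⊗[k] H) :
    contractR t (shearOp (k := k) w) = contractR t w := by
  induction w using TensorProduct.induction_on with
  | zero => simp
  | add x y hx hy => rw [map_add, map_add, hx, hy, map_add]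
  | tmul a x =>
    rw [shearOp_tmul, contractR_mul_left, contractR_comm, ht, contractR_tmul, mul_smul_comm,
      mul_one]

omit [Module.Finite k H] in
theorem contractR_one_tmul_mul {h : H} (hh : kap t h = 0) (w : H ⊗[k] H) :
    contractR t (((1 : H) ⊗ₜ[k] h) * w) = 0 := by
  induction w using TensorProduct.induction_on with
  | zero => simp
  | add x y hx hy => rw [mul_add, map_add, hx, hy, add_zero]
  | tmul a x =>
    rw [Algebra.TensorProduct.tmul_mul_tmul, contractR_tmul, one_mul, ← kap_apply, hh]
    simp

omit [Module.Finite k H] in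
theorem contractR_comm_mul (s : H ⊗[k] H) (z : H) :
    contractR t (TensorProduct.comm k H H s * ((1 : H) ⊗ₜ[k] z)) =
      dualTensorHom k H H (LinearMap.rTensor H (kap t) s) z := by
  induction s using TensorProduct.induction_on with
  | zero => simp
  | add x y hx hy => simp only [map_add, add_mul, hx, hy, LinearMap.add_apply]
  | tmul a b =>
    simp [Algebra.TensorProduct.tmul_mul_tmul, dualTensorHom_apply, kap_apply]

include ht in
theorem rTensor_kap_comul {h : H} (hh : kap t h = 0) :
    LinearMap.rTensor H (kap t) (CoalgebraStruct.comul (R := k) h) = 0 := by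
  apply (dualTensorHomEquiv k H H).injective
  rw [map_zero]
  apply LinearMap.ext
  intro z
  show dualTensorHom k H H _ z = 0
  rw [← contractR_comm_mul]
  have h1 : TensorProduct.comm k H H (CoalgebraStruct.comul (R := k) h) =
      shearOp (k := k) ((1 : H) ⊗ₜ[k] h) := by
    rw [shearOp_tmul]
    exact (one_mul _).symm
  obtain ⟨w', hw'⟩ := (shearOp_bijective (k := k) (H := H)).2 ((1 : H) ⊗ₜ[k] z)
  rw [h1, ← hw', ← map_mul, contractR_shearOp t ht, contractR_one_tmul_mul t hh]

/-- `φ ⊗ b ↦ φ (S b ·)` -/
noncomputable def twistS : Module.Dual k H ⊗[k] H →ₗ[k] Module.Dual k H :=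
  TensorProduct.lift (LinearMap.mk₂ k
    (fun (φ : Module.Dual k H) (b : H) => φ ∘ₗ LinearMap.mulLeft k (HopfAlgebra.antipode k b))
    (fun φ φ' b => by rw [LinearMap.add_comp])
    (fun c φ b => by rw [LinearMap.smul_comp])
    (fun φ b b' => by
      apply LinearMap.ext; intro x
      simp [add_mul])
    (fun c φ b => by
      apply LinearMap.ext; intro x
      simp))

omit [Module.Finite k H] in
theorem twistS_tmul (φ : Module.Dual k H) (b x : H) :
    twistS (φ ⊗ₜ[k] b) x = φ (HopfAlgebra.antipode k b * x) := rfl

omit [Module.Finite k H] in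
theorem twistS_rTensor_kap (s : H ⊗[k] H) :
    twistS (LinearMap.rTensor H (kap t) s) =
      kap t (LinearMap.mul' k H (LinearMap.lTensor H (HopfAlgebra.antipode k) s)) := by
  induction s using TensorProduct.induction_on with
  | zero => simp
  | add x y hx hy => simp only [map_add, hx, hy]
  | tmul a b =>
    apply LinearMap.ext
    intro x
    rw [LinearMap.rTensor_tmul, twistS_tmul, kap_apply, LinearMap.lTensor_tmul,
      LinearMap.mul'_apply, kap_apply, mul_assoc]

include ht in
theorem counit_eq_zero_of_kap_eq_zero (ht0 : t ≠ 0) {h : H} (hh : kap t h = 0) :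
    CoalgebraStruct.counit (R := k) h = 0 := by
  have h1 := twistS_rTensor_kap t (CoalgebraStruct.comul (R := k) h)
  rw [rTensor_kap_comul t ht hh, map_zero, HopfAlgebra.mul_antipode_lTensor_comul_apply,
    Algebra.algebraMap_eq_smul_one, map_smul] at h1
  by_contra hne
  apply ht0
  have h2 : kap t (1 : H) = 0 := by
    have := congrArg (fun φ => (CoalgebraStruct.counit (R := k) h)⁻¹ • φ) h1.symm
    simpa [smul_smul, inv_mul_cancel₀ hne] using this
  apply LinearMap.ext
  intro x
  have := LinearMap.congr_fun h2 x
  rwa [kap_apply, one_mul] at this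

include ht in
/-- a nonzero right integral is a nondegenerate form -/
theorem kap_injective (ht0 : t ≠ 0) : Function.Injective (kap t) := by
  rw [← LinearMap.ker_eq_bot]
  have hle : LinearMap.ker (kap t) ≤ LinearMap.ker (CoalgebraStruct.counit (R := k) (A := H)) := by
    intro h hh
    exact counit_eq_zero_of_kap_eq_zero t ht ht0 hh
  set κb := (LinearMap.ker (kap t)).liftQ (kap t) le_rfl with hκb
  have hκb0 : LinearMap.ker κb = ⊥ := Submodule.ker_liftQ_eq_bot _ _ _ le_rfl
  obtain ⟨g, hg⟩ := LinearMap.exists_leftInverse_of_injective κb hκb0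
  set εb := (LinearMap.ker (kap t)).liftQ (CoalgebraStruct.counit (R := k) (A := H)) hle
  set ψ : Module.Dual k H →ₗ[k] k := εb ∘ₗ g with hψ
  have hψκ : ∀ a : H, ψ (kap t a) = CoalgebraStruct.counit (R := k) a := by
    intro a
    have h1 : kap t a = κb ((LinearMap.ker (kap t)).mkQ a) := rfl
    rw [hψ, LinearMap.comp_apply, h1]
    have h2 := LinearMap.congr_fun hg ((LinearMap.ker (kap t)).mkQ a)
    rw [LinearMap.comp_apply, LinearMap.id_apply] at h2
    rw [h2]
    rfl
  rw [eq_bot_iff]
  intro h hh
  rw [LinearMap.mem_ker] at hh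
  have h1 := rTensor_kap_comul t ht hh
  have h2 : LinearMap.rTensor H (CoalgebraStruct.counit (R := k) (A := H))
      (CoalgebraStruct.comul (R := k) h) =
      LinearMap.rTensor H ψ (LinearMap.rTensor H (kap t) (CoalgebraStruct.comul (R := k) h)) := by
    have h3 : (CoalgebraStruct.counit (R := k) (A := H)) = ψ ∘ₗ kap t := by
      apply LinearMap.ext
      intro a
      exact (hψκ a).symm
    rw [← LinearMap.rTensor_comp_apply, ← h3]
  rw [h1, map_zero, Coalgebra.rTensor_counit_comul] at h2
  have h3 := congrArg (TensorProduct.lid k H) h2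
  rw [TensorProduct.lid_tmul, one_smul, map_zero] at h3
  rw [Submodule.mem_bot]
  exact h3

include ht in
/-- Frobenius property of a nonzero right integral -/
theorem exists_frobenius (ht0 : t ≠ 0) :
    ∃ T : H, ∀ x : H, t (T * x) = CoalgebraStruct.counit (R := k) x := by
  have hinj := kap_injective t ht ht0
  have hdim : Module.finrank k H = Module.finrank k (Module.Dual k H) :=
    (Subspace.dual_finrank_eq).symm
  have hsurj := (LinearMap.injective_iff_surjective_of_finrank_eq_finrank hdim).1 hinj
  obtain ⟨T, hT⟩ := hsurj (CoalgebraStruct.counit (R := k) (A := H))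
  refine ⟨T, fun x => ?_⟩
  rw [← kap_apply, hT]

omit [Module.Finite k H] in
theorem antipode_contractL_map (t' : H →ₗ[k] k) (s : H ⊗[k] H) :
    HopfAlgebra.antipode k (contractL t'
      (TensorProduct.map (HopfAlgebra.antipode k) (HopfAlgebra.antipode k)
        (TensorProduct.comm k H H s))) =
      contractR (t' ∘ₗ HopfAlgebra.antipode k) s := by
  induction s using TensorProduct.induction_on with
  | zero => simp
  | add x y hx hy => simp only [map_add, hx, hy]
  | tmul a b =>
    simp [Groth.Agent.Lib.Helper27.HopfAnt.antipode_antipode]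

/-- **Larson–Sweedler** for finite-dimensional commutative Hopf algebras: there is a left integral
`t` (`x₁ t(x₂) = t(x) 1`) with the Frobenius property `t (T x) = ε x`. -/
theorem exists_leftIntegral :
    ∃ (t : H →ₗ[k] k) (T : H),
      (∀ x : H, contractR t (CoalgebraStruct.comul (R := k) x) = t x • (1 : H)) ∧
      (∀ x : H, t (T * x) = CoalgebraStruct.counit (R := k) x) := by
  obtain ⟨f, x₀, hne⟩ := exists_trE_ne_zero (k := k) (H := H)
  set t' := trE (RL f) with ht'
  have hint : ∀ x : H, contractL t' (CoalgebraStruct.comul (R := k) x) = t' x • (1 : H) :=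
    trE_rightIntegral (RL f) (comul_RL f)
  have ht'0 : t' ≠ 0 := by
    intro h0
    apply hne
    rw [h0]
    rfl
  obtain ⟨T', hT'⟩ := exists_frobenius t' hint ht'0
  refine ⟨t' ∘ₗ HopfAlgebra.antipode k, HopfAlgebra.antipode k T', ?_, ?_⟩
  · intro x
    rw [← antipode_contractL_map, ← Groth.Agent.Lib.Helper27.HopfAnt.comul_antipode, hint,
      map_smul, HopfAlgebra.antipode_one, LinearMap.comp_apply]
  · intro x
    rw [LinearMap.comp_apply]
    have h1 : HopfAlgebra.antipode k (HopfAlgebra.antipode k T' * x) =
        T' * HopfAlgebra.antipode k x := by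
      have := map_mul (HopfAlgebra.antipodeAlgHom k H) (HopfAlgebra.antipode k T') x
      simp only [HopfAlgebra.antipodeAlgHom_apply] at this
      rw [this, Groth.Agent.Lib.Helper27.HopfAnt.antipode_antipode]
    rw [h1, hT', HopfAlgebra.counit_antipode]

end Frobenius

end Groth.Agent.Lib.Helper16.LS
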