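import Mathlib
import Groth.Agent.Lib.Helper16.LSIntegral
import Groth.Agent.Lib.Helper16.FinHopfTransl

/-!
# Quotient of a finite group scheme by a subgroup scheme: freeness over the invariants (helper16)

`A` a finite-dimensional commutative Hopf algebra over a field `k`, `I` a Hopf ideal, `B ⊆ A` the
invariants of the coaction `a ↦ a₁ ⊗ [a₂]`.  With a left integral `t` of `A ⧸ I` (Larson–Sweedler)
the trace `a ↦ a₁ t[a₂]` lands in `B`, and the Kreimer–Takeuchi dual basis shows that `A` is
projective over `B`; over an algebraically closed field every fibre `A ⧸ P A` is `A ⧸ I`.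
-/

set_option autoImplicit false

namespace Groth.Agent.Lib.Helper16.LS

open TensorProduct WithConv Groth.Agent.Lib.Helper16.FinHopf

universe u v

section RR

variable {k : Type u} [Field k] {A : Type v} [CommRing A] [HopfAlgebra k A]

/-- `a ↦ a₁ g(a₂)` -/
noncomputable def RR (g : A →ₗ[k] k) : A →ₗ[k] A :=
  contractR g ∘ₗ CoalgebraStruct.comul (R := k)

theorem RR_apply (g : A →ₗ[k] k) (x : A) :
    RR g x = contractR g (CoalgebraStruct.comul (R := k) x) := rfl

/-- `s ⊗ a ↦ g a • s` -/
noncomputable def contractR₃ (g : A →ₗ[k] k) : (A ⊗[k] A) ⊗[k] A →ₗ[k] A ⊗[k] A :=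
  (TensorProduct.rid k (A ⊗[k] A)).toLinearMap ∘ₗ LinearMap.lTensor (A ⊗[k] A) g

@[simp] theorem contractR₃_tmul (g : A →ₗ[k] k) (s : A ⊗[k] A) (a : A) :
    contractR₃ g (s ⊗ₜ[k] a) = g a • s := by
  simp [contractR₃]

theorem comul_contractR (g : A →ₗ[k] k) (t : A ⊗[k] A) :
    CoalgebraStruct.comul (R := k) (contractR g t) =
      contractR₃ g (LinearMap.rTensor A (CoalgebraStruct.comul (R := k)) t) := by
  induction t using TensorProduct.induction_on with
  | zero => simp
  | add x y hx hy => simp only [map_add, hx, hy]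
  | tmul a b => simp

theorem lTensor_RR_aux (g : A →ₗ[k] k) (a : A) (s : A ⊗[k] A) :
    a ⊗ₜ[k] contractR g s = contractR₃ g ((TensorProduct.assoc k A A A).symm (a ⊗ₜ[k] s)) := by
  induction s using TensorProduct.induction_on with
  | zero => simp
  | add x y hx hy => rw [map_add, TensorProduct.tmul_add, hx, hy, TensorProduct.tmul_add, map_add,
      map_add]
  | tmul c d => simp [TensorProduct.tmul_smul]

theorem lTensor_RR (g : A →ₗ[k] k) (t : A ⊗[k] A) :
    LinearMap.lTensor A (RR g) t =
      contractR₃ g ((TensorProduct.assoc k A A A).symm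
        (LinearMap.lTensor A (CoalgebraStruct.comul (R := k)) t)) := by
  induction t using TensorProduct.induction_on with
  | zero => simp
  | add x y hx hy => simp only [map_add, hx, hy]
  | tmul a b =>
    rw [LinearMap.lTensor_tmul, LinearMap.lTensor_tmul, RR_apply, lTensor_RR_aux]

/-- `Δ (R^g x) = (id ⊗ R^g) (Δ x)` -/
theorem comul_RR (g : A →ₗ[k] k) (x : A) :
    CoalgebraStruct.comul (R := k) (RR g x) =
      LinearMap.lTensor A (RR g) (CoalgebraStruct.comul (R := k) x) := by
  rw [lTensor_RR, Coalgebra.coassoc_symm_apply, RR_apply, comul_contractR]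

end RR

section Quot

variable {k : Type u} [Field k] {A : Type v} [CommRing A] [HopfAlgebra k A]
  (I : Ideal A) [I.IsHopfIdeal k]

/-- the coaction `a ↦ a₁ ⊗ [a₂]` -/
noncomputable def rho : A →ₐ[k] A ⊗[k] (A ⧸ I) :=
  (Algebra.TensorProduct.map (AlgHom.id k A) (Ideal.Quotient.mkₐ k I)).comp
    (Bialgebra.comulAlgHom k A)

theorem rho_apply (a : A) :
    rho I a = LinearMap.lTensor A (Ideal.Quotient.mkₐ k I).toLinearMap
      (CoalgebraStruct.comul (R := k) a) := by
  show Algebra.TensorProduct.map (AlgHom.id k A) (Ideal.Quotient.mkₐ k I)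
    (CoalgebraStruct.comul (R := k) a) = _
  generalize CoalgebraStruct.comul (R := k) a = t
  induction t using TensorProduct.induction_on with
  | zero => simp
  | add x y hx hy => simp only [map_add, hx, hy]
  | tmul a b => rfl

/-- the invariants -/
noncomputable def Binv : Subalgebra k A :=
  AlgHom.equalizer (rho I) (Algebra.TensorProduct.includeLeft : A →ₐ[k] A ⊗[k] (A ⧸ I))

theorem mem_Binv {b : A} : b ∈ Binv (k := k) I ↔ rho I b = b ⊗ₜ[k] (1 : A ⧸ I) := Iff.rfl

theorem comul_mk (a : A) :
    CoalgebraStruct.comul (R := k) (Ideal.Quotient.mk I a) =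
      TensorProduct.map (Ideal.Quotient.mkₐ k I).toLinearMap (Ideal.Quotient.mkₐ k I).toLinearMap
        (CoalgebraStruct.comul (R := k) a) :=
  (CoalgHomClass.map_comp_comul_apply (Bialgebra.Quotient.mkBialgHom (R := k) I) a).symm

theorem counit_mk (a : A) :
    CoalgebraStruct.counit (R := k) (Ideal.Quotient.mk I a) = CoalgebraStruct.counit (R := k) a :=
  CoalgHomClass.counit_comp_apply (Bialgebra.Quotient.mkBialgHom (R := k) I) a

variable (t : (A ⧸ I) →ₗ[k] k)

/-- the functional `t ∘ π` -/
noncomputable def gI : A →ₗ[k] k := t ∘ₗ (Ideal.Quotient.mkₐ k I).toLinearMap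

omit [I.IsHopfIdeal k] in
theorem gI_apply (a : A) : gI I t a = t (Ideal.Quotient.mk I a) := rfl

theorem mk_contractR (s : A ⊗[k] A) :
    Ideal.Quotient.mk I (contractR (gI I t) s) =
      contractR t (TensorProduct.map (Ideal.Quotient.mkₐ k I).toLinearMap
        (Ideal.Quotient.mkₐ k I).toLinearMap s) := by
  induction s using TensorProduct.induction_on with
  | zero => simp
  | add x y hx hy => simp only [map_add, hx, hy]
  | tmul a b =>
    rw [contractR_tmul, TensorProduct.map_tmul, contractR_tmul]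
    simp only [AlgHom.toLinearMap_apply, Ideal.Quotient.mkₐ_eq_mk, gI_apply]
    rw [Algebra.smul_def, map_mul, Algebra.smul_def]
    rfl

variable (ht : ∀ q : A ⧸ I, contractR t (CoalgebraStruct.comul (R := k) q) = t q • (1 : A ⧸ I))

include ht in
theorem mk_RR (x : A) : Ideal.Quotient.mk I (RR (gI I t) x) = gI I t x • (1 : A ⧸ I) := by
  rw [RR_apply, mk_contractR, ← comul_mk, ht, gI_apply]

omit [I.IsHopfIdeal k] in
theorem lTensor_smul_one (g : A →ₗ[k] k) (f : A →ₗ[k] A ⧸ I)
    (hf : ∀ x, f x = g x • (1 : A ⧸ I)) (s : A ⊗[k] A) :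
    LinearMap.lTensor A f s = contractR g s ⊗ₜ[k] (1 : A ⧸ I) := by
  induction s using TensorProduct.induction_on with
  | zero => simp
  | add x y hx hy => rw [map_add, hx, hy, map_add, TensorProduct.add_tmul]
  | tmul a b =>
    rw [LinearMap.lTensor_tmul, hf, contractR_tmul, TensorProduct.tmul_smul,
      TensorProduct.smul_tmul']

include ht in
/-- the trace lands in the invariants -/
theorem RR_mem_Binv (a : A) : RR (gI I t) a ∈ Binv (k := k) I := by
  rw [mem_Binv, rho_apply, comul_RR, ← LinearMap.lTensor_comp_apply]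
  exact lTensor_smul_one I (gI I t) _ (fun x => mk_RR I t ht x) _

/-- `a ⊗ q ↦ t q • a` -/
noncomputable def cRQ : A ⊗[k] (A ⧸ I) →ₗ[k] A :=
  (TensorProduct.rid k A).toLinearMap ∘ₗ LinearMap.lTensor A t

omit [I.IsHopfIdeal k] in
@[simp] theorem cRQ_tmul (a : A) (q : A ⧸ I) : cRQ I t (a ⊗ₜ[k] q) = t q • a := by
  simp [cRQ]

omit [I.IsHopfIdeal k] in
theorem cRQ_mul_left (b : A) (u : A ⊗[k] (A ⧸ I)) :
    cRQ I t ((b ⊗ₜ[k] (1 : A ⧸ I)) * u) = b * cRQ I t u := by
  induction u using TensorProduct.induction_on with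
  | zero => simp
  | add x y hx hy => rw [mul_add, map_add, hx, hy, map_add, mul_add]
  | tmul a q => simp [Algebra.TensorProduct.tmul_mul_tmul]

omit [I.IsHopfIdeal k] in
theorem contractR_gI (s : A ⊗[k] A) :
    contractR (gI I t) s =
      cRQ I t (Algebra.TensorProduct.map (AlgHom.id k A) (Ideal.Quotient.mkₐ k I) s) := by
  induction s using TensorProduct.induction_on with
  | zero => simp
  | add x y hx hy => simp only [map_add, hx, hy]
  | tmul a b => simp [gI_apply]

omit [I.IsHopfIdeal k] in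
theorem RR_eq_cRQ (x : A) : RR (gI I t) x = cRQ I t (rho I x) := by
  rw [RR_apply, contractR_gI]
  rfl

omit [I.IsHopfIdeal k] in
/-- the trace is linear over the invariants -/
theorem RR_mul_of_mem {b : A} (hb : b ∈ Binv (k := k) I) (a : A) :
    RR (gI I t) (b * a) = b * RR (gI I t) a := by
  have hb' : rho I b = b ⊗ₜ[k] (1 : A ⧸ I) := hb
  rw [RR_eq_cRQ, map_mul, hb', cRQ_mul_left, ← RR_eq_cRQ]

/-- the trace as a `B`-linear map into `B` -/
noncomputable def trB : A →ₗ[Binv (k := k) I] Binv (k := k) I where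
  toFun a := ⟨RR (gI I t) a, RR_mem_Binv I t ht a⟩
  map_add' a a' := Subtype.ext (map_add _ a a')
  map_smul' b a := Subtype.ext (RR_mul_of_mem I t b.2 a)

theorem trB_coe (a : A) : ((trB I t ht a : Binv (k := k) I) : A) = RR (gI I t) a := rfl

/-- `x ⊗ y ↦ S x * tr (y a)` -/
noncomputable def dualSum (a : A) : A ⊗[k] A →ₗ[k] A :=
  LinearMap.mul' k A ∘ₗ TensorProduct.map (HopfAlgebra.antipode k)
    (RR (gI I t) ∘ₗ LinearMap.mulRight k a)

omit [I.IsHopfIdeal k] in
theorem dualSum_tmul (a x y : A) :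
    dualSum I t a (x ⊗ₜ[k] y) = HopfAlgebra.antipode k x * RR (gI I t) (y * a) := rfl

omit [I.IsHopfIdeal k] in
theorem dualSum_eq (a : A) (w : A ⊗[k] A) :
    dualSum I t a w = contractR (gI I t)
      (Algebra.TensorProduct.lift ((ptL k A)⁻¹).ofConv (Bialgebra.comulAlgHom k A)
        (fun _ _ => Commute.all _ _) w * CoalgebraStruct.comul (R := k) a) := by
  induction w using TensorProduct.induction_on with
  | zero => simp
  | add x y hx hy => rw [map_add, hx, hy, map_add, add_mul, map_add]
  | tmul x y =>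
    rw [dualSum_tmul, Algebra.TensorProduct.lift_tmul, Bialgebra.comulAlgHom_apply, mul_assoc,
      ← Bialgebra.comul_mul, RR_apply]
    have h1 : ((ptL k A)⁻¹).ofConv x = HopfAlgebra.antipode k x ⊗ₜ[k] (1 : A) := rfl
    rw [h1, contractR_mul_left]

omit [I.IsHopfIdeal k] in
theorem contractR_one_tmul_mul' (g : A →ₗ[k] k) (c : A) (s : A ⊗[k] A) :
    contractR g (((1 : A) ⊗ₜ[k] c) * s) = contractR (g ∘ₗ LinearMap.mulLeft k c) s := by
  induction s using TensorProduct.induction_on with
  | zero => simp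
  | add x y hx hy => rw [mul_add, map_add, hx, hy, map_add]
  | tmul a b => simp [Algebra.TensorProduct.tmul_mul_tmul]

variable (T : A ⧸ I) (hT : ∀ q : A ⧸ I, t (T * q) = CoalgebraStruct.counit (R := k) q)

include hT in
/-- the Kreimer–Takeuchi dual basis identity -/
theorem dualSum_comul {c : A} (hc : Ideal.Quotient.mk I c = T) (a : A) :
    dualSum I t a (CoalgebraStruct.comul (R := k) c) = a := by
  rw [dualSum_eq]
  have h1 : ptR k A = (ptL k A)⁻¹ * ptD k A := by
    rw [ptD_eq]; exact (inv_mul_cancel_left (ptL k A) (ptR k A)).symm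
  have h2 : Algebra.TensorProduct.lift ((ptL k A)⁻¹).ofConv (Bialgebra.comulAlgHom k A)
      (fun _ _ => Commute.all _ _) (CoalgebraStruct.comul (R := k) c) = (1 : A) ⊗ₜ[k] c := by
    have := AlgHom.convMul_apply ((ptL k A)⁻¹) (ptD k A) c
    rw [← h1] at this
    exact this.symm
  rw [h2, contractR_one_tmul_mul']
  have h3 : gI I t ∘ₗ LinearMap.mulLeft k c = CoalgebraStruct.counit (R := k) (A := A) := by
    apply LinearMap.ext
    intro x
    rw [LinearMap.comp_apply, LinearMap.mulLeft_apply, gI_apply, map_mul, hc, hT, counit_mk]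
  rw [h3, contractR_counit_comul]

/-- `x ⊗ y ↦ tr (y a) ⊗ S x` -/
noncomputable def Lam (a : A) : A ⊗[k] A →ₗ[k] Binv (k := k) I ⊗[k] A :=
  TensorProduct.map (((trB I t ht).restrictScalars k) ∘ₗ LinearMap.mulRight k a)
    (HopfAlgebra.antipode k) ∘ₗ (TensorProduct.comm k A A).toLinearMap

theorem Lam_tmul (a x y : A) :
    Lam I t ht a (x ⊗ₜ[k] y) = trB I t ht (y * a) ⊗ₜ[k] HopfAlgebra.antipode k x := rfl

theorem Lam_add (a a' : A) (w : A ⊗[k] A) :
    Lam I t ht (a + a') w = Lam I t ht a w + Lam I t ht a' w := by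
  induction w using TensorProduct.induction_on with
  | zero => simp
  | add x y hx hy => rw [map_add, hx, hy, map_add, map_add]; abel
  | tmul x y => rw [Lam_tmul, Lam_tmul, Lam_tmul, mul_add, map_add, TensorProduct.add_tmul]

theorem Lam_smul (b : Binv (k := k) I) (a : A) (w : A ⊗[k] A) :
    Lam I t ht (b • a) w = b • Lam I t ht a w := by
  induction w using TensorProduct.induction_on with
  | zero => simp
  | add x y hx hy => rw [map_add, hx, hy, map_add, smul_add]
  | tmul x y =>
    rw [Lam_tmul, Lam_tmul, TensorProduct.smul_tmul']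
    congr 1
    rw [← map_smul]
    congr 1
    show y * ((b : A) * a) = (b : A) * (y * a)
    ring

/-- the splitting `A → B ⊗ A` -/
noncomputable def iotaB (c : A) : A →ₗ[Binv (k := k) I] Binv (k := k) I ⊗[k] A where
  toFun a := Lam I t ht a (CoalgebraStruct.comul (R := k) c)
  map_add' a a' := Lam_add I t ht a a' _
  map_smul' b a := Lam_smul I t ht b a _

theorem liftBaseChange_Lam (a : A) (w : A ⊗[k] A) :
    (LinearMap.id : A →ₗ[k] A).liftBaseChange (Binv (k := k) I) (Lam I t ht a w) =
      dualSum I t a w := by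
  induction w using TensorProduct.induction_on with
  | zero => simp
  | add x y hx hy => rw [map_add, map_add, hx, hy, map_add]
  | tmul x y =>
    rw [Lam_tmul, LinearMap.liftBaseChange_tmul, dualSum_tmul, LinearMap.id_apply]
    show ((trB I t ht (y * a) : Binv (k := k) I) : A) * HopfAlgebra.antipode k x = _
    rw [trB_coe, mul_comm]

include ht hT in
/-- `A` is projective over the invariants -/
theorem projective_Binv : Module.Projective (Binv (k := k) I) A := by
  obtain ⟨c, hc⟩ := Ideal.Quotient.mk_surjective T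
  apply Module.Projective.of_split (iotaB I t ht c)
    ((LinearMap.id : A →ₗ[k] A).liftBaseChange (Binv (k := k) I))
  apply LinearMap.ext
  intro a
  rw [LinearMap.comp_apply, LinearMap.id_apply]
  show (LinearMap.id : A →ₗ[k] A).liftBaseChange (Binv (k := k) I)
    (Lam I t ht a (CoalgebraStruct.comul (R := k) c)) = a
  rw [liftBaseChange_Lam, dualSum_comul I t T hT hc]

end Quot

section Fibre

variable {k : Type u} [Field k] {A : Type v} [CommRing A] [HopfAlgebra k A]
  (I : Ideal A) [I.IsHopfIdeal k] (χ : A →ₐ[k] k)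

omit [I.IsHopfIdeal k] in
theorem transl_apply (a : A) :
    transl (toConv χ) a = contractL χ.toLinearMap (CoalgebraStruct.comul (R := k) a) := by
  have h := AlgHom.convMul_apply (postComp (Algebra.ofId k A) (toConv χ)) (toConv (AlgHom.id k A)) a
  have h' : transl (toConv χ) a = Algebra.TensorProduct.lift
      (postComp (Algebra.ofId k A) (toConv χ)).ofConv (toConv (AlgHom.id k A)).ofConv
      (fun _ _ => Commute.all _ _) (CoalgebraStruct.comul (R := k) a) := h
  rw [h']
  generalize CoalgebraStruct.comul (R := k) a = s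
  induction s using TensorProduct.induction_on with
  | zero => simp
  | add x y hx hy => simp only [map_add, hx, hy]
  | tmul x y =>
    rw [Algebra.TensorProduct.lift_tmul, contractL_tmul, Algebra.smul_def]
    rfl

/-- the translate of the quotient map by the point `χ` -/
noncomputable def psiMap : A →ₐ[k] A ⧸ I :=
  (Ideal.Quotient.mkₐ k I).comp (transl (toConv χ))

omit [I.IsHopfIdeal k] in
theorem psiMap_surjective : Function.Surjective (psiMap I χ) := by
  intro q
  obtain ⟨a, rfl⟩ := Ideal.Quotient.mk_surjective q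
  obtain ⟨a', rfl⟩ := (translEquiv (toConv χ)).surjective a
  exact ⟨a', rfl⟩

/-- `a ⊗ q ↦ χ a • q` -/
noncomputable def cLQ : A ⊗[k] (A ⧸ I) →ₗ[k] A ⧸ I :=
  (TensorProduct.lid k (A ⧸ I)).toLinearMap ∘ₗ LinearMap.rTensor (A ⧸ I) χ.toLinearMap

omit [I.IsHopfIdeal k] in
@[simp] theorem cLQ_tmul (a : A) (q : A ⧸ I) : cLQ I χ (a ⊗ₜ[k] q) = χ a • q := by
  simp [cLQ]

omit [I.IsHopfIdeal k] in
theorem mk_contractL (s : A ⊗[k] A) :
    Ideal.Quotient.mk I (contractL χ.toLinearMap s) =
      cLQ I χ (Algebra.TensorProduct.map (AlgHom.id k A) (Ideal.Quotient.mkₐ k I) s) := by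
  induction s using TensorProduct.induction_on with
  | zero => simp
  | add x y hx hy => simp only [map_add, hx, hy]
  | tmul a b =>
    simp only [contractL_tmul, AlgHom.toLinearMap_apply, Algebra.TensorProduct.map_tmul,
      AlgHom.id_apply, cLQ_tmul, Ideal.Quotient.mkₐ_eq_mk]
    rw [Algebra.smul_def, map_mul, Algebra.smul_def]
    rfl

omit [I.IsHopfIdeal k] in
theorem psiMap_apply (a : A) : psiMap I χ a = cLQ I χ (rho I a) := by
  show Ideal.Quotient.mk I (transl (toConv χ) a) = _
  rw [transl_apply, mk_contractL]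
  rfl

omit [I.IsHopfIdeal k] in
theorem psiMap_of_mem {b : A} (hb : b ∈ Binv (k := k) I) :
    psiMap I χ b = χ b • (1 : A ⧸ I) := by
  have hb' : rho I b = b ⊗ₜ[k] (1 : A ⧸ I) := hb
  rw [psiMap_apply, hb', cLQ_tmul]

omit [I.IsHopfIdeal k] in
theorem apply_contractR (g : A →ₗ[k] k) (s : A ⊗[k] A) :
    χ (contractR g s) = g (contractL χ.toLinearMap s) := by
  induction s using TensorProduct.induction_on with
  | zero => simp
  | add x y hx hy => simp only [map_add, hx, hy]
  | tmul a b => simp [mul_comm]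

omit [I.IsHopfIdeal k] in
theorem apply_RR (t : (A ⧸ I) →ₗ[k] k) (z : A) :
    χ (RR (gI I t) z) = t (psiMap I χ z) := by
  rw [RR_apply, apply_contractR, ← transl_apply]
  rfl

/-- the ideal of the invariants cut out by the point -/
noncomputable def Pchi : Ideal (Binv (k := k) I) :=
  RingHom.ker (χ.comp (Binv (k := k) I).val)

omit [I.IsHopfIdeal k] in
theorem mem_Pchi {b : Binv (k := k) I} : b ∈ Pchi I χ ↔ χ (b : A) = 0 := Iff.rfl

variable (t : (A ⧸ I) →ₗ[k] k)
  (ht : ∀ q : A ⧸ I, contractR t (CoalgebraStruct.comul (R := k) q) = t q • (1 : A ⧸ I))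
  (T : A ⧸ I) (hT : ∀ q : A ⧸ I, t (T * q) = CoalgebraStruct.counit (R := k) q)

include ht hT in
theorem dualSum_mem {a : A} (ha : psiMap I χ a = 0) (w : A ⊗[k] A) :
    dualSum I t a w ∈ (Pchi I χ • (⊤ : Submodule (Binv (k := k) I) A)) := by
  induction w using TensorProduct.induction_on with
  | zero => rw [map_zero]; exact zero_mem _
  | add x y hx hy => rw [map_add]; exact add_mem hx hy
  | tmul x y =>
    rw [dualSum_tmul, mul_comm]
    have h1 : trB I t ht (y * a) ∈ Pchi I χ := by
      rw [mem_Pchi, trB_coe, apply_RR, map_mul, ha, mul_zero, map_zero]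
    exact Submodule.smul_mem_smul h1 (Submodule.mem_top (x := HopfAlgebra.antipode k x))

include ht hT in
/-- the fibre of `Spec A → Spec B` over the image of the point `χ` is a translate of `Spec A ⧸ I` -/
theorem ker_psiMap :
    (Pchi I χ • (⊤ : Submodule (Binv (k := k) I) A)).restrictScalars k =
      LinearMap.ker (psiMap I χ).toLinearMap := by
  ext a
  rw [Submodule.restrictScalars_mem, LinearMap.mem_ker, AlgHom.toLinearMap_apply]
  constructor
  · intro ha
    refine Submodule.smul_induction_on ha ?_ ?_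
    · intro b hb x _
      show psiMap I χ ((b : A) * x) = 0
      rw [map_mul, psiMap_of_mem I χ b.2, (mem_Pchi I χ).1 hb, zero_smul, zero_mul]
    · intro x y hx hy
      rw [map_add, hx, hy, add_zero]
  · intro ha
    obtain ⟨c, hc⟩ := Ideal.Quotient.mk_surjective T
    rw [← dualSum_comul I t T hT hc a]
    exact dualSum_mem I χ t ht T hT ha _

end Fibre

section Main

variable (k : Type u) [Field k] [IsAlgClosed k] (A : Type v) [CommRing A] [HopfAlgebra k A]
  [Module.Finite k A] (I : Ideal A) [I.IsHopfIdeal k]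

/-- every maximal ideal of the invariants is cut out by a rational point of `A` -/
theorem exists_point (P : Ideal (Binv (k := k) I)) [P.IsMaximal] :
    ∃ χ : A →ₐ[k] k, Pchi I χ = P := by
  haveI : Module.Finite (Binv (k := k) I) A :=
    Module.Finite.of_restrictScalars_finite k (Binv (k := k) I) A
  haveI : Algebra.IsIntegral (Binv (k := k) I) A := inferInstance
  have hker : RingHom.ker (algebraMap (Binv (k := k) I) A) ≤ P := by
    rw [(RingHom.injective_iff_ker_eq_bot _).1 Subtype.val_injective]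
    exact bot_le
  obtain ⟨𝔫, h𝔫max, h𝔫⟩ := Ideal.exists_ideal_over_maximal_of_isIntegral P hker
  haveI := h𝔫max
  letI : Field (A ⧸ 𝔫) := Ideal.Quotient.field 𝔫
  have hbij : Function.Bijective (algebraMap k (A ⧸ 𝔫)) :=
    IsAlgClosed.algebraMap_bijective_of_isIntegral
  let e : k ≃ₐ[k] (A ⧸ 𝔫) := AlgEquiv.ofBijective (Algebra.ofId k (A ⧸ 𝔫)) hbij
  refine ⟨(e.symm : (A ⧸ 𝔫) →ₐ[k] k).comp (Ideal.Quotient.mkₐ k 𝔫), ?_⟩
  ext b
  rw [mem_Pchi, ← h𝔫, Ideal.mem_comap]
  show e.symm (Ideal.Quotient.mk 𝔫 (b : A)) = 0 ↔ (b : A) ∈ 𝔫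
  rw [map_eq_zero_iff _ e.symm.injective, Ideal.Quotient.eq_zero_iff_mem]

/-- the fibres of `Spec A → Spec B` all have the dimension of `A ⧸ I` -/
theorem finrank_fibre (P : Ideal (Binv (k := k) I)) [P.IsMaximal] :
    Module.finrank (Binv (k := k) I ⧸ P) ((Binv (k := k) I ⧸ P) ⊗[Binv (k := k) I] A) =
      Module.finrank k (A ⧸ I) := by
  obtain ⟨t, T, ht, hT⟩ := exists_leftIntegral (k := k) (H := A ⧸ I)
  obtain ⟨χ, rfl⟩ := exists_point k A I P
  haveI : Module.Finite k (Binv (k := k) I) :=
    Module.Finite.of_injective (Binv (k := k) I).val.toLinearMap Subtype.val_injective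
  haveI : IsDomain (Binv (k := k) I ⧸ Pchi I χ) := Ideal.Quotient.isDomain _
  have hbij : Function.Bijective (algebraMap k (Binv (k := k) I ⧸ Pchi I χ)) :=
    IsAlgClosed.algebraMap_bijective_of_isIntegral
  have h1 : Module.finrank (Binv (k := k) I ⧸ Pchi I χ)
      ((Binv (k := k) I ⧸ Pchi I χ) ⊗[Binv (k := k) I] A) =
      Module.finrank k ((Binv (k := k) I ⧸ Pchi I χ) ⊗[Binv (k := k) I] A) := by
    have := rank_eq_of_equiv_equiv (algebraMap k (Binv (k := k) I ⧸ Pchi I χ))
      (AddEquiv.refl ((Binv (k := k) I ⧸ Pchi I χ) ⊗[Binv (k := k) I] A)) hbij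
      (fun r m => (algebraMap_smul (Binv (k := k) I ⧸ Pchi I χ) r m).symm)
    unfold Module.finrank
    rw [this]
  rw [h1]
  let e1 := (TensorProduct.quotTensorEquivQuotSMul A (Pchi I χ)).restrictScalars k
  let e2 := (Submodule.Quotient.restrictScalarsEquiv k
    (Pchi I χ • (⊤ : Submodule (Binv (k := k) I) A))).symm
  let e3 := Submodule.quotEquivOfEq _ _ (ker_psiMap I χ t ht T hT)
  let e4 := (psiMap I χ).toLinearMap.quotKerEquivOfSurjective (psiMap_surjective I χ)
  exact (e1 ≪≫ₗ e2 ≪≫ₗ e3 ≪≫ₗ e4).finrank_eq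

/-- **Freeness over the invariants**: `A` is a free module of rank `dim (A ⧸ I)` over the
invariants of the subgroup `Spec (A ⧸ I)`. -/
theorem free_and_finrank :
    Module.Free (Binv (k := k) I) A ∧
      Module.finrank (Binv (k := k) I) A = Module.finrank k (A ⧸ I) := by
  obtain ⟨t, T, ht, hT⟩ := exists_leftIntegral (k := k) (H := A ⧸ I)
  haveI : Module.Projective (Binv (k := k) I) A := projective_Binv I t ht T hT
  haveI : Module.Finite (Binv (k := k) I) A :=
    Module.Finite.of_restrictScalars_finite k (Binv (k := k) I) A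
  haveI : Module.Finite k (Binv (k := k) I) :=
    Module.Finite.of_injective (Binv (k := k) I).val.toLinearMap Subtype.val_injective
  haveI : IsArtinianRing (Binv (k := k) I) := IsArtinianRing.of_finite k _
  haveI : Nontrivial A := RingHom.domain_nontrivial (Bialgebra.counitAlgHom k A).toRingHom
  obtain ⟨b⟩ := Module.nonempty_basis_of_flat_of_finrank_eq (Binv (k := k) I) A
    (Module.finrank k (A ⧸ I)) (fun P => by
      haveI := P.2
      exact finrank_fibre k A I P.1)
  exact ⟨Module.Free.of_basis b, by rw [Module.finrank_eq_card_basis b, Fintype.card_fin]⟩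

end Main

end Groth.Agent.Lib.Helper16.LS
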