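import Mathlib
import Groth.Agent.Lib.Helper23.HopfFlatLocFin

/-!
# Operator calculus on a cocommutative pointed coalgebra (helper16)

For a cocommutative coalgebra `C` over a field with a group-like element `e`:
the operators `hitL f : x ↦ f(x₁) x₂`, the filtration `G e n` (`G e 0 = ⊥`,
`G e (n+1) = {x | ∀ f, f e = 0 → hitL f x ∈ G e n}`), the reduced coproduct `rc e x`,
exhaustiveness of the filtration for connected coalgebras, and the injectivity criterion.
-/

set_option autoImplicit false

namespace Groth.Agent.Lib.Helper16.MM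

open TensorProduct Groth.Agent.Lib.Helper75 Groth.Agent.Lib.Helper23.HopfFlat

universe u v w

section General

variable {k : Type u} [Field k] {V : Type v} [AddCommGroup V] [Module k V]
  {A : Type w} [AddCommGroup A] [Module k A]

theorem contractR_comm (f : V →ₗ[k] k) (t : V ⊗[k] A) :
    contractR A f (TensorProduct.comm k V A t) = contractL A f t := by
  induction t using TensorProduct.induction_on with
  | zero => simp
  | tmul v a => simp
  | add x y hx hy => simp only [map_add, hx, hy]

theorem contractL_comm (f : A →ₗ[k] k) (t : V ⊗[k] A) :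
    contractL V f (TensorProduct.comm k V A t) = contractR V f t := by
  induction t using TensorProduct.induction_on with
  | zero => simp
  | tmul v a => simp
  | add x y hx hy => simp only [map_add, hx, hy]

theorem eq_zero_of_contractL_eq_zero (x : V ⊗[k] A) (h : ∀ f : V →ₗ[k] k, contractL A f x = 0) :
    x = 0 := by
  have h2 : TensorProduct.comm k V A x = 0 := by
    apply eq_zero_of_contractR_eq_zero
    intro f
    rw [contractR_comm, h f]
  simpa using h2

end General

section Coalg

variable {k : Type u} [Field k] {C : Type v} [AddCommGroup C] [Module k C] [Coalgebra k C]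

local notation "Δ" => CoalgebraStruct.comul (R := k) (A := C)
local notation "ε" => CoalgebraStruct.counit (R := k) (A := C)

theorem hitL_apply (f : C →ₗ[k] k) (x : C) : hitL f x = contractL C f (Δ x) := rfl

theorem hitR_apply (f : C →ₗ[k] k) (x : C) : hitR f x = contractR C f (Δ x) := rfl

theorem comul_hitL (f : C →ₗ[k] k) (x : C) : Δ (hitL f x) = (hitL f).rTensor C (Δ x) := by
  rw [hitL_apply, ← contractL_lTensor, ← Coalgebra.coassoc_apply, contractL_assoc, hitL,
    LinearMap.rTensor_comp]
  rfl

theorem comul_hitR (f : C →ₗ[k] k) (x : C) : Δ (hitR f x) = (hitR f).lTensor C (Δ x) := by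
  rw [hitR_apply, ← contractR_rTensor, ← Coalgebra.coassoc_symm_apply, contractR_assoc_symm, hitR,
    LinearMap.lTensor_comp]
  rfl

theorem hitL_hitR_comm (f g : C →ₗ[k] k) (x : C) : hitL f (hitR g x) = hitR g (hitL f x) := by
  rw [hitL_apply, comul_hitR, contractL_lTensor]
  rfl

theorem counit_hitL (f : C →ₗ[k] k) (x : C) : ε (hitL f x) = f x := by
  rw [hitL_apply, ← contractL_lTensor, Coalgebra.lTensor_counit_comul]
  simp

theorem hitL_counit (x : C) : hitL ε x = x := by
  rw [hitL_apply]
  have h := Coalgebra.rTensor_counit_comul (R := k) x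
  have h2 : contractL C ε (Δ x) = TensorProduct.lid k C ((ε).rTensor C (Δ x)) := rfl
  rw [h2, h]
  simp

theorem hitL_add (f g : C →ₗ[k] k) (x : C) : hitL (f + g) x = hitL f x + hitL g x := by
  simp only [hitL_apply, contractL, LinearMap.rTensor_add, LinearMap.comp_add, LinearMap.add_apply]

theorem hitL_smul (c : k) (f : C →ₗ[k] k) (x : C) : hitL (c • f) x = c • hitL f x := by
  simp only [hitL_apply, contractL, LinearMap.rTensor_smul, LinearMap.comp_smul,
    LinearMap.smul_apply]

theorem hitL_sub (f g : C →ₗ[k] k) (x : C) : hitL (f - g) x = hitL f x - hitL g x := by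
  simp only [hitL_apply, contractL, LinearMap.rTensor_sub, LinearMap.comp_sub, LinearMap.sub_apply]

variable [Coalgebra.IsCocomm k C]

theorem hitL_eq_hitR (f : C →ₗ[k] k) (x : C) : hitL f x = hitR f x := by
  rw [hitL_apply, hitR_apply, ← contractR_comm, Coalgebra.comm_comul]

theorem hitL_comm (f g : C →ₗ[k] k) (x : C) : hitL f (hitL g x) = hitL g (hitL f x) := by
  rw [hitL_eq_hitR g, hitL_hitR_comm, ← hitL_eq_hitR]

end Coalg

section Filt

variable {k : Type u} [Field k] {C : Type v} [AddCommGroup C] [Module k C] [Coalgebra k C]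
variable (e : C)

local notation "Δ" => CoalgebraStruct.comul (R := k) (A := C)
local notation "ε" => CoalgebraStruct.counit (R := k) (A := C)

/-- the (shifted) coradical filtration relative to the point `e` -/
noncomputable def G : ℕ → Submodule k C
  | 0 => ⊥
  | (n + 1) => ⨅ f : {f : C →ₗ[k] k // f e = 0}, (G n).comap (hitL f.1)

theorem G_zero : G (k := k) e 0 = ⊥ := rfl

theorem mem_G_succ (n : ℕ) (x : C) :
    x ∈ G (k := k) e (n + 1) ↔ ∀ f : C →ₗ[k] k, f e = 0 → hitL f x ∈ G (k := k) e n := by
  simp only [G, Submodule.mem_iInf, Submodule.mem_comap, Subtype.forall]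

theorem G_le_succ (n : ℕ) : G (k := k) e n ≤ G (k := k) e (n + 1) := by
  induction n with
  | zero => exact bot_le
  | succ n ih =>
    intro x hx
    rw [mem_G_succ] at hx ⊢
    exact fun f hf => ih (hx f hf)

theorem G_mono {m n : ℕ} (h : m ≤ n) : G (k := k) e m ≤ G (k := k) e n :=
  monotone_nat_of_le_succ (G_le_succ e) h

/-- the reduced coproduct relative to `e` -/
noncomputable def rc (x : C) : C ⊗[k] C :=
  Δ x - x ⊗ₜ[k] e - e ⊗ₜ[k] x + ε x • (e ⊗ₜ[k] e)

theorem contractL_rc (f : C →ₗ[k] k) (x : C) :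
    contractL C f (rc (k := k) e x) = hitL (f - f e • ε) x - (f x - f e * ε x) • e := by
  rw [rc, map_add, map_sub, map_sub, map_smul, contractL_tmul, contractL_tmul, contractL_tmul,
    hitL_sub, hitL_smul, hitL_counit, ← hitL_apply, sub_smul, mul_smul, smul_comm (ε x) (f e) e]
  abel

variable {e}

theorem hitL_grouplike (he : Δ e = e ⊗ₜ[k] e) (f : C →ₗ[k] k) : hitL f e = f e • e := by
  rw [hitL_apply, he, contractL_tmul]

theorem e_mem_G_one (he : Δ e = e ⊗ₜ[k] e) : e ∈ G (k := k) e 1 := by
  rw [mem_G_succ]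
  intro f hf
  rw [hitL_grouplike he, hf, zero_smul]
  exact zero_mem _

theorem e_mem_G (he : Δ e = e ⊗ₜ[k] e) {n : ℕ} (hn : 1 ≤ n) : e ∈ G (k := k) e n :=
  G_mono e hn (e_mem_G_one he)

theorem mem_G_one_iff (he : Δ e = e ⊗ₜ[k] e) (x : C) :
    x ∈ G (k := k) e 1 ↔ x ∈ Submodule.span k {e} := by
  constructor
  · intro hx
    by_contra hx'
    obtain ⟨f, hfx, hf⟩ := Submodule.exists_le_ker_of_notMem hx'
    have hfe : f e = 0 := hf (Submodule.mem_span_singleton_self e)
    rw [mem_G_succ] at hx
    have h := hx f hfe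
    rw [G_zero, Submodule.mem_bot] at h
    apply hfx
    rw [← counit_hitL f x, h, map_zero]
  · intro hx
    obtain ⟨c, rfl⟩ := Submodule.mem_span_singleton.1 hx
    exact Submodule.smul_mem _ _ (e_mem_G_one he)

theorem hitL_eq_of_mem_G_two (he : Δ e = e ⊗ₜ[k] e) (hε : ε e = 1) {x : C}
    (hx : x ∈ G (k := k) e 2) (f : C →ₗ[k] k) (hf : f e = 0) : hitL f x = f x • e := by
  rw [mem_G_succ] at hx
  have h := hx f hf
  rw [mem_G_one_iff he] at h
  obtain ⟨c, hc⟩ := Submodule.mem_span_singleton.1 h
  have h2 : f x = c := by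
    rw [← counit_hitL f x, ← hc, map_smul, hε, smul_eq_mul, mul_one]
  rw [h2, hc]

theorem rc_eq_zero_of_mem_G_two (he : Δ e = e ⊗ₜ[k] e) (hε : ε e = 1) {x : C}
    (hx : x ∈ G (k := k) e 2) : rc (k := k) e x = 0 := by
  apply eq_zero_of_contractL_eq_zero
  intro f
  rw [contractL_rc]
  have hf : (f - f e • ε) e = 0 := by
    rw [LinearMap.sub_apply, LinearMap.smul_apply, hε, smul_eq_mul, mul_one, sub_self]
  rw [hitL_eq_of_mem_G_two he hε hx _ hf, LinearMap.sub_apply, LinearMap.smul_apply, smul_eq_mul,
    sub_self]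

theorem mem_G_two_of_rc_eq_zero (he : Δ e = e ⊗ₜ[k] e) {x : C}
    (hx : rc (k := k) e x = 0) : x ∈ G (k := k) e 2 := by
  rw [mem_G_succ]
  intro f hf
  have h := contractL_rc e f x
  rw [hx, map_zero, hf, zero_smul, sub_zero, zero_mul, sub_zero] at h
  rw [mem_G_one_iff he, sub_eq_zero.1 h.symm]
  exact Submodule.smul_mem _ _ (Submodule.mem_span_singleton_self e)

variable [Coalgebra.IsCocomm k C]

theorem hitL_mem_G (g : C →ₗ[k] k) (n : ℕ) {x : C} (hx : x ∈ G (k := k) e n) :
    hitL g x ∈ G (k := k) e n := by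
  induction n generalizing x with
  | zero =>
    rw [G_zero, Submodule.mem_bot] at hx
    rw [hx, map_zero]
    exact zero_mem _
  | succ n ih =>
    rw [mem_G_succ] at hx ⊢
    intro f hf
    rw [hitL_comm]
    exact ih (hx f hf)

theorem comm_rc (x : C) : TensorProduct.comm k C C (rc (k := k) e x) = rc (k := k) e x := by
  rw [rc, map_add, map_sub, map_sub, map_smul, Coalgebra.comm_comul]
  simp only [TensorProduct.comm_tmul]
  abel

theorem contractR_rc (f : C →ₗ[k] k) (x : C) :
    contractR C f (rc (k := k) e x) = contractL C f (rc (k := k) e x) := by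
  rw [← contractR_comm, comm_rc]

theorem rc_mem (he : Δ e = e ⊗ₜ[k] e) (hε : ε e = 1) {n : ℕ} (hn : 1 ≤ n) {x : C}
    (hx : x ∈ G (k := k) e (n + 1)) :
    rc (k := k) e x ∈ LinearMap.range
      (TensorProduct.map (G (k := k) e n).subtype (G (k := k) e n).subtype) := by
  have key : ∀ f : C →ₗ[k] k, contractL C f (rc (k := k) e x) ∈ G (k := k) e n := by
    intro f
    rw [contractL_rc]
    have hf : (f - f e • ε) e = 0 := by
      rw [LinearMap.sub_apply, LinearMap.smul_apply, hε, smul_eq_mul, mul_one, sub_self]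
    rw [mem_G_succ] at hx
    exact Submodule.sub_mem _ (hx _ hf) (Submodule.smul_mem _ _ (e_mem_G he hn))
  rw [mem_range_map_iff]
  exact ⟨fun f => by rw [contractR_rc]; exact key f, key⟩

/-- functionals vanishing on `G 2` lower the filtration by two steps -/
theorem hitL_mem_G_of_vanish (he : Δ e = e ⊗ₜ[k] e) (hε : ε e = 1) (g : C →ₗ[k] k)
    (hg : ∀ y ∈ G (k := k) e 2, g y = 0) (n : ℕ) {x : C} (hx : x ∈ G (k := k) e (n + 2)) :
    hitL g x ∈ G (k := k) e n := by
  induction n generalizing x with
  | zero =>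
    have h0 := rc_eq_zero_of_mem_G_two he hε hx
    have h := contractL_rc e g x
    have hge : g e = 0 := hg e (e_mem_G he (by norm_num))
    rw [h0, map_zero, hge, zero_smul, sub_zero, zero_mul, sub_zero, hg x hx, zero_smul,
      sub_zero] at h
    rw [← h]
    exact zero_mem _
  | succ n ih =>
    rw [mem_G_succ] at hx ⊢
    intro f hf
    rw [hitL_comm]
    exact ih (hx f hf)

end Filt

section Maps

variable {k : Type u} [Field k] {C : Type v} [AddCommGroup C] [Module k C] [Coalgebra k C]
  {D : Type w} [AddCommGroup D] [Module k D] [Coalgebra k D]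

theorem hitL_map (φ : C →ₗ[k] D)
    (hΔ : ∀ x, CoalgebraStruct.comul (R := k) (φ x) =
      TensorProduct.map φ φ (CoalgebraStruct.comul (R := k) x))
    (f : D →ₗ[k] k) (x : C) : hitL f (φ x) = φ (hitL (f ∘ₗ φ) x) := by
  rw [hitL_apply, hΔ, contractL_map]
  rfl

theorem map_mem_G (φ : C →ₗ[k] D)
    (hΔ : ∀ x, CoalgebraStruct.comul (R := k) (φ x) =
      TensorProduct.map φ φ (CoalgebraStruct.comul (R := k) x))
    {e : C} {e' : D} (hφe : φ e = e') (n : ℕ) {x : C} (hx : x ∈ G (k := k) e n) :
    φ x ∈ G (k := k) e' n := by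
  induction n generalizing x with
  | zero =>
    rw [G_zero, Submodule.mem_bot] at hx
    rw [hx, map_zero]
    exact zero_mem _
  | succ n ih =>
    rw [mem_G_succ] at hx ⊢
    intro f hf
    rw [hitL_map φ hΔ]
    apply ih
    apply hx
    rw [LinearMap.comp_apply, hφe, hf]

theorem rc_map (φ : C →ₗ[k] D)
    (hΔ : ∀ x, CoalgebraStruct.comul (R := k) (φ x) =
      TensorProduct.map φ φ (CoalgebraStruct.comul (R := k) x))
    (hε : ∀ x, CoalgebraStruct.counit (R := k) (φ x) = CoalgebraStruct.counit (R := k) x)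
    {e : C} {e' : D} (hφe : φ e = e') (x : C) :
    rc (k := k) e' (φ x) = TensorProduct.map φ φ (rc (k := k) e x) := by
  rw [rc, rc, hΔ, hε, map_add, map_sub, map_sub, map_smul, TensorProduct.map_tmul,
    TensorProduct.map_tmul, TensorProduct.map_tmul, hφe]

theorem rc_zero (e : C) : rc (k := k) e 0 = 0 := by
  simp [rc]

/-- a coalgebra map which is injective on `G 2` is injective on every `G n` -/
theorem eq_zero_of_map_eq_zero [Coalgebra.IsCocomm k C] (φ : C →ₗ[k] D)
    (hΔ : ∀ x, CoalgebraStruct.comul (R := k) (φ x) =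
      TensorProduct.map φ φ (CoalgebraStruct.comul (R := k) x))
    (hε : ∀ x, CoalgebraStruct.counit (R := k) (φ x) = CoalgebraStruct.counit (R := k) x)
    {e : C} {e' : D} (hφe : φ e = e')
    (he : CoalgebraStruct.comul (R := k) e = e ⊗ₜ[k] e)
    (hεe : CoalgebraStruct.counit (R := k) e = 1)
    (h2 : ∀ x ∈ G (k := k) e 2, φ x = 0 → x = 0) (n : ℕ) :
    ∀ x ∈ G (k := k) e n, φ x = 0 → x = 0 := by
  induction n with
  | zero =>
    intro x hx _
    rwa [G_zero, Submodule.mem_bot] at hx
  | succ n ih =>
    intro x hx hφx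
    by_cases hn : n + 1 ≤ 2
    · exact h2 x (G_mono e hn hx) hφx
    · have hn1 : 1 ≤ n := by omega
      obtain ⟨t, ht⟩ := rc_mem he hεe hn1 hx
      have h1 : TensorProduct.map φ φ (rc (k := k) e x) = 0 := by
        rw [← rc_map φ hΔ hε hφe, hφx, rc_zero]
      rw [← ht, ← LinearMap.comp_apply, ← TensorProduct.map_comp] at h1
      have hinj : Function.Injective (φ ∘ₗ (G (k := k) e n).subtype) := by
        rw [← LinearMap.ker_eq_bot, LinearMap.ker_eq_bot']
        intro y hy
        exact Subtype.ext (ih y.1 y.2 hy)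
      have ht0 : t = 0 := by
        apply TensorProduct.map_injective_of_flat_flat _ _ hinj hinj
        rw [h1, map_zero]
      rw [ht0, map_zero] at ht
      exact h2 x (mem_G_two_of_rc_eq_zero he ht.symm) hφx

end Maps

section Exhaust

variable {k : Type u} [Field k] {C : Type v} [AddCommGroup C] [Module k C] [Coalgebra k C]
  [Coalgebra.IsCocomm k C]

/-- subspaces stable under all the operators `hitL g` (the subcoalgebras) -/
def IsStable (W : Submodule k C) : Prop := ∀ g : C →ₗ[k] k, W.map (hitL g) ≤ W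

theorem isSubcoalg_of_isStable {W : Submodule k C} (hW : IsStable W) : IsSubcoalg W := by
  rw [isSubcoalg_iff]
  refine ⟨fun f b hb => ?_, fun f b hb => hW f ⟨b, hb, rfl⟩⟩
  rw [← hitL_eq_hitR]
  exact hW f ⟨b, hb, rfl⟩

theorem isStable_of_isSubcoalg {W : Submodule k C} (hW : IsSubcoalg W) : IsStable W := by
  rintro g _ ⟨x, hx, rfl⟩
  exact ((isSubcoalg_iff W).1 hW).2 g x hx

theorem isStable_map {W : Submodule k C} (hW : IsStable W) (f : C →ₗ[k] k) :
    IsStable (W.map (hitL f)) := by
  rintro g _ ⟨_, ⟨x, hx, rfl⟩, rfl⟩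
  rw [hitL_comm]
  exact ⟨hitL g x, hW g ⟨x, hx, rfl⟩, rfl⟩

theorem isStable_iSup {ι : Sort*} {W : ι → Submodule k C} (hW : ∀ i, IsStable (W i)) :
    IsStable (⨆ i, W i) := by
  intro g
  rw [Submodule.map_iSup]
  exact iSup_mono fun i => hW i g

theorem isStable_iterate {W : Submodule k C} (hW : IsStable W) (f : C →ₗ[k] k) (j : ℕ) :
    IsStable ((Submodule.map (hitL f))^[j] W) := by
  induction j with
  | zero => exact hW
  | succ j ih =>
    rw [Function.iterate_succ_apply']
    exact isStable_map ih f

theorem iterate_succ_le {W : Submodule k C} (T : C →ₗ[k] C) (hW : W.map T ≤ W) (j : ℕ) :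
    (Submodule.map T)^[j + 1] W ≤ (Submodule.map T)^[j] W := by
  induction j with
  | zero => exact hW
  | succ j ih =>
    rw [Function.iterate_succ_apply' (Submodule.map T) (j + 1)]
    rw [Function.iterate_succ_apply' (Submodule.map T) j] at ih ⊢
    exact Submodule.map_mono ih

theorem iterate_le {W : Submodule k C} (T : C →ₗ[k] C) (hW : W.map T ≤ W) (j : ℕ) :
    (Submodule.map T)^[j] W ≤ W := by
  induction j with
  | zero => exact le_refl _
  | succ j ih => exact (iterate_succ_le T hW j).trans ih

theorem exists_iterate_eq {W : Submodule k C} [Module.Finite k W] (T : C →ₗ[k] C)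
    (hW : W.map T ≤ W) : ∃ j, (Submodule.map T)^[j + 1] W = (Submodule.map T)^[j] W := by
  by_contra h
  push Not at h
  have hlt : ∀ j, (Submodule.map T)^[j + 1] W < (Submodule.map T)^[j] W :=
    fun j => lt_of_le_of_ne (iterate_succ_le T hW j) (h j)
  have hfin : ∀ j, Module.Finite k ((Submodule.map T)^[j] W : Submodule k C) :=
    fun j => Submodule.finiteDimensional_of_le (iterate_le T hW j)
  have key : ∀ j, Module.finrank k ((Submodule.map T)^[j] W : Submodule k C) + j ≤
      Module.finrank k W := by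
    intro j
    induction j with
    | zero => exact le_refl _
    | succ j ih =>
      have := hfin j
      have h1 := Submodule.finrank_lt_finrank_of_lt (hlt j)
      omega
  have := key (Module.finrank k W + 1)
  omega

variable {e : C}

theorem exists_iterate_eq_bot
    (hconn : ∀ D : Submodule k C, IsSubcoalg D → D ≠ ⊥ → e ∈ D)
    (he : CoalgebraStruct.comul (R := k) e = e ⊗ₜ[k] e)
    (hε : CoalgebraStruct.counit (R := k) e = 1)
    {W : Submodule k C} [Module.Finite k W] (hW : IsStable W) (f : C →ₗ[k] k) (hf : f e = 0) :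
    ∃ N, (Submodule.map (hitL f))^[N] W = ⊥ := by
  obtain ⟨j, hj⟩ := exists_iterate_eq (hitL f) (hW f)
  refine ⟨j, ?_⟩
  by_contra hne
  set W' := (Submodule.map (hitL f))^[j] W with hW'
  rw [Function.iterate_succ_apply'] at hj
  have hst : IsStable W' := isStable_iterate hW f j
  have hfin : Module.Finite k W' := Submodule.finiteDimensional_of_le (iterate_le _ (hW f) j)
  have heW : e ∈ W' := hconn W' (isSubcoalg_of_isStable hst) hne
  have hT : ∀ x ∈ W', hitL f x ∈ W' := fun x hx => hst f ⟨x, hx, rfl⟩
  have hsurj : Function.Surjective ((hitL f).restrict hT) := by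
    rintro ⟨y, hy⟩
    have hy' : y ∈ Submodule.map (hitL f) W' := by rw [hj]; exact hy
    obtain ⟨x, hx, rfl⟩ := hy'
    exact ⟨⟨x, hx⟩, rfl⟩
  have hinj := LinearMap.injective_iff_surjective.2 hsurj
  have h0 : (hitL f).restrict hT ⟨e, heW⟩ = 0 := by
    apply Subtype.ext
    rw [LinearMap.coe_restrict_apply]
    show hitL f e = 0
    rw [hitL_grouplike he, hf, zero_smul]
  have h1 : (⟨e, heW⟩ : W') = 0 := hinj (by rw [h0, map_zero])
  have h2 : e = 0 := congrArg Subtype.val h1
  rw [h2, map_zero] at hε
  exact zero_ne_one hε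

omit [Coalgebra k C] [Coalgebra.IsCocomm k C] in
/-- Nakayama-type lemma for commuting nilpotent operators -/
theorem eq_bot_of_le_iSup_map {ι : Type*} (T : ι → (C →ₗ[k] C))
    (hcomm : ∀ i j, T i ∘ₗ T j = T j ∘ₗ T i) (d : ℕ) :
    ∀ (W : Submodule k C), Module.Finite k W → Module.finrank k W ≤ d →
      (∀ i, W.map (T i) ≤ W) → (∀ i, ∃ N, (Submodule.map (T i))^[N] W = ⊥) →
      W ≤ ⨆ i, W.map (T i) → W = ⊥ := by
  induction d with
  | zero =>
    intro W hfin hd _ _ _
    exact Submodule.finrank_eq_zero.1 (Nat.le_zero.1 hd)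
  | succ d ih =>
    intro W hfin hd hst hnil hle
    by_contra hW
    have hex : ∃ i, W.map (T i) ≠ ⊥ := by
      by_contra hall
      push Not at hall
      apply hW
      rw [eq_bot_iff]
      refine hle.trans (iSup_le fun i => ?_)
      rw [hall i]
    obtain ⟨i, hi⟩ := hex
    have hne : W.map (T i) ≠ W := by
      intro heq
      obtain ⟨N, hN⟩ := hnil i
      have : ∀ n, (Submodule.map (T i))^[n] W = W := by
        intro n
        induction n with
        | zero => rfl
        | succ n ihn => rw [Function.iterate_succ_apply', ihn, heq]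
      rw [this N] at hN
      exact hW hN
    have hlt : W.map (T i) < W := lt_of_le_of_ne (hst i) hne
    have hfin1 : Module.Finite k (W.map (T i)) := Submodule.finiteDimensional_of_le (hst i)
    have hd1 : Module.finrank k (W.map (T i)) ≤ d := by
      have := Submodule.finrank_lt_finrank_of_lt hlt
      omega
    have hswap : ∀ j (X : Submodule k C),
        (X.map (T i)).map (T j) = (X.map (T j)).map (T i) := by
      intro j X
      rw [← Submodule.map_comp, ← Submodule.map_comp, hcomm]
    apply hi
    apply ih (W.map (T i)) hfin1 hd1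
    · intro j
      rw [hswap]
      exact Submodule.map_mono (hst j)
    · intro j
      obtain ⟨N, hN⟩ := hnil j
      refine ⟨N, ?_⟩
      rw [eq_bot_iff, ← hN]
      exact Monotone.iterate (fun _ _ h => Submodule.map_mono h) N (hst i)
    · calc W.map (T i) ≤ (⨆ j, W.map (T j)).map (T i) := Submodule.map_mono hle
        _ = ⨆ j, (W.map (T j)).map (T i) := Submodule.map_iSup _ _
        _ = ⨆ j, (W.map (T i)).map (T j) := by
          congr 1
          funext j
          exact (hswap j W).symm

theorem le_G_of_isStable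
    (hconn : ∀ D : Submodule k C, IsSubcoalg D → D ≠ ⊥ → e ∈ D)
    (he : CoalgebraStruct.comul (R := k) e = e ⊗ₜ[k] e)
    (hε : CoalgebraStruct.counit (R := k) e = 1) (d : ℕ) :
    ∀ (W : Submodule k C), Module.Finite k W → Module.finrank k W ≤ d → IsStable W →
      W ≤ G (k := k) e d := by
  induction d with
  | zero =>
    intro W hfin hd _
    rw [Submodule.finrank_eq_zero.1 (Nat.le_zero.1 hd)]
    exact bot_le
  | succ d ih =>
    intro W hfin hd hst
    set W' : Submodule k C := ⨆ f : {f : C →ₗ[k] k // f e = 0}, W.map (hitL f.1) with hW'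
    have hle : W' ≤ W := iSup_le fun f => hst f.1
    have hst' : IsStable W' := isStable_iSup fun f => isStable_map hst f.1
    have hfin' : Module.Finite k W' := Submodule.finiteDimensional_of_le hle
    by_cases heq : W' = W
    · have : W = ⊥ := by
        apply eq_bot_of_le_iSup_map (fun f : {f : C →ₗ[k] k // f e = 0} => hitL f.1)
          (fun f g => LinearMap.ext fun x => hitL_comm f.1 g.1 x) (d + 1) W hfin hd
          (fun f => hst f.1)
          (fun f => exists_iterate_eq_bot hconn he hε hst f.1 f.2)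
        rw [← hW', heq]
      rw [this]
      exact bot_le
    · have hlt : W' < W := lt_of_le_of_ne hle heq
      have hd' : Module.finrank k W' ≤ d := by
        have := Submodule.finrank_lt_finrank_of_lt hlt
        omega
      have h1 := ih W' hfin' hd' hst'
      intro x hx
      rw [mem_G_succ]
      intro f hf
      apply h1
      exact Submodule.mem_iSup_of_mem ⟨f, hf⟩ ⟨x, hx, rfl⟩

/-- the filtration of a connected cocommutative coalgebra is exhaustive -/
theorem exists_mem_G
    (hconn : ∀ D : Submodule k C, IsSubcoalg D → D ≠ ⊥ → e ∈ D)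
    (he : CoalgebraStruct.comul (R := k) e = e ⊗ₜ[k] e)
    (hε : CoalgebraStruct.counit (R := k) e = 1) (x : C) : ∃ n, x ∈ G (k := k) e n :=
  ⟨_, le_G_of_isStable hconn he hε _ (coalgSpan (k := k) x) inferInstance le_rfl
    (isStable_of_isSubcoalg (isSubcoalg_coalgSpan x)) (mem_coalgSpan x)⟩

end Exhaust

end Groth.Agent.Lib.Helper16.MM
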