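import Mathlib
import Groth.Agent.Lib.Helper16.MMCoalg

/-!
# The Adams operator `Ψ = μ ∘ Δ` on a cocommutative bialgebra (helper16)

`Ψ` is a coalgebra map, multiplies primitive elements by `2`, and acts as `2 ^ n` on the `n`-th graded
piece of the coradical filtration `G 1`.  Consequences: a subalgebra containing the primitives contains
the whole filtration (characteristic zero), and `G 1 a * P ⊆ G 1 (a + 1)`.
-/

set_option autoImplicit false

namespace Groth.Agent.Lib.Helper16.MM

open TensorProduct Groth.Agent.Lib.Helper75 Groth.Agent.Lib.Helper23.HopfFlat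

universe u v w

section Bialg

variable {k : Type u} [Field k] {H : Type v} [Ring H] [Bialgebra k H]

local notation "Δ" => CoalgebraStruct.comul (R := k) (A := H)
local notation "ε" => CoalgebraStruct.counit (R := k) (A := H)

/-- primitive elements -/
def IsPrim (x : H) : Prop := Δ x = x ⊗ₜ[k] (1 : H) + (1 : H) ⊗ₜ[k] x

variable (k) in
theorem comul_one' : Δ (1 : H) = (1 : H) ⊗ₜ[k] (1 : H) := by
  rw [Bialgebra.comul_one, Algebra.TensorProduct.one_def]

variable (k) in
theorem counit_one' : ε (1 : H) = 1 := Bialgebra.counit_one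

theorem counit_prim {x : H} (hx : IsPrim (k := k) x) : ε x = 0 := by
  have h := Coalgebra.rTensor_counit_comul (R := k) x
  rw [hx, map_add, LinearMap.rTensor_tmul, LinearMap.rTensor_tmul, counit_one'] at h
  have h2 := congrArg (TensorProduct.lid k H) h
  rw [map_add, TensorProduct.lid_tmul, TensorProduct.lid_tmul, one_smul, add_eq_right] at h2
  have h3 := congrArg ε h2
  rw [map_smul, counit_one', smul_eq_mul, mul_one, map_zero] at h3
  exact h3

theorem rc_prim {x : H} (hx : IsPrim (k := k) x) : rc (k := k) (1 : H) x = 0 := by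
  rw [rc, hx, counit_prim hx, zero_smul]
  abel

theorem isPrim_of_rc_eq_zero {x : H} (hx : rc (k := k) (1 : H) x = 0) :
    IsPrim (k := k) (x - ε x • (1 : H)) := by
  rw [rc] at hx
  rw [IsPrim, map_sub, map_smul, comul_one', TensorProduct.sub_tmul, TensorProduct.tmul_sub,
    TensorProduct.smul_tmul', TensorProduct.tmul_smul]
  rw [← sub_eq_zero, ← hx]
  abel

/-- the Adams operator `Ψ² = μ ∘ Δ` -/
noncomputable def Psi : H →ₗ[k] H := LinearMap.mul' k H ∘ₗ Δ

theorem Psi_apply (x : H) : Psi (k := k) x = LinearMap.mul' k H (Δ x) := rfl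

variable (k) in
theorem Psi_one : Psi (k := k) (1 : H) = 1 := by
  rw [Psi_apply, comul_one', LinearMap.mul'_apply, one_mul]

theorem Psi_prim {x : H} (hx : IsPrim (k := k) x) : Psi (k := k) x = x + x := by
  rw [Psi_apply, hx, map_add, LinearMap.mul'_apply, LinearMap.mul'_apply, one_mul, mul_one]

theorem mul'_rc (x : H) :
    LinearMap.mul' k H (rc (k := k) (1 : H) x) = Psi (k := k) x - x - x + ε x • (1 : H) := by
  rw [rc, map_add, map_sub, map_sub, map_smul, LinearMap.mul'_apply, LinearMap.mul'_apply,
    LinearMap.mul'_apply, one_mul, mul_one, one_mul, Psi_apply]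

theorem Psi_eq_of_mem_G_two {x : H} (hx : x ∈ G (k := k) (1 : H) 2) :
    Psi (k := k) x = x + x - ε x • (1 : H) := by
  have h := mul'_rc (k := k) x
  rw [rc_eq_zero_of_mem_G_two (comul_one' k) (counit_one' k) hx, map_zero] at h
  rw [← sub_eq_zero, h]
  abel

theorem contractL_mul_tmul_one (f : H →ₗ[k] k) (t : H ⊗[k] H) (y : H) :
    contractL H f (t * (y ⊗ₜ[k] (1 : H))) = contractL H (f ∘ₗ LinearMap.mulRight k y) t := by
  induction t using TensorProduct.induction_on with
  | zero => simp
  | tmul a b => simp [Algebra.TensorProduct.tmul_mul_tmul]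
  | add a b ha hb => rw [add_mul, map_add, map_add, ha, hb]

theorem contractL_mul_one_tmul (f : H →ₗ[k] k) (t : H ⊗[k] H) (y : H) :
    contractL H f (t * ((1 : H) ⊗ₜ[k] y)) = contractL H f t * y := by
  induction t using TensorProduct.induction_on with
  | zero => simp
  | tmul a b => simp [Algebra.TensorProduct.tmul_mul_tmul]
  | add a b ha hb => rw [add_mul, map_add, map_add, ha, hb, add_mul]

theorem hitL_mul_prim (f : H →ₗ[k] k) (x : H) {y : H} (hy : IsPrim (k := k) y) :
    hitL f (x * y) = hitL (f ∘ₗ LinearMap.mulRight k y) x + hitL f x * y := by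
  rw [hitL_apply, Bialgebra.comul_mul, hy, mul_add, map_add, contractL_mul_tmul_one,
    contractL_mul_one_tmul]
  rfl

/-- right multiplication by a primitive element raises the filtration by one -/
theorem mul_prim_mem_G {y : H} (hy : IsPrim (k := k) y) (a : ℕ) :
    ∀ {x : H}, x ∈ G (k := k) (1 : H) a → x * y ∈ G (k := k) (1 : H) (a + 1) := by
  induction a with
  | zero =>
    intro x hx
    rw [G_zero, Submodule.mem_bot] at hx
    rw [hx, zero_mul]
    exact zero_mem _
  | succ a ih =>
    intro x hx
    rw [mem_G_succ]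
    intro f hf
    rw [hitL_mul_prim f x hy]
    refine Submodule.add_mem _ ?_ (ih ((mem_G_succ _ _ _).1 hx f hf))
    set f₂ : H →ₗ[k] k := f ∘ₗ LinearMap.mulRight k y with hf₂
    have h1 : f₂ = (f₂ - f y • ε) + f y • ε := by abel
    have h2 : (f₂ - f y • ε) (1 : H) = 0 := by
      rw [LinearMap.sub_apply, LinearMap.smul_apply, counit_one', hf₂, LinearMap.comp_apply,
        LinearMap.mulRight_apply, one_mul, smul_eq_mul, mul_one, sub_self]
    rw [h1, hitL_add, hitL_smul, hitL_counit]
    exact Submodule.add_mem _ (G_le_succ _ _ ((mem_G_succ _ _ _).1 hx _ h2))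
      (Submodule.smul_mem _ _ hx)

section Cocomm

variable [Coalgebra.IsCocomm k H]

variable (k H) in
/-- `Ψ` as a coalgebra homomorphism -/
noncomputable def PsiHom : H →ₗc[k] H :=
  (Bialgebra.mulCoalgHom k H).comp (Coalgebra.comulCoalgHom k H)

theorem PsiHom_toLinearMap : (PsiHom k H : H →ₗ[k] H) = Psi (k := k) := rfl

theorem comul_Psi (x : H) :
    Δ (Psi (k := k) x) = TensorProduct.map (Psi (k := k)) (Psi (k := k)) (Δ x) :=
  (CoalgHomClass.map_comp_comul_apply (PsiHom k H) x).symm

theorem counit_Psi (x : H) : ε (Psi (k := k) x) = ε x :=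
  CoalgHomClass.counit_comp_apply (PsiHom k H) x

theorem Psi_mem_G (n : ℕ) {x : H} (hx : x ∈ G (k := k) (1 : H) n) :
    Psi (k := k) x ∈ G (k := k) (1 : H) n :=
  map_mem_G (Psi (k := k)) comul_Psi (Psi_one k) n hx

/-- `Ψ` acts as `2 ^ n` on `G (n + 1) / G n` -/
theorem Psi_sub_mem_G (n : ℕ) : ∀ {x : H}, x ∈ G (k := k) (1 : H) (n + 1) →
    Psi (k := k) x - (2 : k) ^ n • x ∈ G (k := k) (1 : H) n := by
  induction n with
  | zero =>
    intro x hx
    rw [mem_G_one_iff (comul_one' k)] at hx
    obtain ⟨c, rfl⟩ := Submodule.mem_span_singleton.1 hx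
    rw [map_smul, Psi_one, pow_zero, one_smul, sub_self]
    exact zero_mem _
  | succ n ih =>
    intro x hx
    rw [mem_G_succ]
    intro f hf
    -- the functional `g = f ∘ Ψ - 2 f` vanishes on `G 2`
    set g : H →ₗ[k] k := f ∘ₗ Psi (k := k) - (2 : k) • f with hg
    have hgv : ∀ y ∈ G (k := k) (1 : H) 2, g y = 0 := by
      intro y hy
      rw [hg, LinearMap.sub_apply, LinearMap.comp_apply, LinearMap.smul_apply,
        Psi_eq_of_mem_G_two hy, map_sub, map_add, map_smul, hf, smul_zero, sub_zero, smul_eq_mul,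
        two_mul, sub_self]
    have h1 : hitL (f ∘ₗ Psi (k := k)) x = (2 : k) • hitL f x + hitL g x := by
      rw [hg, hitL_sub, hitL_smul]
      abel
    have hfx : hitL f x ∈ G (k := k) (1 : H) (n + 1) := (mem_G_succ _ _ _).1 hx f hf
    have h2 : hitL g x ∈ G (k := k) (1 : H) n :=
      hitL_mem_G_of_vanish (comul_one' k) (counit_one' k) g hgv n hx
    have h3 : hitL f (Psi (k := k) x - (2 : k) ^ (n + 1) • x) =
        (2 : k) • (Psi (k := k) (hitL f x) - (2 : k) ^ n • hitL f x) +
          Psi (k := k) (hitL g x) := by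
      have h0 : hitL f (Psi (k := k) x) = Psi (k := k) (hitL (f ∘ₗ Psi (k := k)) x) :=
        hitL_map (Psi (k := k)) (fun y => comul_Psi y) f x
      rw [map_sub, map_smul, h0, h1, map_add, map_smul, pow_succ,
        smul_sub, smul_smul, mul_comm (2 : k)]
      abel
    rw [h3]
    exact Submodule.add_mem _ (Submodule.smul_mem _ _ (ih hfx)) (Psi_mem_G n h2)

/-- in characteristic zero, a subalgebra containing the primitive elements contains the whole
filtration -/
theorem G_le_of_prim_le [CharZero k] (B : Subalgebra k H)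
    (hB : ∀ x : H, IsPrim (k := k) x → x ∈ B) (n : ℕ) :
    G (k := k) (1 : H) n ≤ Subalgebra.toSubmodule B := by
  induction n with
  | zero =>
    rw [G_zero]
    exact bot_le
  | succ n ih =>
    have h2 : G (k := k) (1 : H) 2 ≤ Subalgebra.toSubmodule B := by
      intro x hx
      have h := hB _ (isPrim_of_rc_eq_zero
        (rc_eq_zero_of_mem_G_two (comul_one' k) (counit_one' k) hx))
      have h' : x = (x - ε x • (1 : H)) + ε x • (1 : H) := by abel
      rw [h']
      exact B.add_mem h (B.smul_mem (B.one_mem) _)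
    by_cases hn : n + 1 ≤ 2
    · exact (G_mono _ hn).trans h2
    · have hn1 : 1 ≤ n := by omega
      intro x hx
      obtain ⟨t, ht⟩ := rc_mem (comul_one' k) (counit_one' k) hn1 hx
      have hmul : ∀ t : G (k := k) (1 : H) n ⊗[k] G (k := k) (1 : H) n,
          LinearMap.mul' k H (TensorProduct.map (G (k := k) (1 : H) n).subtype
            (G (k := k) (1 : H) n).subtype t) ∈ B := by
        intro t
        induction t using TensorProduct.induction_on with
        | zero =>
          rw [map_zero, map_zero]
          exact B.zero_mem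
        | tmul a b =>
          rw [TensorProduct.map_tmul, LinearMap.mul'_apply]
          exact B.mul_mem (ih a.2) (ih b.2)
        | add a b ha hb =>
          rw [map_add, map_add]
          exact B.add_mem ha hb
      have h3 := hmul t
      rw [ht, mul'_rc] at h3
      have h4 : Psi (k := k) x - (2 : k) ^ n • x ∈ B := ih (Psi_sub_mem_G n hx)
      have h5 : ((2 : k) ^ n - 2) • x ∈ B := by
        have : ((2 : k) ^ n - 2) • x =
            (Psi (k := k) x - x - x + ε x • (1 : H)) - (Psi (k := k) x - (2 : k) ^ n • x)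
              - ε x • (1 : H) := by
          rw [sub_smul, two_smul]
          abel
        rw [this]
        exact B.sub_mem (B.sub_mem h3 h4) (B.smul_mem B.one_mem _)
      have hne : ((2 : k) ^ n - 2) ≠ 0 := by
        have h6 : ((2 : ℕ) ^ n : ℕ) ≠ 2 := by
          have : 2 ^ 2 ≤ 2 ^ n := Nat.pow_le_pow_right (by norm_num) (by omega)
          omega
        intro h7
        apply h6
        have h8 : ((2 ^ n : ℕ) : k) = ((2 : ℕ) : k) := by
          push_cast
          exact sub_eq_zero.1 h7
        exact Nat.cast_injective h8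
      have h9 := B.smul_mem h5 ((2 : k) ^ n - 2)⁻¹
      rwa [smul_smul, inv_mul_cancel₀ hne, one_smul] at h9

end Cocomm

end Bialg

end Groth.Agent.Lib.Helper16.MM
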