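import Mathlib
import Groth.Agent.Lib.Helper16.MMBialg

/-!
# Pointed decomposition of commutative cocommutative Hopf algebras over an algebraically closed field
(helper16)

Every element of a commutative cocommutative Hopf algebra `A` over an algebraically closed field lies
in the span of the products `g * z` with `g` group-like and `z` in the coradical filtration `G 1 n`
of the unit.
-/

set_option autoImplicit false

namespace Groth.Agent.Lib.Helper16.MM

open TensorProduct Groth.Agent.Lib.Helper75 Groth.Agent.Lib.Helper23.HopfFlat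

universe u v w

section LinAlg

variable {k : Type u} [Field k] {C : Type v} [AddCommGroup C] [Module k C]

theorem iterate_map_eq_map_pow (T : Module.End k C) (W : Submodule k C) (N : ℕ) :
    (Submodule.map T)^[N] W = Submodule.map (T ^ N) W := by
  induction N with
  | zero =>
    rw [pow_zero, Function.iterate_zero, id_eq, Module.End.one_eq_id, Submodule.map_id]
  | succ N ih =>
    rw [Function.iterate_succ_apply', ih, pow_succ', Module.End.mul_eq_comp, Submodule.map_comp]

theorem exists_iterate_eq_bot_of_pointwise (T : Module.End k C) (W : Submodule k C)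
    [Module.Finite k W] (h : ∀ w ∈ W, ∃ N : ℕ, (T ^ N) w = 0) :
    ∃ N, (Submodule.map T)^[N] W = ⊥ := by
  classical
  obtain ⟨S, hS⟩ : W.FG := Module.Finite.iff_fg.1 inferInstance
  have h' : ∀ w : C, ∃ N : ℕ, w ∈ W → (T ^ N) w = 0 := by
    intro w
    by_cases hw : w ∈ W
    · obtain ⟨N, hN⟩ := h w hw
      exact ⟨N, fun _ => hN⟩
    · exact ⟨0, fun h => absurd h hw⟩
  choose g hg using h'
  refine ⟨S.sup g, ?_⟩
  rw [iterate_map_eq_map_pow, eq_bot_iff]
  rintro _ ⟨w, hw, rfl⟩
  rw [Submodule.mem_bot]
  have hw' : w ∈ Submodule.span k (S : Set C) := by rw [hS]; exact hw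
  induction hw' using Submodule.span_induction with
  | mem x hx =>
    have hxW : x ∈ W := by rw [← hS]; exact Submodule.subset_span hx
    exact Module.End.pow_map_zero_of_le (Finset.le_sup hx) (hg x hxW)
  | zero => simp
  | add x y hx hy ihx ihy =>
    have hxW : x ∈ W := by rw [← hS]; exact hx
    have hyW : y ∈ W := by rw [← hS]; exact hy
    rw [map_add, ihx hxW, ihy hyW, add_zero]
  | smul c x hx ihx =>
    have hxW : x ∈ W := by rw [← hS]; exact hx
    rw [map_smul, ihx hxW, smul_zero]

/-- a nonzero finite-dimensional space stable under a commuting family of operators nilpotent on it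
contains a nonzero vector killed by all of them -/
theorem exists_common_kernel {ι : Type*} (T : ι → (C →ₗ[k] C))
    (hcomm : ∀ i j, T i ∘ₗ T j = T j ∘ₗ T i) (d : ℕ) :
    ∀ (W : Submodule k C), Module.Finite k W → Module.finrank k W ≤ d → W ≠ ⊥ →
      (∀ i, W.map (T i) ≤ W) → (∀ i, ∃ N, (Submodule.map (T i))^[N] W = ⊥) →
      ∃ v ∈ W, v ≠ 0 ∧ ∀ i, T i v = 0 := by
  induction d with
  | zero =>
    intro W hfin hd hW _ _
    exact absurd (Submodule.finrank_eq_zero.1 (Nat.le_zero.1 hd)) hW
  | succ d ih =>
    intro W hfin hd hW hst hnil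
    set W' : Submodule k C := ⨆ i, W.map (T i) with hW'
    have hle : W' ≤ W := iSup_le hst
    by_cases h0 : W' = ⊥
    · obtain ⟨v, hv, hv0⟩ := (Submodule.ne_bot_iff W).1 hW
      refine ⟨v, hv, hv0, fun i => ?_⟩
      have : T i v ∈ W' := Submodule.mem_iSup_of_mem i ⟨v, hv, rfl⟩
      rwa [h0, Submodule.mem_bot] at this
    · have hne : W' ≠ W := by
        intro heq
        apply hW
        exact eq_bot_of_le_iSup_map T hcomm (d + 1) W hfin hd hst hnil (by rw [← hW', heq])
      have hlt : W' < W := lt_of_le_of_ne hle hne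
      have hfin' : Module.Finite k W' := Submodule.finiteDimensional_of_le hle
      have hd' : Module.finrank k W' ≤ d := by
        have := Submodule.finrank_lt_finrank_of_lt hlt
        omega
      have hst' : ∀ i, W'.map (T i) ≤ W' := by
        intro i
        rw [hW', Submodule.map_iSup]
        refine iSup_le fun j => ?_
        rw [← Submodule.map_comp, hcomm, Submodule.map_comp]
        exact le_iSup_of_le j (Submodule.map_mono (hst i))
      have hnil' : ∀ i, ∃ N, (Submodule.map (T i))^[N] W' = ⊥ := by
        intro i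
        obtain ⟨N, hN⟩ := hnil i
        refine ⟨N, ?_⟩
        rw [eq_bot_iff, ← hN]
        exact Monotone.iterate (fun _ _ h => Submodule.map_mono h) N hle
      obtain ⟨v, hv, hv0, hvk⟩ := ih W' hfin' hd' h0 hst' hnil'
      exact ⟨v, hle hv, hv0, hvk⟩

end LinAlg

section Coalg

variable {k : Type u} [Field k] {C : Type v} [AddCommGroup C] [Module k C] [Coalgebra k C]
  [Coalgebra.IsCocomm k C] {e : C}

/-- a finite-dimensional stable subspace on which all the `hitL f` (`f e = 0`) are nilpotent lies in
the filtration -/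
theorem le_G_of_nilpotent (d : ℕ) :
    ∀ (W : Submodule k C), Module.Finite k W → Module.finrank k W ≤ d → IsStable W →
      (∀ f : C →ₗ[k] k, f e = 0 → ∃ N, (Submodule.map (hitL f))^[N] W = ⊥) →
      W ≤ G (k := k) e d := by
  induction d with
  | zero =>
    intro W hfin hd _ _
    rw [Submodule.finrank_eq_zero.1 (Nat.le_zero.1 hd)]
    exact bot_le
  | succ d ih =>
    intro W hfin hd hst hnil
    set W' : Submodule k C := ⨆ f : {f : C →ₗ[k] k // f e = 0}, W.map (hitL f.1) with hW'
    have hle : W' ≤ W := iSup_le fun f => hst f.1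
    have hst' : IsStable W' := isStable_iSup fun f => isStable_map hst f.1
    have hfin' : Module.Finite k W' := Submodule.finiteDimensional_of_le hle
    have hnil' : ∀ f : C →ₗ[k] k, f e = 0 → ∃ N, (Submodule.map (hitL f))^[N] W' = ⊥ := by
      intro f hf
      obtain ⟨N, hN⟩ := hnil f hf
      refine ⟨N, ?_⟩
      rw [eq_bot_iff, ← hN]
      exact Monotone.iterate (fun _ _ h => Submodule.map_mono h) N hle
    by_cases heq : W' = W
    · have : W = ⊥ := by
        apply eq_bot_of_le_iSup_map (fun f : {f : C →ₗ[k] k // f e = 0} => hitL f.1)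
          (fun f g => LinearMap.ext fun x => hitL_comm f.1 g.1 x) (d + 1) W hfin hd
          (fun f => hst f.1) (fun f => hnil f.1 f.2)
        rw [← hW', heq]
      rw [this]
      exact bot_le
    · have hlt : W' < W := lt_of_le_of_ne hle heq
      have hd' : Module.finrank k W' ≤ d := by
        have := Submodule.finrank_lt_finrank_of_lt hlt
        omega
      have h1 := ih W' hfin' hd' hst' hnil'
      intro x hx
      rw [mem_G_succ]
      intro f hf
      apply h1
      exact Submodule.mem_iSup_of_mem ⟨f, hf⟩ ⟨x, hx, rfl⟩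

/-- a common eigenvector of all the `hitL f` is a multiple of a group-like element -/
theorem exists_groupLike_of_eigenvector {v : C} (hv : v ≠ 0) (χ : (C →ₗ[k] k) → k)
    (hχ : ∀ f : C →ₗ[k] k, hitL f v = χ f • v) :
    ∃ g : C, IsGroupLikeElem k g ∧ (∀ f : C →ₗ[k] k, f g = χ f) ∧ ∃ c : k, v = c • g := by
  obtain ⟨h, hh⟩ : ∃ h : C →ₗ[k] k, h v = 1 := by
    have hnot : v ∉ (⊥ : Submodule k C) := by rwa [Submodule.mem_bot]
    obtain ⟨h, hhv, -⟩ := Submodule.exists_le_ker_of_notMem hnot
    refine ⟨(h v)⁻¹ • h, ?_⟩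
    rw [LinearMap.smul_apply, smul_eq_mul, inv_mul_cancel₀ hhv]
  set g := hitR h v with hg
  have hfg : ∀ f : C →ₗ[k] k, f g = χ f := by
    intro f
    rw [hg, hitR_apply, contract_comm, ← hitL_apply, hχ, map_smul, hh, smul_eq_mul, mul_one]
  have hΔ : CoalgebraStruct.comul (R := k) v = g ⊗ₜ[k] v := by
    rw [← sub_eq_zero]
    apply eq_zero_of_contractL_eq_zero
    intro f
    rw [map_sub, contractL_tmul, ← hitL_apply, hχ, hfg, sub_self]
  have hΔ' : CoalgebraStruct.comul (R := k) v = v ⊗ₜ[k] g := by
    rw [← Coalgebra.comm_comul, hΔ, TensorProduct.comm_tmul]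
  have hgv : g = h g • v := by
    have h1 : contractL C h (g ⊗ₜ[k] v) = contractL C h (v ⊗ₜ[k] g) := by rw [← hΔ, ← hΔ']
    rw [contractL_tmul, contractL_tmul, hh, one_smul] at h1
    exact h1.symm
  have hεg : CoalgebraStruct.counit (R := k) g = 1 := by
    have h1 := hitL_counit (k := k) v
    rw [hitL_apply, hΔ, contractL_tmul] at h1
    by_contra hne
    apply hv
    have h2 : (CoalgebraStruct.counit (R := k) g - 1) • v = 0 := by
      rw [sub_smul, one_smul, h1, sub_self]
    rcases smul_eq_zero.1 h2 with h3 | h3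
    · exact absurd (sub_eq_zero.1 h3) hne
    · exact h3
  have hΔg : CoalgebraStruct.comul (R := k) g = g ⊗ₜ[k] g := by
    conv_lhs => rw [hgv]
    rw [map_smul, hΔ, ← TensorProduct.tmul_smul, ← hgv]
  have hc : h g ≠ 0 := by
    intro h0
    rw [h0, zero_smul] at hgv
    rw [hgv, map_zero] at hεg
    exact zero_ne_one hεg
  refine ⟨g, ⟨hεg, hΔg⟩, hfg, (h g)⁻¹, ?_⟩
  have h9 : (h g)⁻¹ • g = (h g)⁻¹ • (h g • v) := congrArg _ hgv
  rw [h9, smul_smul, inv_mul_cancel₀ hc, one_smul]

end Coalg

section Hopf

variable {K : Type u} [Field K] {A : Type v} [CommRing A] [HopfAlgebra K A]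
  [Coalgebra.IsCocomm K A]

variable (K A) in
/-- the span of the group-like translates of the coradical filtration of `1` -/
def Sspan : Submodule K A :=
  Submodule.span K {y | ∃ (g z : A) (n : ℕ), IsGroupLikeElem K g ∧ z ∈ G (k := K) (1 : A) n ∧
    y = g * z}

omit [Coalgebra.IsCocomm K A] in
theorem contractL_tmul_mul (f : A →ₗ[K] K) (a b : A) (t : A ⊗[K] A) :
    contractL A f ((a ⊗ₜ[K] b) * t) = b * contractL A (f ∘ₗ LinearMap.mulLeft K a) t := by
  induction t using TensorProduct.induction_on with
  | zero => simp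
  | tmul x y => simp [Algebra.TensorProduct.tmul_mul_tmul]
  | add x y hx hy => rw [mul_add, map_add, map_add, hx, hy, mul_add]

omit [Coalgebra.IsCocomm K A] in
theorem hitL_groupLike_mul {g : A} (hg : IsGroupLikeElem K g) (f : A →ₗ[K] K) (d : A) :
    hitL f (g * d) = g * hitL (f ∘ₗ LinearMap.mulLeft K g) d := by
  rw [hitL_apply, Bialgebra.comul_mul, hg.comul_eq_tmul_self, contractL_tmul_mul]
  rfl

omit [Coalgebra.IsCocomm K A] in
theorem hitL_pow_groupLike_mul {g : A} (hg : IsGroupLikeElem K g) (f : A →ₗ[K] K) (N : ℕ)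
    (d : A) :
    ((hitL f : Module.End K A) ^ N) (g * d) =
      g * ((hitL (f ∘ₗ LinearMap.mulLeft K g) : Module.End K A) ^ N) d := by
  induction N generalizing d with
  | zero => simp
  | succ N ih =>
    rw [pow_succ, Module.End.mul_apply, hitL_groupLike_mul hg, ih, pow_succ, Module.End.mul_apply]

/-- a nonzero finite-dimensional subcoalgebra on which every `hitL f` has a single generalized
eigenvalue is a group-like translate of a piece of the filtration -/
theorem exists_translate_of_single_character {D : Submodule K A} [Module.Finite K D]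
    (hD : IsStable D) (hD0 : D ≠ ⊥) (χ : (A →ₗ[K] K) → K)
    (hnil : ∀ f : A →ₗ[K] K, ∀ d ∈ D, ∃ N : ℕ,
      (((hitL f : Module.End K A) - χ f • (1 : Module.End K A)) ^ N) d = 0) :
    ∃ (g : A) (n : ℕ), IsGroupLikeElem K g ∧ ∀ d ∈ D, ∃ z ∈ G (k := K) (1 : A) n, d = g * z := by
  classical
  -- the commuting nilpotent family `T f = hitL f - χ f`
  let T : (A →ₗ[K] K) → (A →ₗ[K] A) := fun f => (hitL f : Module.End K A) - χ f • (1 : Module.End K A)
  have hT : ∀ f x, T f x = hitL f x - χ f • x := fun f x => rfl
  have hcomm : ∀ f f', T f ∘ₗ T f' = T f' ∘ₗ T f := by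
    intro f f'
    apply LinearMap.ext
    intro x
    simp only [LinearMap.comp_apply, hT, map_sub, map_smul, hitL_comm f f' x]
    rw [smul_sub, smul_sub, smul_comm (χ f) (χ f') x]
    abel
  have hst : ∀ f, D.map (T f) ≤ D := by
    rintro f _ ⟨x, hx, rfl⟩
    rw [hT]
    exact Submodule.sub_mem _ (hD f ⟨x, hx, rfl⟩) (Submodule.smul_mem _ _ hx)
  have hnilT : ∀ f, ∃ N, (Submodule.map (T f))^[N] D = ⊥ :=
    fun f => exists_iterate_eq_bot_of_pointwise (T f) D (hnil f)
  obtain ⟨v, hvD, hv0, hvk⟩ := exists_common_kernel T hcomm _ D inferInstance le_rfl hD0 hst hnilT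
  have hχ : ∀ f : A →ₗ[K] K, hitL f v = χ f • v := by
    intro f
    have := hvk f
    rw [hT, sub_eq_zero] at this
    exact this
  obtain ⟨g, hg, hfg, -⟩ := exists_groupLike_of_eigenvector hv0 χ hχ
  set g' := HopfAlgebra.antipode K g with hg'
  have hg'g : g' * g = 1 := hg.antipode_mul_cancel
  have hgg' : g * g' = 1 := hg.mul_antipode_cancel
  have hg'gl : IsGroupLikeElem K g' := hg.antipode
  set W : Submodule K A := D.map (LinearMap.mulLeft K g') with hW
  have hWst : IsStable W := by
    rintro f _ ⟨_, ⟨d, hd, rfl⟩, rfl⟩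
    rw [LinearMap.mulLeft_apply, hitL_groupLike_mul hg'gl]
    exact ⟨_, hD _ ⟨d, hd, rfl⟩, rfl⟩
  have hWnil : ∀ f : A →ₗ[K] K, f 1 = 0 → ∃ N, (Submodule.map (hitL f))^[N] W = ⊥ := by
    intro f hf
    apply exists_iterate_eq_bot_of_pointwise (hitL f : Module.End K A) W
    rintro _ ⟨d, hd, rfl⟩
    set f' := f ∘ₗ LinearMap.mulLeft K g' with hf'
    have hχf' : χ f' = 0 := by
      rw [← hfg f', hf', LinearMap.comp_apply, LinearMap.mulLeft_apply, hg'g, hf]
    obtain ⟨N, hN⟩ := hnil f' d hd
    rw [hχf', zero_smul, sub_zero] at hN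
    refine ⟨N, ?_⟩
    rw [LinearMap.mulLeft_apply, hitL_pow_groupLike_mul hg'gl, hN, mul_zero]
  have hWle := le_G_of_nilpotent (e := (1 : A)) _ W inferInstance le_rfl hWst hWnil
  refine ⟨g, _, hg, fun d hd => ⟨g' * d, hWle ⟨d, hd, rfl⟩, ?_⟩⟩
  rw [← mul_assoc, hgg', one_mul]

theorem le_Sspan [IsAlgClosed K] (n : ℕ) :
    ∀ (D : Submodule K A), Module.Finite K D → Module.finrank K D ≤ n → IsStable D →
      D ≤ Sspan K A := by
  induction n with
  | zero =>
    intro D hfin hd _
    rw [Submodule.finrank_eq_zero.1 (Nat.le_zero.1 hd)]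
    exact bot_le
  | succ n ih =>
    intro D hfin hd hD
    by_cases hD0 : D = ⊥
    · rw [hD0]
      exact bot_le
    by_cases hA : ∃ (f : A →ₗ[K] K) (μ : K),
        D ⊓ Module.End.maxGenEigenspace (hitL f : Module.End K A) μ ≠ ⊥ ∧
        D ⊓ Module.End.maxGenEigenspace (hitL f : Module.End K A) μ ≠ D
    · -- split along the generalized eigenspaces of `hitL f`
      obtain ⟨f, μ, h1, h2⟩ := hA
      have hfD : ∀ x ∈ D, (hitL f : Module.End K A) x ∈ D := fun x hx => hD f ⟨x, hx, rfl⟩
      have hsup : D ≤ ⨆ μ' : K, D ⊓ Module.End.maxGenEigenspace (hitL f : Module.End K A) μ' := by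
        have h3 := Module.End.iSup_maxGenEigenspace_eq_top
          ((hitL f : Module.End K A).restrict hfD)
        have h4 : D = (⊤ : Submodule K D).map D.subtype := (Submodule.map_subtype_top D).symm
        conv_lhs => rw [h4, ← h3, Submodule.map_iSup]
        refine iSup_mono fun μ' => ?_
        rw [Module.End.maxGenEigenspace, Module.End.maxGenEigenspace,
          Submodule.inf_genEigenspace _ _ hfD]
      refine hsup.trans (iSup_le fun μ' => ?_)
      have hle : D ⊓ Module.End.maxGenEigenspace (hitL f : Module.End K A) μ' ≤ D := inf_le_left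
      have hne : D ⊓ Module.End.maxGenEigenspace (hitL f : Module.End K A) μ' ≠ D := by
        intro heq
        by_cases hμ : μ' = μ
        · rw [hμ] at heq
          exact h2 heq
        · apply h1
          rw [eq_bot_iff]
          intro x hx
          have hx1 : x ∈ Module.End.maxGenEigenspace (hitL f : Module.End K A) μ := hx.2
          have hx2 : x ∈ Module.End.maxGenEigenspace (hitL f : Module.End K A) μ' := by
            have : x ∈ D ⊓ Module.End.maxGenEigenspace (hitL f : Module.End K A) μ' := by
              rw [heq]; exact hx.1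
            exact this.2
          have hdis := Module.End.disjoint_genEigenspace (hitL f : Module.End K A)
            (Ne.symm hμ) ⊤ ⊤
          exact (Submodule.disjoint_def.1 hdis) x hx1 hx2
      have hlt := lt_of_le_of_ne hle hne
      have hfin' : Module.Finite K ↥(D ⊓ Module.End.maxGenEigenspace (hitL f : Module.End K A) μ') :=
        Submodule.finiteDimensional_of_le hle
      have hd' : Module.finrank K
          ↥(D ⊓ Module.End.maxGenEigenspace (hitL f : Module.End K A) μ') ≤ n := by
        have := Submodule.finrank_lt_finrank_of_lt hlt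
        omega
      apply ih _ hfin' hd'
      rintro g _ ⟨x, ⟨hxD, hxE⟩, rfl⟩
      refine ⟨hD g ⟨x, hxD, rfl⟩, ?_⟩
      have hc : Commute (hitL f : Module.End K A) (hitL g : Module.End K A) := by
        apply LinearMap.ext
        intro y
        exact hitL_comm f g y
      exact Module.End.mapsTo_maxGenEigenspace_of_comm hc μ' hxE
    · -- a single character
      push Not at hA
      have hχ : ∀ f : A →ₗ[K] K, ∃ μ : K,
          D ⊓ Module.End.maxGenEigenspace (hitL f : Module.End K A) μ = D := by
        intro f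
        by_contra hcon
        push Not at hcon
        apply hD0
        have hfD : ∀ x ∈ D, (hitL f : Module.End K A) x ∈ D := fun x hx => hD f ⟨x, hx, rfl⟩
        have hsup : D ≤ ⨆ μ' : K, D ⊓ Module.End.maxGenEigenspace (hitL f : Module.End K A) μ' := by
          have h3 := Module.End.iSup_maxGenEigenspace_eq_top
            ((hitL f : Module.End K A).restrict hfD)
          have h4 : D = (⊤ : Submodule K D).map D.subtype := (Submodule.map_subtype_top D).symm
          conv_lhs => rw [h4, ← h3, Submodule.map_iSup]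
          refine iSup_mono fun μ' => ?_
          rw [Module.End.maxGenEigenspace, Module.End.maxGenEigenspace,
            Submodule.inf_genEigenspace _ _ hfD]
        rw [eq_bot_iff]
        refine hsup.trans (iSup_le fun μ' => ?_)
        by_contra hne
        have hne' : D ⊓ Module.End.maxGenEigenspace (hitL f : Module.End K A) μ' ≠ ⊥ := by
          intro h0
          apply hne
          rw [h0]
        exact hcon μ' (hA f μ' hne')
      choose χ hχ' using hχ
      have hnil : ∀ f : A →ₗ[K] K, ∀ d ∈ D, ∃ N : ℕ,
          (((hitL f : Module.End K A) - χ f • (1 : Module.End K A)) ^ N) d = 0 := by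
        intro f d hd
        have : d ∈ D ⊓ Module.End.maxGenEigenspace (hitL f : Module.End K A) (χ f) := by
          rw [hχ' f]; exact hd
        exact (Module.End.mem_maxGenEigenspace _ _ _).1 this.2
      obtain ⟨g, m, hg, hgm⟩ := exists_translate_of_single_character hD hD0 χ hnil
      intro d hd
      obtain ⟨z, hz, rfl⟩ := hgm d hd
      exact Submodule.subset_span ⟨g, z, m, hg, hz, rfl⟩

/-- pointed decomposition: over an algebraically closed field a commutative cocommutative Hopf
algebra is spanned by the group-like translates of the coradical filtration of `1` -/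
theorem Sspan_eq_top [IsAlgClosed K] : Sspan K A = ⊤ := by
  rw [eq_top_iff]
  intro x _
  exact le_Sspan _ (coalgSpan (k := K) x) inferInstance le_rfl
    (isStable_of_isSubcoalg (isSubcoalg_coalgSpan x)) (mem_coalgSpan x)

end Hopf

end Groth.Agent.Lib.Helper16.MM
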