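import Mathlib
import Groth.Agent.Lib.Helper16.MMPointed

/-!
# Diagonalizable Hopf algebras (helper16)

A commutative Hopf algebra over an algebraically closed field is spanned by its group-like
elements iff it is cocommutative and has no nonzero primitive element.  Plus the base change
comparison of primitive elements and of cocommutativity.
-/

set_option autoImplicit false

namespace Groth.Agent.Lib.Helper16.MM

open TensorProduct Groth.Agent.Lib.Helper75 Groth.Agent.Lib.Helper23.HopfFlat

universe u v w

section Abstract

variable {K : Type u} [Field K] {H : Type v} [CommRing H] [HopfAlgebra K H]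

local notation "Δ" => CoalgebraStruct.comul (R := K) (A := H)
local notation "ε" => CoalgebraStruct.counit (R := K) (A := H)

theorem G_two_le_one (hP : ∀ x : H, IsPrim (k := K) x → x = 0) :
    G (k := K) (1 : H) 2 ≤ G (k := K) (1 : H) 1 := by
  intro x hx
  have h0 := rc_eq_zero_of_mem_G_two (comul_one' K) (counit_one' K) hx
  have h1 := hP _ (isPrim_of_rc_eq_zero h0)
  rw [mem_G_one_iff (comul_one' K), sub_eq_zero.1 h1]
  exact Submodule.smul_mem _ _ (Submodule.mem_span_singleton_self _)

theorem G_succ_le_one (hP : ∀ x : H, IsPrim (k := K) x → x = 0) (n : ℕ) :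
    G (k := K) (1 : H) (n + 1) ≤ G (k := K) (1 : H) 1 := by
  induction n with
  | zero => exact le_rfl
  | succ n ih =>
    intro x hx
    apply G_two_le_one hP
    rw [mem_G_succ] at hx ⊢
    exact fun f hf => ih (hx f hf)

theorem G_le_one (hP : ∀ x : H, IsPrim (k := K) x → x = 0) (n : ℕ) :
    G (k := K) (1 : H) n ≤ G (k := K) (1 : H) 1 := by
  cases n with
  | zero => rw [G_zero]; exact bot_le
  | succ n => exact G_succ_le_one hP n

/-- cocommutative + no primitives + algebraically closed ⇒ spanned by group-likes -/
theorem span_groupLike_eq_top [IsAlgClosed K] [Coalgebra.IsCocomm K H]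
    (hP : ∀ x : H, IsPrim (k := K) x → x = 0) :
    Submodule.span K {a : H | IsGroupLikeElem K a} = ⊤ := by
  rw [eq_top_iff, ← Sspan_eq_top (K := K) (A := H), Sspan]
  apply Submodule.span_le.2
  rintro _ ⟨g, z, n, hg, hz, rfl⟩
  have hz1 := G_le_one hP n hz
  rw [mem_G_one_iff (comul_one' K)] at hz1
  obtain ⟨c, rfl⟩ := Submodule.mem_span_singleton.1 hz1
  rw [mul_smul_comm, mul_one]
  exact Submodule.smul_mem _ _ (Submodule.subset_span hg)

/-- spanned by group-likes ⇒ cocommutative -/
theorem isCocomm_of_span_groupLike
    (h : Submodule.span K {a : H | IsGroupLikeElem K a} = ⊤) : Coalgebra.IsCocomm K H := by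
  refine ⟨?_⟩
  apply LinearMap.ext_on_range (v := fun a : {a : H | IsGroupLikeElem K a} => (a : H))
  · rw [Subtype.range_coe_subtype]
    exact h
  · rintro ⟨a, ha⟩
    have ha' : IsGroupLikeElem K a := ha
    rw [LinearMap.comp_apply, ha'.comul_eq_tmul_self]
    rfl

/-- spanned by group-likes ⇒ no primitives -/
theorem prim_eq_zero_of_span_groupLike
    (h : Submodule.span K {a : H | IsGroupLikeElem K a} = ⊤) {x : H}
    (hx : IsPrim (k := K) x) : x = 0 := by
  classical
  have hli := linearIndepOn_isGroupLikeElem (R := K) (A := H)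
  have hli' : LinearIndependent K (fun a : {a : H | IsGroupLikeElem K a} => (a : H)) := hli
  have hsp : ⊤ ≤ Submodule.span K (Set.range (fun a : {a : H | IsGroupLikeElem K a} => (a : H))) := by
    rw [Subtype.range_coe_subtype]
    exact h.ge
  set b := Module.Basis.mk hli' hsp with hb
  have h1 : IsGroupLikeElem K (1 : H) := ⟨by simp, comul_one' K⟩
  set i1 : {a : H | IsGroupLikeElem K a} := ⟨1, h1⟩ with hi1
  set F : H →ₗ[K] K := b.coord i1 with hF
  have hFb : ∀ i, F (b i) = if i = i1 then 1 else 0 := by
    intro i
    rw [hF, Module.Basis.coord_apply, Module.Basis.repr_self, Finsupp.single_apply]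
  have hbi : ∀ i : {a : H | IsGroupLikeElem K a}, b i = (i : H) := fun i => by
    rw [hb, Module.Basis.mk_apply]
  -- `hitL F y = F y • 1` for all `y`
  have key : ∀ y : H, hitL F y = F y • (1 : H) := by
    intro y
    have : (hitL F : H →ₗ[K] H) = (LinearMap.toSpanSingleton K H (1 : H)) ∘ₗ F := by
      apply b.ext
      intro i
      have hgi : IsGroupLikeElem K (i : H) := i.2
      rw [LinearMap.comp_apply, LinearMap.toSpanSingleton_apply, hFb, hbi,
        hitL_grouplike hgi.comul_eq_tmul_self, ← hbi i, hFb, hbi]
      by_cases hi : i = i1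
      · rw [if_pos hi, hi]
      · rw [if_neg hi, zero_smul, zero_smul]
    rw [this, LinearMap.comp_apply, LinearMap.toSpanSingleton_apply]
  have h2 := key x
  rw [hitL_apply, hx, map_add, contractL_tmul, contractL_tmul] at h2
  have hF1 : F 1 = 1 := by
    have := hFb i1
    rw [hbi, if_pos rfl] at this
    exact this
  rw [hF1, one_smul, add_eq_left] at h2
  exact h2

end Abstract

section BaseChange

variable {k : Type u} [Field k] {K : Type w} [Field K] [Algebra k K]
  {A : Type v} [CommRing A] [Bialgebra k A]

/-- the comultiplication of the base change -/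
theorem comul_baseChange (x : K ⊗[k] A) :
    CoalgebraStruct.comul (R := K) x =
      TensorProduct.AlgebraTensorModule.distribBaseChange k K A A
        ((CoalgebraStruct.comul (R := k) (A := A)).baseChange K x) := by
  induction x using TensorProduct.induction_on with
  | zero => simp
  | add x y hx hy => rw [map_add, map_add, map_add, hx, hy]
  | tmul c a =>
    rw [TensorProduct.comul_tmul, LinearMap.baseChange_tmul]
    generalize CoalgebraStruct.comul (R := k) a = t
    induction t using TensorProduct.induction_on with
    | zero => simp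
    | add s t hs ht => rw [TensorProduct.tmul_add, TensorProduct.tmul_add, map_add, map_add, hs, ht]
    | tmul a b =>
      rw [TensorProduct.AlgebraTensorModule.distribBaseChange_tmul, CommSemiring.comul_apply,
        TensorProduct.AlgebraTensorModule.tensorTensorTensorComm_tmul]
      have h1 : (c ⊗ₜ[k] a : K ⊗[k] A) = c • ((1 : K) ⊗ₜ[k] a) := by
        rw [TensorProduct.smul_tmul', smul_eq_mul, mul_one]
      have h2 : (c ⊗ₜ[k] b : K ⊗[k] A) = c • ((1 : K) ⊗ₜ[k] b) := by
        rw [TensorProduct.smul_tmul', smul_eq_mul, mul_one]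
      rw [h1, h2, TensorProduct.smul_tmul]

local notation "DB" => TensorProduct.AlgebraTensorModule.distribBaseChange k K A A

theorem distrib_flip_one (x : K ⊗[k] A) :
    DB (((TensorProduct.mk k A A).flip 1).baseChange K x) = x ⊗ₜ[K] (1 : K ⊗[k] A) := by
  induction x using TensorProduct.induction_on with
  | zero => simp
  | add x y hx hy => rw [map_add, map_add, hx, hy, TensorProduct.add_tmul]
  | tmul c a =>
    rw [LinearMap.baseChange_tmul, LinearMap.flip_apply, TensorProduct.mk_apply,
      TensorProduct.AlgebraTensorModule.distribBaseChange_tmul, Algebra.TensorProduct.one_def]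

theorem distrib_mk_one (x : K ⊗[k] A) :
    DB ((TensorProduct.mk k A A 1).baseChange K x) = (1 : K ⊗[k] A) ⊗ₜ[K] x := by
  induction x using TensorProduct.induction_on with
  | zero => simp
  | add x y hx hy => rw [map_add, map_add, hx, hy, TensorProduct.tmul_add]
  | tmul c a =>
    rw [LinearMap.baseChange_tmul, TensorProduct.mk_apply,
      TensorProduct.AlgebraTensorModule.distribBaseChange_tmul, Algebra.TensorProduct.one_def]
    have h1 : (c ⊗ₜ[k] (1 : A) : K ⊗[k] A) = c • ((1 : K) ⊗ₜ[k] (1 : A)) := by
      rw [TensorProduct.smul_tmul', smul_eq_mul, mul_one]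
    have h2 : (c ⊗ₜ[k] a : K ⊗[k] A) = c • ((1 : K) ⊗ₜ[k] a) := by
      rw [TensorProduct.smul_tmul', smul_eq_mul, mul_one]
    rw [h1, h2, TensorProduct.smul_tmul]

theorem distrib_comm (y : K ⊗[k] (A ⊗[k] A)) :
    DB ((TensorProduct.comm k A A).toLinearMap.baseChange K y) =
      TensorProduct.comm K (K ⊗[k] A) (K ⊗[k] A) (DB y) := by
  induction y using TensorProduct.induction_on with
  | zero => simp
  | add x y hx hy => rw [map_add, map_add, map_add, map_add, hx, hy]
  | tmul c t =>
    induction t using TensorProduct.induction_on with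
    | zero => simp
    | add s t hs ht =>
      rw [TensorProduct.tmul_add, map_add, map_add, map_add, map_add, hs, ht]
    | tmul a b =>
      rw [LinearMap.baseChange_tmul, LinearEquiv.coe_coe, TensorProduct.comm_tmul,
        TensorProduct.AlgebraTensorModule.distribBaseChange_tmul,
        TensorProduct.AlgebraTensorModule.distribBaseChange_tmul, TensorProduct.comm_tmul]
      have h1 : (c ⊗ₜ[k] b : K ⊗[k] A) = c • ((1 : K) ⊗ₜ[k] b) := by
        rw [TensorProduct.smul_tmul', smul_eq_mul, mul_one]
      have h2 : (c ⊗ₜ[k] a : K ⊗[k] A) = c • ((1 : K) ⊗ₜ[k] a) := by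
        rw [TensorProduct.smul_tmul', smul_eq_mul, mul_one]
      rw [h1, h2, TensorProduct.smul_tmul]

/-- the primitive-defect map -/
noncomputable def primDefect : A →ₗ[k] A ⊗[k] A :=
  CoalgebraStruct.comul (R := k) (A := A) - (TensorProduct.mk k A A).flip 1 -
    TensorProduct.mk k A A 1

theorem primDefect_apply (a : A) :
    primDefect (k := k) a = CoalgebraStruct.comul (R := k) a - a ⊗ₜ[k] (1 : A) - (1 : A) ⊗ₜ[k] a :=
  rfl

theorem isPrim_iff_primDefect (a : A) : IsPrim (k := k) a ↔ primDefect (k := k) a = 0 := by
  rw [primDefect_apply, IsPrim, sub_sub, sub_eq_zero]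

theorem distrib_primDefect (x : K ⊗[k] A) :
    DB ((primDefect (k := k) (A := A)).baseChange K x) = primDefect (k := K) x := by
  rw [primDefect, LinearMap.baseChange_sub, LinearMap.baseChange_sub, LinearMap.sub_apply,
    LinearMap.sub_apply, map_sub, map_sub, ← comul_baseChange, distrib_flip_one, distrib_mk_one]
  rfl

/-- primitives of the base change vanish if those of `A` do -/
theorem prim_baseChange_eq_zero (hP : ∀ a : A, IsPrim (k := k) a → a = 0)
    {x : K ⊗[k] A} (hx : IsPrim (k := K) x) : x = 0 := by
  have hinj : Function.Injective (primDefect (k := k) (A := A)) := by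
    rw [← LinearMap.ker_eq_bot, eq_bot_iff]
    intro a ha
    rw [LinearMap.mem_ker, ← isPrim_iff_primDefect] at ha
    rw [Submodule.mem_bot]
    exact hP a ha
  have hinj2 : Function.Injective ((primDefect (k := k) (A := A)).baseChange K) :=
    Module.Flat.lTensor_preserves_injective_linearMap (M := K) _ hinj
  rw [isPrim_iff_primDefect, ← distrib_primDefect, LinearEquiv.map_eq_zero_iff] at hx
  exact hinj2 (hx.trans (map_zero _).symm)

/-- primitives of `A` vanish if those of the base change do -/
theorem prim_eq_zero_of_baseChange (hP : ∀ x : K ⊗[k] A, IsPrim (k := K) x → x = 0)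
    {a : A} (ha : IsPrim (k := k) a) : a = 0 := by
  have h1 : IsPrim (k := K) ((1 : K) ⊗ₜ[k] a) := by
    rw [isPrim_iff_primDefect, ← distrib_primDefect, LinearMap.baseChange_tmul,
      (isPrim_iff_primDefect a).1 ha, TensorProduct.tmul_zero, map_zero]
  have h2 := hP _ h1
  exact Module.Flat.tensorProduct_mk_injective k A K (h2.trans (TensorProduct.tmul_zero _ _).symm)

/-- cocommutativity descends along a field extension -/
theorem isCocomm_of_baseChange [Coalgebra.IsCocomm K (K ⊗[k] A)] : Coalgebra.IsCocomm k A := by
  refine ⟨?_⟩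
  apply LinearMap.ext
  intro a
  apply Module.Flat.tensorProduct_mk_injective k (A ⊗[k] A) K
  apply (DB).injective
  rw [TensorProduct.mk_apply, TensorProduct.mk_apply, LinearMap.comp_apply]
  have h1 := distrib_comm (k := k) (K := K) (A := A)
    ((1 : K) ⊗ₜ[k] CoalgebraStruct.comul (R := k) a)
  rw [LinearMap.baseChange_tmul] at h1
  have h2 := comul_baseChange (k := k) (K := K) ((1 : K) ⊗ₜ[k] a)
  rw [LinearMap.baseChange_tmul] at h2
  rw [LinearEquiv.coe_coe] at h1 ⊢
  rw [h1, ← h2, Coalgebra.comm_comul]

end BaseChange

end Groth.Agent.Lib.Helper16.MM
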