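import Mathlib
import Groth.Agent.Lib.Helper16.MMDiag
import Groth.Agent.Lib.Helper75.UnipChar

/-!
# The connected (unipotent) part of a commutative cocommutative Hopf algebra (helper16)

For a commutative cocommutative Hopf algebra `A` over a field, the union `B` of the coradical
filtration `G 1 n` of the point `1` is a Hopf subalgebra, and `B` is unipotent.
-/

set_option autoImplicit false

namespace Groth.Agent.Lib.Helper16.MM

open TensorProduct Groth.Agent.Lib.Helper75 Groth.Agent.Lib.Helper23.HopfFlat
  Groth.Agent.Lib.Helper16.FinHopf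

universe u v w

section Tensor

variable {k : Type u} [Field k] {C : Type v} [AddCommGroup C] [Module k C] [Coalgebra k C]
variable {e : C}

local notation "Δ" => CoalgebraStruct.comul (R := k) (A := C)
local notation "ε" => CoalgebraStruct.counit (R := k) (A := C)

/-- tensor form of the filtration step -/
theorem mem_G_succ_iff_tensor (hε : ε e = 1) (n : ℕ) (x : C) :
    x ∈ G (k := k) e (n + 1) ↔
      Δ x - e ⊗ₜ[k] x ∈ LinearMap.range ((G (k := k) e n).subtype.lTensor C) := by
  rw [mem_range_lTensor_iff, mem_G_succ]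
  constructor
  · intro h f
    have h1 : (f - f e • ε) e = 0 := by
      rw [LinearMap.sub_apply, LinearMap.smul_apply, hε, smul_eq_mul, mul_one, sub_self]
    have h2 := h _ h1
    rw [hitL_sub, hitL_smul, hitL_counit] at h2
    rw [map_sub, contractL_tmul, ← hitL_apply]
    exact h2
  · intro h f hf
    have h1 := h f
    rw [map_sub, contractL_tmul, ← hitL_apply, hf, zero_smul, sub_zero] at h1
    exact h1

theorem comul_mem_range_lTensor [Coalgebra.IsCocomm k C] (n : ℕ) {x : C}
    (hx : x ∈ G (k := k) e n) :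
    Δ x ∈ LinearMap.range ((G (k := k) e n).subtype.lTensor C) := by
  rw [mem_range_lTensor_iff]
  intro f
  rw [← hitL_apply]
  exact hitL_mem_G f n hx

end Tensor

section Mul

variable {k : Type u} [Field k] {A : Type v} [CommRing A] [Bialgebra k A]

local notation "Δ" => CoalgebraStruct.comul (R := k) (A := A)
local notation "ε" => CoalgebraStruct.counit (R := k) (A := A)

theorem mul_mem_range_lTensor {U W Z : Submodule k A} (h : ∀ u ∈ U, ∀ w ∈ W, u * w ∈ Z)
    {s t : A ⊗[k] A} (hs : s ∈ LinearMap.range (U.subtype.lTensor A))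
    (ht : t ∈ LinearMap.range (W.subtype.lTensor A)) :
    s * t ∈ LinearMap.range (Z.subtype.lTensor A) := by
  obtain ⟨s', rfl⟩ := hs
  obtain ⟨t', rfl⟩ := ht
  induction s' using TensorProduct.induction_on with
  | zero => rw [map_zero, zero_mul]; exact zero_mem _
  | add s₁ s₂ h₁ h₂ => rw [map_add, add_mul]; exact add_mem h₁ h₂
  | tmul a u =>
    induction t' using TensorProduct.induction_on with
    | zero => rw [map_zero, mul_zero]; exact zero_mem _
    | add t₁ t₂ h₁ h₂ => rw [map_add, mul_add]; exact add_mem h₁ h₂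
    | tmul b w =>
      refine ⟨(a * b) ⊗ₜ[k] (⟨(u : A) * (w : A), h _ u.2 _ w.2⟩ : Z), ?_⟩
      rw [LinearMap.lTensor_tmul, LinearMap.lTensor_tmul, LinearMap.lTensor_tmul,
        Algebra.TensorProduct.tmul_mul_tmul]
      rfl

variable [Coalgebra.IsCocomm k A]

theorem mul_mem_G : ∀ (N a b : ℕ), a + b ≤ N → ∀ x ∈ G (k := k) (1 : A) a,
    ∀ y ∈ G (k := k) (1 : A) b, x * y ∈ G (k := k) (1 : A) (a + b - 1) := by
  intro N
  induction N with
  | zero =>
    intro a b hab x hx y _
    have ha : a = 0 := by omega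
    subst ha
    rw [G_zero, Submodule.mem_bot] at hx
    rw [hx, zero_mul]
    exact zero_mem _
  | succ N ih =>
    intro a b hab x hx y hy
    cases a with
    | zero =>
      rw [G_zero, Submodule.mem_bot] at hx
      rw [hx, zero_mul]
      exact zero_mem _
    | succ a =>
      cases b with
      | zero =>
        rw [G_zero, Submodule.mem_bot] at hy
        rw [hy, mul_zero]
        exact zero_mem _
      | succ b =>
        have hidx : a + 1 + (b + 1) - 1 = a + b + 1 := by omega
        rw [hidx, mem_G_succ_iff_tensor (counit_one' k)]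
        have hxT := (mem_G_succ_iff_tensor (counit_one' k) a x).1 hx
        have hyT := (mem_G_succ_iff_tensor (counit_one' k) b y).1 hy
        have hΔy := comul_mem_range_lTensor (b + 1) hy
        have hx1 : (1 : A) ⊗ₜ[k] x ∈
            LinearMap.range ((G (k := k) (1 : A) (a + 1)).subtype.lTensor A) :=
          ⟨(1 : A) ⊗ₜ[k] (⟨x, hx⟩ : G (k := k) (1 : A) (a + 1)), rfl⟩
        have e1 : Δ (x * y) - (1 : A) ⊗ₜ[k] (x * y) =
            (Δ x - (1 : A) ⊗ₜ[k] x) * Δ y + ((1 : A) ⊗ₜ[k] x) * (Δ y - (1 : A) ⊗ₜ[k] y) := by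
          have h1 : (1 : A) ⊗ₜ[k] (x * y) = ((1 : A) ⊗ₜ[k] x) * ((1 : A) ⊗ₜ[k] y) := by
            rw [Algebra.TensorProduct.tmul_mul_tmul, one_mul]
          rw [Bialgebra.comul_mul, h1]
          ring
        rw [e1]
        refine add_mem (mul_mem_range_lTensor ?_ hxT hΔy) (mul_mem_range_lTensor ?_ hx1 hyT)
        · intro u hu w hw
          have := ih a (b + 1) (by omega) u hu w hw
          have hidx2 : a + (b + 1) - 1 = a + b := by omega
          rwa [hidx2] at this
        · intro u hu w hw
          have := ih (a + 1) b (by omega) u hu w hw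
          have hidx2 : a + 1 + b - 1 = a + b := by omega
          rwa [hidx2] at this

variable (k A) in
/-- the union of the coradical filtration of `1`, as a subalgebra -/
def Bsub : Subalgebra k A where
  carrier := {x | ∃ n, x ∈ G (k := k) (1 : A) n}
  mul_mem' := by
    rintro x y ⟨a, ha⟩ ⟨b, hb⟩
    exact ⟨a + b - 1, mul_mem_G (a + b) a b le_rfl x ha y hb⟩
  add_mem' := by
    rintro x y ⟨a, ha⟩ ⟨b, hb⟩
    exact ⟨max a b, add_mem (G_mono _ (le_max_left a b) ha) (G_mono _ (le_max_right a b) hb)⟩
  algebraMap_mem' := by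
    intro c
    refine ⟨1, ?_⟩
    rw [Algebra.algebraMap_eq_smul_one]
    exact Submodule.smul_mem _ _ (e_mem_G_one (comul_one' k))

theorem mem_Bsub {x : A} : x ∈ Bsub k A ↔ ∃ n, x ∈ G (k := k) (1 : A) n := Iff.rfl

theorem G_le_Bsub (n : ℕ) : G (k := k) (1 : A) n ≤ Subalgebra.toSubmodule (Bsub k A) :=
  fun _ hx => ⟨n, hx⟩

theorem isSubBialg_Bsub : IsSubBialg (Bsub k A) := by
  rintro ⟨b, n, hb⟩
  have hst : IsStable (G (k := k) (1 : A) n) := by
    rintro f _ ⟨x, hx, rfl⟩
    exact hitL_mem_G f n hx
  obtain ⟨t, ht⟩ := isSubcoalg_of_isStable hst b hb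
  show Coalgebra.comul (R := k) b ∈ (incl₂ (Bsub k A)).range
  rw [← ht]
  clear ht
  induction t using TensorProduct.induction_on with
  | zero => rw [map_zero]; exact zero_mem _
  | add x y hx hy => rw [map_add]; exact add_mem hx hy
  | tmul x y =>
    exact ⟨(⟨x, n, x.2⟩ : Bsub k A) ⊗ₜ[k] (⟨y, n, y.2⟩ : Bsub k A), rfl⟩

end Mul

section Hopf

variable {k : Type u} [Field k] {A : Type v} [CommRing A] [HopfAlgebra k A]
  [Coalgebra.IsCocomm k A]

local notation "Δ" => CoalgebraStruct.comul (R := k) (A := A)

/-- in the cocommutative case the antipode is a coalgebra map -/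
theorem comul_antipode_cocomm (a : A) :
    Δ (HopfAlgebraStruct.antipode (R := k) a) =
      TensorProduct.map (HopfAlgebraStruct.antipode (R := k) (A := A))
        (HopfAlgebraStruct.antipode (R := k) (A := A)) (Δ a) := by
  rw [comul_antipode_eq]
  conv_lhs => rw [← Coalgebra.comm_comul k a]
  generalize Δ a = t
  induction t using TensorProduct.induction_on with
  | zero => simp
  | add x y hx hy => simp only [map_add, hx, hy]
  | tmul x y =>
    rw [TensorProduct.comm_tmul, Algebra.TensorProduct.lift_tmul, TensorProduct.map_tmul]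
    simp [Algebra.TensorProduct.tmul_mul_tmul]

theorem antipode_mem_G (n : ℕ) {x : A} (hx : x ∈ G (k := k) (1 : A) n) :
    HopfAlgebraStruct.antipode (R := k) x ∈ G (k := k) (1 : A) n :=
  map_mem_G (HopfAlgebraStruct.antipode (R := k) (A := A)) comul_antipode_cocomm
    (HopfAlgebra.antipode_one) n hx

theorem antipode_mem_Bsub : ∀ b ∈ Bsub k A, HopfAlgebraStruct.antipode (R := k) b ∈ Bsub k A := by
  rintro b ⟨n, hb⟩
  exact ⟨n, antipode_mem_G n hb⟩

end Hopf

section Sub

variable {k : Type u} [Field k] {A : Type v} [CommRing A] [Bialgebra k A]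

/-- a sub-bialgebra of a cocommutative bialgebra is cocommutative -/
theorem isCocomm_sub [Coalgebra.IsCocomm k A] {B : Subalgebra k A} (hB : IsSubBialg B) :
    letI := subBialgebra hB
    Coalgebra.IsCocomm k B := by
  letI := subBialgebra hB
  refine ⟨?_⟩
  apply LinearMap.ext
  intro b
  apply incl₂_injective B
  have h1 : ∀ t : B ⊗[k] B, incl₂ B (TensorProduct.comm k B B t) =
      TensorProduct.comm k A A (incl₂ B t) := by
    intro t
    induction t using TensorProduct.induction_on with
    | zero => simp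
    | add x y hx hy => simp only [map_add, hx, hy]
    | tmul x y => rfl
  have h2 : CoalgebraStruct.comul (R := k) b = comulSub hB b := rfl
  rw [LinearMap.comp_apply, LinearEquiv.coe_coe, h1, h2, incl₂_comulSub, Coalgebra.comm_comul]

end Sub

section Inj

variable {k : Type u} [Field k] {C : Type v} [AddCommGroup C] [Module k C] [Coalgebra k C]
  {D : Type w} [AddCommGroup D] [Module k D] [Coalgebra k D]

/-- the filtration is reflected by injective coalgebra maps -/
theorem mem_G_of_map_mem_G (φ : C →ₗ[k] D) (hφ : Function.Injective φ)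
    (hΔ : ∀ x, CoalgebraStruct.comul (R := k) (φ x) =
      TensorProduct.map φ φ (CoalgebraStruct.comul (R := k) x))
    {e : C} {e' : D} (hφe : φ e = e') (n : ℕ) :
    ∀ {x : C}, φ x ∈ G (k := k) e' n → x ∈ G (k := k) e n := by
  induction n with
  | zero =>
    intro x hx
    rw [G_zero, Submodule.mem_bot] at hx ⊢
    exact hφ (hx.trans (map_zero φ).symm)
  | succ n ih =>
    intro x hx
    rw [mem_G_succ] at hx ⊢
    intro f hf
    obtain ⟨g, hg⟩ := LinearMap.exists_leftInverse_of_injective φ (LinearMap.ker_eq_bot.2 hφ)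
    have hfg : (f ∘ₗ g) ∘ₗ φ = f := by
      rw [LinearMap.comp_assoc, hg, LinearMap.comp_id]
    apply ih
    have h1 := hitL_map φ hΔ (f ∘ₗ g) x
    rw [hfg] at h1
    rw [← h1]
    apply hx
    rw [← hφe, ← LinearMap.comp_apply, hfg, hf]

end Inj

section Unip

variable {k : Type u} [Field k] {H : Type v} [CommRing H] [Bialgebra k H]
  [Coalgebra.IsCocomm k H]

theorem G_le_ufilt (n : ℕ) : G (k := k) (1 : H) n ≤ ufilt k H H n := by
  induction n with
  | zero => rw [G_zero]; exact bot_le
  | succ n ih =>
    intro x hx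
    rw [ufilt_succ, mem_ustep]
    intro f
    apply ih
    have h0 : act f x = hitR f x := rfl
    rw [h0, ← hitL_eq_hitR]
    have h1 : (f - f 1 • CoalgebraStruct.counit (R := k) (A := H)) 1 = 0 := by
      rw [LinearMap.sub_apply, LinearMap.smul_apply, counit_one', smul_eq_mul, mul_one, sub_self]
    have h2 := (mem_G_succ _ n x).1 hx _ h1
    rw [hitL_sub, hitL_smul, hitL_counit] at h2
    exact h2

end Unip

section Final

variable {k : Type u} [Field k] {A : Type v} [CommRing A] [HopfAlgebra k A]
  [Coalgebra.IsCocomm k A]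

/-- the Hopf algebra structure on `Bsub` -/
@[reducible] noncomputable def hopfBsub : HopfAlgebra k (Bsub k A) :=
  subHopfAlgebra (isSubBialg_Bsub (k := k) (A := A)) antipode_mem_Bsub

/-- the inclusion of `Bsub` -/
noncomputable def inclBsub :
    letI := hopfBsub (k := k) (A := A)
    Bsub k A →ₐc[k] A :=
  subBialgHom (isSubBialg_Bsub (k := k) (A := A)) antipode_mem_Bsub

theorem inclBsub_apply (b : Bsub k A) : inclBsub (k := k) (A := A) b = (b : A) := rfl

theorem inclBsub_injective : Function.Injective (inclBsub (k := k) (A := A)) :=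
  Subtype.val_injective

theorem isUnipotent_Bsub :
    letI := hopfBsub (k := k) (A := A)
    HopfRep.IsUnipotent k (Bsub k A) := by
  letI := hopfBsub (k := k) (A := A)
  haveI : Coalgebra.IsCocomm k (Bsub k A) := isCocomm_sub (isSubBialg_Bsub (k := k) (A := A))
  apply isUnipotent_of_regular
  rintro ⟨b, n, hb⟩
  refine ⟨n, G_le_ufilt n ?_⟩
  apply mem_G_of_map_mem_G ((Bsub k A).val.toLinearMap) Subtype.val_injective
    (e' := (1 : A)) ?_ rfl n hb
  intro x
  exact (incl₂_comulSub (isSubBialg_Bsub (k := k) (A := A)) x).symm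

end Final

end Groth.Agent.Lib.Helper16.MM
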