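import Mathlib
import Groth.Agent.Lib.Helper16.MMConn
import Groth.Agent.Lib.Helper27.DiagQuot

/-!
# The multiplicative part of a commutative cocommutative Hopf algebra (helper16)
-/

set_option autoImplicit false

namespace Groth.Agent.Lib.Helper16.MM

open TensorProduct Groth.Agent.Lib.Helper75 Groth.Agent.Lib.Helper23.HopfFlat
  Groth.Agent.Lib.Helper16.FinHopf

universe u v w

section BC

variable {k : Type u} [Field k] {K : Type w} [Field K] [Algebra k K]
  {A : Type v} [CommRing A] [Bialgebra k A]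

local notation "DB" => TensorProduct.AlgebraTensorModule.distribBaseChange k K A A

/-- the `K`-linear extension of a functional -/
noncomputable def extF (f : A →ₗ[k] k) : K ⊗[k] A →ₗ[K] K :=
  LinearMap.liftBaseChange K ((Algebra.linearMap k K) ∘ₗ f)

theorem extF_tmul (f : A →ₗ[k] k) (c : K) (a : A) :
    extF (K := K) f (c ⊗ₜ[k] a) = c * algebraMap k K (f a) := by
  rw [extF, LinearMap.liftBaseChange_tmul]
  rfl

theorem contractL_distrib (f : A →ₗ[k] k) (y : K ⊗[k] (A ⊗[k] A)) :
    contractL (K ⊗[k] A) (extF (K := K) f) (DB y) = (contractL A f).baseChange K y := by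
  induction y using TensorProduct.induction_on with
  | zero => simp
  | add x y hx hy => rw [map_add, map_add, map_add, hx, hy]
  | tmul c t =>
    induction t using TensorProduct.induction_on with
    | zero => simp
    | add s t hs ht => rw [TensorProduct.tmul_add, map_add, map_add, map_add, hs, ht]
    | tmul a b =>
      rw [TensorProduct.AlgebraTensorModule.distribBaseChange_tmul, contractL_tmul, extF_tmul,
        LinearMap.baseChange_tmul, contractL_tmul, TensorProduct.smul_tmul', smul_eq_mul, mul_one,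
        TensorProduct.tmul_smul, TensorProduct.smul_tmul', Algebra.smul_def, mul_comm]

theorem hitL_baseChange (f : A →ₗ[k] k) (x : K ⊗[k] A) :
    hitL (extF (K := K) f) x = (hitL f).baseChange K x := by
  rw [hitL_apply, comul_baseChange, contractL_distrib, ← LinearMap.comp_apply,
    ← LinearMap.baseChange_comp]
  rfl

theorem G_baseChange (n : ℕ) : ∀ x ∈ G (k := K) (1 : K ⊗[k] A) n, ∀ l : K →ₗ[k] k,
    contractL A l x ∈ G (k := k) (1 : A) n := by
  induction n with
  | zero =>
    intro x hx l
    rw [G_zero, Submodule.mem_bot] at hx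
    rw [hx, map_zero]
    exact zero_mem _
  | succ n ih =>
    intro x hx l
    rw [mem_G_succ] at hx ⊢
    intro f hf
    have h1 : extF (K := K) f (1 : K ⊗[k] A) = 0 := by
      rw [Algebra.TensorProduct.one_def, extF_tmul, hf, map_zero, mul_zero]
    have h2 := ih _ (hx _ h1) l
    rw [hitL_baseChange, LinearMap.baseChange_eq_ltensor, contractL_lTensor] at h2
    exact h2

theorem G_baseChange_le (n : ℕ) {x : K ⊗[k] A} (hx : x ∈ G (k := K) (1 : K ⊗[k] A) n) :
    x ∈ LinearMap.range ((G (k := k) (1 : A) n).subtype.lTensor K) := by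
  rw [mem_range_lTensor_iff]
  exact G_baseChange n x hx

end BC

section Quot

variable {k : Type u} [Field k] {K : Type w} [Field K] [Algebra k K]
  {A : Type v} [CommRing A] [HopfAlgebra k A] [Coalgebra.IsCocomm k A]

/-- the base change of the quotient map -/
noncomputable def quotK (J : Ideal A) [J.IsHopfIdeal k] : K ⊗[k] A →ₐc[K] K ⊗[k] (A ⧸ J) :=
  Bialgebra.TensorProduct.map (BialgHom.id K K) (Bialgebra.Quotient.mkBialgHom J)

theorem quotK_tmul (J : Ideal A) [J.IsHopfIdeal k] (c : K) (a : A) :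
    quotK (K := K) J (c ⊗ₜ[k] a) = c ⊗ₜ[k] Ideal.Quotient.mk J a := rfl

theorem quotK_surjective (J : Ideal A) [J.IsHopfIdeal k] :
    Function.Surjective (quotK (k := k) (K := K) J) := by
  intro y
  induction y using TensorProduct.induction_on with
  | zero => exact ⟨0, map_zero _⟩
  | add x y hx hy =>
    obtain ⟨x', rfl⟩ := hx
    obtain ⟨y', rfl⟩ := hy
    exact ⟨x' + y', map_add _ _ _⟩
  | tmul c q =>
    obtain ⟨a, rfl⟩ := Ideal.Quotient.mk_surjective q
    exact ⟨c ⊗ₜ[k] a, rfl⟩

theorem quotK_of_mem_G (J : Ideal A) [J.IsHopfIdeal k]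
    (hJ : ∀ n, ∀ b ∈ G (k := k) (1 : A) n,
      b - algebraMap k A (CoalgebraStruct.counit (R := k) b) ∈ J)
    (n : ℕ) {z : K ⊗[k] A} (hz : z ∈ G (k := K) (1 : K ⊗[k] A) n) :
    quotK (K := K) J z = CoalgebraStruct.counit (R := K) z • (1 : K ⊗[k] (A ⧸ J)) := by
  obtain ⟨z', rfl⟩ := G_baseChange_le n hz
  clear hz
  induction z' using TensorProduct.induction_on with
  | zero => simp
  | add x y hx hy => rw [map_add, map_add, map_add, hx, hy, add_smul]
  | tmul c b =>
    rw [LinearMap.lTensor_tmul, Submodule.subtype_apply, quotK_tmul, TensorProduct.counit_tmul,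
      CommSemiring.counit_apply]
    have h1 : Ideal.Quotient.mk J (b : A) =
        algebraMap k (A ⧸ J) (CoalgebraStruct.counit (R := k) (b : A)) := by
      have := hJ n b b.2
      rw [← Ideal.Quotient.eq] at this
      rw [this]
      rfl
    rw [h1, Algebra.algebraMap_eq_smul_one, TensorProduct.tmul_smul, Algebra.TensorProduct.one_def,
      TensorProduct.smul_tmul', TensorProduct.smul_tmul', smul_eq_mul, mul_one]

/-- the quotient by the augmentation ideal of the connected part is diagonalizable over an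
algebraically closed field -/
theorem span_groupLike_quot [IsAlgClosed K] (J : Ideal A) [J.IsHopfIdeal k]
    (hJ : ∀ n, ∀ b ∈ G (k := k) (1 : A) n,
      b - algebraMap k A (CoalgebraStruct.counit (R := k) b) ∈ J) :
    Submodule.span K {y : K ⊗[k] (A ⧸ J) | IsGroupLikeElem K y} = ⊤ := by
  rw [eq_top_iff]
  rintro y -
  obtain ⟨x, rfl⟩ := quotK_surjective (k := k) (K := K) J y
  have hx : x ∈ Sspan K (K ⊗[k] A) := by
    rw [Sspan_eq_top]
    trivial
  rw [Sspan] at hx
  induction hx using Submodule.span_induction with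
  | mem x hx =>
    obtain ⟨g, z, n, hg, hz, rfl⟩ := hx
    rw [map_mul, quotK_of_mem_G J hJ n hz, mul_smul_comm, mul_one]
    exact Submodule.smul_mem _ _ (Submodule.subset_span (hg.map (quotK (K := K) J)))
  | zero => rw [map_zero]; exact zero_mem _
  | add x y _ _ hx hy => rw [map_add]; exact add_mem hx hy
  | smul c x _ hx => rw [map_smul]; exact Submodule.smul_mem _ _ hx

end Quot

section MonAlg

open Groth.Agent.Lib.Helper27.MultRigid

variable {R' : Type u} [CommRing R'] {M : Type v} [Monoid M]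

/-- a group algebra has no nonzero primitive element -/
theorem prim_monoidAlgebra_eq_zero (y : MonoidAlgebra R' M)
    (hy : CoalgebraStruct.comul (R := R') y =
      y ⊗ₜ[R'] (1 : MonoidAlgebra R' M) + (1 : MonoidAlgebra R' M) ⊗ₜ[R'] y) : y = 0 := by
  classical
  apply MonoidAlgebra.ext
  apply Finsupp.ext
  intro m
  have h1 := evalL_comul m m y
  rw [hy, map_add, evalL_tmul, evalL_tmul, if_pos rfl] at h1
  have h2 : (1 : MonoidAlgebra R' M).coeff m = if m = 1 then 1 else 0 := by
    rw [MonoidAlgebra.one_def, MonoidAlgebra.coeff_single, Finsupp.single_apply]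
    simp only [eq_comm]
  rw [h2] at h1
  rw [MonoidAlgebra.coeff_zero, Finsupp.zero_apply]
  by_cases hm : m = 1
  · rw [if_pos hm, mul_one, one_mul] at h1
    exact add_eq_left.1 h1
  · rw [if_neg hm, mul_zero, zero_mul, add_zero] at h1
    exact h1.symm

end MonAlg

section MultType

variable {k : Type u} [Field k] {Q : Type u} [CommRing Q] [HopfAlgebra k Q]

/-- a group of multiplicative type has no nonzero homomorphism to the additive group -/
theorem prim_eq_zero_of_isMultTypeConst (h : SGA3b.IsMultTypeConst k Q) {y : Q}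
    (hy : IsPrim (k := k) y) : y = 0 := by
  obtain ⟨R', _, _, hff, M, _, ⟨e⟩⟩ := h
  have h1 : CoalgebraStruct.comul (R := R') ((1 : R') ⊗ₜ[k] y) =
      ((1 : R') ⊗ₜ[k] y) ⊗ₜ[R'] (1 : R' ⊗[k] Q) + (1 : R' ⊗[k] Q) ⊗ₜ[R'] ((1 : R') ⊗ₜ[k] y) := by
    rw [TensorProduct.comul_tmul, hy, CommSemiring.comul_apply, TensorProduct.tmul_add, map_add,
      TensorProduct.AlgebraTensorModule.tensorTensorTensorComm_tmul,
      TensorProduct.AlgebraTensorModule.tensorTensorTensorComm_tmul, Algebra.TensorProduct.one_def]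
  have h2 : CoalgebraStruct.comul (R := R') (e ((1 : R') ⊗ₜ[k] y)) =
      (e ((1 : R') ⊗ₜ[k] y)) ⊗ₜ[R'] (1 : MonoidAlgebra R' M) +
        (1 : MonoidAlgebra R' M) ⊗ₜ[R'] (e ((1 : R') ⊗ₜ[k] y)) := by
    have := (CoalgHomClass.map_comp_comul_apply e ((1 : R') ⊗ₜ[k] y)).symm
    rw [this, h1, map_add, TensorProduct.map_tmul, TensorProduct.map_tmul]
    have he1 : e (1 : R' ⊗[k] Q) = 1 := map_one e
    show e ((1 : R') ⊗ₜ[k] y) ⊗ₜ[R'] e 1 + e 1 ⊗ₜ[R'] e ((1 : R') ⊗ₜ[k] y) = _
    rw [he1]
  have h3 := prim_monoidAlgebra_eq_zero _ h2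
  have h4 : (1 : R') ⊗ₜ[k] y = 0 := by
    apply EquivLike.injective e
    rw [h3, map_zero]
  exact Module.FaithfullyFlat.tensorProduct_mk_injective (A := k) (B := R') Q
    (h4.trans (TensorProduct.tmul_zero _ _).symm)

end MultType

end Groth.Agent.Lib.Helper16.MM
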