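import Mathlib
import Groth.Agent.Lib.Helper16.MMMult

/-!
# Group-like elements descend along purely inseparable extensions (helper16)

If `K/k` is purely inseparable and `K ⊗ A` is spanned by its group-like elements, every group-like
element of `K ⊗ A` is of the form `1 ⊗ a` and `A` is spanned by its group-like elements.
-/

set_option autoImplicit false

namespace Groth.Agent.Lib.Helper16.MM

open TensorProduct Groth.Agent.Lib.Helper75 Groth.Agent.Lib.Helper23.HopfFlat

universe u v w

section Diag

variable {K : Type u} [Field K] {H : Type v} [AddCommGroup H] [Module K H]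
  {ι : Type*} (b : Module.Basis ι K H)

/-- coordinates of a diagonal operator -/
theorem repr_diag (L : H →ₗ[K] H) (c : ι → K) (hL : ∀ j, L (b j) = c j • b j) (x : H) (i : ι) :
    b.repr (L x) i = c i * b.repr x i := by
  classical
  have h : (Finsupp.lapply i ∘ₗ b.repr.toLinearMap) ∘ₗ L =
      c i • (Finsupp.lapply i ∘ₗ b.repr.toLinearMap) := by
    apply b.ext
    intro j
    simp only [LinearMap.comp_apply, LinearEquiv.coe_coe, Finsupp.lapply_apply, hL, map_smul,
      Module.Basis.repr_self, Finsupp.smul_apply, LinearMap.smul_apply, smul_eq_mul]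
    by_cases hij : j = i
    · subst hij
      simp
    · simp [Finsupp.single_apply, hij]
  exact LinearMap.congr_fun h x

end Diag

section Insep

variable {k : Type u} [Field k] {K : Type w} [Field K] [Algebra k K]
  {A : Type v} [CommRing A] [Bialgebra k A]

theorem extF_one_tmul (f : A →ₗ[k] k) (a : A) :
    extF (K := K) f ((1 : K) ⊗ₜ[k] a) = algebraMap k K (f a) := by
  rw [extF_tmul, one_mul]

/-- the eigenvalues of group-like elements lie in the base field -/
theorem extF_groupLike_mem_range [IsPurelyInseparable k K]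
    (hspan : Submodule.span K {y : K ⊗[k] A | IsGroupLikeElem K y} = ⊤)
    {g : K ⊗[k] A} (hg : IsGroupLikeElem K g) (f : A →ₗ[k] k) :
    extF (K := K) f g ∈ (algebraMap k K).range := by
  classical
  set q := ringExpChar k with hq
  haveI : ExpChar k q := ringExpChar.expChar k
  haveI : ExpChar K q := expChar_of_injective_algebraMap (algebraMap k K).injective q
  set μ : K := extF (K := K) f g with hμ
  obtain ⟨n, a, ha⟩ := IsPurelyInseparable.pow_mem k q μ
  set N := q ^ n with hN
  -- the basis of group-likes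
  have hli := linearIndepOn_isGroupLikeElem (R := K) (A := K ⊗[k] A)
  have hli' : LinearIndependent K
      (fun y : {y : K ⊗[k] A | IsGroupLikeElem K y} => (y : K ⊗[k] A)) := hli
  have hsp : ⊤ ≤ Submodule.span K
      (Set.range (fun y : {y : K ⊗[k] A | IsGroupLikeElem K y} => (y : K ⊗[k] A))) := by
    rw [Subtype.range_coe_subtype]
    exact hspan.ge
  set b := Module.Basis.mk hli' hsp with hb
  have hbi : ∀ i : {y : K ⊗[k] A | IsGroupLikeElem K y}, b i = (i : K ⊗[k] A) := fun i => by
    rw [hb, Module.Basis.mk_apply]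
  set T : A →ₗ[k] A := hitL f with hT
  set TK : (K ⊗[k] A) →ₗ[K] (K ⊗[k] A) := hitL (extF (K := K) f) with hTK
  have hTKb : ∀ i, TK (b i) = extF (K := K) f (b i) • b i := by
    intro i
    have hgi : IsGroupLikeElem K (b i) := by rw [hbi]; exact i.2
    exact hitL_grouplike hgi.comul_eq_tmul_self _
  -- the operator `P = T^N - a`
  set P : A →ₗ[k] A := (T : Module.End k A) ^ N - a • (1 : Module.End k A) with hP
  set PK : (K ⊗[k] A) →ₗ[K] (K ⊗[k] A) :=
    (TK : Module.End K (K ⊗[k] A)) ^ N - (algebraMap k K a) • (1 : Module.End K (K ⊗[k] A))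
    with hPK
  have hTKbc : TK = T.baseChange K := by
    apply LinearMap.ext
    intro x
    exact hitL_baseChange f x
  have hPKbc : PK = P.baseChange K := by
    rw [hPK, hP, hTKbc, LinearMap.baseChange_sub, LinearMap.baseChange_smul, LinearMap.baseChange_pow,
      algebraMap_smul]
    congr 2
    exact (LinearMap.baseChange_id (R := k) (A := K) (M := A)).symm
  have hpow : ∀ (m : ℕ) (i), ((TK : Module.End K (K ⊗[k] A)) ^ m) (b i) =
      (extF (K := K) f (b i)) ^ m • b i := by
    intro m i
    induction m with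
    | zero => simp
    | succ m ih =>
      rw [pow_succ', Module.End.mul_apply, ih, map_smul, hTKb, smul_smul, pow_succ]
  have hPKb : ∀ i, PK (b i) = ((extF (K := K) f (b i)) ^ N - algebraMap k K a) • b i := by
    intro i
    rw [hPK, LinearMap.sub_apply, hpow, LinearMap.smul_apply, Module.End.one_apply, sub_smul]
  -- on `ker PK`, `TK` is multiplication by `μ`
  have hker : ∀ x, PK x = 0 → TK x = μ • x := by
    intro x hx
    apply b.repr.injective
    ext i
    rw [repr_diag b TK _ hTKb, map_smul, Finsupp.smul_apply, smul_eq_mul]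
    have h1 := repr_diag b PK _ hPKb x i
    rw [hx, map_zero, Finsupp.zero_apply] at h1
    rcases mul_eq_zero.1 h1.symm with h2 | h2
    · have h3 : (extF (K := K) f (b i)) ^ N = μ ^ N := by
        rw [sub_eq_zero] at h2
        rw [h2, ← ha]
      have h4 : extF (K := K) f (b i) = μ := iterateFrobenius_inj K q n h3
      rw [h4]
    · rw [h2, mul_zero, mul_zero]
  -- `g ∈ ker PK`
  have hPKg : PK g = 0 := by
    have hgb : g = b ⟨g, hg⟩ := (hbi ⟨g, hg⟩).symm
    rw [hgb, hPKb, ← hgb, ← hμ, ← ha, sub_self, zero_smul]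
  -- `ker PK = K ⊗ ker P`
  have hkerP : LinearMap.ker P ≠ ⊥ := by
    intro hbot
    have h1 := Module.Flat.ker_lTensor_eq (R := k) K K P
    have h2 : g ∈ LinearMap.ker (TensorProduct.AlgebraTensorModule.lTensor K K P) := by
      rw [LinearMap.mem_ker]
      have : TensorProduct.AlgebraTensorModule.lTensor K K P = P.baseChange K := rfl
      rw [this, ← hPKbc]
      exact hPKg
    rw [h1] at h2
    obtain ⟨y, hy⟩ := h2
    have hsub : Subsingleton (LinearMap.ker P) := by
      rw [hbot]
      infer_instance
    have hy0 : y = 0 := Subsingleton.elim _ _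
    rw [hy0, map_zero] at hy
    exact hg.ne_zero hy.symm
  obtain ⟨d, hdP, hd0⟩ := Submodule.exists_mem_ne_zero_of_ne_bot hkerP
  have h1d : PK ((1 : K) ⊗ₜ[k] d) = 0 := by
    rw [hPKbc, LinearMap.baseChange_tmul, LinearMap.mem_ker.1 hdP, TensorProduct.tmul_zero]
  have h2d := hker _ h1d
  rw [hTKbc, LinearMap.baseChange_tmul] at h2d
  -- a functional with `l d = 1`
  obtain ⟨l0, hl0⟩ : ∃ l : A →ₗ[k] k, l d ≠ 0 := by
    by_contra hcon
    push Not at hcon
    exact hd0 ((Module.forall_dual_apply_eq_zero_iff k d).1 hcon)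
  set l : A →ₗ[k] k := (l0 d)⁻¹ • l0 with hl
  have hld : l d = 1 := by
    rw [hl, LinearMap.smul_apply, smul_eq_mul, inv_mul_cancel₀ hl0]
  have h3 := congrArg (extF (K := K) l) h2d
  rw [extF_one_tmul, map_smul, extF_one_tmul, hld, map_one, smul_eq_mul, mul_one] at h3
  exact ⟨l (T d), h3⟩

theorem extF_eq_contractR (f : A →ₗ[k] k) (x : K ⊗[k] A) :
    extF (K := K) f x = contractR K f x := by
  induction x using TensorProduct.induction_on with
  | zero => simp
  | add x y hx hy => rw [map_add, map_add, hx, hy]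
  | tmul c a => rw [extF_tmul, contractR_tmul, Algebra.smul_def, mul_comm]

/-- group-like elements are defined over the base field -/
theorem exists_eq_one_tmul_of_groupLike [IsPurelyInseparable k K]
    (hspan : Submodule.span K {y : K ⊗[k] A | IsGroupLikeElem K y} = ⊤)
    {g : K ⊗[k] A} (hg : IsGroupLikeElem K g) :
    ∃ a : A, IsGroupLikeElem k a ∧ g = (1 : K) ⊗ₜ[k] a := by
  -- `g ∈ (k·1) ⊗ A`
  set W : Submodule k K := LinearMap.range (Algebra.linearMap k K) with hW
  have h1 : g ∈ LinearMap.range (W.subtype.rTensor A) := by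
    rw [mem_range_rTensor_iff]
    intro f
    obtain ⟨c, hc⟩ := extF_groupLike_mem_range hspan hg f
    refine ⟨c, ?_⟩
    rw [Algebra.linearMap_apply, hc, extF_eq_contractR]
  obtain ⟨y, hy⟩ := h1
  have h2 : ∀ y : W ⊗[k] A, ∃ a : A, W.subtype.rTensor A y = (1 : K) ⊗ₜ[k] a := by
    intro y
    induction y using TensorProduct.induction_on with
    | zero => exact ⟨0, by simp⟩
    | add x y hx hy =>
      obtain ⟨a, ha⟩ := hx
      obtain ⟨a', ha'⟩ := hy
      exact ⟨a + a', by rw [map_add, ha, ha', TensorProduct.tmul_add]⟩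
    | tmul w a =>
      obtain ⟨w, c, rfl⟩ := w
      refine ⟨c • a, ?_⟩
      show (Algebra.linearMap k K c) ⊗ₜ[k] a = _
      rw [Algebra.linearMap_apply,
        TensorProduct.tmul_smul, TensorProduct.smul_tmul', Algebra.smul_def, mul_one]
  obtain ⟨a, ha⟩ := h2 y
  rw [hy] at ha
  refine ⟨a, ⟨?_, ?_⟩, ha⟩
  · have h3 := hg.counit_eq_one
    rw [ha, TensorProduct.counit_tmul, CommSemiring.counit_apply, Algebra.smul_def, mul_one] at h3
    exact (algebraMap k K).injective (h3.trans (map_one _).symm)
  · have h3 := hg.comul_eq_tmul_self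
    rw [ha, comul_baseChange, LinearMap.baseChange_tmul] at h3
    have h4 : ((1 : K) ⊗ₜ[k] a) ⊗ₜ[K] ((1 : K) ⊗ₜ[k] a) =
        TensorProduct.AlgebraTensorModule.distribBaseChange k K A A
          ((1 : K) ⊗ₜ[k] (a ⊗ₜ[k] a)) := by
      rw [TensorProduct.AlgebraTensorModule.distribBaseChange_tmul]
    rw [h4] at h3
    have h5 := (TensorProduct.AlgebraTensorModule.distribBaseChange k K A A).injective h3
    exact Module.Flat.tensorProduct_mk_injective k (A ⊗[k] A) K h5

/-- diagonalizability descends along purely inseparable extensions -/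
theorem span_groupLike_of_purelyInseparable [IsPurelyInseparable k K]
    (hspan : Submodule.span K {y : K ⊗[k] A | IsGroupLikeElem K y} = ⊤) :
    Submodule.span k {a : A | IsGroupLikeElem k a} = ⊤ := by
  by_contra hne
  obtain ⟨x, hx⟩ : ∃ x : A, x ∉ Submodule.span k {a : A | IsGroupLikeElem k a} := by
    by_contra hcon
    push Not at hcon
    exact hne (eq_top_iff.2 fun x _ => hcon x)
  obtain ⟨φ, hφx, hφ⟩ := Submodule.exists_le_ker_of_notMem hx
  have h0 : extF (K := K) φ = 0 := by
    apply LinearMap.ext_on_range (v := fun y : {y : K ⊗[k] A | IsGroupLikeElem K y} =>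
      (y : K ⊗[k] A))
    · rw [Subtype.range_coe_subtype]
      exact hspan
    · rintro ⟨g, hg⟩
      obtain ⟨a, ha, rfl⟩ := exists_eq_one_tmul_of_groupLike hspan hg
      rw [extF_one_tmul, LinearMap.zero_apply]
      have : a ∈ LinearMap.ker φ := hφ (Submodule.subset_span ha)
      rw [LinearMap.mem_ker.1 this, map_zero]
  have h1 := congrArg (fun F => F ((1 : K) ⊗ₜ[k] x)) h0
  simp only [extF_one_tmul, LinearMap.zero_apply] at h1
  exact hφx ((algebraMap k K).injective (h1.trans (map_zero _).symm))

end Insep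

end Groth.Agent.Lib.Helper16.MM
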