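import Mathlib.Algebra.Lie.UniversalEnveloping
import Mathlib.RingTheory.Bialgebra.Basic
import Mathlib.RingTheory.Bialgebra.Hom
import Mathlib.RingTheory.TensorProduct.Maps

/-!
# The bialgebra structure on the universal enveloping algebra (helper16)

`Δ x = x ⊗ 1 + 1 ⊗ x`, `ε x = 0` for `x ∈ L`.
-/

set_option autoImplicit false

namespace Groth.Agent.Lib.Helper16.UEA

open TensorProduct UniversalEnvelopingAlgebra

universe u v w

variable (R : Type u) [CommRing R] (L : Type v) [LieRing L] [LieAlgebra R L]

attribute [local instance 100] LieRing.ofAssociativeRing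

variable {R L}

/-- Two algebra maps out of `U(L)` agreeing on `L` agree. -/
theorem algHom_ext_ι {A : Type w} [Ring A] [Algebra R A]
    {g₁ g₂ : UniversalEnvelopingAlgebra R L →ₐ[R] A}
    (h : ∀ x : L, g₁ (ι R x) = g₂ (ι R x)) : g₁ = g₂ := by
  apply UniversalEnvelopingAlgebra.hom_ext
  ext x
  exact h x

variable (R L)

/-- `x ↦ x ⊗ 1 + 1 ⊗ x` as a Lie homomorphism. -/
noncomputable def comulLie :
    L →ₗ⁅R⁆ (UniversalEnvelopingAlgebra R L ⊗[R] UniversalEnvelopingAlgebra R L) :=
  { toLinearMap :=
      (TensorProduct.mk R _ _).flip 1 ∘ₗ (ι R : L →ₗ⁅R⁆ UniversalEnvelopingAlgebra R L).toLinearMap +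
      (TensorProduct.mk R _ _) 1 ∘ₗ (ι R : L →ₗ⁅R⁆ UniversalEnvelopingAlgebra R L).toLinearMap
    map_lie' := by
      intro x y
      simp only [AddHom.toFun_eq_coe, LinearMap.coe_toAddHom, LinearMap.add_apply,
        LinearMap.comp_apply, LinearMap.flip_apply, TensorProduct.mk_apply,
        LieHom.coe_toLinearMap, LieHom.map_lie, LieRing.of_associative_ring_bracket,
        Algebra.TensorProduct.tmul_mul_tmul, mul_add, add_mul, mul_one, one_mul,
        TensorProduct.sub_tmul, TensorProduct.tmul_sub]
      abel }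

@[simp] theorem comulLie_apply (x : L) :
    comulLie R L x = ι R x ⊗ₜ[R] 1 + 1 ⊗ₜ[R] ι R x := rfl

/-- The comultiplication of `U(L)`. -/
noncomputable def comulAlgHom :
    UniversalEnvelopingAlgebra R L →ₐ[R]
      UniversalEnvelopingAlgebra R L ⊗[R] UniversalEnvelopingAlgebra R L :=
  lift R (comulLie R L)

@[simp] theorem comulAlgHom_ι (x : L) :
    comulAlgHom R L (ι R x) = ι R x ⊗ₜ[R] 1 + 1 ⊗ₜ[R] ι R x := by
  rw [comulAlgHom, lift_ι_apply, comulLie_apply]

/-- The counit of `U(L)`. -/
noncomputable def counitAlgHom : UniversalEnvelopingAlgebra R L →ₐ[R] R :=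
  lift R (0 : L →ₗ⁅R⁆ R)

@[simp] theorem counitAlgHom_ι (x : L) : counitAlgHom R L (ι R x) = 0 := by
  rw [counitAlgHom, lift_ι_apply]
  rfl

noncomputable instance instBialgebra : Bialgebra R (UniversalEnvelopingAlgebra R L) :=
  Bialgebra.ofAlgHom (comulAlgHom R L) (counitAlgHom R L)
    (by
      apply algHom_ext_ι
      intro x
      simp only [AlgHom.comp_apply, comulAlgHom_ι, map_add, Algebra.TensorProduct.map_tmul,
        map_one, AlgHom.id_apply,
        Algebra.TensorProduct.one_def, TensorProduct.add_tmul, TensorProduct.tmul_add,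
        add_assoc]
      rfl)
    (by
      apply algHom_ext_ι
      intro x
      simp only [AlgHom.comp_apply, comulAlgHom_ι, map_add, Algebra.TensorProduct.map_tmul,
        map_one, AlgHom.id_apply, counitAlgHom_ι, TensorProduct.zero_tmul, zero_add]
      rfl)
    (by
      apply algHom_ext_ι
      intro x
      simp only [AlgHom.comp_apply, comulAlgHom_ι, map_add, Algebra.TensorProduct.map_tmul,
        map_one, AlgHom.id_apply, counitAlgHom_ι, TensorProduct.tmul_zero, add_zero]
      rfl)

theorem comul_ι (x : L) :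
    Coalgebra.comul (R := R) (ι R x) = ι R x ⊗ₜ[R] 1 + 1 ⊗ₜ[R] ι R x :=
  comulAlgHom_ι R L x

theorem counit_ι (x : L) : Coalgebra.counit (R := R) (ι R x) = 0 :=
  counitAlgHom_ι R L x

theorem comulAlgHom_eq : Bialgebra.comulAlgHom R (UniversalEnvelopingAlgebra R L) = comulAlgHom R L :=
  rfl

theorem counitAlgHom_eq :
    Bialgebra.counitAlgHom R (UniversalEnvelopingAlgebra R L) = counitAlgHom R L := rfl

instance instIsCocomm : Coalgebra.IsCocomm R (UniversalEnvelopingAlgebra R L) where
  comm_comp_comul := by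
    have h : (Algebra.TensorProduct.comm R (UniversalEnvelopingAlgebra R L)
        (UniversalEnvelopingAlgebra R L)).toAlgHom.comp (comulAlgHom R L) = comulAlgHom R L := by
      apply algHom_ext_ι
      intro x
      simp only [AlgHom.comp_apply, comulAlgHom_ι, map_add]
      exact add_comm _ _
    exact congrArg AlgHom.toLinearMap h

end Groth.Agent.Lib.Helper16.UEA
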