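import Mathlib
import Groth.Agent.Lib.Helper16.MMBialg
import Groth.Agent.Lib.Helper16.UEABialgebra

/-!
# Primitive elements of the universal enveloping algebra in characteristic zero (helper16)

Without the PBW theorem: the standard filtration `Vs ^ n` (`Vs = k·1 + ι(L)`), the Adams operator `Ψ`
acts as `2 ^ n` on `Vs ^ n / Vs ^ (n - 1)`, hence every primitive element of `U(L)` lies in `ι(L)`.
Also: the coradical filtration `G 1` of `U(L)` is exhaustive.
-/

set_option autoImplicit false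

namespace Groth.Agent.Lib.Helper16.MM

open TensorProduct UniversalEnvelopingAlgebra Groth.Agent.Lib.Helper75
  Groth.Agent.Lib.Helper23.HopfFlat Groth.Agent.Lib.Helper16.UEA

universe u v w

attribute [local instance 100] LieRing.ofAssociativeRing

section UEA

variable {k : Type u} [Field k] {L : Type v} [LieRing L] [LieAlgebra k L]

local notation "U" => UniversalEnvelopingAlgebra k L
local notation "Δ" => CoalgebraStruct.comul (R := k) (A := UniversalEnvelopingAlgebra k L)
local notation "ε" => CoalgebraStruct.counit (R := k) (A := UniversalEnvelopingAlgebra k L)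

variable (k L) in
theorem adjoin_range_ι :
    Algebra.adjoin k (Set.range (ι k : L → UniversalEnvelopingAlgebra k L)) = ⊤ := by
  set S := Algebra.adjoin k (Set.range (ι k : L → UniversalEnvelopingAlgebra k L)) with hS
  let f : L →ₗ⁅k⁆ S :=
    { toFun := fun x => ⟨ι k x, Algebra.subset_adjoin ⟨x, rfl⟩⟩
      map_add' := fun x y => Subtype.ext (by simp)
      map_smul' := fun c x => Subtype.ext (by simp)
      map_lie' := fun {x y} => Subtype.ext (by
        simp [LieRing.of_associative_ring_bracket]) }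
  have h : S.val.comp (lift k f) = AlgHom.id k _ := by
    apply Groth.Agent.Lib.Helper16.UEA.algHom_ext_ι
    intro x
    rw [AlgHom.comp_apply, lift_ι_apply]
    rfl
  rw [eq_top_iff]
  intro u _
  have h2 := congrArg (fun g => g u) h
  simp only [AlgHom.comp_apply, AlgHom.id_apply] at h2
  rw [← h2]
  exact (lift k f u).2

theorem uea_induction {P : U → Prop} (h1 : ∀ c : k, P (algebraMap k U c))
    (hι : ∀ x : L, P (ι k x)) (hadd : ∀ a b, P a → P b → P (a + b))
    (hmul : ∀ a b, P a → P b → P (a * b)) (u : U) : P u := by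
  have hu : u ∈ Algebra.adjoin k (Set.range (ι k : L → U)) := by
    rw [adjoin_range_ι]
    exact Algebra.mem_top
  induction hu using Algebra.adjoin_induction with
  | mem x hx =>
    obtain ⟨z, rfl⟩ := hx
    exact hι z
  | algebraMap c => exact h1 c
  | add a b _ _ ha hb => exact hadd a b ha hb
  | mul a b _ _ ha hb => exact hmul a b ha hb

theorem isPrim_ι (z : L) : IsPrim (k := k) (ι k z : U) := comul_ι k L z

/-- every element of `U(L)` lies in the coradical filtration -/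
theorem exists_mem_G_uea (u : U) : ∃ n, u ∈ G (k := k) (1 : U) n := by
  have key : ∀ u : U, ∀ (s : U) (n : ℕ), s ∈ G (k := k) (1 : U) n →
      ∃ m, s * u ∈ G (k := k) (1 : U) m := by
    intro u
    induction u using uea_induction with
    | h1 c =>
      intro s n hs
      refine ⟨n, ?_⟩
      rw [← Algebra.commutes, ← Algebra.smul_def]
      exact Submodule.smul_mem _ _ hs
    | hι z =>
      intro s n hs
      exact ⟨n + 1, mul_prim_mem_G (isPrim_ι z) n hs⟩
    | hadd a b ha hb =>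
      intro s n hs
      obtain ⟨m₁, h₁⟩ := ha s n hs
      obtain ⟨m₂, h₂⟩ := hb s n hs
      refine ⟨max m₁ m₂, ?_⟩
      rw [mul_add]
      exact Submodule.add_mem _ (G_mono _ (le_max_left _ _) h₁) (G_mono _ (le_max_right _ _) h₂)
    | hmul a b ha hb =>
      intro s n hs
      obtain ⟨m₁, h₁⟩ := ha s n hs
      obtain ⟨m₂, h₂⟩ := hb (s * a) m₁ h₁
      exact ⟨m₂, by rwa [← mul_assoc]⟩
  obtain ⟨m, hm⟩ := key u 1 1 (e_mem_G_one (comul_one' k))
  exact ⟨m, by rwa [one_mul] at hm⟩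

variable (k L) in
/-- `k·1 + ι(L)` -/
noncomputable def Vs : Submodule k U :=
  1 ⊔ LinearMap.range ((ι k : L →ₗ⁅k⁆ U) : L →ₗ[k] U)

theorem mem_Vs (u : U) : u ∈ Vs k L ↔ ∃ (c : k) (z : L), u = c • (1 : U) + ι k z := by
  rw [Vs, Submodule.mem_sup]
  constructor
  · rintro ⟨a, ha, b, hb, rfl⟩
    obtain ⟨c, rfl⟩ := Submodule.mem_one.1 ha
    obtain ⟨z, rfl⟩ := hb
    exact ⟨c, z, by rw [Algebra.algebraMap_eq_smul_one]; rfl⟩
  · rintro ⟨c, z, rfl⟩
    exact ⟨c • 1, Submodule.mem_one.2 ⟨c, Algebra.algebraMap_eq_smul_one c⟩, ι k z, ⟨z, rfl⟩, rfl⟩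

theorem one_le_Vs : (1 : Submodule k U) ≤ Vs k L := le_sup_left

theorem one_mem_one' : (1 : U) ∈ (1 : Submodule k U) := Submodule.one_le.1 le_rfl

theorem ι_mem_Vs (z : L) : ι k z ∈ Vs k L := (mem_Vs _).2 ⟨0, z, by rw [zero_smul, zero_add]⟩

theorem Vs_pow_le_succ (n : ℕ) : Vs k L ^ n ≤ Vs k L ^ (n + 1) := by
  rw [pow_succ]
  intro a ha
  have h := Submodule.mul_mem_mul ha (one_le_Vs (k := k) (L := L) one_mem_one')
  rwa [mul_one] at h

theorem Vs_pow_mono {m n : ℕ} (h : m ≤ n) : Vs k L ^ m ≤ Vs k L ^ n :=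
  monotone_nat_of_le_succ Vs_pow_le_succ h

theorem mul_mem_Vs_pow {i j : ℕ} {a b : U} (ha : a ∈ Vs k L ^ i) (hb : b ∈ Vs k L ^ j) :
    a * b ∈ Vs k L ^ (i + j) := by
  rw [pow_add]
  exact Submodule.mul_mem_mul ha hb

theorem mul_mem_Vs_pow_succ {i : ℕ} {a b : U} (ha : a ∈ Vs k L ^ i) (hb : b ∈ Vs k L) :
    a * b ∈ Vs k L ^ (i + 1) := by
  rw [pow_succ]
  exact Submodule.mul_mem_mul ha hb

theorem exists_mem_Vs_pow (u : U) : ∃ n, u ∈ Vs k L ^ n := by
  induction u using uea_induction with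
  | h1 c =>
    refine ⟨0, ?_⟩
    rw [pow_zero]
    exact Submodule.mem_one.2 ⟨c, rfl⟩
  | hι z =>
    refine ⟨1, ?_⟩
    rw [pow_one]
    exact ι_mem_Vs z
  | hadd a b ha hb =>
    obtain ⟨m₁, h₁⟩ := ha
    obtain ⟨m₂, h₂⟩ := hb
    exact ⟨max m₁ m₂, Submodule.add_mem _ (Vs_pow_mono (le_max_left _ _) h₁)
      (Vs_pow_mono (le_max_right _ _) h₂)⟩
  | hmul a b ha hb =>
    obtain ⟨m₁, h₁⟩ := ha
    obtain ⟨m₂, h₂⟩ := hb
    exact ⟨m₁ + m₂, mul_mem_Vs_pow h₁ h₂⟩

/-- `adR y u = u y - y u` -/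
noncomputable def adR (y : U) : U →ₗ[k] U := LinearMap.mulRight k y - LinearMap.mulLeft k y

theorem adR_apply (y u : U) : adR y u = u * y - y * u := rfl

theorem adR_mul (y a b : U) : adR y (a * b) = a * adR y b + adR y a * b := by
  simp only [adR_apply]
  noncomm_ring

theorem adR_mem_Vs (y : L) {b : U} (hb : b ∈ Vs k L) : adR (ι k y) b ∈ Vs k L := by
  obtain ⟨c, z, rfl⟩ := (mem_Vs _).1 hb
  have h : adR (ι k y) (c • (1 : U) + ι k z) = ι k ⁅z, y⁆ := by
    rw [adR_apply, LieHom.map_lie, LieRing.of_associative_ring_bracket, add_mul, mul_add,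
      smul_mul_assoc, mul_smul_comm, one_mul, mul_one]
    abel
  rw [h]
  exact ι_mem_Vs _

theorem adR_mem_Vs_pow (y : L) (n : ℕ) :
    ∀ {u : U}, u ∈ Vs k L ^ n → adR (ι k y) u ∈ Vs k L ^ n := by
  induction n with
  | zero =>
    intro u hu
    rw [pow_zero] at hu
    obtain ⟨c, rfl⟩ := Submodule.mem_one.1 hu
    rw [adR_apply, Algebra.commutes, sub_self]
    exact zero_mem _
  | succ n ih =>
    intro u hu
    rw [pow_succ] at hu
    refine Submodule.mul_induction_on hu (fun a ha b hb => ?_) (fun a b ha hb => ?_)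
    · rw [adR_mul]
      exact Submodule.add_mem _ (mul_mem_Vs_pow_succ ha (adR_mem_Vs y hb))
        (mul_mem_Vs_pow_succ (ih ha) hb)
    · rw [map_add]
      exact Submodule.add_mem _ ha hb

variable (k L) in
/-- the tensor filtration `Σ_{i+j=n} Vs^i ⊗ Vs^j` -/
noncomputable def Tn (n : ℕ) : Submodule k (U ⊗[k] U) :=
  Submodule.span k {t | ∃ (i j : ℕ) (a b : U), i + j = n ∧ a ∈ Vs k L ^ i ∧ b ∈ Vs k L ^ j ∧
    t = a ⊗ₜ[k] b}

theorem tmul_mem_Tn {i j n : ℕ} (h : i + j = n) {a b : U} (ha : a ∈ Vs k L ^ i)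
    (hb : b ∈ Vs k L ^ j) : a ⊗ₜ[k] b ∈ Tn k L n :=
  Submodule.subset_span ⟨i, j, a, b, h, ha, hb, rfl⟩

theorem Tn_induction {n : ℕ} {P : U ⊗[k] U → Prop}
    (hmem : ∀ (i j : ℕ) (a b : U), i + j = n → a ∈ Vs k L ^ i → b ∈ Vs k L ^ j → P (a ⊗ₜ[k] b))
    (hzero : P 0) (hadd : ∀ s t, P s → P t → P (s + t)) (hsmul : ∀ (c : k) t, P t → P (c • t))
    {t : U ⊗[k] U} (ht : t ∈ Tn k L n) : P t := by
  induction ht using Submodule.span_induction with
  | mem t ht =>
    obtain ⟨i, j, a, b, h, ha, hb, rfl⟩ := ht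
    exact hmem i j a b h ha hb
  | zero => exact hzero
  | add s t _ _ hs ht => exact hadd s t hs ht
  | smul c t _ ht => exact hsmul c t ht

theorem Tn_le_succ (n : ℕ) : Tn k L n ≤ Tn k L (n + 1) := by
  apply Submodule.span_le.2
  rintro _ ⟨i, j, a, b, h, ha, hb, rfl⟩
  exact tmul_mem_Tn (by omega : (i + 1) + j = n + 1) (Vs_pow_le_succ i ha) hb

theorem mul_comul_mem_Tn {n : ℕ} {t : U ⊗[k] U} (ht : t ∈ Tn k L n) {b : U} (hb : b ∈ Vs k L) :
    t * Δ b ∈ Tn k L (n + 1) := by
  obtain ⟨c, z, rfl⟩ := (mem_Vs _).1 hb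
  rw [map_add, map_smul, comul_one', comul_ι, mul_add, mul_add]
  refine Submodule.add_mem _ ?_ (Submodule.add_mem _ ?_ ?_)
  · rw [mul_smul_comm, ← Algebra.TensorProduct.one_def, mul_one]
    exact Submodule.smul_mem _ _ (Tn_le_succ n ht)
  · refine Tn_induction (P := fun t => t * (ι k z ⊗ₜ[k] (1 : U)) ∈ Tn k L (n + 1))
      (fun i j a b h ha hb => ?_) ?_ (fun s t hs ht => ?_) (fun c t ht => ?_) ht
    · rw [Algebra.TensorProduct.tmul_mul_tmul, mul_one]
      exact tmul_mem_Tn (by omega : (i + 1) + j = n + 1) (mul_mem_Vs_pow_succ ha (ι_mem_Vs z)) hb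
    · rw [zero_mul]; exact zero_mem _
    · rw [add_mul]; exact Submodule.add_mem _ hs ht
    · rw [smul_mul_assoc]; exact Submodule.smul_mem _ _ ht
  · refine Tn_induction (P := fun t => t * ((1 : U) ⊗ₜ[k] ι k z) ∈ Tn k L (n + 1))
      (fun i j a b h ha hb => ?_) ?_ (fun s t hs ht => ?_) (fun c t ht => ?_) ht
    · rw [Algebra.TensorProduct.tmul_mul_tmul, mul_one]
      exact tmul_mem_Tn (by omega : i + (j + 1) = n + 1) ha (mul_mem_Vs_pow_succ hb (ι_mem_Vs z))
    · rw [zero_mul]; exact zero_mem _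
    · rw [add_mul]; exact Submodule.add_mem _ hs ht
    · rw [smul_mul_assoc]; exact Submodule.smul_mem _ _ ht

theorem comul_mem_Tn (n : ℕ) : ∀ {u : U}, u ∈ Vs k L ^ n → Δ u ∈ Tn k L n := by
  induction n with
  | zero =>
    intro u hu
    rw [pow_zero] at hu
    obtain ⟨c, rfl⟩ := Submodule.mem_one.1 hu
    rw [Algebra.algebraMap_eq_smul_one, map_smul, comul_one']
    refine Submodule.smul_mem _ _ (tmul_mem_Tn (i := 0) (j := 0) rfl ?_ ?_) <;>
    · rw [pow_zero]
      exact one_mem_one'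
  | succ n ih =>
    intro u hu
    rw [pow_succ] at hu
    refine Submodule.mul_induction_on hu (fun a ha b hb => ?_) (fun a b ha hb => ?_)
    · rw [Bialgebra.comul_mul]
      exact mul_comul_mem_Tn (ih ha) hb
    · rw [map_add]
      exact Submodule.add_mem _ ha hb

theorem mul'_map_mem {A B : U →ₗ[k] U} (hA : ∀ (i : ℕ) (u : U), u ∈ Vs k L ^ i → A u ∈ Vs k L ^ i)
    (hB : ∀ (i : ℕ) (u : U), u ∈ Vs k L ^ i → B u ∈ Vs k L ^ i) {n : ℕ} {t : U ⊗[k] U}
    (ht : t ∈ Tn k L n) : LinearMap.mul' k U (TensorProduct.map A B t) ∈ Vs k L ^ n := by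
  refine Tn_induction (P := fun t => LinearMap.mul' k U (TensorProduct.map A B t) ∈ Vs k L ^ n)
    (fun i j a b h ha hb => ?_) ?_ (fun s t hs ht => ?_) (fun c t ht => ?_) ht
  · rw [TensorProduct.map_tmul, LinearMap.mul'_apply, ← h]
    exact mul_mem_Vs_pow (hA i a ha) (hB j b hb)
  · rw [map_zero, map_zero]; exact zero_mem _
  · rw [map_add, map_add]; exact Submodule.add_mem _ hs ht
  · rw [map_smul, map_smul]; exact Submodule.smul_mem _ _ ht

theorem mul'_mul_tmul_one (t : U ⊗[k] U) (y : U) :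
    LinearMap.mul' k U (t * (y ⊗ₜ[k] (1 : U))) =
      LinearMap.mul' k U t * y - LinearMap.mul' k U (TensorProduct.map LinearMap.id (adR y) t) := by
  induction t using TensorProduct.induction_on with
  | zero => simp
  | tmul a b =>
    rw [Algebra.TensorProduct.tmul_mul_tmul, TensorProduct.map_tmul, LinearMap.mul'_apply,
      LinearMap.mul'_apply, LinearMap.mul'_apply, adR_apply, LinearMap.id_apply]
    noncomm_ring
  | add a b ha hb =>
    rw [add_mul, map_add, map_add, map_add, map_add, ha, hb, add_mul]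
    abel

theorem mul'_mul_one_tmul (t : U ⊗[k] U) (y : U) :
    LinearMap.mul' k U (t * ((1 : U) ⊗ₜ[k] y)) = LinearMap.mul' k U t * y := by
  induction t using TensorProduct.induction_on with
  | zero => simp
  | tmul a b =>
    rw [Algebra.TensorProduct.tmul_mul_tmul, LinearMap.mul'_apply, LinearMap.mul'_apply, mul_one,
      mul_assoc]
  | add a b ha hb => rw [add_mul, map_add, map_add, ha, hb, add_mul]

theorem Psi_mul_prim (u : U) {y : U} (hy : IsPrim (k := k) y) :
    Psi (k := k) (u * y) = Psi (k := k) u * y + Psi (k := k) u * y -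
      LinearMap.mul' k U (TensorProduct.map LinearMap.id (adR y) (Δ u)) := by
  rw [Psi_apply, Bialgebra.comul_mul, hy, mul_add, map_add, mul'_mul_tmul_one, mul'_mul_one_tmul,
    ← Psi_apply]
  abel

theorem Psi_sub_mem_Vs_pow (n : ℕ) :
    ∀ {u : U}, u ∈ Vs k L ^ (n + 1) → Psi (k := k) u - (2 : k) ^ (n + 1) • u ∈ Vs k L ^ n := by
  induction n with
  | zero =>
    intro u hu
    rw [zero_add, pow_one] at hu
    obtain ⟨c, z, rfl⟩ := (mem_Vs _).1 hu
    rw [map_add, map_smul, Psi_one, Psi_prim (isPrim_ι z), zero_add, pow_one, pow_zero]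
    have h : c • (1 : U) + (ι k z + ι k z) - (2 : k) • (c • (1 : U) + ι k z) = (-c) • (1 : U) := by
      rw [two_smul, neg_smul]
      abel
    rw [h]
    exact Submodule.smul_mem _ _ one_mem_one'
  | succ n ih =>
    intro u hu
    rw [pow_succ] at hu
    refine Submodule.mul_induction_on hu (fun a ha b hb => ?_) (fun a b ha hb => ?_)
    · obtain ⟨c, z, rfl⟩ := (mem_Vs _).1 hb
      have h1 := ih ha
      have hD : LinearMap.mul' k U (TensorProduct.map LinearMap.id (adR (ι k z)) (Δ a)) ∈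
          Vs k L ^ (n + 1) :=
        mul'_map_mem (fun _ _ h => h) (fun i u h => adR_mem_Vs_pow z i h) (comul_mem_Tn (n + 1) ha)
      have h2 : Psi (k := k) (a * (c • (1 : U) + ι k z)) -
          (2 : k) ^ (n + 1 + 1) • (a * (c • (1 : U) + ι k z)) =
          c • (Psi (k := k) a - (2 : k) ^ (n + 1) • a) - ((2 : k) ^ (n + 1) * c) • a +
          ((2 : k) • ((Psi (k := k) a - (2 : k) ^ (n + 1) • a) * ι k z) -
            LinearMap.mul' k U (TensorProduct.map LinearMap.id (adR (ι k z)) (Δ a))) := by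
        rw [mul_add, mul_smul_comm, mul_one, map_add, map_smul, Psi_mul_prim a (isPrim_ι z),
          pow_succ (2 : k) (n + 1), sub_mul, smul_mul_assoc]
        module
      rw [h2]
      refine Submodule.add_mem _ (Submodule.sub_mem _
        (Submodule.smul_mem _ _ (Vs_pow_le_succ n h1)) (Submodule.smul_mem _ _ ha))
        (Submodule.sub_mem _ (Submodule.smul_mem _ _ (mul_mem_Vs_pow_succ h1 (ι_mem_Vs z))) hD)
    · have : Psi (k := k) (a + b) - (2 : k) ^ (n + 1 + 1) • (a + b) =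
          (Psi (k := k) a - (2 : k) ^ (n + 1 + 1) • a) +
            (Psi (k := k) b - (2 : k) ^ (n + 1 + 1) • b) := by
        rw [map_add, smul_add]
        abel
      rw [this]
      exact Submodule.add_mem _ ha hb

theorem two_pow_ne_two [CharZero k] (n : ℕ) : (2 : k) - (2 : k) ^ (n + 2) ≠ 0 := by
  intro h7
  have h6 : ((2 : ℕ) ^ (n + 2) : ℕ) ≠ 2 := by
    have : 2 ^ 2 ≤ 2 ^ (n + 2) := Nat.pow_le_pow_right (by norm_num) (by omega)
    omega
  apply h6
  have h8 : ((2 ^ (n + 2) : ℕ) : k) = ((2 : ℕ) : k) := by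
    push_cast
    exact (sub_eq_zero.1 h7).symm
  exact Nat.cast_injective h8

/-- in characteristic zero the primitive elements of `U(L)` are the elements of `L` -/
theorem exists_eq_ι_of_isPrim [CharZero k] {x : U} (hx : IsPrim (k := k) x) :
    ∃ z : L, x = ι k z := by
  have down : ∀ n : ℕ, x ∈ Vs k L ^ (n + 1) → x ∈ Vs k L ^ 1 := by
    intro n
    induction n with
    | zero => exact fun h => h
    | succ n ih =>
      intro h
      apply ih
      have h1 := Psi_sub_mem_Vs_pow (n + 1) h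
      rw [Psi_prim hx, ← two_smul k x, ← sub_smul] at h1
      have h2 := Submodule.smul_mem _ ((2 : k) - (2 : k) ^ (n + 1 + 1))⁻¹ h1
      rwa [smul_smul, inv_mul_cancel₀ (two_pow_ne_two n), one_smul] at h2
  obtain ⟨n, hn⟩ := exists_mem_Vs_pow x
  have h1 : x ∈ Vs k L ^ 1 := down n (Vs_pow_le_succ n hn)
  rw [pow_one] at h1
  obtain ⟨c, z, rfl⟩ := (mem_Vs _).1 h1
  refine ⟨z, ?_⟩
  have h2 := counit_prim hx
  rw [map_add, map_smul, counit_one', counit_ι, add_zero, smul_eq_mul, mul_one] at h2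
  rw [h2, zero_smul, zero_add]

end UEA

end Groth.Agent.Lib.Helper16.MM
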