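import Groth.Agent.Lib.Helper16.MMInsep
import Groth.Agent.Lib.Helper27.DiagQuot

/-!
# Groups of multiplicative type over a field (helper16)

* `cancelBaseChangeBialg` : `L ⊗[K] (K ⊗[k] A) ≃ₐc[L] L ⊗[k] A`.
* `isMultTypeConst_of_isMultType` : over a field, `IsMultType → IsMultTypeConst`.
* `exists_field_isDiag` : `IsMultTypeConst k A →` diagonalisable over a field extension.
* `isCocomm_of_isMultTypeConst`.
* `span_groupLike_algClosure` : `AlgebraicClosure k ⊗ A` is spanned by group-likes.
* `isDiagFT_of_span` : spanned by group-likes + finite type ⇒ `IsDiagFT`.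
-/

set_option autoImplicit false

open TensorProduct

namespace Groth.Agent.Lib.Helper16.MT

universe u

section Cancel

variable (k K L A : Type u) [CommRing k] [CommRing K] [CommRing L] [CommRing A]
  [Algebra k K] [Algebra K L] [Algebra k L] [IsScalarTower k K L] [Bialgebra k A]

/-- transitivity of base change, as a bialgebra isomorphism -/
noncomputable def cancelBaseChangeBialg : L ⊗[K] (K ⊗[k] A) ≃ₐc[L] L ⊗[k] A :=
  BialgEquiv.ofAlgEquiv (Algebra.TensorProduct.cancelBaseChange k K L L A)
    (by
      ext a
      simp
      rw [Algebra.smul_def, mul_one, Algebra.smul_def, mul_one,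
        ← IsScalarTower.algebraMap_apply])
    (by
      ext a
      simp
      generalize CoalgebraStruct.comul (R := k) a = t
      induction t using TensorProduct.induction_on with
      | zero => simp
      | add s t hs ht =>
        simp only [TensorProduct.tmul_add, map_add] at hs ht ⊢
        rw [hs, ht]
      | tmul x y =>
        simp)

theorem cancelBaseChangeBialg_tmul (l : L) (c : K) (a : A) :
    cancelBaseChangeBialg k K L A (l ⊗ₜ[K] (c ⊗ₜ[k] a)) = (c • l) ⊗ₜ[k] a :=
  Algebra.TensorProduct.cancelBaseChange_tmul ..

end Cancel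

section Transport

variable {K : Type u} [CommRing K] {H H' : Type u} [CommRing H] [Bialgebra K H]
  [CommRing H'] [Bialgebra K H']

/-- being spanned by group-likes is transported by surjective bialgebra maps -/
theorem span_groupLike_of_surjective (e : H →ₐc[K] H') (he : Function.Surjective e)
    (h : Submodule.span K {a : H | IsGroupLikeElem K a} = ⊤) :
    Submodule.span K {a : H' | IsGroupLikeElem K a} = ⊤ := by
  rw [eq_top_iff]
  rintro y -
  obtain ⟨x, rfl⟩ := he y
  have hx : x ∈ Submodule.span K {a : H | IsGroupLikeElem K a} := by rw [h]; trivial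
  induction hx using Submodule.span_induction with
  | mem x hx => exact Submodule.subset_span (hx.map e)
  | zero => rw [map_zero]; exact Submodule.zero_mem _
  | add x y _ _ hx hy => rw [map_add]; exact Submodule.add_mem _ hx hy
  | smul r x _ hx => rw [map_smul]; exact Submodule.smul_mem _ _ hx

end Transport

section MultType

variable {k : Type u} [Field k] {A : Type u} [CommRing A] [HopfAlgebra k A]

theorem nontrivial_of_faithfullyFlat {F : Type u} [CommRing F] [Nontrivial F] {R' : Type u}
    [CommRing R'] [Algebra F R'] (hff : Module.FaithfullyFlat F R') : Nontrivial R' := by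
  by_contra hnt
  rw [not_nontrivial_iff_subsingleton] at hnt
  obtain ⟨m₀, hm₀⟩ := Ideal.exists_maximal F
  exact hff.submodule_ne_top hm₀ (Subsingleton.elim _ _)

/-- over a field, multiplicative type means multiplicative type of constant type -/
theorem isMultTypeConst_of_isMultType (h : SGA3b.IsMultType k A) : SGA3b.IsMultTypeConst k A := by
  obtain ⟨s, hs, hmt⟩ := h
  have hex : ∃ f ∈ s, f ≠ 0 := by
    by_contra hne
    push Not at hne
    have hbot : Ideal.span s = ⊥ := by rw [Ideal.span_eq_bot]; exact hne
    rw [hbot] at hs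
    exact bot_ne_top hs
  obtain ⟨f, hfs, hf0⟩ := hex
  obtain ⟨R', _, _, hff, M, _, ⟨e⟩⟩ := hmt f hfs
  have hunits : Submonoid.powers f ≤ IsUnit.submonoid k := by
    rintro x ⟨n, rfl⟩
    exact (isUnit_iff_ne_zero.2 hf0).pow n
  have eK : k ≃ₐ[k] Localization.Away f :=
    IsLocalization.atUnits k (Submonoid.powers f) hunits
  have hK : IsField (Localization.Away f) :=
    (eK.symm.toMulEquiv).isField (Field.toIsField k)
  haveI : Nontrivial (Localization.Away f) := hK.nontrivial
  haveI : Nontrivial R' := nontrivial_of_faithfullyFlat hff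
  letI : Algebra k R' :=
    ((algebraMap (Localization.Away f) R').comp (algebraMap k (Localization.Away f))).toAlgebra
  haveI : IsScalarTower k (Localization.Away f) R' := IsScalarTower.of_algebraMap_eq (fun x => rfl)
  exact ⟨R', inferInstance, inferInstance, inferInstance, M, inferInstance,
    ⟨(cancelBaseChangeBialg k (Localization.Away f) R' A).symm.trans e⟩⟩

/-- a group of multiplicative type over a field is diagonalisable over some field extension -/
theorem exists_field_isDiag (h : SGA3b.IsMultTypeConst k A) :
    ∃ (K : Type u) (_ : Field K) (_ : Algebra k K), SGA3b.IsDiag K (K ⊗[k] A) := by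
  obtain ⟨R', _, _, hff, M, _, ⟨e⟩⟩ := h
  haveI : Nontrivial R' := nontrivial_of_faithfullyFlat hff
  obtain ⟨m, hm⟩ := Ideal.exists_maximal R'
  letI : Field (R' ⧸ m) := Ideal.Quotient.field m
  exact ⟨R' ⧸ m, inferInstance, inferInstance,
    Groth.Agent.Lib.Helper27.MultRigid.isDiag_quot (BialgHom.id k A) Function.surjective_id e m⟩

end MultType

section Cocomm

variable {K : Type u} [CommRing K] {H H' : Type u} [CommRing H] [Bialgebra K H]
  [CommRing H'] [Bialgebra K H']

/-- cocommutativity is transported along bialgebra isomorphisms -/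
theorem isCocomm_of_bialgEquiv (e : H ≃ₐc[K] H') [Coalgebra.IsCocomm K H'] :
    Coalgebra.IsCocomm K H := by
  refine ⟨?_⟩
  apply LinearMap.ext
  intro x
  have hinj : Function.Injective (TensorProduct.map (e : H →ₗ[K] H') (e : H →ₗ[K] H')) :=
    (TensorProduct.congr (e : H ≃ₗ[K] H') (e : H ≃ₗ[K] H')).injective
  apply hinj
  rw [LinearMap.comp_apply, LinearEquiv.coe_coe]
  have h1 : ∀ t : H ⊗[K] H, TensorProduct.map (e : H →ₗ[K] H') (e : H →ₗ[K] H')
      (TensorProduct.comm K H H t) =
      TensorProduct.comm K H' H' (TensorProduct.map (e : H →ₗ[K] H') (e : H →ₗ[K] H') t) := by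
    intro t
    induction t using TensorProduct.induction_on with
    | zero => simp
    | add s t hs ht => rw [map_add, map_add, map_add, map_add, hs, ht]
    | tmul a b => rfl
  rw [h1]
  have h2 : TensorProduct.map (e : H →ₗ[K] H') (e : H →ₗ[K] H')
      (CoalgebraStruct.comul (R := K) x) = CoalgebraStruct.comul (R := K) (e x) :=
    CoalgHomClass.map_comp_comul_apply e x
  rw [h2, Coalgebra.comm_comul]

end Cocomm

section MultType2

variable {k : Type u} [Field k] {A : Type u} [CommRing A] [HopfAlgebra k A]

theorem isCocomm_of_isDiag {K : Type u} [Field K] {H : Type u} [CommRing H] [HopfAlgebra K H]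
    (h : SGA3b.IsDiag K H) : Coalgebra.IsCocomm K H := by
  obtain ⟨M, _, ⟨e⟩⟩ := h
  exact isCocomm_of_bialgEquiv e

theorem isCocomm_of_isMultTypeConst (h : SGA3b.IsMultTypeConst k A) : Coalgebra.IsCocomm k A := by
  obtain ⟨K, _, _, hK⟩ := exists_field_isDiag h
  haveI := isCocomm_of_isDiag hK
  exact MM.isCocomm_of_baseChange (k := k) (K := K) (A := A)

/-- the base change of a group of multiplicative type to an algebraic closure is diagonalisable -/
theorem span_groupLike_algClosure (h : SGA3b.IsMultTypeConst k A) :
    Submodule.span (AlgebraicClosure k)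
      {y : AlgebraicClosure k ⊗[k] A | IsGroupLikeElem (AlgebraicClosure k) y} = ⊤ := by
  haveI := isCocomm_of_isMultTypeConst h
  exact MM.span_groupLike_eq_top
    (fun x hx => MM.prim_baseChange_eq_zero (k := k) (K := AlgebraicClosure k)
      (fun a ha => MM.prim_eq_zero_of_isMultTypeConst h ha) hx)

/-- spanned by group-likes and of finite type ⇒ diagonalisable of finite type -/
theorem isDiagFT_of_span {K : Type u} [Field K] {H : Type u} [CommRing H] [HopfAlgebra K H]
    [hft : Algebra.FiniteType K H]
    (hspan : Submodule.span K {h : H | IsGroupLikeElem K h} = ⊤) : SGA3b.IsDiagFT K H := by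
  obtain ⟨M, _, ⟨e⟩⟩ := Groth.Agent.Lib.Helper27.MultRigid.isDiag_of_span_groupLike hspan
  refine ⟨M, inferInstance, ?_, ⟨e⟩⟩
  have h1 : Algebra.FiniteType K (MonoidAlgebra K M) :=
    Algebra.FiniteType.equiv hft (e : H ≃ₐ[K] MonoidAlgebra K M)
  exact MonoidAlgebra.finiteType_iff_group_fg.1 h1

end MultType2

end Groth.Agent.Lib.Helper16.MT
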