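import Groth.Prelude.Def_W4c5ffgsreadingcourseOT
import Mathlib

/-!
# The action of `(ℤ/p)ˣ` on a commutative Hopf algebra killed by `p` and its eigen-decomposition
(helper16; Oort–Tate)
-/

set_option autoImplicit false

namespace Groth.Agent.Lib.Helper16.OT

open WithConv

universe u

section Pow

variable (R : Type u) [CommRing R] (A : Type u) [CommRing A] [HopfAlgebra R A]

theorem powConv_def (n : ℕ) :
    SGA3b.powConv R A n = ofConv ((toConv (AlgHom.id R A)) ^ n) := rfl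

theorem powConv_zero :
    SGA3b.powConv R A 0 = (Algebra.ofId R A).comp (Bialgebra.counitAlgHom R A) := by
  rw [powConv_def, pow_zero]; rfl

theorem powConv_one : SGA3b.powConv R A 1 = AlgHom.id R A := by
  rw [powConv_def, pow_one]

variable {R A}

theorem comp_convPow {B : Type u} [CommRing B] [Algebra R B] (φ : A →ₐ[R] B)
    (f : WithConv (A →ₐ[R] A)) (n : ℕ) :
    φ.comp (f ^ n).ofConv = ofConv ((toConv (φ.comp f.ofConv)) ^ n) := by
  induction n with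
  | zero =>
    rw [pow_zero, pow_zero]
    apply AlgHom.ext; intro a
    show φ (algebraMap R A (Coalgebra.counit a)) = algebraMap R B (Coalgebra.counit a)
    rw [AlgHom.commutes]
  | succ n ih =>
    rw [pow_succ, pow_succ, AlgHom.comp_convMul_distrib, ih]

variable (R A)

theorem powConv_comp (m n : ℕ) :
    (SGA3b.powConv R A m).comp (SGA3b.powConv R A n) = SGA3b.powConv R A (m * n) := by
  rw [powConv_def R A n, comp_convPow, AlgHom.comp_id, powConv_def, powConv_def,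
    toConv_ofConv, ← pow_mul]

theorem counit_powConv (n : ℕ) (a : A) :
    Bialgebra.counitAlgHom R A (SGA3b.powConv R A n a) = Bialgebra.counitAlgHom R A a := by
  have h := comp_convPow (Bialgebra.counitAlgHom R A) (toConv (AlgHom.id R A)) n
  have h1 : toConv ((Bialgebra.counitAlgHom R A).comp (toConv (AlgHom.id R A)).ofConv) =
      (1 : WithConv (A →ₐ[R] R)) := by
    apply WithConv.ofConv_injective
    apply AlgHom.ext; intro a
    show Bialgebra.counitAlgHom R A a = algebraMap R R (Coalgebra.counit a)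
    simp
  rw [h1, one_pow] at h
  have h2 := AlgHom.congr_fun h a
  rw [AlgHom.comp_apply] at h2
  rw [powConv_def, h2]
  show algebraMap R R (Coalgebra.counit a) = _
  simp

theorem powConv_mod {p : ℕ} (hp : (toConv (AlgHom.id R A)) ^ p = 1) (a : ℕ) :
    SGA3b.powConv R A (a % p) = SGA3b.powConv R A a := by
  rw [powConv_def, powConv_def, ← pow_eq_pow_mod a hp]

end Pow


section CharSum

variable {R : Type u} [CommRing R] (p : ℕ) [Fact p.Prime] (χ : (ZMod p)ˣ →* Rˣ)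

theorem card_units_zmod : Fintype.card (ZMod p)ˣ = p - 1 := ZMod.card_units p

/-- The character sum `Σ_m χ(m^e)` vanishes unless `(p-1) ∣ e`. -/
theorem sum_chi_zpow_eq_zero (hχ : ∀ m : (ZMod p)ˣ, m ≠ 1 → IsUnit ((χ m : R) - 1)) (e : ℤ)
    (he : ¬ ((p - 1 : ℕ) : ℤ) ∣ e) : ∑ m : (ZMod p)ˣ, ((χ (m ^ e) : Rˣ) : R) = 0 := by
  obtain ⟨g, hg⟩ := IsCyclic.exists_generator (α := (ZMod p)ˣ)
  have hord : orderOf g = p - 1 := by
    rw [orderOf_eq_card_of_forall_mem_zpowers hg, Nat.card_eq_fintype_card, ZMod.card_units]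
  have hge : g ^ e ≠ 1 := by
    intro h
    rw [← orderOf_dvd_iff_zpow_eq_one, hord] at h
    exact he h
  have hu := hχ (g ^ e) hge
  have hre : ∑ m : (ZMod p)ˣ, ((χ ((g * m) ^ e) : Rˣ) : R) = ∑ m : (ZMod p)ˣ, ((χ (m ^ e) : Rˣ) : R) :=
    Fintype.sum_equiv (Equiv.mulLeft g) _ _ (fun m => rfl)
  have h2 : ((χ (g ^ e) : Rˣ) : R) * ∑ m : (ZMod p)ˣ, ((χ (m ^ e) : Rˣ) : R) =
      ∑ m : (ZMod p)ˣ, ((χ (m ^ e) : Rˣ) : R) := by
    calc ((χ (g ^ e) : Rˣ) : R) * ∑ m : (ZMod p)ˣ, ((χ (m ^ e) : Rˣ) : R)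
        = ∑ m : (ZMod p)ˣ, ((χ ((g * m) ^ e) : Rˣ) : R) := by
          rw [Finset.mul_sum]
          apply Finset.sum_congr rfl
          intro m _
          rw [mul_zpow, map_mul, Units.val_mul]
      _ = _ := hre
  have h3 : (((χ (g ^ e) : Rˣ) : R) - 1) * ∑ m : (ZMod p)ˣ, ((χ (m ^ e) : Rˣ) : R) = 0 := by
    rw [sub_mul, one_mul, h2, sub_self]
  exact (hu.mul_right_eq_zero).mp h3

theorem sum_chi_zpow_eq_card (e : ℤ) (he : ((p - 1 : ℕ) : ℤ) ∣ e) :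
    ∑ m : (ZMod p)ˣ, ((χ (m ^ e) : Rˣ) : R) = ((p - 1 : ℕ) : R) := by
  have h1 : ∀ m : (ZMod p)ˣ, m ^ e = 1 := by
    intro m
    obtain ⟨c, rfl⟩ := he
    rw [zpow_mul, zpow_natCast, ← ZMod.card_units p, pow_card_eq_one, one_zpow]
  simp only [h1, map_one, Units.val_one, Finset.sum_const, Finset.card_univ, ZMod.card_units,
    nsmul_eq_mul, mul_one]

/-- Orthogonality: `Σ_m χ(m⁻¹)^i χ(m)^j`. -/
theorem sum_chi_inv_pow_mul_pow (i j : ℕ) :
    ∑ m : (ZMod p)ˣ, ((χ m⁻¹ : Rˣ) : R) ^ i * ((χ m : Rˣ) : R) ^ j =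
      ∑ m : (ZMod p)ˣ, ((χ (m ^ ((j : ℤ) - i)) : Rˣ) : R) := by
  apply Finset.sum_congr rfl
  intro m _
  have h : m ^ ((j : ℤ) - i) = m ^ j * (m⁻¹) ^ i := by
    rw [zpow_sub, zpow_natCast, zpow_natCast, inv_pow]
  rw [h, map_mul, map_pow, map_pow, Units.val_mul, Units.val_pow_eq_pow_val,
    Units.val_pow_eq_pow_val, mul_comm]

end CharSum


section Rep

variable {R : Type u} [CommRing R] {M : Type*} [AddCommGroup M] [Module R M]
  (p : ℕ) [Fact p.Prime] (u : R) (χ : (ZMod p)ˣ →* Rˣ) (ρ : (ZMod p)ˣ →* Module.End R M)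

/-- The `χ^i`-eigenspace of a representation of `(ℤ/p)ˣ`. -/
def eig (i : ℕ) : Submodule R M :=
  ⨅ m : (ZMod p)ˣ, Module.End.eigenspace (ρ m) (((χ m : Rˣ) : R) ^ i)

/-- The averaging operator `u Σ_m χ(m⁻¹)^i ρ(m)`. -/
def avg (i : ℕ) : Module.End R M :=
  u • ∑ m : (ZMod p)ˣ, (((χ m⁻¹ : Rˣ) : R) ^ i) • ρ m

variable {p χ ρ}

theorem mem_eig {i : ℕ} {f : M} :
    f ∈ eig p χ ρ i ↔ ∀ m : (ZMod p)ˣ, ρ m f = (((χ m : Rˣ) : R) ^ i) • f := by
  simp only [eig, Submodule.mem_iInf, Module.End.mem_eigenspace_iff]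

variable (p χ ρ)

theorem avg_apply (i : ℕ) (f : M) :
    avg p u χ ρ i f = u • ∑ m : (ZMod p)ˣ, (((χ m⁻¹ : Rˣ) : R) ^ i) • ρ m f := by
  simp only [avg, LinearMap.smul_apply, LinearMap.sum_apply]

theorem rho_avg (n : (ZMod p)ˣ) (i : ℕ) (f : M) :
    ρ n (avg p u χ ρ i f) = (((χ n : Rˣ) : R) ^ i) • avg p u χ ρ i f := by
  have hc : ∀ m : (ZMod p)ˣ, ((χ m⁻¹ : Rˣ) : R) ^ i =
      ((χ n : Rˣ) : R) ^ i * ((χ (n * m)⁻¹ : Rˣ) : R) ^ i := by
    intro m
    rw [← mul_pow, ← Units.val_mul, ← map_mul, mul_inv_rev, mul_comm m⁻¹ n⁻¹, mul_inv_cancel_left]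
  calc ρ n (avg p u χ ρ i f)
      = u • ∑ m : (ZMod p)ˣ, (((χ n : Rˣ) : R) ^ i * ((χ (n * m)⁻¹ : Rˣ) : R) ^ i) • ρ (n * m) f := by
        rw [avg_apply, map_smul, map_sum]
        congr 1
        apply Finset.sum_congr rfl
        intro m _
        rw [map_smul, hc m, map_mul, Module.End.mul_apply]
    _ = u • ∑ m : (ZMod p)ˣ, (((χ n : Rˣ) : R) ^ i * ((χ m⁻¹ : Rˣ) : R) ^ i) • ρ m f := by
        congr 1
        exact Fintype.sum_equiv (Equiv.mulLeft n) _ _ (fun m => rfl)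
    _ = (((χ n : Rˣ) : R) ^ i) • avg p u χ ρ i f := by
        rw [avg_apply]
        simp only [mul_smul, Finset.smul_sum]
        apply Finset.sum_congr rfl
        intro m _
        rw [smul_comm u]

theorem avg_rho_comm (n : (ZMod p)ˣ) (i : ℕ) (f : M) :
    avg p u χ ρ i (ρ n f) = ρ n (avg p u χ ρ i f) := by
  rw [avg_apply, avg_apply, map_smul, map_sum]
  congr 1
  apply Finset.sum_congr rfl
  intro m _
  rw [map_smul, ← Module.End.mul_apply, ← Module.End.mul_apply, ← map_mul, ← map_mul, mul_comm]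

theorem avg_mem_eig (i : ℕ) (f : M) : avg p u χ ρ i f ∈ eig p χ ρ i :=
  mem_eig.mpr fun n => rho_avg p u χ ρ n i f

variable {p u χ ρ}

theorem avg_apply_of_mem_eig (hu : u * ((p - 1 : ℕ) : R) = 1)
    (hχ : ∀ m : (ZMod p)ˣ, m ≠ 1 → IsUnit ((χ m : R) - 1)) {i j : ℕ} {f : M}
    (hf : f ∈ eig p χ ρ j) :
    avg p u χ ρ i f = if ((p - 1 : ℕ) : ℤ) ∣ ((j : ℤ) - i) then f else 0 := by
  rw [avg_apply]
  have h1 : ∀ m : (ZMod p)ˣ, (((χ m⁻¹ : Rˣ) : R) ^ i) • ρ m f =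
      (((χ m⁻¹ : Rˣ) : R) ^ i * ((χ m : Rˣ) : R) ^ j) • f := by
    intro m
    rw [mem_eig.mp hf m, mul_smul]
  rw [Finset.sum_congr rfl (fun m _ => h1 m), ← Finset.sum_smul, sum_chi_inv_pow_mul_pow]
  split_ifs with h
  · rw [sum_chi_zpow_eq_card p χ _ h, smul_smul, hu, one_smul]
  · rw [sum_chi_zpow_eq_zero p χ hχ _ h, zero_smul, smul_zero]

theorem avg_apply_self (hu : u * ((p - 1 : ℕ) : R) = 1)
    (hχ : ∀ m : (ZMod p)ˣ, m ≠ 1 → IsUnit ((χ m : R) - 1)) {i : ℕ} {f : M}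
    (hf : f ∈ eig p χ ρ i) : avg p u χ ρ i f = f := by
  rw [avg_apply_of_mem_eig hu hχ hf, if_pos (by simp)]

theorem avg_apply_of_ne (hu : u * ((p - 1 : ℕ) : R) = 1)
    (hχ : ∀ m : (ZMod p)ˣ, m ≠ 1 → IsUnit ((χ m : R) - 1)) {i j : ℕ} {f : M}
    (hf : f ∈ eig p χ ρ j) (hij : ¬ ((p - 1 : ℕ) : ℤ) ∣ ((j : ℤ) - i)) : avg p u χ ρ i f = 0 := by
  rw [avg_apply_of_mem_eig hu hχ hf, if_neg hij]

/-- The eigenspace only depends on `i` modulo `p - 1`. -/
theorem eig_congr {i j : ℕ} (h : ((p - 1 : ℕ) : ℤ) ∣ ((j : ℤ) - i)) :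
    eig p χ ρ i = eig p χ ρ j := by
  have key : ∀ m : (ZMod p)ˣ, ((χ m : Rˣ) : R) ^ i = ((χ m : Rˣ) : R) ^ j := by
    intro m
    rw [← Units.val_pow_eq_pow_val, ← Units.val_pow_eq_pow_val, ← map_pow, ← map_pow]
    congr 2
    have h2 : m ^ ((j : ℤ) - i) = 1 := by
      obtain ⟨c, hc⟩ := h
      rw [hc, zpow_mul, zpow_natCast, ← ZMod.card_units p, pow_card_eq_one, one_zpow]
    rw [zpow_sub, zpow_natCast, zpow_natCast, mul_inv_eq_one] at h2
    exact h2.symm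
  ext f
  simp only [mem_eig, key]

theorem sum_avg (hu : u * ((p - 1 : ℕ) : R) = 1)
    (hχ : ∀ m : (ZMod p)ˣ, m ≠ 1 → IsUnit ((χ m : R) - 1)) (hρ : ρ 1 = 1) (f : M) :
    ∑ i ∈ Finset.range (p - 1), avg p u χ ρ i f = f := by
  simp only [avg_apply]
  rw [← Finset.smul_sum, Finset.sum_comm]
  have h1 : ∀ m : (ZMod p)ˣ, ∑ i ∈ Finset.range (p - 1), (((χ m⁻¹ : Rˣ) : R) ^ i) • ρ m f =
      (if m = 1 then ((p - 1 : ℕ) : R) else 0) • ρ m f := by
    intro m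
    rw [← Finset.sum_smul]
    congr 1
    split_ifs with hm
    · subst hm
      simp
    · have hm' : m⁻¹ ≠ 1 := by simpa using hm
      have hg := geom_sum_mul ((χ m⁻¹ : Rˣ) : R) (p - 1)
      have hpow : ((χ m⁻¹ : Rˣ) : R) ^ (p - 1) = 1 := by
        rw [← Units.val_pow_eq_pow_val, ← map_pow, ← ZMod.card_units p, pow_card_eq_one, map_one,
          Units.val_one]
      rw [hpow, sub_self] at hg
      exact ((hχ _ hm').mul_left_eq_zero).mp hg
  rw [Finset.sum_congr rfl (fun m _ => h1 m)]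
  rw [Finset.sum_eq_single (1 : (ZMod p)ˣ)]
  · rw [if_pos rfl, hρ, smul_smul, hu, one_smul, Module.End.one_apply]
  · intro m _ hm
    rw [if_neg hm, zero_smul]
  · intro h
    exact absurd (Finset.mem_univ _) h

end Rep


section Hopf

variable (R : Type u) [CommRing R] (A : Type u) [CommRing A] [HopfAlgebra R A]
  (p : ℕ) [Fact p.Prime]

/-- The action of `(ℤ/p)ˣ` on a commutative Hopf algebra killed by `p`. -/
noncomputable def rho (hp : (toConv (AlgHom.id R A)) ^ p = 1) : (ZMod p)ˣ →* Module.End R A where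
  toFun m := (SGA3b.powConv R A (m : ZMod p).val).toLinearMap
  map_one' := by
    rw [Units.val_one, ZMod.val_one, powConv_one]; rfl
  map_mul' m n := by
    rw [Units.val_mul, ZMod.val_mul, powConv_mod R A hp, ← powConv_comp]; rfl

variable {R A p}

theorem rho_apply (hp : (toConv (AlgHom.id R A)) ^ p = 1) (m : (ZMod p)ˣ) (a : A) :
    rho R A p hp m a = SGA3b.powConv R A (m : ZMod p).val a := rfl

theorem counit_rho (hp : (toConv (AlgHom.id R A)) ^ p = 1) (m : (ZMod p)ˣ) (a : A) :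
    Bialgebra.counitAlgHom R A (rho R A p hp m a) = Bialgebra.counitAlgHom R A a :=
  counit_powConv R A _ a

theorem rho_mul (hp : (toConv (AlgHom.id R A)) ^ p = 1) (m : (ZMod p)ˣ) (a b : A) :
    rho R A p hp m (a * b) = rho R A p hp m a * rho R A p hp m b :=
  map_mul (SGA3b.powConv R A (m : ZMod p).val) a b

theorem eigenAug_eq (hp : (toConv (AlgHom.id R A)) ^ p = 1) (χ : (ZMod p)ˣ →* Rˣ) (i : ℕ) :
    OortTate.eigenAug R A p χ i =
      LinearMap.ker (Bialgebra.counitAlgHom R A).toLinearMap ⊓ eig p χ (rho R A p hp) i := rfl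

theorem proj_eq (hp : (toConv (AlgHom.id R A)) ^ p = 1) (u : R) (χ : (ZMod p)ˣ →* Rˣ) (i : ℕ) :
    OortTate.proj R A p u χ i = avg p u χ (rho R A p hp) i := rfl

theorem mem_eigenAug (hp : (toConv (AlgHom.id R A)) ^ p = 1) {χ : (ZMod p)ˣ →* Rˣ} {i : ℕ} {f : A} :
    f ∈ OortTate.eigenAug R A p χ i ↔
      Bialgebra.counitAlgHom R A f = 0 ∧ f ∈ eig p χ (rho R A p hp) i := by
  rw [eigenAug_eq hp, Submodule.mem_inf, LinearMap.mem_ker]; rfl

theorem counit_avg (hp : (toConv (AlgHom.id R A)) ^ p = 1) (u : R) (χ : (ZMod p)ˣ →* Rˣ) (i : ℕ)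
    {f : A} (hf : Bialgebra.counitAlgHom R A f = 0) :
    Bialgebra.counitAlgHom R A (avg p u χ (rho R A p hp) i f) = 0 := by
  rw [avg_apply, map_smul, map_sum]
  simp only [map_smul, counit_rho, hf, smul_zero, Finset.sum_const_zero]

theorem avg_mem_eigenAug (hp : (toConv (AlgHom.id R A)) ^ p = 1) (u : R) (χ : (ZMod p)ˣ →* Rˣ)
    (i : ℕ) {f : A} (hf : Bialgebra.counitAlgHom R A f = 0) :
    avg p u χ (rho R A p hp) i f ∈ OortTate.eigenAug R A p χ i :=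
  (mem_eigenAug hp).mpr ⟨counit_avg hp u χ i hf, avg_mem_eig p u χ _ i f⟩

/-- Products of eigenvectors are eigenvectors. -/
theorem mul_mem_eigenAug (hp : (toConv (AlgHom.id R A)) ^ p = 1) {χ : (ZMod p)ˣ →* Rˣ} {i j : ℕ}
    {f g : A} (hf : f ∈ OortTate.eigenAug R A p χ i) (hg : g ∈ OortTate.eigenAug R A p χ j) :
    f * g ∈ OortTate.eigenAug R A p χ (i + j) := by
  rw [mem_eigenAug hp] at hf hg ⊢
  refine ⟨by rw [map_mul, hf.1, zero_mul], mem_eig.mpr fun m => ?_⟩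
  rw [rho_mul, mem_eig.mp hf.2 m, mem_eig.mp hg.2 m, smul_mul_smul_comm, pow_add]

theorem eigenAug_congr (hp : (toConv (AlgHom.id R A)) ^ p = 1) {χ : (ZMod p)ˣ →* Rˣ} {i j : ℕ}
    (h : ((p - 1 : ℕ) : ℤ) ∣ ((j : ℤ) - i)) :
    OortTate.eigenAug R A p χ i = OortTate.eigenAug R A p χ j := by
  rw [eigenAug_eq hp, eigenAug_eq hp, eig_congr h]


theorem eigenAug_eq_map_proj (hp : (toConv (AlgHom.id R A)) ^ p = 1) {u : R}
    (hu : u * ((p - 1 : ℕ) : R) = 1) {χ : (ZMod p)ˣ →* Rˣ}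
    (hχ : ∀ m : (ZMod p)ˣ, m ≠ 1 → IsUnit ((χ m : R) - 1)) (i : ℕ) :
    OortTate.eigenAug R A p χ i = Submodule.map (OortTate.proj R A p u χ i)
      (LinearMap.ker (Bialgebra.counitAlgHom R A).toLinearMap) := by
  apply le_antisymm
  · intro f hf
    have hf' := (mem_eigenAug hp).mp hf
    exact ⟨f, LinearMap.mem_ker.mpr hf'.1, by rw [proj_eq hp]; exact avg_apply_self hu hχ hf'.2⟩
  · rintro _ ⟨f, hf, rfl⟩
    rw [proj_eq hp]
    exact avg_mem_eigenAug hp u χ i (LinearMap.mem_ker.mp hf)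

theorem not_dvd_sub_of_fin_ne {n : ℕ} {i j : Fin n} (h : j ≠ i) :
    ¬ ((n : ℕ) : ℤ) ∣ (((j : ℕ) : ℤ) - ((i : ℕ) : ℤ)) := by
  intro hd
  have hi := i.2
  have hj := j.2
  have hne : ((j : ℕ) : ℤ) - ((i : ℕ) : ℤ) ≠ 0 := by
    intro h0
    apply h
    apply Fin.ext
    omega
  exact hne (Int.eq_zero_of_abs_lt_dvd hd (by rw [abs_lt]; omega))

theorem iSup_eigenAug (hp : (toConv (AlgHom.id R A)) ^ p = 1) {u : R}
    (hu : u * ((p - 1 : ℕ) : R) = 1) {χ : (ZMod p)ˣ →* Rˣ}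
    (hχ : ∀ m : (ZMod p)ˣ, m ≠ 1 → IsUnit ((χ m : R) - 1)) :
    (⨆ i : Fin (p - 1), OortTate.eigenAug R A p χ (i : ℕ)) =
      LinearMap.ker (Bialgebra.counitAlgHom R A).toLinearMap := by
  apply le_antisymm
  · exact iSup_le fun i => inf_le_left
  · intro f hf
    have h1 := sum_avg (ρ := rho R A p hp) hu hχ (map_one _) f
    rw [Finset.sum_range] at h1
    rw [← h1]
    apply Submodule.sum_mem
    intro i _
    exact Submodule.mem_iSup_of_mem i (avg_mem_eigenAug hp u χ i (LinearMap.mem_ker.mp hf))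

theorem iSupIndep_eigenAug (hp : (toConv (AlgHom.id R A)) ^ p = 1) {u : R}
    (hu : u * ((p - 1 : ℕ) : R) = 1) {χ : (ZMod p)ˣ →* Rˣ}
    (hχ : ∀ m : (ZMod p)ˣ, m ≠ 1 → IsUnit ((χ m : R) - 1)) :
    iSupIndep (fun i : Fin (p - 1) => OortTate.eigenAug R A p χ (i : ℕ)) := by
  rw [iSupIndep_def]
  intro i
  rw [Submodule.disjoint_def]
  intro x hx hx'
  have h1 : (⨆ j, ⨆ (_ : j ≠ i), OortTate.eigenAug R A p χ (j : ℕ)) ≤
      LinearMap.ker (avg p u χ (rho R A p hp) (i : ℕ)) := by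
    apply iSup₂_le
    intro j hj f hf
    rw [LinearMap.mem_ker]
    exact avg_apply_of_ne hu hχ ((mem_eigenAug hp).mp hf).2 (not_dvd_sub_of_fin_ne hj)
  have h2 := LinearMap.mem_ker.mp (h1 hx')
  rw [avg_apply_self hu hχ ((mem_eigenAug hp).mp hx).2] at h2
  exact h2

end Hopf

end Groth.Agent.Lib.Helper16.OT
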