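import Groth.Agent.Lib.Helper16.OTAction
import Groth.Prelude.Def_CartDual
import Mathlib

/-!
# Power maps on the dual Hopf algebra are transposes; eigenspaces of the dual (helper16; Oort–Tate)
-/

set_option autoImplicit false

namespace Groth.Agent.Lib.Helper16.OT

open WithConv TensorProduct CartDual

universe u

section

variable {R : Type u} [CommRing R] {A : Type u} [CommRing A] [HopfAlgebra R A]
  [Coalgebra.IsCocomm R A] [Module.Finite R A] [Module.Projective R A]

theorem dual_add_apply (x y : D R A) (a : A) : (x + y) a = x a + y a := rfl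

theorem dual_smul_apply (r : R) (x : D R A) (a : A) : (r • x) a = r * x a := rfl

theorem dual_ext {x y : D R A} (h : ∀ a, x a = y a) : x = y := by
  apply WithConv.ofConv_injective
  apply LinearMap.ext
  exact h

theorem mul_map_apply (F G : D R A →ₗ[R] D R A) (f g : A →ₗ[R] A)
    (hF : ∀ x a, (F x) a = x (f a)) (hG : ∀ x a, (G x) a = x (g a))
    (y : D R A ⊗[R] D R A) (a : A) :
    (LinearMap.mul' R (D R A) (TensorProduct.map F G y)) a =
      ev₂ R A y (TensorProduct.map f g (Coalgebra.comul (R := R) a)) := by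
  induction y using TensorProduct.induction_on with
  | zero => simp only [map_zero, LinearMap.zero_apply]; rfl
  | add y z hy hz => simp only [map_add, dual_add_apply, hy, hz, LinearMap.add_apply]
  | tmul x1 x2 =>
    rw [TensorProduct.map_tmul, LinearMap.mul'_apply, coe_apply, LinearMap.convMul_apply]
    generalize Coalgebra.comul (R := R) a = t
    induction t using TensorProduct.induction_on with
    | zero => simp only [map_zero]
    | add s t hs ht => simp only [map_add, hs, ht]
    | tmul b c =>
      simp only [TensorProduct.map_tmul, LinearMap.mul'_apply, ev₂_tmul]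
      rw [← coe_apply, ← coe_apply, hF, hG]

theorem powConv_dual_apply (n : ℕ) (x : D R A) (a : A) :
    (SGA3b.powConv R (D R A) n x) a = x (SGA3b.powConv R A n a) := by
  induction n generalizing x a with
  | zero =>
    rw [powConv_zero, powConv_zero]
    show (algebraMap R (D R A) (Coalgebra.counit x)) a = x (algebraMap R A (Coalgebra.counit a))
    rw [Algebra.algebraMap_eq_smul_one, Algebra.algebraMap_eq_smul_one, dual_smul_apply,
      coalgebra_counit_apply, coe_apply R A x, map_smul, smul_eq_mul, ← coe_apply R A x, mul_comm]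
    congr 1
  | succ n ih =>
    have h1 : (SGA3b.powConv R (D R A) (n + 1)).toLinearMap =
        (toConv (SGA3b.powConv R (D R A) n).toLinearMap * toConv (LinearMap.id)).ofConv := by
      rw [powConv_def, pow_succ]
      rfl
    have h2 : (SGA3b.powConv R A (n + 1)).toLinearMap =
        (toConv (SGA3b.powConv R A n).toLinearMap * toConv (LinearMap.id)).ofConv := by
      rw [powConv_def, pow_succ]
      rfl
    have h3 : (SGA3b.powConv R (D R A) (n + 1)) x =
        (SGA3b.powConv R (D R A) (n + 1)).toLinearMap x := rfl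
    have h4 : (SGA3b.powConv R A (n + 1)) a = (SGA3b.powConv R A (n + 1)).toLinearMap a := rfl
    rw [h3, h4, h1, h2, LinearMap.convMul_apply, LinearMap.convMul_apply, ofConv_toConv,
      ofConv_toConv, ofConv_toConv, ofConv_toConv]
    rw [mul_map_apply _ _ (SGA3b.powConv R A n).toLinearMap LinearMap.id (fun x a => ih x a)
      (fun x a => rfl)]
    exact LinearMap.congr_fun (ev₂_comul R A x) _


theorem convPow_id_dual_eq_one {p : ℕ} (hp : (toConv (AlgHom.id R A)) ^ p = 1) :
    (toConv (AlgHom.id R (D R A))) ^ p = 1 := by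
  have h0 : SGA3b.powConv R A p = SGA3b.powConv R A 0 := by
    rw [powConv_def, powConv_def, hp, pow_zero]
  have h1 : SGA3b.powConv R (D R A) p = SGA3b.powConv R (D R A) 0 := by
    apply AlgHom.ext
    intro x
    apply dual_ext
    intro a
    rw [powConv_dual_apply, powConv_dual_apply, h0]
  have h2 := congrArg toConv h1
  rw [powConv_def, powConv_def, toConv_ofConv, toConv_ofConv, pow_zero] at h2
  exact h2

variable {p : ℕ} [Fact p.Prime]

theorem rho_dual_apply (hp : (toConv (AlgHom.id R A)) ^ p = 1) (m : (ZMod p)ˣ) (x : D R A) (a : A) :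
    (rho R (D R A) p (convPow_id_dual_eq_one hp) m x) a = x (rho R A p hp m a) :=
  powConv_dual_apply _ x a

theorem mem_eigenAug_dual (hp : (toConv (AlgHom.id R A)) ^ p = 1) {χ : (ZMod p)ˣ →* Rˣ} {i : ℕ}
    {f : D R A} :
    f ∈ OortTate.eigenAug R (D R A) p χ i ↔
      f 1 = 0 ∧ ∀ (m : (ZMod p)ˣ) (a : A), f (rho R A p hp m a) = ((χ m : Rˣ) : R) ^ i * f a := by
  rw [mem_eigenAug (convPow_id_dual_eq_one hp), mem_eig]
  constructor
  · rintro ⟨h1, h2⟩
    refine ⟨h1, fun m a => ?_⟩
    rw [← rho_dual_apply hp, h2 m, dual_smul_apply]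
  · rintro ⟨h1, h2⟩
    refine ⟨h1, fun m => dual_ext fun a => ?_⟩
    rw [rho_dual_apply hp, h2 m a, dual_smul_apply]

/-- A functional in the `χ^i`-eigenspace of the dual kills the `χ^j`-eigenspaces for `j ≢ i`. -/
theorem dual_eigen_apply_avg (hp : (toConv (AlgHom.id R A)) ^ p = 1) {u : R}
    (hu : u * ((p - 1 : ℕ) : R) = 1) {χ : (ZMod p)ˣ →* Rˣ}
    (hχ : ∀ m : (ZMod p)ˣ, m ≠ 1 → IsUnit ((χ m : R) - 1)) {i : ℕ} {f : D R A}
    (hf : f ∈ OortTate.eigenAug R (D R A) p χ i) (j : ℕ) (a : A) :
    f (avg p u χ (rho R A p hp) j a) = if ((p - 1 : ℕ) : ℤ) ∣ ((i : ℤ) - j) then f a else 0 := by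
  have hf' := (mem_eigenAug_dual hp).mp hf
  rw [avg_apply, coe_apply, map_smul, map_sum]
  simp only [map_smul, ← coe_apply, hf'.2, smul_eq_mul]
  simp only [← mul_assoc]
  rw [← Finset.sum_mul, sum_chi_inv_pow_mul_pow, ← mul_assoc]
  split_ifs with h
  · rw [sum_chi_zpow_eq_card p χ _ h, hu, one_mul]
  · rw [sum_chi_zpow_eq_zero p χ hχ _ h, mul_zero, zero_mul]


/-- The projection of `A` onto the `χ^i`-eigenspace of the augmentation ideal. -/
noncomputable def projAug (hp : (toConv (AlgHom.id R A)) ^ p = 1) (u : R) (χ : (ZMod p)ˣ →* Rˣ)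
    (i : ℕ) : A →ₗ[R] OortTate.eigenAug R A p χ i :=
  LinearMap.codRestrict _ (avg p u χ (rho R A p hp) i ∘ₗ
    (LinearMap.id - (Algebra.linearMap R A) ∘ₗ (Bialgebra.counitAlgHom R A).toLinearMap))
    (fun a => by
      apply avg_mem_eigenAug
      simp)

theorem projAug_apply (hp : (toConv (AlgHom.id R A)) ^ p = 1) (u : R) (χ : (ZMod p)ˣ →* Rˣ)
    (i : ℕ) (a : A) :
    (projAug hp u χ i a : A) =
      avg p u χ (rho R A p hp) i (a - algebraMap R A (Bialgebra.counitAlgHom R A a)) := rfl

theorem projAug_of_mem (hp : (toConv (AlgHom.id R A)) ^ p = 1) {u : R}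
    (hu : u * ((p - 1 : ℕ) : R) = 1) {χ : (ZMod p)ˣ →* Rˣ}
    (hχ : ∀ m : (ZMod p)ˣ, m ≠ 1 → IsUnit ((χ m : R) - 1)) (i : ℕ)
    (a : OortTate.eigenAug R A p χ i) : projAug hp u χ i (a : A) = a := by
  apply Subtype.ext
  have ha := (mem_eigenAug hp).mp a.2
  rw [projAug_apply, ha.1, map_zero, sub_zero, avg_apply_self hu hχ ha.2]

theorem projAug_rho (hp : (toConv (AlgHom.id R A)) ^ p = 1) (u : R) (χ : (ZMod p)ˣ →* Rˣ)
    (i : ℕ) (m : (ZMod p)ˣ) (a : A) :
    projAug hp u χ i (rho R A p hp m a) = (((χ m : Rˣ) : R) ^ i) • projAug hp u χ i a := by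
  apply Subtype.ext
  rw [Submodule.coe_smul, projAug_apply, projAug_apply, counit_rho]
  have h1 : rho R A p hp m a - algebraMap R A (Bialgebra.counitAlgHom R A a) =
      rho R A p hp m (a - algebraMap R A (Bialgebra.counitAlgHom R A a)) := by
    rw [map_sub]
    congr 1
    rw [rho_apply, AlgHom.commutes]
  rw [h1, avg_rho_comm, rho_avg]

theorem restrict_bijective (hp : (toConv (AlgHom.id R A)) ^ p = 1) {u : R}
    (hu : u * ((p - 1 : ℕ) : R) = 1) {χ : (ZMod p)ˣ →* Rˣ}
    (hχ : ∀ m : (ZMod p)ˣ, m ≠ 1 → IsUnit ((χ m : R) - 1)) (i : ℕ) :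
    Function.Bijective (fun f : OortTate.eigenAug R (D R A) p χ i =>
      ((toDual R A) (f : D R A)).comp (OortTate.eigenAug R A p χ i).subtype) := by
  constructor
  · intro f f' hff'
    apply Subtype.ext
    rw [← sub_eq_zero]
    have hg : (f : D R A) - (f' : D R A) ∈ OortTate.eigenAug R (D R A) p χ i :=
      Submodule.sub_mem _ f.2 f'.2
    have hres : ∀ b : OortTate.eigenAug R A p χ i, ((f : D R A) - (f' : D R A)) (b : A) = 0 := by
      intro b
      have := LinearMap.congr_fun hff' b
      simp only [LinearMap.comp_apply, Submodule.subtype_apply, toDual_apply] at this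
      show (f : D R A).ofConv (b : A) - (f' : D R A).ofConv (b : A) = 0
      rw [this, sub_self]
    set g : D R A := (f : D R A) - (f' : D R A) with hgdef
    apply dual_ext
    intro a
    have hg' := (mem_eigenAug_dual hp).mp hg
    have ha : a = algebraMap R A (Bialgebra.counitAlgHom R A a) +
        (a - algebraMap R A (Bialgebra.counitAlgHom R A a)) := by ring
    have h1 : g (algebraMap R A (Bialgebra.counitAlgHom R A a)) = 0 := by
      rw [Algebra.algebraMap_eq_smul_one, coe_apply, map_smul, ← coe_apply, hg'.1, smul_zero]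
    have h2 : g (a - algebraMap R A (Bialgebra.counitAlgHom R A a)) = 0 := by
      have h3 := dual_eigen_apply_avg hp hu hχ hg i
        (a - algebraMap R A (Bialgebra.counitAlgHom R A a))
      rw [if_pos (by simp)] at h3
      rw [← h3]
      exact hres (projAug hp u χ i a)
    have h4 : g a = g (algebraMap R A (Bialgebra.counitAlgHom R A a)) +
        g (a - algebraMap R A (Bialgebra.counitAlgHom R A a)) := by
      rw [coe_apply, coe_apply, coe_apply, ← map_add, ← ha]
    rw [h4, h1, h2, add_zero]
    rfl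
  · intro φ
    have hmem : toConv (φ ∘ₗ projAug hp u χ i) ∈ OortTate.eigenAug R (D R A) p χ i := by
      rw [mem_eigenAug_dual hp]
      refine ⟨?_, fun m a => ?_⟩
      · show φ (projAug hp u χ i 1) = 0
        have : projAug hp u χ i (1 : A) = 0 := by
          apply Subtype.ext
          rw [projAug_apply, map_one, map_one, sub_self, map_zero]; rfl
        rw [this, map_zero]
      · show φ (projAug hp u χ i (rho R A p hp m a)) = _ * φ (projAug hp u χ i a)
        rw [projAug_rho, map_smul, smul_eq_mul]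
    refine ⟨⟨_, hmem⟩, ?_⟩
    apply LinearMap.ext
    intro b
    show φ (projAug hp u χ i (b : A)) = φ b
    rw [projAug_of_mem hp hu hχ]

end

end Groth.Agent.Lib.Helper16.OT
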