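import Groth.Agent.Lib.Helper16.OTField
import Groth.Agent.Lib.Helper16.OTDual
import Groth.Agent.Lib.Helper16.InvRank
import Groth.Agent.Lib.Helper16.FinHopfDeligne
import Groth.Agent.Lib.Helper16.FinHopfBaseChange
import Mathlib

/-!
# Oort–Tate eigenspaces: base change to geometric points, rank one, powers (helper16)
-/

set_option autoImplicit false

namespace Groth.Agent.Lib.Helper16.OT

open WithConv Module TensorProduct Groth.Agent.Lib.Helper16.FinHopf

universe u

section BaseChange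

variable {R : Type u} [CommRing R] {A : Type u} [CommRing A] [HopfAlgebra R A]
  [Coalgebra.IsCocomm R A] [Module.Finite R A] [Module.Projective R A]
  {p : ℕ} [Fact p.Prime] (K : Type u) [Field K] [Algebra R K]

/-- The base change of the character. -/
noncomputable def chiK (χ : (ZMod p)ˣ →* Rˣ) : (ZMod p)ˣ →* Kˣ :=
  (Units.map (algebraMap R K : R →* K)).comp χ

theorem chiK_apply (χ : (ZMod p)ˣ →* Rˣ) (m : (ZMod p)ˣ) :
    ((chiK K χ m : Kˣ) : K) = algebraMap R K ((χ m : Rˣ) : R) := rfl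

theorem chiK_hχ {χ : (ZMod p)ˣ →* Rˣ} (hχ : ∀ m : (ZMod p)ˣ, m ≠ 1 → IsUnit ((χ m : R) - 1))
    (m : (ZMod p)ˣ) (hm : m ≠ 1) : IsUnit ((chiK K χ m : K) - 1) := by
  rw [chiK_apply, ← map_one (algebraMap R K), ← map_sub]
  exact (hχ m hm).map _

theorem chiK_hχp {χ : (ZMod p)ˣ →* Rˣ}
    (hχp : ∀ m : (ZMod p)ˣ, ((χ m : Rˣ) : R) - (((m : ZMod p).val : ℕ) : R) ∈
      Ideal.span ({(p : R)} : Set R)) (m : (ZMod p)ˣ) :
    ((chiK K χ m : Kˣ) : K) - (((m : ZMod p).val : ℕ) : K) ∈ Ideal.span ({(p : K)} : Set K) := by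
  obtain ⟨c, hc⟩ := Ideal.mem_span_singleton'.mp (hχp m)
  rw [Ideal.mem_span_singleton']
  refine ⟨algebraMap R K c, ?_⟩
  rw [chiK_apply, ← map_natCast (algebraMap R K) (((m : ZMod p).val : ℕ)),
    ← map_natCast (algebraMap R K) p, ← map_mul, hc, map_sub]

theorem uK_hu {u : R} (hu : u * ((p - 1 : ℕ) : R) = 1) :
    algebraMap R K u * ((p - 1 : ℕ) : K) = 1 := by
  rw [← map_natCast (algebraMap R K), ← map_mul, hu, map_one]

theorem rankAtStalk_baseChange_field (hrk : ∀ q : PrimeSpectrum R, Module.rankAtStalk A q = p)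
    (q' : PrimeSpectrum K) : Module.rankAtStalk (K ⊗[R] A) q' = p := by
  rw [Module.rankAtStalk_baseChange, hrk]

theorem finrank_baseChange_field (hrk : ∀ q : PrimeSpectrum R, Module.rankAtStalk A q = p) :
    finrank K (K ⊗[R] A) = p := by
  have h := rankAtStalk_baseChange_field K hrk (⊥ : PrimeSpectrum K)
  rwa [Module.rankAtStalk_eq_finrank_of_free] at h

theorem convPow_id_baseChange_field (hrk : ∀ q : PrimeSpectrum R, Module.rankAtStalk A q = p) :
    (toConv (AlgHom.id K (K ⊗[R] A))) ^ p = 1 :=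
  convPow_id_eq_one_of_rankAtStalk K (K ⊗[R] A) p (rankAtStalk_baseChange_field K hrk)


theorem rho_inc (hp : (toConv (AlgHom.id R A)) ^ p = 1)
    (hpK : (toConv (AlgHom.id K (K ⊗[R] A))) ^ p = 1) (m : (ZMod p)ˣ) (a : A) :
    rho K (K ⊗[R] A) p hpK m ((1 : K) ⊗ₜ[R] a) = (1 : K) ⊗ₜ[R] (rho R A p hp m a) :=
  convPow_id_incR (K := K) _ a

theorem smul_one_tmul (r : R) (a : A) :
    (algebraMap R K r) • ((1 : K) ⊗ₜ[R] a) = (1 : K) ⊗ₜ[R] (r • a) := by
  rw [TensorProduct.tmul_smul, algebraMap_smul]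

theorem avg_inc (hp : (toConv (AlgHom.id R A)) ^ p = 1)
    (hpK : (toConv (AlgHom.id K (K ⊗[R] A))) ^ p = 1) (u : R) (χ : (ZMod p)ˣ →* Rˣ) (i : ℕ)
    (a : A) :
    avg p (algebraMap R K u) (chiK K χ) (rho K (K ⊗[R] A) p hpK) i ((1 : K) ⊗ₜ[R] a) =
      (1 : K) ⊗ₜ[R] (avg p u χ (rho R A p hp) i a) := by
  rw [avg_apply, avg_apply, ← smul_one_tmul, TensorProduct.tmul_sum]
  congr 1
  apply Finset.sum_congr rfl
  intro m _
  rw [rho_inc K hp hpK, chiK_apply, ← map_pow, smul_one_tmul]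

theorem counit_inc (a : A) :
    Bialgebra.counitAlgHom K (K ⊗[R] A) ((1 : K) ⊗ₜ[R] a) =
      algebraMap R K (Bialgebra.counitAlgHom R A a) := by
  show Coalgebra.counit (R := K) ((1 : K) ⊗ₜ[R] a) = _
  rw [TensorProduct.counit_tmul]
  simp [Algebra.algebraMap_eq_smul_one]

theorem inc_mem_eigenAug (hp : (toConv (AlgHom.id R A)) ^ p = 1)
    (hpK : (toConv (AlgHom.id K (K ⊗[R] A))) ^ p = 1) {χ : (ZMod p)ˣ →* Rˣ} {i : ℕ} {f : A}
    (hf : f ∈ OortTate.eigenAug R A p χ i) :
    (1 : K) ⊗ₜ[R] f ∈ OortTate.eigenAug K (K ⊗[R] A) p (chiK K χ) i := by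
  rw [mem_eigenAug hpK]
  have hf' := (mem_eigenAug hp).mp hf
  refine ⟨by rw [counit_inc, hf'.1, map_zero], mem_eig.mpr fun m => ?_⟩
  rw [rho_inc K hp hpK, mem_eig.mp hf'.2 m, chiK_apply, ← map_pow, smul_one_tmul]

theorem projAug_tmul (hp : (toConv (AlgHom.id R A)) ^ p = 1)
    (hpK : (toConv (AlgHom.id K (K ⊗[R] A))) ^ p = 1) (u : R) (χ : (ZMod p)ˣ →* Rˣ) (i : ℕ)
    (c : K) (a : A) :
    (projAug hpK (algebraMap R K u) (chiK K χ) i (c ⊗ₜ[R] a) : K ⊗[R] A) =
      c ⊗ₜ[R] (projAug hp u χ i a : A) := by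
  have h1 : c ⊗ₜ[R] a = c • ((1 : K) ⊗ₜ[R] a) := by
    rw [TensorProduct.smul_tmul', smul_eq_mul, mul_one]
  rw [h1, map_smul, Submodule.coe_smul, projAug_apply, projAug_apply, counit_inc]
  have h2 : (1 : K) ⊗ₜ[R] a - algebraMap K (K ⊗[R] A) (algebraMap R K (Bialgebra.counitAlgHom R A a)) =
      (1 : K) ⊗ₜ[R] (a - algebraMap R A (Bialgebra.counitAlgHom R A a)) := by
    rw [TensorProduct.tmul_sub]
    congr 1
    rw [Algebra.TensorProduct.algebraMap_apply, Algebra.algebraMap_eq_smul_one (A := A),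
      TensorProduct.tmul_smul, Algebra.algebraMap_eq_smul_one, TensorProduct.smul_tmul']
    simp [Algebra.algebraMap_eq_smul_one]
  rw [h2, avg_inc K hp hpK, TensorProduct.smul_tmul', smul_eq_mul, mul_one]

end BaseChange


section Rank

variable {R : Type u} [CommRing R] {A : Type u} [CommRing A] [HopfAlgebra R A]
  [Coalgebra.IsCocomm R A] [Module.Finite R A] [Module.Projective R A]
  {p : ℕ} [Fact p.Prime]

theorem projAug_comp_subtype (hp : (toConv (AlgHom.id R A)) ^ p = 1) {u : R}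
    (hu : u * ((p - 1 : ℕ) : R) = 1) {χ : (ZMod p)ˣ →* Rˣ}
    (hχ : ∀ m : (ZMod p)ˣ, m ≠ 1 → IsUnit ((χ m : R) - 1)) (i : ℕ) :
    projAug hp u χ i ∘ₗ (OortTate.eigenAug R A p χ i).subtype = LinearMap.id := by
  apply LinearMap.ext
  intro a
  exact projAug_of_mem hp hu hχ i a

theorem finite_eigenAug (hp : (toConv (AlgHom.id R A)) ^ p = 1) {u : R}
    (hu : u * ((p - 1 : ℕ) : R) = 1) {χ : (ZMod p)ˣ →* Rˣ}
    (hχ : ∀ m : (ZMod p)ˣ, m ≠ 1 → IsUnit ((χ m : R) - 1)) (i : ℕ) :
    Module.Finite R (OortTate.eigenAug R A p χ i) :=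
  Module.Finite.of_surjective (projAug hp u χ i)
    (fun a => ⟨(a : A), projAug_of_mem hp hu hχ i a⟩)

theorem projective_eigenAug (hp : (toConv (AlgHom.id R A)) ^ p = 1) {u : R}
    (hu : u * ((p - 1 : ℕ) : R) = 1) {χ : (ZMod p)ˣ →* Rˣ}
    (hχ : ∀ m : (ZMod p)ˣ, m ≠ 1 → IsUnit ((χ m : R) - 1)) (i : ℕ) :
    Module.Projective R (OortTate.eigenAug R A p χ i) :=
  Module.Projective.of_split (OortTate.eigenAug R A p χ i).subtype (projAug hp u χ i)
    (projAug_comp_subtype hp hu hχ i)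

variable (K : Type u) [Field K] [Algebra R K]

/-- The base change of the inclusion of an eigenspace. -/
noncomputable def incEig (χ : (ZMod p)ˣ →* Rˣ) (i : ℕ) :
    K ⊗[R] (OortTate.eigenAug R A p χ i) →ₗ[K] K ⊗[R] A :=
  LinearMap.baseChange K (OortTate.eigenAug R A p χ i).subtype

theorem incEig_tmul (χ : (ZMod p)ˣ →* Rˣ) (i : ℕ) (c : K) (f : OortTate.eigenAug R A p χ i) :
    incEig K χ i (c ⊗ₜ[R] f) = c ⊗ₜ[R] (f : A) := rfl

theorem incEig_injective (hp : (toConv (AlgHom.id R A)) ^ p = 1) {u : R}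
    (hu : u * ((p - 1 : ℕ) : R) = 1) {χ : (ZMod p)ˣ →* Rˣ}
    (hχ : ∀ m : (ZMod p)ˣ, m ≠ 1 → IsUnit ((χ m : R) - 1)) (i : ℕ) :
    Function.Injective (incEig K χ i : K ⊗[R] (OortTate.eigenAug R A p χ i) →ₗ[K] K ⊗[R] A) := by
  have h : (LinearMap.baseChange K (projAug hp u χ i)) ∘ₗ (incEig K χ i) = LinearMap.id := by
    rw [incEig, ← LinearMap.baseChange_comp, projAug_comp_subtype hp hu hχ i,
      LinearMap.baseChange_id]
  exact Function.LeftInverse.injective (g := LinearMap.baseChange K (projAug hp u χ i))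
    (fun z => LinearMap.congr_fun h z)

theorem range_incEig (hp : (toConv (AlgHom.id R A)) ^ p = 1)
    (hpK : (toConv (AlgHom.id K (K ⊗[R] A))) ^ p = 1) {u : R}
    (hu : u * ((p - 1 : ℕ) : R) = 1) {χ : (ZMod p)ˣ →* Rˣ}
    (hχ : ∀ m : (ZMod p)ˣ, m ≠ 1 → IsUnit ((χ m : R) - 1)) (i : ℕ) :
    LinearMap.range (incEig K χ i : K ⊗[R] (OortTate.eigenAug R A p χ i) →ₗ[K] K ⊗[R] A) =
      OortTate.eigenAug K (K ⊗[R] A) p (chiK K χ) i := by
  apply le_antisymm
  · rintro _ ⟨z, rfl⟩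
    induction z using TensorProduct.induction_on with
    | zero => rw [map_zero]; exact Submodule.zero_mem _
    | add x y hx hy => rw [map_add]; exact Submodule.add_mem _ hx hy
    | tmul c f =>
      rw [incEig_tmul]
      have h1 : c ⊗ₜ[R] (f : A) = c • ((1 : K) ⊗ₜ[R] (f : A)) := by
        rw [TensorProduct.smul_tmul', smul_eq_mul, mul_one]
      rw [h1]
      exact Submodule.smul_mem _ _ (inc_mem_eigenAug K hp hpK f.2)
  · intro h hh
    have h1 := projAug_of_mem hpK (uK_hu K hu) (chiK_hχ K hχ) i ⟨h, hh⟩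
    have h2 : ∀ z : K ⊗[R] A, (projAug hpK (algebraMap R K u) (chiK K χ) i z : K ⊗[R] A) ∈
        LinearMap.range (incEig K χ i :
          K ⊗[R] (OortTate.eigenAug R A p χ i) →ₗ[K] K ⊗[R] A) := by
      intro z
      induction z using TensorProduct.induction_on with
      | zero => rw [map_zero]; exact Submodule.zero_mem _
      | add x y hx hy => rw [map_add]; exact Submodule.add_mem _ hx hy
      | tmul c a =>
        rw [projAug_tmul K hp hpK]
        exact ⟨c ⊗ₜ[R] (projAug hp u χ i a), rfl⟩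
    have h3 := h2 h
    rw [h1] at h3
    exact h3

theorem finrank_tensor_eigenAug (hp : (toConv (AlgHom.id R A)) ^ p = 1)
    (hpK : (toConv (AlgHom.id K (K ⊗[R] A))) ^ p = 1) {u : R}
    (hu : u * ((p - 1 : ℕ) : R) = 1) {χ : (ZMod p)ˣ →* Rˣ}
    (hχ : ∀ m : (ZMod p)ˣ, m ≠ 1 → IsUnit ((χ m : R) - 1)) (i : ℕ) :
    finrank K (K ⊗[R] (OortTate.eigenAug R A p χ i)) =
      finrank K (OortTate.eigenAug K (K ⊗[R] A) p (chiK K χ) i) := by
  rw [← range_incEig K hp hpK hu hχ i]
  exact (LinearEquiv.ofInjective _ (incEig_injective K hp hu hχ i)).finrank_eq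

end Rank


section Main

variable {R : Type u} [CommRing R] {A : Type u} [CommRing A] [HopfAlgebra R A]
  [Coalgebra.IsCocomm R A] [Module.Finite R A] [Module.Projective R A]
  {p : ℕ} [Fact p.Prime]

theorem ker_algebraMap_algClosure (q : Ideal R) [q.IsPrime] :
    RingHom.ker (algebraMap R (AlgebraicClosure q.ResidueField)) = q := by
  ext x
  rw [RingHom.mem_ker, IsScalarTower.algebraMap_apply R q.ResidueField
    (AlgebraicClosure q.ResidueField), map_eq_zero_iff _
    (algebraMap q.ResidueField (AlgebraicClosure q.ResidueField)).injective,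
    Ideal.algebraMap_residueField_eq_zero]

theorem convPow_id_eq_one (hrk : ∀ q : PrimeSpectrum R, Module.rankAtStalk A q = p) :
    (toConv (AlgHom.id R A)) ^ p = 1 :=
  convPow_id_eq_one_of_rankAtStalk R A p hrk

theorem rankAtStalk_eigenAug (hrk : ∀ q : PrimeSpectrum R, Module.rankAtStalk A q = p) {u : R}
    (hu : u * ((p - 1 : ℕ) : R) = 1) {χ : (ZMod p)ˣ →* Rˣ}
    (hχ : ∀ m : (ZMod p)ˣ, m ≠ 1 → IsUnit ((χ m : R) - 1))
    (hχp : ∀ m : (ZMod p)ˣ, ((χ m : Rˣ) : R) - (((m : ZMod p).val : ℕ) : R) ∈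
      Ideal.span ({(p : R)} : Set R)) (i : ℕ) (q : PrimeSpectrum R) :
    Module.rankAtStalk (OortTate.eigenAug R A p χ i) q = 1 := by
  have hp := convPow_id_eq_one hrk
  haveI := finite_eigenAug hp hu hχ i
  haveI := projective_eigenAug hp hu hχ i
  set K := AlgebraicClosure q.asIdeal.ResidueField with hK
  have hpK := convPow_id_baseChange_field K hrk
  have hcomap : PrimeSpectrum.comap (algebraMap R K) (⊥ : PrimeSpectrum K) = q := by
    apply PrimeSpectrum.ext
    show Ideal.comap (algebraMap R K) ⊥ = q.asIdeal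
    rw [← RingHom.ker_eq_comap_bot]
    exact ker_algebraMap_algClosure q.asIdeal
  have h1 := Module.rankAtStalk_baseChange (R := R) (M := OortTate.eigenAug R A p χ i) (S := K)
    (⊥ : PrimeSpectrum K)
  rw [hcomap, Module.rankAtStalk_eq_finrank_of_free] at h1
  simp only [Pi.natCast_def, Nat.cast_id] at h1
  rw [← h1, finrank_tensor_eigenAug K hp hpK hu hχ i]
  exact field_finrank_eq_one hpK (uK_hu K hu) (chiK_hχ K hχ) (chiK_hχp K hχp)
    (finrank_baseChange_field K hrk) i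


theorem eigenAug_one_pow_le (hp : (toConv (AlgHom.id R A)) ^ p = 1) (χ : (ZMod p)ˣ →* Rˣ)
    (t : ℕ) (ht : 1 ≤ t) :
    (OortTate.eigenAug R A p χ 1) ^ t ≤ OortTate.eigenAug R A p χ t := by
  induction t, ht using Nat.le_induction with
  | base => rw [pow_one]
  | succ t _ ih =>
    rw [pow_succ]
    refine Submodule.mul_le.mpr fun a ha b hb => ?_
    exact mul_mem_eigenAug hp (ih ha) hb

theorem eigenAug_field_pow_le_span (K : Type u) [Field K] [Algebra R K]
    (hp : (toConv (AlgHom.id R A)) ^ p = 1)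
    (hpK : (toConv (AlgHom.id K (K ⊗[R] A))) ^ p = 1) {u : R}
    (hu : u * ((p - 1 : ℕ) : R) = 1) {χ : (ZMod p)ˣ →* Rˣ}
    (hχ : ∀ m : (ZMod p)ˣ, m ≠ 1 → IsUnit ((χ m : R) - 1)) (t : ℕ) :
    (OortTate.eigenAug K (K ⊗[R] A) p (chiK K χ) 1) ^ t ≤
      Submodule.span K {z : K ⊗[R] A | ∃ n ∈ (OortTate.eigenAug R A p χ 1) ^ t,
        z = (1 : K) ⊗ₜ[R] n} := by
  induction t with
  | zero =>
    rw [pow_zero, Submodule.one_le]
    apply Submodule.subset_span
    refine ⟨1, ?_, rfl⟩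
    rw [pow_zero]
    exact Submodule.one_le.mp le_rfl
  | succ t ih =>
    rw [pow_succ]
    refine Submodule.mul_le.mpr fun a ha b hb => ?_
    have ha' := ih ha
    rw [← range_incEig K hp hpK hu hχ 1] at hb
    obtain ⟨z, rfl⟩ := hb
    induction z using TensorProduct.induction_on with
    | zero => rw [map_zero, mul_zero]; exact Submodule.zero_mem _
    | add x y hx hy => rw [map_add, mul_add]; exact Submodule.add_mem _ hx hy
    | tmul c f =>
      rw [incEig_tmul]
      clear ha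
      induction ha' using Submodule.span_induction with
      | mem x hx =>
        obtain ⟨n, hn, rfl⟩ := hx
        have h1 : (1 : K) ⊗ₜ[R] n * c ⊗ₜ[R] (f : A) = c • ((1 : K) ⊗ₜ[R] (n * (f : A))) := by
          rw [Algebra.TensorProduct.tmul_mul_tmul, one_mul, TensorProduct.smul_tmul', smul_eq_mul,
            mul_one]
        rw [h1]
        apply Submodule.smul_mem
        apply Submodule.subset_span
        refine ⟨n * (f : A), ?_, rfl⟩
        rw [pow_succ]
        exact Submodule.mul_mem_mul hn f.2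
      | zero => rw [zero_mul]; exact Submodule.zero_mem _
      | add x y _ _ hx hy => rw [add_mul]; exact Submodule.add_mem _ hx hy
      | smul r x _ hx =>
        rw [smul_mul_assoc]
        exact Submodule.smul_mem _ _ hx

theorem eigenAug_le_pow (hrk : ∀ q : PrimeSpectrum R, Module.rankAtStalk A q = p) {u : R}
    (hu : u * ((p - 1 : ℕ) : R) = 1) {χ : (ZMod p)ˣ →* Rˣ}
    (hχ : ∀ m : (ZMod p)ˣ, m ≠ 1 → IsUnit ((χ m : R) - 1))
    (hχp : ∀ m : (ZMod p)ˣ, ((χ m : Rˣ) : R) - (((m : ZMod p).val : ℕ) : R) ∈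
      Ideal.span ({(p : R)} : Set R)) (t : ℕ) (ht1 : 1 ≤ t) (htp : t ≤ p - 1) :
    OortTate.eigenAug R A p χ t ≤ (OortTate.eigenAug R A p χ 1) ^ t := by
  classical
  have hp := convPow_id_eq_one hrk
  haveI := finite_eigenAug hp hu hχ t
  haveI := projective_eigenAug hp hu hχ t
  have hrank := rankAtStalk_eigenAug hrk hu hχ hχp t
  have hNM := eigenAug_one_pow_le hp χ t ht1
  set M := OortTate.eigenAug R A p χ t with hM
  set N := (OortTate.eigenAug R A p χ 1) ^ t with hN
  set 𝔞 : Ideal R := Ideal.span {r | ∃ (φ : Module.Dual R M) (n : M), (n : A) ∈ N ∧ r = φ n}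
    with h𝔞
  have htop : 𝔞 = ⊤ := by
    by_contra hne
    obtain ⟨𝔪, h𝔪, hle⟩ := Ideal.exists_le_maximal 𝔞 hne
    haveI := h𝔪.isPrime
    set K := AlgebraicClosure 𝔪.ResidueField with hK
    have hpK := convPow_id_baseChange_field K hrk
    have hker : ∀ r ∈ 𝔪, algebraMap R K r = 0 := by
      intro r hr
      have : r ∈ RingHom.ker (algebraMap R K) := by rw [ker_algebraMap_algClosure]; exact hr
      exact this
    have hfin := field_finrank_eq_one hpK (uK_hu K hu) (chiK_hχ K hχ) (chiK_hχp K hχp)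
      (finrank_baseChange_field K hrk) t
    have hpow := field_pow_eq hpK (uK_hu K hu) (chiK_hχ K hχ) (chiK_hχp K hχp)
      (finrank_baseChange_field K hrk) t ht1 htp
    have hspan := hpow.trans (eigenAug_field_pow_le_span K hp hpK hu hχ t)
    -- all the generators vanish
    have hzero : ∀ z ∈ {z : K ⊗[R] A | ∃ n ∈ N, z = (1 : K) ⊗ₜ[R] n}, z = 0 := by
      rintro _ ⟨n, hn, rfl⟩
      obtain ⟨s, f, g, -, -, hfg⟩ := Module.Finite.exists_comp_eq_id_of_projective R M
      set n' : M := ⟨n, hNM hn⟩ with hn'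
      have hn'eq : n' = ∑ l : Fin s, (g n' l) • f (Pi.single l 1) := by
        have h1 : n' = f (g n') := by
          have := LinearMap.congr_fun hfg n'
          simpa using this.symm
        conv_lhs => rw [h1]
        have h2 : g n' = ∑ l : Fin s, (g n' l) • (Pi.single l 1 : Fin s → R) := by
          funext j
          simp [Finset.sum_apply, Pi.single_apply]
        conv_lhs => rw [h2]
        simp [map_sum]
      have hn_eq : n = ∑ l : Fin s, (g n' l) • ((f (Pi.single l 1) : M) : A) := by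
        have := congrArg (Subtype.val) hn'eq
        rw [AddSubmonoidClass.coe_finset_sum] at this
        simpa using this
      rw [hn_eq, TensorProduct.tmul_sum]
      apply Finset.sum_eq_zero
      intro l _
      have hmem : g n' l ∈ 𝔪 := by
        apply hle
        apply Ideal.subset_span
        exact ⟨(LinearMap.proj l : (Fin s → R) →ₗ[R] R) ∘ₗ g, n', hn, rfl⟩
      rw [← smul_one_tmul, hker _ hmem, zero_smul]
    have hbot : OortTate.eigenAug K (K ⊗[R] A) p (chiK K χ) t = ⊥ := by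
      rw [eq_bot_iff]
      refine hspan.trans ?_
      rw [Submodule.span_le]
      intro z hz
      rw [hzero z hz]
      exact Submodule.zero_mem _
    rw [hbot, finrank_bot] at hfin
    exact zero_ne_one hfin
  -- conclude
  have hcolon : 𝔞 ≤ N.colon (M : Set A) := by
    rw [h𝔞, Ideal.span_le]
    rintro r ⟨φ, n, hn, rfl⟩
    rw [SetLike.mem_coe, Submodule.mem_colon]
    intro w hw
    have h1 := Groth.Agent.Lib.Helper16.InvRank.dual_smul_comm hrank φ n ⟨w, hw⟩
    have h2 := congrArg Subtype.val h1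
    simp only [Submodule.coe_smul] at h2
    rw [h2]
    exact Submodule.smul_mem _ _ hn
  have h1 : (1 : R) ∈ N.colon (M : Set A) := hcolon (by rw [htop]; trivial)
  rw [Submodule.mem_colon] at h1
  intro w hw
  have := h1 w hw
  rwa [one_smul] at this

end Main

end Groth.Agent.Lib.Helper16.OT
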