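import Groth.Agent.Lib.Helper16.OTPair2
import Mathlib

/-!
# Injectivity of the Oort–Tate classification (helper16)
-/

set_option autoImplicit false

namespace Groth.Agent.Lib.Helper16.OT

open WithConv TensorProduct CartDual Module

universe u

section One

variable {R : Type u} [CommRing R] {A : Type u} [CommRing A] [HopfAlgebra R A]
  [Coalgebra.IsCocomm R A] [Module.Finite R A] [Module.Projective R A]
  {p : ℕ} [Fact p.Prime]
  (hrk : ∀ q : PrimeSpectrum R, Module.rankAtStalk A q = p) {u : R}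
  (hu : u * ((p - 1 : ℕ) : R) = 1) {χ : (ZMod p)ˣ →* Rˣ}
  (hχ : ∀ m : (ZMod p)ˣ, m ≠ 1 → IsUnit ((χ m : R) - 1))
  (hχp : ∀ m : (ZMod p)ˣ, ((χ m : Rˣ) : R) - (((m : ZMod p).val : ℕ) : R) ∈
      Ideal.span ({(p : R)} : Set R))

include hrk hu hχ hχp

/-- Algebra maps out of `A` are determined by their values on `I_1`. -/
theorem algHom_ext_eigenAug {B : Type*} [Semiring B] [Algebra R B] {h₁ h₂ : A →ₐ[R] B}
    (h : ∀ y : OortTate.eigenAug R A p χ 1, h₁ (y : A) = h₂ (y : A)) : h₁ = h₂ := by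
  have h3 : h₁.comp (TensorAlgebra.lift R (OortTate.eigenAug R A p χ 1).subtype) =
      h₂.comp (TensorAlgebra.lift R (OortTate.eigenAug R A p χ 1).subtype) := by
    apply TensorAlgebra.hom_ext
    apply LinearMap.ext
    intro y
    simp only [LinearMap.comp_apply, AlgHom.toLinearMap_apply, AlgHom.comp_apply,
      TensorAlgebra.lift_ι_apply, Submodule.subtype_apply]
    exact h y
  apply AlgHom.ext
  intro a
  obtain ⟨t, rfl⟩ := lift_surjective hrk hu hχ hχp a
  exact AlgHom.congr_fun h3 t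

/-- A linear map `I_1(A) → B` compatible with `p`-fold products extends to an algebra map. -/
theorem exists_algHom_of_compat {B : Type u} [CommRing B] [Algebra R B]
    (θ : OortTate.eigenAug R A p χ 1 →ₗ[R] B)
    (hθ : ∀ (f : Fin p → OortTate.eigenAug R A p χ 1) (g : OortTate.eigenAug R A p χ 1),
      (g : A) = ∏ i, (f i : A) → θ g = ∏ i, θ (f i)) :
    ∃ F : A →ₐ[R] B, ∀ y : OortTate.eigenAug R A p χ 1, F (y : A) = θ y := by
  set Φ := TensorAlgebra.lift R (OortTate.eigenAug R A p χ 1).subtype with hΦ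
  have hsurj : Function.Surjective Φ.toRingHom := lift_surjective hrk hu hχ hχp
  set g := TensorAlgebra.lift R θ with hg
  have hkg : RingHom.ker Φ.toRingHom ≤ RingHom.ker g.toRingHom := by
    intro x hx
    have hx1 : x ∈ RingHom.ker Φ := hx
    have hx2 := ker_lift_le hrk hu hχ hχp hx1
    have hle : Ideal.span {x : TensorAlgebra R (OortTate.eigenAug R A p χ 1) |
          ∃ (f : Fin p → OortTate.eigenAug R A p χ 1) (g : OortTate.eigenAug R A p χ 1),
            (g : A) = ∏ i, (f i : A) ∧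
            x = (List.ofFn fun i => TensorAlgebra.ι R (f i)).prod - TensorAlgebra.ι R g} ≤
        RingHom.ker g.toRingHom := by
      rw [Ideal.span_le]
      rintro _ ⟨f, g₀, hg₀, rfl⟩
      rw [SetLike.mem_coe, RingHom.mem_ker]
      show g ((List.ofFn fun i => TensorAlgebra.ι R (f i)).prod - TensorAlgebra.ι R g₀) = 0
      rw [map_sub, TensorAlgebra.lift_ι_apply, map_list_prod, List.map_ofFn]
      have h1 : (g ∘ fun i => TensorAlgebra.ι R (f i)) = fun i => θ (f i) := by
        funext i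
        simp [hg]
      rw [h1, List.prod_ofFn, ← hθ f g₀ hg₀]
      exact sub_self _
    exact hle hx2
  set F₀ := RingHom.liftOfSurjective Φ.toRingHom hsurj ⟨g.toRingHom, hkg⟩ with hF₀
  have hF₀Φ : ∀ t, F₀ (Φ t) = g t := fun t =>
    RingHom.liftOfSurjective_comp_apply Φ.toRingHom hsurj ⟨g.toRingHom, hkg⟩ t
  refine ⟨{ F₀ with
    commutes' := fun r => by
      have := hF₀Φ (algebraMap R _ r)
      rw [AlgHom.commutes, AlgHom.commutes] at this
      exact this }, ?_⟩
  intro y
  have := hF₀Φ (TensorAlgebra.ι R y)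
  rw [hΦ, TensorAlgebra.lift_ι_apply, hg, TensorAlgebra.lift_ι_apply] at this
  exact this

end One

section Dual

variable {R : Type u} [CommRing R] {A : Type u} [CommRing A] [HopfAlgebra R A]
  [Coalgebra.IsCocomm R A] [Module.Finite R A] [Module.Projective R A]

theorem one_dual_apply (a : A) : (1 : D R A) a = Coalgebra.counit (R := R) a := by
  show algebraMap R R (Coalgebra.counit a) = _
  rfl

/-- Two elements of `A ⊗ A` with the same pairing against `A^D ⊗ A^D` are equal. -/
theorem tensor_ext_of_ev₂ {t₁ t₂ : A ⊗[R] A}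
    (h : ∀ Y : D R A ⊗[R] D R A, ev₂ R A Y t₁ = ev₂ R A Y t₂) : t₁ = t₂ := by
  rw [← sub_eq_zero]
  apply (Module.forall_dual_apply_eq_zero_iff R (t₁ - t₂)).mp
  intro φ
  obtain ⟨Y, rfl⟩ := (ev₂ R A).surjective φ
  rw [map_sub, h Y, sub_self]

theorem ev₂_tmul_comul (Ψ₁ Ψ₂ : D R A) (z : A) :
    ev₂ R A (Ψ₁ ⊗ₜ[R] Ψ₂) (Coalgebra.comul (R := R) z) = (Ψ₁ * Ψ₂) z := by
  rw [ev₂_tmul_eq', coe_apply, LinearMap.convMul_apply]
  rfl

end Dual

section Two

variable {R : Type u} [CommRing R] {A : Type u} [CommRing A] [HopfAlgebra R A]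
  [Coalgebra.IsCocomm R A] [Module.Finite R A] [Module.Projective R A]
  {A' : Type u} [CommRing A'] [HopfAlgebra R A']
  [Coalgebra.IsCocomm R A'] [Module.Finite R A'] [Module.Projective R A']

/-- The transpose of a linear map, on the dual Hopf algebras. -/
noncomputable def transp (F : A →ₗ[R] A') (Ψ : D R A') : D R A := toConv (Ψ.ofConv ∘ₗ F)

theorem transp_apply (F : A →ₗ[R] A') (Ψ : D R A') (a : A) : transp F Ψ a = Ψ (F a) := rfl

theorem ev₂_tmul_map (F : A →ₐ[R] A') (Ψ₁ Ψ₂ : D R A') (t : A ⊗[R] A) :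
    ev₂ R A' (Ψ₁ ⊗ₜ[R] Ψ₂) (Algebra.TensorProduct.map F F t) =
      ev₂ R A (transp F.toLinearMap Ψ₁ ⊗ₜ[R] transp F.toLinearMap Ψ₂) t := by
  induction t using TensorProduct.induction_on with
  | zero => simp
  | add s t hs ht => simp only [map_add, hs, ht]
  | tmul a b =>
    rw [Algebra.TensorProduct.map_tmul, ev₂_tmul, ev₂_tmul]
    rfl

end Two

section Main

variable {R : Type u} [CommRing R] {A : Type u} [CommRing A] [HopfAlgebra R A]
  [Coalgebra.IsCocomm R A] [Module.Finite R A] [Module.Projective R A]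
  {A' : Type u} [CommRing A'] [HopfAlgebra R A']
  [Coalgebra.IsCocomm R A'] [Module.Finite R A'] [Module.Projective R A']
  {p : ℕ} [Fact p.Prime]
  (hrk : ∀ q : PrimeSpectrum R, Module.rankAtStalk A q = p)
  (hrk' : ∀ q : PrimeSpectrum R, Module.rankAtStalk A' q = p) {u : R}
  (hu : u * ((p - 1 : ℕ) : R) = 1) {χ : (ZMod p)ˣ →* Rˣ}
  (hχ : ∀ m : (ZMod p)ˣ, m ≠ 1 → IsUnit ((χ m : R) - 1))
  (hχp : ∀ m : (ZMod p)ˣ, ((χ m : Rˣ) : R) - (((m : ZMod p).val : ℕ) : R) ∈
      Ideal.span ({(p : R)} : Set R))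
  (θ : OortTate.eigenAug R A p χ 1 ≃ₗ[R] OortTate.eigenAug R A' p χ 1)
  (hθ : ∀ (f : Fin p → OortTate.eigenAug R A p χ 1) (g : OortTate.eigenAug R A p χ 1),
      (g : A) = ∏ i, (f i : A) → ((θ g : OortTate.eigenAug R A' p χ 1) : A') = ∏ i, ((θ (f i)) : A'))

include hrk hrk' hu hχ hχp hθ

omit hrk hrk' hu hχ hχp hθ in
theorem eigenAug_prime_eq_one' (hp : (toConv (AlgHom.id R A)) ^ p = 1) (χ : (ZMod p)ˣ →* Rˣ) :
    OortTate.eigenAug R A p χ p = OortTate.eigenAug R A p χ 1 := by
  apply eigenAug_congr hp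
  rw [Nat.cast_sub (Fact.out : p.Prime).one_le]
  exact ⟨-1, by push_cast; ring⟩

theorem symm_compat (f' : Fin p → OortTate.eigenAug R A' p χ 1)
    (g' : OortTate.eigenAug R A' p χ 1) (hg' : (g' : A') = ∏ i, (f' i : A')) :
    ((θ.symm g' : OortTate.eigenAug R A p χ 1) : A) = ∏ i, ((θ.symm (f' i)) : A) := by
  have hp := convPow_id_eq_one hrk
  have hmem : ∏ i, ((θ.symm (f' i)) : A) ∈ OortTate.eigenAug R A p χ 1 := by
    have h0 := finProd_mem hp χ p (Fact.out : p.Prime).one_le fun i => θ.symm (f' i)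
    have h00 := eigenAug_prime_eq_one' hp χ
    exact h00.le h0
  have h1 := hθ (fun i => θ.symm (f' i)) ⟨_, hmem⟩ rfl
  simp only [LinearEquiv.apply_symm_apply] at h1
  have h2 : θ ⟨_, hmem⟩ = g' := by
    apply Subtype.ext
    rw [h1, hg']
  rw [← h2, LinearEquiv.symm_apply_apply]

theorem exists_algEquiv :
    ∃ F : A ≃ₐ[R] A', ∀ y : OortTate.eigenAug R A p χ 1, F (y : A) = (θ y : A') := by
  obtain ⟨F, hF⟩ := exists_algHom_of_compat hrk hu hχ hχp
    ((OortTate.eigenAug R A' p χ 1).subtype ∘ₗ θ.toLinearMap) (fun f g hg => hθ f g hg)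
  obtain ⟨G, hG⟩ := exists_algHom_of_compat hrk' hu hχ hχp
    ((OortTate.eigenAug R A p χ 1).subtype ∘ₗ θ.symm.toLinearMap)
    (fun f g hg => symm_compat hrk hrk' hu hχ hχp θ hθ f g hg)
  have h1 : G.comp F = AlgHom.id R A := by
    apply algHom_ext_eigenAug hrk hu hχ hχp
    intro y
    rw [AlgHom.comp_apply, hF y]
    have := hG (θ y)
    simp only [LinearMap.comp_apply, Submodule.subtype_apply, LinearEquiv.coe_coe,
      LinearEquiv.symm_apply_apply] at this
    rw [LinearMap.comp_apply, LinearEquiv.coe_coe, Submodule.subtype_apply, this]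
    rfl
  have h2 : F.comp G = AlgHom.id R A' := by
    apply algHom_ext_eigenAug hrk' hu hχ hχp
    intro y
    rw [AlgHom.comp_apply, hG y]
    have := hF (θ.symm y)
    simp only [LinearMap.comp_apply, Submodule.subtype_apply, LinearEquiv.coe_coe,
      LinearEquiv.apply_symm_apply] at this
    rw [LinearMap.comp_apply, LinearEquiv.coe_coe, Submodule.subtype_apply, this]
    rfl
  refine ⟨AlgEquiv.ofAlgHom F G h2 h1, fun y => ?_⟩
  show F (y : A) = _
  rw [hF y]
  rfl

omit hrk' hθ in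
theorem counit_compat (hp' : (toConv (AlgHom.id R A')) ^ p = 1) (F : A →ₐ[R] A')
    (hF : ∀ y : OortTate.eigenAug R A p χ 1, F (y : A) = (θ y : A')) :
    (Bialgebra.counitAlgHom R A').comp F = Bialgebra.counitAlgHom R A := by
  have hp := convPow_id_eq_one hrk
  apply algHom_ext_eigenAug hrk hu hχ hχp
  intro y
  rw [AlgHom.comp_apply, hF y, ((mem_eigenAug hp').mp (θ y).2).1, ((mem_eigenAug hp).mp y.2).1]

omit hrk hrk' hχp hθ in
theorem exists_lift_dual (hp : (toConv (AlgHom.id R A)) ^ p = 1)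
    (ψ' : OortTate.eigenAug R (D R A') p χ 1) :
    ∃ ψ : OortTate.eigenAug R (D R A) p χ 1, ∀ y : OortTate.eigenAug R A p χ 1,
      (ψ : D R A) (y : A) = (ψ' : D R A') ((θ y : OortTate.eigenAug R A' p χ 1) : A') := by
  obtain ⟨ψ, hψ⟩ := (restrict_bijective hp hu hχ 1).2
    ((((toDual R A') (ψ' : D R A')).comp (OortTate.eigenAug R A' p χ 1).subtype).comp
      θ.toLinearMap)
  exact ⟨ψ, fun y => LinearMap.congr_fun hψ y⟩

variable (hθD : ∀ (φ : Fin p → OortTate.eigenAug R (CartDual.D R A) p χ 1)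
      (φ' : Fin p → OortTate.eigenAug R (CartDual.D R A') p χ 1)
      (ψ : OortTate.eigenAug R (CartDual.D R A) p χ 1) (ψ' : OortTate.eigenAug R (CartDual.D R A') p χ 1),
      (∀ i, ∀ x : OortTate.eigenAug R A p χ 1,
        CartDual.toDual R A (φ i : CartDual.D R A) (x : A) =
          CartDual.toDual R A' (φ' i : CartDual.D R A') ((θ x : OortTate.eigenAug R A' p χ 1) : A')) →
      (ψ : CartDual.D R A) = ∏ i, (φ i : CartDual.D R A) →
      (ψ' : CartDual.D R A') = ∏ i, (φ' i : CartDual.D R A') →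
      ∀ x : OortTate.eigenAug R A p χ 1,
        CartDual.toDual R A (ψ : CartDual.D R A) (x : A) =
          CartDual.toDual R A' (ψ' : CartDual.D R A') ((θ x : OortTate.eigenAug R A' p χ 1) : A'))

include hθD

omit hθ in
/-- Products of at most `2p - 2` compatible functionals agree on `I_1`. -/
theorem pair_eq (k : ℕ) (hk : k ≤ 2 * p - 2)
    (Ψ : Fin k → OortTate.eigenAug R (D R A) p χ 1)
    (Ψ' : Fin k → OortTate.eigenAug R (D R A') p χ 1)
    (hc : ∀ c, ∀ y : OortTate.eigenAug R A p χ 1,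
      (Ψ c : D R A) (y : A) = (Ψ' c : D R A') ((θ y : OortTate.eigenAug R A' p χ 1) : A'))
    (y : OortTate.eigenAug R A p χ 1) :
    (∏ c, (Ψ c : D R A)) (y : A) =
      (∏ c, (Ψ' c : D R A')) ((θ y : OortTate.eigenAug R A' p χ 1) : A') := by
  have hp := convPow_id_eq_one hrk
  have hp' := convPow_id_eq_one hrk'
  have hpD := convPow_id_dual_eq_one hp
  have hpD' := convPow_id_dual_eq_one hp'
  have hp2 : 2 ≤ p := (Fact.out : p.Prime).two_le
  rcases Nat.eq_zero_or_pos k with hk0 | hkpos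
  · subst hk0
    simp only [Finset.univ_eq_empty, Finset.prod_empty]
    rw [one_dual_apply, one_dual_apply]
    have h1 := ((mem_eigenAug hp).mp y.2).1
    have h2 := ((mem_eigenAug hp').mp (θ y).2).1
    exact h1.trans h2.symm
  · by_cases hk1 : k = 1
    · subst hk1
      simp only [Fin.prod_univ_one]
      exact hc 0 y
    · by_cases hkp : k = p
      · have hkp' : p = k := hkp.symm
        subst hkp'
        have hm : ∏ c, (Ψ c : D R A) ∈ OortTate.eigenAug R (D R A) p χ 1 :=
          (eigenAug_prime_eq_one' hpD χ).le (finProd_mem hpD χ p hkpos Ψ)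
        have hm' : ∏ c, (Ψ' c : D R A') ∈ OortTate.eigenAug R (D R A') p χ 1 :=
          (eigenAug_prime_eq_one' hpD' χ).le (finProd_mem hpD' χ p hkpos Ψ')
        exact hθD Ψ Ψ' ⟨_, hm⟩ ⟨_, hm'⟩ hc rfl rfl y
      · have hnd : ¬ ((p - 1 : ℕ) : ℤ) ∣ ((k : ℤ) - (1 : ℕ)) := by
          rintro ⟨m, hm⟩
          rw [Nat.cast_sub (by omega : 1 ≤ p)] at hm
          push_cast at hm
          have hk2n : 2 ≤ k := by omega
          have hk2 : (2 : ℤ) ≤ (k : ℤ) := by exact_mod_cast hk2n
          have hklen : k + 2 ≤ 2 * p := by omega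
          have hkle : (k : ℤ) + 2 ≤ 2 * (p : ℤ) := by exact_mod_cast hklen
          have hp2' : (2 : ℤ) ≤ (p : ℤ) := by exact_mod_cast hp2
          have hkne : (k : ℤ) ≠ (p : ℤ) := by exact_mod_cast hkp
          rcases lt_trichotomy m 1 with h1 | h1 | h1
          · have hm0 : m ≤ 0 := by omega
            have := mul_nonneg (by linarith : (0 : ℤ) ≤ (p : ℤ) - 1) (by linarith : (0 : ℤ) ≤ -m)
            nlinarith
          · rw [h1, mul_one] at hm
            apply hkne
            linarith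
          · have hm2 : (2 : ℤ) ≤ m := by omega
            have := mul_nonneg (by linarith : (0 : ℤ) ≤ (p : ℤ) - 1)
              (by linarith : (0 : ℤ) ≤ m - 2)
            nlinarith
        rw [dual_eigen_apply_eq_zero hp hu hχ (finProd_mem hpD χ k hkpos Ψ) y.2 hnd,
          dual_eigen_apply_eq_zero hp' hu hχ (finProd_mem hpD' χ k hkpos Ψ') (θ y).2 hnd]

omit hθ hθD in
/-- The transpose of `F` on monomials of degree `≤ p - 1`. -/
theorem transp_finProd (F : A →ₐ[R] A')
    (hF : ∀ y : OortTate.eigenAug R A p χ 1, F (y : A) = (θ y : A'))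
    (i : ℕ) (hi : i ≤ p - 1)
    (ψ : Fin i → OortTate.eigenAug R (D R A) p χ 1)
    (ψ' : Fin i → OortTate.eigenAug R (D R A') p χ 1)
    (hc : ∀ c, ∀ y : OortTate.eigenAug R A p χ 1,
      (ψ c : D R A) (y : A) = (ψ' c : D R A') ((θ y : OortTate.eigenAug R A' p χ 1) : A')) :
    transp F.toLinearMap (∏ a, (ψ' a : D R A')) = ∏ a, (ψ a : D R A) := by
  have hp := convPow_id_eq_one hrk
  have hp' := convPow_id_eq_one hrk'
  have hpD := convPow_id_dual_eq_one hp
  have hpD' := convPow_id_dual_eq_one hp'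
  obtain ⟨w, hw⟩ := exists_w (R := R) (p := p) hu hχ
  have hcounit := counit_compat hrk hu hχ hχp θ hp' F hF
  apply dual_ext
  intro b
  rw [transp_apply]
  have hb : b ∈ (⊤ : Submodule R A) := trivial
  rw [← span_finProd_eq_top hrk hu hχ hχp] at hb
  induction hb using Submodule.span_induction with
  | mem z hz =>
    obtain ⟨n, hn, y, rfl⟩ := hz
    have hFz : F.toLinearMap (∏ a, (y a : A)) = ∏ a, ((θ (y a) : OortTate.eigenAug R A' p χ 1) : A') := by
      rw [AlgHom.toLinearMap_apply, map_prod]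
      exact Finset.prod_congr rfl fun a _ => hF (y a)
    rw [hFz]
    rcases Nat.eq_zero_or_pos i with hi0 | hipos
    · subst hi0
      simp only [Finset.univ_eq_empty, Finset.prod_empty]
      rw [one_dual_apply, one_dual_apply, ← hFz]
      exact AlgHom.congr_fun hcounit _
    · rcases Nat.eq_zero_or_pos n with hn0 | hnpos
      · subst hn0
        simp only [Finset.univ_eq_empty, Finset.prod_empty]
        rw [((mem_eigenAug_dual hp').mp (finProd_mem hpD' χ i hipos ψ')).1,
          ((mem_eigenAug_dual hp).mp (finProd_mem hpD χ i hipos ψ)).1]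
      · by_cases hin : i = n
        · subst hin
          rw [finProd_apply_finProd hrk' hu hχ hχp hw i hipos hi ψ' (fun a => θ (y a)),
            finProd_apply_finProd hrk hu hχ hχp hw i hipos hi ψ y]
          congr 1
          exact Finset.prod_congr rfl fun a _ => (hc a (y a)).symm
        · have hnd : ¬ ((p - 1 : ℕ) : ℤ) ∣ ((i : ℤ) - n) := by
            have h1 : (⟨i - 1, by omega⟩ : Fin (p - 1)) ≠ ⟨n - 1, by omega⟩ := by
              intro h
              have := Fin.mk.inj_iff.mp h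
              omega
            have h2 := not_dvd_sub_of_fin_ne h1
            simp only at h2
            have e1 : ((i - 1 : ℕ) : ℤ) - ((n - 1 : ℕ) : ℤ) = (i : ℤ) - n := by
              rw [Nat.cast_sub hipos, Nat.cast_sub hnpos]
              push_cast
              ring
            rw [e1] at h2
            exact h2
          rw [dual_eigen_apply_eq_zero hp' hu hχ (finProd_mem hpD' χ i hipos ψ')
              (finProd_mem hp' χ n hnpos fun a => θ (y a)) hnd,
            dual_eigen_apply_eq_zero hp hu hχ (finProd_mem hpD χ i hipos ψ)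
              (finProd_mem hp χ n hnpos y) hnd]
  | zero => simp only [map_zero, coe_apply]
  | add a b _ _ ha hb =>
    rw [map_add, coe_apply, map_add, ← coe_apply, ← coe_apply, ha, hb, coe_apply, coe_apply,
      coe_apply, map_add]
  | smul r a _ ha =>
    rw [map_smul, coe_apply, map_smul, ← coe_apply, ha, coe_apply, coe_apply, map_smul]

omit hθ in
theorem comul_compat (F : A →ₐ[R] A')
    (hF : ∀ y : OortTate.eigenAug R A p χ 1, F (y : A) = (θ y : A')) :
    (Algebra.TensorProduct.map F F).comp (Bialgebra.comulAlgHom R A) =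
      (Bialgebra.comulAlgHom R A').comp F := by
  have hp := convPow_id_eq_one hrk
  have hp' := convPow_id_eq_one hrk'
  have hp2 : 2 ≤ p := (Fact.out : p.Prime).two_le
  have hrkD' := rankAtStalk_cartDual hrk'
  apply algHom_ext_eigenAug hrk hu hχ hχp
  intro y
  rw [AlgHom.comp_apply, AlgHom.comp_apply, hF y]
  show Algebra.TensorProduct.map F F (Coalgebra.comul (R := R) (y : A)) =
    Coalgebra.comul (R := R) ((θ y : OortTate.eigenAug R A' p χ 1) : A')
  apply tensor_ext_of_ev₂
  -- the statement for monomials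
  have step1 : ∀ (i : ℕ) (_ : i ≤ p - 1) (ψ' : Fin i → OortTate.eigenAug R (D R A') p χ 1)
      (j : ℕ) (_ : j ≤ p - 1) (ψ'' : Fin j → OortTate.eigenAug R (D R A') p χ 1),
      ev₂ R A' ((∏ a, (ψ' a : D R A')) ⊗ₜ[R] (∏ b, (ψ'' b : D R A')))
        (Algebra.TensorProduct.map F F (Coalgebra.comul (R := R) (y : A))) =
      ev₂ R A' ((∏ a, (ψ' a : D R A')) ⊗ₜ[R] (∏ b, (ψ'' b : D R A')))
        (Coalgebra.comul (R := R) ((θ y : OortTate.eigenAug R A' p χ 1) : A')) := by
    intro i hi ψ' j hj ψ''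
    choose ψ hψ using fun a => exists_lift_dual hu hχ θ hp (ψ' a)
    choose ψ₂ hψ₂ using fun b => exists_lift_dual hu hχ θ hp (ψ'' b)
    rw [ev₂_tmul_map, ev₂_tmul_comul, ev₂_tmul_comul,
      transp_finProd hrk hrk' hu hχ hχp θ F hF i hi ψ ψ' hψ,
      transp_finProd hrk hrk' hu hχ hχp θ F hF j hj ψ₂ ψ'' hψ₂]
    have h1 : (∏ a, (ψ a : D R A)) * ∏ b, (ψ₂ b : D R A) =
        ∏ c : Fin (i + j), ((Fin.append ψ ψ₂ c : OortTate.eigenAug R (D R A) p χ 1) : D R A) := by
      rw [Fin.prod_univ_add]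
      simp only [Fin.append_left, Fin.append_right]
    have h2 : (∏ a, (ψ' a : D R A')) * ∏ b, (ψ'' b : D R A') =
        ∏ c : Fin (i + j),
          ((Fin.append ψ' ψ'' c : OortTate.eigenAug R (D R A') p χ 1) : D R A') := by
      rw [Fin.prod_univ_add]
      simp only [Fin.append_left, Fin.append_right]
    rw [h1, h2]
    apply pair_eq hrk hrk' hu hχ hχp θ hθD (i + j) (by omega)
    intro c z
    induction c using Fin.addCases with
    | left a => rw [Fin.append_left, Fin.append_left]; exact hψ a z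
    | right b => rw [Fin.append_right, Fin.append_right]; exact hψ₂ b z
  -- extend by bilinearity
  have hspan := span_finProd_eq_top hrkD' hu hχ hχp
  have step2 : ∀ (Ψ₁ : D R A') (j : ℕ) (_ : j ≤ p - 1)
      (ψ'' : Fin j → OortTate.eigenAug R (D R A') p χ 1),
      ev₂ R A' (Ψ₁ ⊗ₜ[R] (∏ b, (ψ'' b : D R A')))
        (Algebra.TensorProduct.map F F (Coalgebra.comul (R := R) (y : A))) =
      ev₂ R A' (Ψ₁ ⊗ₜ[R] (∏ b, (ψ'' b : D R A')))
        (Coalgebra.comul (R := R) ((θ y : OortTate.eigenAug R A' p χ 1) : A')) := by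
    intro Ψ₁ j hj ψ''
    have hΨ : Ψ₁ ∈ (⊤ : Submodule R (D R A')) := trivial
    rw [← hspan] at hΨ
    induction hΨ using Submodule.span_induction with
    | mem z hz =>
      obtain ⟨i, hi, ψ', rfl⟩ := hz
      exact step1 i hi ψ' j hj ψ''
    | zero => simp only [TensorProduct.zero_tmul, map_zero, LinearMap.zero_apply]
    | add a b _ _ ha hb =>
      simp only [TensorProduct.add_tmul, map_add, LinearMap.add_apply, ha, hb]
    | smul r a _ ha =>
      simp only [← TensorProduct.smul_tmul', map_smul, LinearMap.smul_apply, ha]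
  have step3 : ∀ (Ψ₁ Ψ₂ : D R A'),
      ev₂ R A' (Ψ₁ ⊗ₜ[R] Ψ₂)
        (Algebra.TensorProduct.map F F (Coalgebra.comul (R := R) (y : A))) =
      ev₂ R A' (Ψ₁ ⊗ₜ[R] Ψ₂)
        (Coalgebra.comul (R := R) ((θ y : OortTate.eigenAug R A' p χ 1) : A')) := by
    intro Ψ₁ Ψ₂
    have hΨ : Ψ₂ ∈ (⊤ : Submodule R (D R A')) := trivial
    rw [← hspan] at hΨ
    induction hΨ using Submodule.span_induction with
    | mem z hz =>
      obtain ⟨j, hj, ψ'', rfl⟩ := hz
      exact step2 Ψ₁ j hj ψ''
    | zero => simp only [TensorProduct.tmul_zero, map_zero, LinearMap.zero_apply]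
    | add a b _ _ ha hb =>
      simp only [TensorProduct.tmul_add, map_add, LinearMap.add_apply, ha, hb]
    | smul r a _ ha =>
      simp only [TensorProduct.tmul_smul, map_smul, LinearMap.smul_apply, ha]
  intro Y
  induction Y using TensorProduct.induction_on with
  | zero => simp only [map_zero, LinearMap.zero_apply]
  | add s t hs ht => simp only [map_add, LinearMap.add_apply, hs, ht]
  | tmul Ψ₁ Ψ₂ => exact step3 Ψ₁ Ψ₂

include hθ in
/-- **Injectivity of the Oort–Tate classification.** -/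
theorem nonempty_bialgEquiv : Nonempty (A ≃ₐc[R] A') := by
  have hp' := convPow_id_eq_one hrk'
  obtain ⟨F, hF⟩ := exists_algEquiv hrk hrk' hu hχ hχp θ hθ
  have hF' : ∀ y : OortTate.eigenAug R A p χ 1, (F : A →ₐ[R] A') (y : A) = (θ y : A') := hF
  exact ⟨BialgEquiv.ofAlgEquiv F
    (counit_compat hrk hu hχ hχp θ hp' (F : A →ₐ[R] A') hF')
    (comul_compat hrk hrk' hu hχ hχp θ hθD (F : A →ₐ[R] A') hF')⟩

end Main

end Groth.Agent.Lib.Helper16.OT
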