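import Groth.Agent.Lib.Helper16.OTAction
import Groth.Agent.Lib.Helper16.FinHopfPrimeClass
import Mathlib

/-!
# Oort–Tate eigenspaces for a group scheme of order `p` over an algebraically closed field
(helper16)
-/

set_option autoImplicit false

namespace Groth.Agent.Lib.Helper16.OT

open WithConv Module Groth.Agent.Lib.Helper16.FinHopf

universe u

section Cotangent

variable {K : Type u} [Field K] {H : Type u} [CommRing H] [HopfAlgebra K H]

theorem powConv_mem_ker (n : ℕ) {a : H} (ha : a ∈ RingHom.ker (Bialgebra.counitAlgHom K H)) :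
    SGA3b.powConv K H n a ∈ RingHom.ker (Bialgebra.counitAlgHom K H) := by
  rw [RingHom.mem_ker] at ha ⊢
  rw [counit_powConv, ha]

theorem powConv_toLinearMap (n : ℕ) :
    (SGA3b.powConv K H n).toLinearMap = ((toConv (LinearMap.id : H →ₗ[K] H)) ^ n).ofConv := by
  have h := AlgHom.toLinearMap_convPow (toConv (AlgHom.id K H)) n
  rw [powConv_def]
  exact congrArg WithConv.ofConv h

/-- `[n] a ≡ n a` modulo the square of the augmentation ideal. -/
theorem powConv_sub_smul_mem_sq (n : ℕ) (a : H)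
    (ha : a ∈ RingHom.ker (Bialgebra.counitAlgHom K H)) :
    SGA3b.powConv K H n a - (n : K) • a ∈ (RingHom.ker (Bialgebra.counitAlgHom K H)) ^ 2 := by
  induction n with
  | zero =>
    rw [powConv_zero]
    have : Bialgebra.counitAlgHom K H a = 0 := ha
    simp [this]
  | succ n ih =>
    set I₀ : WithConv (H →ₗ[K] H) := toConv (LinearMap.id : H →ₗ[K] H) with hI₀
    set θ : WithConv (H →ₗ[K] H) := I₀ - 1 with hθ
    have h1 : SGA3b.powConv K H (n + 1) a = (I₀ ^ (n + 1)).ofConv a := by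
      rw [← powConv_toLinearMap]; rfl
    have h0 : SGA3b.powConv K H n a = (I₀ ^ n).ofConv a := by
      rw [← powConv_toLinearMap]; rfl
    have h2 : I₀ ^ (n + 1) = I₀ ^ n + θ + (I₀ ^ n - 1) * θ := by
      rw [pow_succ, hθ]; noncomm_ring
    have hθmem : ∀ c, θ.ofConv c ∈ RingHom.ker (Bialgebra.counitAlgHom K H) := by
      intro c
      have : θ.ofConv c = c - algebraMap K H (Coalgebra.counit (R := K) c) := rfl
      rw [this]
      exact sub_algebraMap_mem_ker (Bialgebra.counitAlgHom K H) c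
    have hmem : ∀ c, (I₀ ^ n - 1).ofConv c ∈ RingHom.ker (Bialgebra.counitAlgHom K H) := by
      intro c
      have : (I₀ ^ n - 1).ofConv c = SGA3b.powConv K H n c -
          algebraMap K H (Coalgebra.counit (R := K) c) := by
        have h3 : SGA3b.powConv K H n c = (I₀ ^ n).ofConv c := by
          rw [← powConv_toLinearMap]; rfl
        rw [h3]; rfl
      rw [this, RingHom.mem_ker, map_sub, counit_powConv, AlgHom.commutes]
      simp
    have h3 := conv_mem_mul (I₀ ^ n - 1) θ _ _ hmem hθmem a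
    have hθa : θ.ofConv a = a := by
      have : θ.ofConv a = a - algebraMap K H (Coalgebra.counit (R := K) a) := rfl
      have ha' : Coalgebra.counit (R := K) a = 0 := ha
      rw [this, ha', map_zero, sub_zero]
    have h4 : SGA3b.powConv K H (n + 1) a - ((n + 1 : ℕ) : K) • a =
        (SGA3b.powConv K H n a - (n : K) • a) + ((I₀ ^ n - 1) * θ).ofConv a := by
      rw [h1, h2, h0]
      simp only [WithConv.ofConv_add, LinearMap.add_apply, hθa]
      push_cast
      rw [add_smul, one_smul]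
      ring
    rw [h4]
    exact Ideal.add_mem _ ih (by rw [pow_two]; exact h3)


/-- `[n]` acts on `I^j / I^(j+1)` as multiplication by `n^j`. -/
theorem powConv_sub_smul_mem_pow (n : ℕ) (j : ℕ) (f : H)
    (hf : f ∈ (RingHom.ker (Bialgebra.counitAlgHom K H)) ^ j) :
    SGA3b.powConv K H n f - ((n : K) ^ j) • f ∈
      (RingHom.ker (Bialgebra.counitAlgHom K H)) ^ (j + 1) := by
  induction j generalizing f with
  | zero =>
    rw [pow_zero, one_smul, zero_add, pow_one, RingHom.mem_ker, map_sub, counit_powConv, sub_self]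
  | succ j ih =>
    rw [pow_succ] at hf
    refine Submodule.mul_induction_on hf ?_ ?_
    · intro g hg a ha
      have h1 : SGA3b.powConv K H n (g * a) - ((n : K) ^ (j + 1)) • (g * a) =
          (SGA3b.powConv K H n g - ((n : K) ^ j) • g) * SGA3b.powConv K H n a +
            (((n : K) ^ j) • g) * (SGA3b.powConv K H n a - (n : K) • a) := by
        rw [map_mul, pow_succ]
        simp only [Algebra.smul_def, map_mul]
        ring
      rw [h1]
      apply Ideal.add_mem
      · rw [pow_succ]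
        exact Ideal.mul_mem_mul (ih g hg) (powConv_mem_ker n ha)
      · have h2 := powConv_sub_smul_mem_sq n a ha
        have h3 : ((n : K) ^ j) • g ∈ (RingHom.ker (Bialgebra.counitAlgHom K H)) ^ j :=
          Submodule.smul_of_tower_mem _ _ hg
        have h4 := Ideal.mul_mem_mul h3 h2
        rw [← pow_add] at h4
        exact h4
    · intro x y hx hy
      have : SGA3b.powConv K H n (x + y) - ((n : K) ^ (j + 1)) • (x + y) =
          (SGA3b.powConv K H n x - ((n : K) ^ (j + 1)) • x) +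
            (SGA3b.powConv K H n y - ((n : K) ^ (j + 1)) • y) := by
        rw [map_add, smul_add]; ring
      rw [this]
      exact Ideal.add_mem _ hx hy

end Cotangent


section Climb

variable {K : Type u} [Field K] {H : Type u} [CommRing H] [HopfAlgebra K H]
  {p : ℕ} [Fact p.Prime]

theorem chi_injective {χ : (ZMod p)ˣ →* Kˣ}
    (hχ : ∀ m : (ZMod p)ˣ, m ≠ 1 → IsUnit ((χ m : K) - 1)) : Function.Injective χ := by
  rw [injective_iff_map_eq_one]
  intro a ha
  by_contra hne
  have := hχ a hne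
  rw [ha, Units.val_one, sub_self] at this
  exact not_isUnit_zero this

theorem chi_pow_ne {χ : (ZMod p)ˣ →* Kˣ}
    (hχ : ∀ m : (ZMod p)ˣ, m ≠ 1 → IsUnit ((χ m : K) - 1)) {g : (ZMod p)ˣ}
    (hg : orderOf g = p - 1) {i j : ℕ} (hij : ¬ ((p - 1 : ℕ) : ℤ) ∣ ((j : ℤ) - i)) :
    ((χ g : Kˣ) : K) ^ i ≠ ((χ g : Kˣ) : K) ^ j := by
  intro h
  apply hij
  have h1 : χ (g ^ i) = χ (g ^ j) := by
    apply Units.ext
    rw [map_pow, map_pow, Units.val_pow_eq_pow_val, Units.val_pow_eq_pow_val, h]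
  have h2 := chi_injective hχ h1
  rw [← hg, orderOf_dvd_iff_zpow_eq_one, zpow_sub, zpow_natCast, zpow_natCast, h2,
    mul_inv_cancel]

theorem mem_pow_succ_of_mem_eigenAug (hp : (toConv (AlgHom.id K H)) ^ p = 1)
    {χ : (ZMod p)ˣ →* Kˣ} (hχ : ∀ m : (ZMod p)ˣ, m ≠ 1 → IsUnit ((χ m : K) - 1))
    (hχv : ∀ m : (ZMod p)ˣ, ((χ m : Kˣ) : K) = (((m : ZMod p).val : ℕ) : K))
    {i j : ℕ} {f : H} (hf : f ∈ OortTate.eigenAug K H p χ i)
    (hfj : f ∈ (RingHom.ker (Bialgebra.counitAlgHom K H)) ^ j)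
    (hij : ¬ ((p - 1 : ℕ) : ℤ) ∣ ((j : ℤ) - i)) :
    f ∈ (RingHom.ker (Bialgebra.counitAlgHom K H)) ^ (j + 1) := by
  obtain ⟨g, hg⟩ := IsCyclic.exists_generator (α := (ZMod p)ˣ)
  have hord : orderOf g = p - 1 := by
    rw [orderOf_eq_card_of_forall_mem_zpowers hg, Nat.card_eq_fintype_card, ZMod.card_units]
  have h1 := powConv_sub_smul_mem_pow (K := K) (H := H) (g : ZMod p).val j f hfj
  have h2 : SGA3b.powConv K H (g : ZMod p).val f = (((χ g : Kˣ) : K) ^ i) • f :=
    mem_eig.mp ((mem_eigenAug hp).mp hf).2 g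
  rw [h2, ← hχv g, ← sub_smul] at h1
  have hc : ((χ g : Kˣ) : K) ^ i - ((χ g : Kˣ) : K) ^ j ≠ 0 :=
    sub_ne_zero.mpr (chi_pow_ne hχ hord hij)
  have h3 : (((χ g : Kˣ) : K) ^ i - ((χ g : Kˣ) : K) ^ j)⁻¹ •
      ((((χ g : Kˣ) : K) ^ i - ((χ g : Kˣ) : K) ^ j) • f) ∈
      (RingHom.ker (Bialgebra.counitAlgHom K H)) ^ (j + 1) :=
    Submodule.smul_of_tower_mem _ _ h1
  rwa [smul_smul, inv_mul_cancel₀ hc, one_smul] at h3

/-- The representative in `[1, p-1]` of `i` modulo `p - 1`. -/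
def jrep (p i : ℕ) : ℕ := if i % (p - 1) = 0 then p - 1 else i % (p - 1)

theorem jrep_pos (i : ℕ) : 1 ≤ jrep p i := by
  have hp2 : 2 ≤ p := (Fact.out : p.Prime).two_le
  unfold jrep
  split_ifs with h <;> omega

theorem jrep_le (i : ℕ) : jrep p i ≤ p - 1 := by
  have hp2 : 2 ≤ p := (Fact.out : p.Prime).two_le
  unfold jrep
  split_ifs with h
  · exact le_rfl
  · exact (Nat.mod_lt _ (by omega)).le

theorem dvd_jrep_sub (i : ℕ) : ((p - 1 : ℕ) : ℤ) ∣ ((jrep p i : ℕ) : ℤ) - i := by
  have hp2 : 2 ≤ p := (Fact.out : p.Prime).two_le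
  unfold jrep
  have hmod := Nat.mod_add_div i (p - 1)
  split_ifs with h
  · refine ⟨1 - (i / (p - 1) : ℕ), ?_⟩
    have : (i : ℤ) = ((p - 1 : ℕ) : ℤ) * ((i / (p - 1) : ℕ) : ℤ) := by
      rw [h, zero_add] at hmod
      exact_mod_cast hmod.symm
    linear_combination (-1 : ℤ) * this
  · refine ⟨- (i / (p - 1) : ℕ), ?_⟩
    have : (i : ℤ) = ((i % (p - 1) : ℕ) : ℤ) + ((p - 1 : ℕ) : ℤ) * ((i / (p - 1) : ℕ) : ℤ) := by
      exact_mod_cast hmod.symm
    linear_combination (-1 : ℤ) * this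

theorem jrep_one : jrep p 1 = 1 := by
  have hp2 : 2 ≤ p := (Fact.out : p.Prime).two_le
  unfold jrep
  rcases Nat.lt_or_ge 2 p with h | h
  · have : 1 % (p - 1) = 1 := Nat.mod_eq_of_lt (by omega)
    rw [this]; simp
  · have : p = 2 := le_antisymm h hp2
    subst this
    simp

theorem not_dvd_of_between {i j : ℕ} (hj1 : 1 ≤ j) (hjp : j ≤ p - 1) (hne : j ≠ jrep p i) :
    ¬ ((p - 1 : ℕ) : ℤ) ∣ ((j : ℤ) - i) := by
  intro h
  have h1 := dvd_jrep_sub (p := p) i
  have h2 : ((p - 1 : ℕ) : ℤ) ∣ ((j : ℤ) - (jrep p i : ℕ)) := by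
    have := dvd_sub h h1
    have e : ((j : ℤ) - i) - (((jrep p i : ℕ) : ℤ) - i) = (j : ℤ) - (jrep p i : ℕ) := by ring
    rwa [e] at this
  have h3 := jrep_pos (p := p) i
  have h4 := jrep_le (p := p) i
  have hp2 : 2 ≤ p := (Fact.out : p.Prime).two_le
  have h5 : (j : ℤ) - (jrep p i : ℕ) = 0 := by
    apply Int.eq_zero_of_abs_lt_dvd h2
    rw [abs_lt]
    push_cast
    constructor <;> omega
  apply hne
  omega

theorem mem_pow_jrep (hp : (toConv (AlgHom.id K H)) ^ p = 1)
    {χ : (ZMod p)ˣ →* Kˣ} (hχ : ∀ m : (ZMod p)ˣ, m ≠ 1 → IsUnit ((χ m : K) - 1))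
    (hχv : ∀ m : (ZMod p)ˣ, ((χ m : Kˣ) : K) = (((m : ZMod p).val : ℕ) : K))
    {i : ℕ} {f : H} (hf : f ∈ OortTate.eigenAug K H p χ i) :
    f ∈ (RingHom.ker (Bialgebra.counitAlgHom K H)) ^ (jrep p i) := by
  have key : ∀ j, 1 ≤ j → j ≤ jrep p i →
      f ∈ (RingHom.ker (Bialgebra.counitAlgHom K H)) ^ j := by
    intro j hj1
    induction j, hj1 using Nat.le_induction with
    | base =>
      intro _
      rw [pow_one, RingHom.mem_ker]
      exact ((mem_eigenAug hp).mp hf).1
    | succ j hj ih =>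
      intro hle
      have h1 := ih (by omega)
      exact mem_pow_succ_of_mem_eigenAug hp hχ hχv hf h1
        (not_dvd_of_between hj (by have := jrep_le (p := p) i; omega) (by omega))
  exact key _ (jrep_pos i) le_rfl

theorem eq_zero_of_mem_pow_jrep_succ (hp : (toConv (AlgHom.id K H)) ^ p = 1)
    {χ : (ZMod p)ˣ →* Kˣ} (hχ : ∀ m : (ZMod p)ˣ, m ≠ 1 → IsUnit ((χ m : K) - 1))
    (hχv : ∀ m : (ZMod p)ˣ, ((χ m : Kˣ) : K) = (((m : ZMod p).val : ℕ) : K))
    (hIp : (RingHom.ker (Bialgebra.counitAlgHom K H)) ^ p = ⊥)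
    {i : ℕ} {f : H} (hf : f ∈ OortTate.eigenAug K H p χ i)
    (hfj : f ∈ (RingHom.ker (Bialgebra.counitAlgHom K H)) ^ (jrep p i + 1)) : f = 0 := by
  have hp2 : 2 ≤ p := (Fact.out : p.Prime).two_le
  have key : ∀ j, jrep p i + 1 ≤ j → j ≤ p →
      f ∈ (RingHom.ker (Bialgebra.counitAlgHom K H)) ^ j := by
    intro j hj1
    induction j, hj1 using Nat.le_induction with
    | base => intro _; exact hfj
    | succ j hj ih =>
      intro hle
      have h1 := ih (by omega)
      exact mem_pow_succ_of_mem_eigenAug hp hχ hχv hf h1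
        (not_dvd_of_between (by have := jrep_pos (p := p) i; omega) (by omega) (by omega))
  have h := key p (by have := jrep_le (p := p) i; omega) le_rfl
  rw [hIp] at h
  exact h

end Climb


section LocalCase

variable {K : Type u} [Field K] {H : Type u} [CommRing H] [HopfAlgebra K H]
  {p : ℕ} [Fact p.Prime]

/-- Writing an element of `I_i` as `a * x ^ j₀`. -/
theorem exists_eq_mul_pow_jrep (hp : (toConv (AlgHom.id K H)) ^ p = 1)
    {χ : (ZMod p)ˣ →* Kˣ} (hχ : ∀ m : (ZMod p)ˣ, m ≠ 1 → IsUnit ((χ m : K) - 1))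
    (hχv : ∀ m : (ZMod p)ˣ, ((χ m : Kˣ) : K) = (((m : ZMod p).val : ℕ) : K))
    (x : H) (hx : RingHom.ker (Bialgebra.counitAlgHom K H) = Ideal.span {x})
    {i : ℕ} {f : H} (hf : f ∈ OortTate.eigenAug K H p χ i) :
    ∃ a : H, f = a * x ^ (jrep p i) := by
  have h := mem_pow_jrep hp hχ hχv hf
  rw [hx, Ideal.span_singleton_pow, Ideal.mem_span_singleton'] at h
  obtain ⟨a, ha⟩ := h
  exact ⟨a, ha.symm⟩

theorem eq_zero_of_counit_eq_zero_local (hp : (toConv (AlgHom.id K H)) ^ p = 1)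
    {χ : (ZMod p)ˣ →* Kˣ} (hχ : ∀ m : (ZMod p)ˣ, m ≠ 1 → IsUnit ((χ m : K) - 1))
    (hχv : ∀ m : (ZMod p)ˣ, ((χ m : Kˣ) : K) = (((m : ZMod p).val : ℕ) : K))
    (x : H) (hx : RingHom.ker (Bialgebra.counitAlgHom K H) = Ideal.span {x})
    (hIp : (RingHom.ker (Bialgebra.counitAlgHom K H)) ^ p = ⊥)
    {i : ℕ} {a : H} (hf : a * x ^ (jrep p i) ∈ OortTate.eigenAug K H p χ i)
    (ha : Bialgebra.counitAlgHom K H a = 0) : a * x ^ (jrep p i) = 0 := by
  apply eq_zero_of_mem_pow_jrep_succ hp hχ hχv hIp hf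
  rw [pow_succ', hx, Ideal.span_singleton_pow]
  have ha' : a ∈ Ideal.span {x} := by rw [← hx]; exact ha
  exact Ideal.mul_mem_mul ha' (Ideal.mem_span_singleton_self _)

theorem finrank_eigenAug_le_one_of_local (hp : (toConv (AlgHom.id K H)) ^ p = 1)
    {χ : (ZMod p)ˣ →* Kˣ} (hχ : ∀ m : (ZMod p)ˣ, m ≠ 1 → IsUnit ((χ m : K) - 1))
    (hχv : ∀ m : (ZMod p)ˣ, ((χ m : Kˣ) : K) = (((m : ZMod p).val : ℕ) : K))
    (x : H) (hx : RingHom.ker (Bialgebra.counitAlgHom K H) = Ideal.span {x})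
    (hIp : (RingHom.ker (Bialgebra.counitAlgHom K H)) ^ p = ⊥) (i : ℕ) :
    finrank K (OortTate.eigenAug K H p χ i) ≤ 1 := by
  by_cases hbot : ∀ f : OortTate.eigenAug K H p χ i, f = 0
  · haveI : Subsingleton (OortTate.eigenAug K H p χ i) :=
      ⟨fun a b => by rw [hbot a, hbot b]⟩
    rw [finrank_zero_of_subsingleton]
    exact Nat.zero_le 1
  · push Not at hbot
    obtain ⟨f, hf0⟩ := hbot
    obtain ⟨a, ha⟩ := exists_eq_mul_pow_jrep hp hχ hχv x hx f.2
    have hεa : Bialgebra.counitAlgHom K H a ≠ 0 := by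
      intro h0
      apply hf0
      apply Subtype.ext
      have hmem : a * x ^ (jrep p i) ∈ OortTate.eigenAug K H p χ i := ha ▸ f.2
      rw [ha]
      exact eq_zero_of_counit_eq_zero_local hp hχ hχv x hx hIp hmem h0
    refine finrank_le_one f ?_
    intro f'
    obtain ⟨a', ha'⟩ := exists_eq_mul_pow_jrep hp hχ hχv x hx f'.2
    refine ⟨Bialgebra.counitAlgHom K H a' / Bialgebra.counitAlgHom K H a, ?_⟩
    apply Subtype.ext
    rw [Submodule.coe_smul]
    set c := Bialgebra.counitAlgHom K H a with hc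
    set c' := Bialgebra.counitAlgHom K H a' with hc'
    -- `c' f - c f'` is in `I_i ∩ I^{j₀+1}`
    have hmem : (c' • a - c • a') * x ^ (jrep p i) ∈ OortTate.eigenAug K H p χ i := by
      have : (c' • a - c • a') * x ^ (jrep p i) = c' • (f : H) - c • (f' : H) := by
        rw [ha, ha', sub_mul, smul_mul_assoc, smul_mul_assoc]
      rw [this]
      exact Submodule.sub_mem _ (Submodule.smul_mem _ _ f.2) (Submodule.smul_mem _ _ f'.2)
    have hz := eq_zero_of_counit_eq_zero_local hp hχ hχv x hx hIp hmem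
      (by rw [map_sub, map_smul, map_smul, smul_eq_mul, smul_eq_mul, ← hc, ← hc', mul_comm,
        sub_self])
    have h2 : c' • (f : H) = c • (f' : H) := by
      rw [← sub_eq_zero, ha, ha', ← smul_mul_assoc, ← smul_mul_assoc, ← sub_mul]
      exact hz
    rw [div_eq_mul_inv, mul_comm, mul_smul, h2, smul_smul, inv_mul_cancel₀ hεa, one_smul]

theorem pow_ne_zero_of_local [IsLocalRing H] (hp : (toConv (AlgHom.id K H)) ^ p = 1)
    {χ : (ZMod p)ˣ →* Kˣ} (hχ : ∀ m : (ZMod p)ˣ, m ≠ 1 → IsUnit ((χ m : K) - 1))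
    (hχv : ∀ m : (ZMod p)ˣ, ((χ m : Kˣ) : K) = (((m : ZMod p).val : ℕ) : K))
    (x : H) (hx : RingHom.ker (Bialgebra.counitAlgHom K H) = Ideal.span {x})
    (hIp : (RingHom.ker (Bialgebra.counitAlgHom K H)) ^ p = ⊥)
    (hxt : ∀ t, t < p → x ^ t ≠ 0)
    {f : H} (hf : f ∈ OortTate.eigenAug K H p χ 1) (hf0 : f ≠ 0) {t : ℕ} (ht : t < p) :
    f ^ t ≠ 0 := by
  obtain ⟨a, ha⟩ := exists_eq_mul_pow_jrep hp hχ hχv x hx hf
  have hεa : Bialgebra.counitAlgHom K H a ≠ 0 := by
    intro h0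
    apply hf0
    rw [ha]
    exact eq_zero_of_counit_eq_zero_local hp hχ hχv x hx hIp (ha ▸ hf) h0
  have hunit : IsUnit a := by
    by_contra hnu
    have h1 : a ∈ IsLocalRing.maximalIdeal H := (IsLocalRing.mem_maximalIdeal a).mpr hnu
    rw [← ker_eq_maximalIdeal (Bialgebra.counitAlgHom K H)] at h1
    exact hεa h1
  rw [jrep_one, pow_one] at ha
  rw [ha, mul_pow]
  intro h0
  exact hxt t ht ((hunit.pow t).mul_right_eq_zero.mp h0)

end LocalCase


section EtaleCase

variable {K : Type u} [Field K] {H : Type u} [CommRing H] [HopfAlgebra K H] [Module.Finite K H]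
  {p : ℕ} [Fact p.Prime]

theorem point_powConv (γ : WithConv (H →ₐ[K] K)) (n : ℕ) (f : H) :
    γ.ofConv (SGA3b.powConv K H n f) = (γ ^ n).ofConv f := by
  have h := comp_convPow γ.ofConv (toConv (AlgHom.id K H)) n
  have h2 := AlgHom.congr_fun h f
  rw [AlgHom.comp_apply] at h2
  rw [powConv_def, h2]
  rfl

/-- When there are as many points as the dimension, points separate elements. -/
theorem eq_zero_of_forall_point (hcard : Nat.card (WithConv (H →ₐ[K] K)) = finrank K H) (a : H)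
    (h : ∀ γ : WithConv (H →ₐ[K] K), γ.ofConv a = 0) : a = 0 := by
  classical
  have := evalPts_injective (k := K) (A := H) (G := WithConv (H →ₐ[K] K)) (Equiv.refl _) hcard
  apply this
  rw [map_zero]
  funext z
  rw [evalPts_apply]
  exact h z

theorem point_eq_zero_of_generator (hp : (toConv (AlgHom.id K H)) ^ p = 1)
    {χ : (ZMod p)ˣ →* Kˣ} (hG : Nat.card (WithConv (H →ₐ[K] K)) = p)
    (g₀ : WithConv (H →ₐ[K] K)) (hg₀ : g₀ ≠ 1) {i : ℕ} {f : H}
    (hf : f ∈ OortTate.eigenAug K H p χ i) (h0 : g₀.ofConv f = 0)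
    (γ : WithConv (H →ₐ[K] K)) : γ.ofConv f = 0 := by
  have hprime : p.Prime := Fact.out
  have hmem : γ ∈ Subgroup.zpowers g₀ := by
    rw [zpowers_eq_top_of_prime_card hG hg₀]; trivial
  have : Finite (WithConv (H →ₐ[K] K)) := Nat.finite_of_card_ne_zero (by rw [hG]; exact hprime.ne_zero)
  rw [← mem_powers_iff_mem_zpowers] at hmem
  obtain ⟨n, rfl⟩ := hmem
  show (g₀ ^ n).ofConv f = 0
  have hg₀p : g₀ ^ p = 1 := by rw [← hG]; exact pow_card_eq_one'
  have hmod : g₀ ^ n = g₀ ^ (n % p) := pow_eq_pow_mod n hg₀p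
  rw [hmod]
  by_cases hn : n % p = 0
  · rw [hn, pow_zero]
    show Bialgebra.counitAlgHom K H f = 0
    exact ((mem_eigenAug hp).mp hf).1
  · have hlt : n % p < p := Nat.mod_lt _ hprime.pos
    have hne : ((n % p : ℕ) : ZMod p) ≠ 0 := by
      intro h
      rw [ZMod.natCast_eq_zero_iff] at h
      exact hn (Nat.eq_zero_of_dvd_of_lt h hlt)
    set m : (ZMod p)ˣ := Units.mk0 ((n % p : ℕ) : ZMod p) hne with hm
    have hval : ((m : (ZMod p)ˣ) : ZMod p).val = n % p := by
      rw [hm, Units.val_mk0, ZMod.val_natCast, Nat.mod_eq_of_lt hlt]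
    have h1 : SGA3b.powConv K H (n % p) f = (((χ m : Kˣ) : K) ^ i) • f := by
      have := mem_eig.mp ((mem_eigenAug hp).mp hf).2 m
      rw [rho_apply, hval] at this
      exact this
    rw [← point_powConv, h1, map_smul, h0, smul_zero]

theorem finrank_eigenAug_le_one_of_etale (hp : (toConv (AlgHom.id K H)) ^ p = 1)
    {χ : (ZMod p)ˣ →* Kˣ} (hG : Nat.card (WithConv (H →ₐ[K] K)) = p) (hH : finrank K H = p)
    (i : ℕ) : finrank K (OortTate.eigenAug K H p χ i) ≤ 1 := by
  have hprime : p.Prime := Fact.out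
  have : Finite (WithConv (H →ₐ[K] K)) := Nat.finite_of_card_ne_zero (by rw [hG]; exact hprime.ne_zero)
  obtain ⟨g₀, hg₀⟩ : ∃ g₀ : WithConv (H →ₐ[K] K), g₀ ≠ 1 := by
    by_contra hall
    push Not at hall
    have : Subsingleton (WithConv (H →ₐ[K] K)) := ⟨fun a b => by rw [hall a, hall b]⟩
    have h1 : Nat.card (WithConv (H →ₐ[K] K)) = 1 := Nat.card_unique
    rw [hG] at h1
    exact hprime.one_lt.ne' h1
  let L : OortTate.eigenAug K H p χ i →ₗ[K] K :=
    g₀.ofConv.toLinearMap ∘ₗ (OortTate.eigenAug K H p χ i).subtype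
  have hinj : Function.Injective L := by
    rw [injective_iff_map_eq_zero]
    intro f hf
    apply Subtype.ext
    apply eq_zero_of_forall_point (hG.trans hH.symm)
    intro γ
    exact point_eq_zero_of_generator hp hG g₀ hg₀ f.2 hf γ
  have := LinearMap.finrank_le_finrank_of_injective hinj
  rwa [Module.finrank_self] at this

theorem pow_ne_zero_of_etale (hp : (toConv (AlgHom.id K H)) ^ p = 1)
    {χ : (ZMod p)ˣ →* Kˣ} (hG : Nat.card (WithConv (H →ₐ[K] K)) = p) (hH : finrank K H = p)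
    {i : ℕ} {f : H} (hf : f ∈ OortTate.eigenAug K H p χ i) (hf0 : f ≠ 0) (t : ℕ) : f ^ t ≠ 0 := by
  have hprime : p.Prime := Fact.out
  have : Finite (WithConv (H →ₐ[K] K)) := Nat.finite_of_card_ne_zero (by rw [hG]; exact hprime.ne_zero)
  obtain ⟨g₀, hg₀⟩ : ∃ g₀ : WithConv (H →ₐ[K] K), g₀ ≠ 1 := by
    by_contra hall
    push Not at hall
    have : Subsingleton (WithConv (H →ₐ[K] K)) := ⟨fun a b => by rw [hall a, hall b]⟩
    have h1 : Nat.card (WithConv (H →ₐ[K] K)) = 1 := Nat.card_unique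
    rw [hG] at h1
    exact hprime.one_lt.ne' h1
  have h1 : g₀.ofConv f ≠ 0 := by
    intro h0
    apply hf0
    apply eq_zero_of_forall_point (hG.trans hH.symm)
    intro γ
    exact point_eq_zero_of_generator hp hG g₀ hg₀ hf h0 γ
  intro h
  have h2 := congrArg g₀.ofConv h
  rw [map_pow, map_zero] at h2
  exact h1 (pow_eq_zero_iff (n := t) (by
    rintro rfl
    rw [pow_zero] at h2
    exact one_ne_zero h2) |>.mp h2)

end EtaleCase


section Assembly

variable {K : Type u} [Field K] [IsAlgClosed K] {H : Type u} [CommRing H] [HopfAlgebra K H]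
  [Coalgebra.IsCocomm K H] [Module.Finite K H] {p : ℕ} [Fact p.Prime]

/-- A local cocommutative Hopf algebra of dimension `p` has principal augmentation ideal. -/
theorem exists_generator_of_isLocalRing [CharP K p] [IsLocalRing H] (hH : finrank K H = p) :
    ∃ x : H, RingHom.ker (Bialgebra.counitAlgHom K H) = Ideal.span {x} ∧
      (RingHom.ker (Bialgebra.counitAlgHom K H)) ^ p = ⊥ ∧ ∀ t, t < p → x ^ t ≠ 0 := by
  have hp1 : 1 < finrank K H := by rw [hH]; exact (Fact.out : p.Prime).one_lt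
  have hsimple := simple_of_finrank_eq_prime_of_isLocalRing p hH
  have hpz := pow_eq_zero_of_simple p hp1 hsimple
  have key : ∀ x : H, RingHom.ker (Bialgebra.counitAlgHom K H) = Ideal.span {x} →
      (RingHom.ker (Bialgebra.counitAlgHom K H)) ^ p = ⊥ ∧ ∀ t, t < p → x ^ t ≠ 0 := by
    intro x hspan
    obtain ⟨-, hli⟩ := finrank_eq_prime_of_span_singleton p hp1 hpz x hspan
    constructor
    · have hxI : Bialgebra.counitAlgHom K H x = 0 := by
        have : x ∈ RingHom.ker (Bialgebra.counitAlgHom K H) := by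
          rw [hspan]; exact Ideal.mem_span_singleton_self x
        exact this
      rw [hspan, Ideal.span_singleton_pow, hpz x hxI]
      exact Ideal.span_singleton_eq_bot.mpr rfl
    · intro t ht
      exact hli.ne_zero (⟨t, ht⟩ : Fin p)
  by_cases hD : IsLocalRing (WithConv (H →ₗ[K] K))
  · obtain ⟨x, hx0, hx⟩ := exists_primitive_of_isLocalRing_dual hD hp1
    have hspan : RingHom.ker (Bialgebra.counitAlgHom K H) = Ideal.span {x} := by
      rcases hsimple _ (isHopfIdeal_span_primitive x hx) with h | h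
      · exfalso
        apply hx0
        have h1 := Ideal.mem_span_singleton_self x
        rw [h] at h1
        exact h1
      · exact h.symm
    exact ⟨x, hspan, key x hspan⟩
  · obtain ⟨g, hg1, hg⟩ := exists_groupLike_of_not_isLocalRing_dual hD
    have hspan : RingHom.ker (Bialgebra.counitAlgHom K H) = Ideal.span {g - 1} := by
      rcases hsimple _ (isHopfIdeal_span_groupLike_sub_one g hg) with h | h
      · exfalso
        apply hg1
        have h1 := Ideal.mem_span_singleton_self (g - 1)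
        rw [h] at h1
        exact sub_eq_zero.1 h1
      · exact h.symm
    exact ⟨g - 1, hspan, key _ hspan⟩

/-- The two basic facts in the field case. -/
theorem field_basic (hp : (toConv (AlgHom.id K H)) ^ p = 1)
    {χ : (ZMod p)ˣ →* Kˣ} (hχ : ∀ m : (ZMod p)ˣ, m ≠ 1 → IsUnit ((χ m : K) - 1))
    (hχp : ∀ m : (ZMod p)ˣ, ((χ m : Kˣ) : K) - (((m : ZMod p).val : ℕ) : K) ∈
      Ideal.span ({(p : K)} : Set K))
    (hH : finrank K H = p) :
    (∀ i : ℕ, finrank K (OortTate.eigenAug K H p χ i) ≤ 1) ∧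
      ∀ f : H, f ∈ OortTate.eigenAug K H p χ 1 → f ≠ 0 → ∀ t, t < p → f ^ t ≠ 0 := by
  classical
  have hprime : p.Prime := Fact.out
  haveI : IsArtinianRing H := IsArtinianRing.of_finite K H
  obtain ⟨N, hN⟩ := IsArtinianRing.isNilpotent_jacobson_bot (R := H)
  have hcard := finrank_eq_card_mul (k := K) (A := H) N hN
  rw [hH] at hcard
  have hdvd : Nat.card (WithConv (H →ₐ[K] K)) ∣ p := ⟨_, hcard⟩
  rcases (Nat.dvd_prime hprime).1 hdvd with h1 | hG
  · -- local case
    have : Finite (H →ₐ[K] K) := inferInstance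
    have : Finite (WithConv (H →ₐ[K] K)) := Finite.of_equiv _ (WithConv.equiv _).symm
    haveI : Subsingleton (WithConv (H →ₐ[K] K)) := (Nat.card_eq_one_iff_unique.1 h1).1
    haveI hmax : (RingHom.ker (Bialgebra.counitAlgHom K H)).IsMaximal :=
      ker_isMaximal (Bialgebra.counitAlgHom K H)
    haveI : IsLocalRing H := by
      refine IsLocalRing.of_unique_max_ideal ⟨_, hmax, fun m hm => ?_⟩
      haveI := hm
      obtain ⟨γ, hγ⟩ := exists_algHom_ker_eq (k := K) m
      have h2 : toConv γ = toConv (Bialgebra.counitAlgHom K H) := Subsingleton.elim _ _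
      rw [← hγ, WithConv.toConv_injective h2]
    have hnil : IsNilpotent (RingHom.ker (Bialgebra.counitAlgHom K H)) :=
      isNilpotent_ker_of_isLocalRing _
    -- the characteristic is `p`
    haveI : CharP K p := by
      obtain ⟨ℓ, hℓ⟩ := CharP.exists K
      rcases CharP.char_is_prime_or_zero K ℓ with hℓp | hℓ0
      · haveI : Fact ℓ.Prime := ⟨hℓp⟩
        obtain ⟨m, hm⟩ := exists_finrank_eq_prime_pow ℓ (k := K) (finrank K H) H hnil le_rfl
        rw [hH] at hm
        obtain ⟨rfl, -⟩ := (Nat.Prime.pow_eq_iff hprime).1 hm.symm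
        exact hℓ
      · subst hℓ0
        haveI : CharZero K := CharP.charP_to_charZero K
        have hbot := ker_counit_eq_bot_of_charZero H hnil
        exfalso
        have hinj : Function.Injective (Bialgebra.counitAlgHom K H) :=
          (RingHom.injective_iff_ker_eq_bot (Bialgebra.counitAlgHom K H).toRingHom).2 hbot
        have hsurj : Function.Surjective (Bialgebra.counitAlgHom K H) :=
          fun c => ⟨algebraMap K H c, by simp⟩
        have e : H ≃ₗ[K] K :=
          LinearEquiv.ofBijective (Bialgebra.counitAlgHom K H).toLinearMap ⟨hinj, hsurj⟩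
        rw [e.finrank_eq, Module.finrank_self] at hH
        exact hprime.one_lt.ne hH
    have hχv : ∀ m : (ZMod p)ˣ, ((χ m : Kˣ) : K) = (((m : ZMod p).val : ℕ) : K) := by
      intro m
      have := hχp m
      rw [CharP.cast_eq_zero K p, Ideal.span_singleton_eq_bot.mpr rfl, Ideal.mem_bot,
        sub_eq_zero] at this
      exact this
    obtain ⟨x, hx, hIp, hxt⟩ := exists_generator_of_isLocalRing (K := K) (H := H) hH
    exact ⟨fun i => finrank_eigenAug_le_one_of_local hp hχ hχv x hx hIp i,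
      fun f hf hf0 t ht => pow_ne_zero_of_local hp hχ hχv x hx hIp hxt hf hf0 ht⟩
  · exact ⟨fun i => finrank_eigenAug_le_one_of_etale hp hG hH i,
      fun f hf hf0 t _ => pow_ne_zero_of_etale hp hG hH hf hf0 t⟩


theorem finrank_ker_counit (hH : finrank K H = p) :
    finrank K (LinearMap.ker (Bialgebra.counitAlgHom K H).toLinearMap) = p - 1 := by
  have h := LinearMap.finrank_range_add_finrank_ker (Bialgebra.counitAlgHom K H).toLinearMap
  have hsurj : LinearMap.range (Bialgebra.counitAlgHom K H).toLinearMap = ⊤ :=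
    LinearMap.range_eq_top.2 (fun c => ⟨algebraMap K H c, by simp⟩)
  rw [hsurj, finrank_top, Module.finrank_self, hH] at h
  omega

theorem field_finrank_eq_one (hp : (toConv (AlgHom.id K H)) ^ p = 1) {u : K}
    (hu : u * ((p - 1 : ℕ) : K) = 1)
    {χ : (ZMod p)ˣ →* Kˣ} (hχ : ∀ m : (ZMod p)ˣ, m ≠ 1 → IsUnit ((χ m : K) - 1))
    (hχp : ∀ m : (ZMod p)ˣ, ((χ m : Kˣ) : K) - (((m : ZMod p).val : ℕ) : K) ∈
      Ideal.span ({(p : K)} : Set K))
    (hH : finrank K H = p) (i : ℕ) : finrank K (OortTate.eigenAug K H p χ i) = 1 := by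
  classical
  have hprime : p.Prime := Fact.out
  have hp2 : 2 ≤ p := hprime.two_le
  obtain ⟨hle, -⟩ := field_basic hp hχ hχp hH
  -- reduce to `i < p - 1`
  have hred : OortTate.eigenAug K H p χ (i % (p - 1)) = OortTate.eigenAug K H p χ i := by
    apply eigenAug_congr hp
    refine ⟨(i / (p - 1) : ℕ), ?_⟩
    have := Nat.mod_add_div i (p - 1)
    have h2 : (i : ℤ) = ((i % (p - 1) : ℕ) : ℤ) + ((p - 1 : ℕ) : ℤ) * ((i / (p - 1) : ℕ) : ℤ) := by
      exact_mod_cast this.symm
    linear_combination h2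
  rw [← hred]
  have hlt : i % (p - 1) < p - 1 := Nat.mod_lt _ (by omega)
  set i₀ : Fin (p - 1) := ⟨i % (p - 1), hlt⟩ with hi₀
  apply le_antisymm (hle _)
  by_contra hlt1
  have hzero : finrank K (OortTate.eigenAug K H p χ (i₀ : ℕ)) = 0 := by
    have : finrank K (OortTate.eigenAug K H p χ (i % (p - 1))) < 1 := not_le.mp hlt1
    have h' : finrank K (OortTate.eigenAug K H p χ (i₀ : ℕ)) < 1 := this
    omega
  have hbot : OortTate.eigenAug K H p χ (i₀ : ℕ) = ⊥ := Submodule.finrank_eq_zero.mp hzero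
  -- generators of the other eigenspaces
  have hgen : ∀ j : Fin (p - 1), ∃ v : H, OortTate.eigenAug K H p χ (j : ℕ) ≤ Submodule.span K {v} := by
    intro j
    obtain ⟨v, hv⟩ := finrank_le_one_iff.mp (hle (j : ℕ))
    refine ⟨(v : H), fun w hw => ?_⟩
    obtain ⟨c, hc⟩ := hv ⟨w, hw⟩
    have : w = c • (v : H) := by
      have := congrArg Subtype.val hc
      simpa using this.symm
    rw [this]
    exact Submodule.smul_mem _ _ (Submodule.subset_span rfl)
  choose v hv using hgen
  have hsup := iSup_eigenAug hp hu hχ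
  have hle2 : LinearMap.ker (Bialgebra.counitAlgHom K H).toLinearMap ≤
      Submodule.span K (((Finset.univ.erase i₀).image v : Finset H) : Set H) := by
    rw [← hsup]
    apply iSup_le
    intro j
    by_cases hj : j = i₀
    · rw [hj, hbot]; exact bot_le
    · refine (hv j).trans (Submodule.span_mono ?_)
      intro w hw
      rw [Set.mem_singleton_iff] at hw
      rw [hw]
      exact Finset.mem_coe.mpr (Finset.mem_image_of_mem v (Finset.mem_erase.mpr ⟨hj, Finset.mem_univ _⟩))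
  have h1 := Submodule.finrank_mono hle2
  have h2 := finrank_span_finset_le_card (R := K) ((Finset.univ.erase i₀).image v)
  have h3 : ((Finset.univ.erase i₀).image v).card ≤ p - 2 := by
    refine Finset.card_image_le.trans ?_
    rw [Finset.card_erase_of_mem (Finset.mem_univ _), Finset.card_univ, Fintype.card_fin]
    omega
  rw [finrank_ker_counit hH] at h1
  have : Set.finrank K (((Finset.univ.erase i₀).image v : Finset H) : Set H) =
      finrank K (Submodule.span K (((Finset.univ.erase i₀).image v : Finset H) : Set H)) := rfl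
  omega

theorem pow_mem_eigenAug {R : Type u} [CommRing R] {A : Type u} [CommRing A] [HopfAlgebra R A]
    (hp : (toConv (AlgHom.id R A)) ^ p = 1) {χ : (ZMod p)ˣ →* Rˣ} {i : ℕ} {f : A}
    (hf : f ∈ OortTate.eigenAug R A p χ i) (t : ℕ) (ht : 1 ≤ t) :
    f ^ t ∈ OortTate.eigenAug R A p χ (i * t) := by
  induction t, ht using Nat.le_induction with
  | base => rw [pow_one, mul_one]; exact hf
  | succ t _ ih =>
    rw [pow_succ, mul_add, mul_one]
    exact mul_mem_eigenAug hp ih hf

theorem field_pow_eq (hp : (toConv (AlgHom.id K H)) ^ p = 1) {u : K}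
    (hu : u * ((p - 1 : ℕ) : K) = 1)
    {χ : (ZMod p)ˣ →* Kˣ} (hχ : ∀ m : (ZMod p)ˣ, m ≠ 1 → IsUnit ((χ m : K) - 1))
    (hχp : ∀ m : (ZMod p)ˣ, ((χ m : Kˣ) : K) - (((m : ZMod p).val : ℕ) : K) ∈
      Ideal.span ({(p : K)} : Set K))
    (hH : finrank K H = p) (t : ℕ) (ht1 : 1 ≤ t) (htp : t ≤ p - 1) :
    OortTate.eigenAug K H p χ t ≤ (OortTate.eigenAug K H p χ 1) ^ t := by
  have hprime : p.Prime := Fact.out
  have hp2 : 2 ≤ p := hprime.two_le
  obtain ⟨-, hne⟩ := field_basic hp hχ hχp hH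
  have h1 := field_finrank_eq_one hp hu hχ hχp hH 1
  have ht := field_finrank_eq_one hp hu hχ hχp hH t
  obtain ⟨f, hf0⟩ : ∃ f : OortTate.eigenAug K H p χ 1, f ≠ 0 := by
    have : Nontrivial (OortTate.eigenAug K H p χ 1) :=
      Module.nontrivial_of_finrank_pos (R := K) (by rw [h1]; exact Nat.one_pos)
    exact exists_ne 0
  have hf0' : (f : H) ≠ 0 := fun h => hf0 (Subtype.ext h)
  have hft : (f : H) ^ t ≠ 0 := hne f f.2 hf0' t (by omega)
  have hmem : (f : H) ^ t ∈ OortTate.eigenAug K H p χ t := by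
    have := pow_mem_eigenAug hp f.2 t ht1
    rwa [one_mul] at this
  have hpow : (f : H) ^ t ∈ (OortTate.eigenAug K H p χ 1) ^ t := Submodule.pow_mem_pow _ f.2 t
  intro w hw
  have hspan := (finrank_eq_one_iff_of_nonzero' (⟨(f : H) ^ t, hmem⟩ : OortTate.eigenAug K H p χ t)
    (fun h => hft (congrArg Subtype.val h))).mp ht ⟨w, hw⟩
  obtain ⟨c, hc⟩ := hspan
  have : w = c • (f : H) ^ t := by
    have := congrArg Subtype.val hc
    simpa using this.symm
  rw [this]
  exact Submodule.smul_mem _ _ hpow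

end Assembly

end Groth.Agent.Lib.Helper16.OT
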