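import Groth.Agent.Lib.Helper16.OTGeneric
import Groth.Agent.Lib.Helper16.OTField
import Groth.Agent.Lib.Helper16.FinHopfBaseChange
import Groth.Prelude.Def_CartDual
import Mathlib

/-!
# A finite locally free group scheme of prime order is commutative (helper16)
-/

set_option autoImplicit false

namespace Groth.Agent.Lib.Helper16.OTC

open WithConv Module TensorProduct Groth.Agent.Lib.Helper16.FinHopf
  Groth.Agent.Lib.Helper16.OTG

universe u v w

section DualComm

variable {R : Type u} [CommRing R] {A : Type v} [CommRing A] [Bialgebra R A]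
  [Module.Finite R A] [Module.Projective R A]

/-- If the dual algebra is commutative then the coalgebra is cocommutative (finite projective
case over a commutative ring). -/
theorem isCocomm_of_dual_comm' (h : ∀ f g : WithConv (A →ₗ[R] R), f * g = g * f) :
    Coalgebra.IsCocomm R A := by
  constructor
  apply LinearMap.ext
  intro a
  rw [← sub_eq_zero]
  apply (Module.forall_dual_apply_eq_zero_iff R _).mp
  intro φ
  obtain ⟨y, rfl⟩ := (CartDual.ev₂ R A).surjective φ
  rw [map_sub, sub_eq_zero]
  simp only [LinearMap.comp_apply, LinearEquiv.coe_coe]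
  induction y using TensorProduct.induction_on with
  | zero => simp
  | add y z hy hz => simp only [map_add, LinearMap.add_apply, hy, hz]
  | tmul f g =>
    have h1 := congrArg (fun ψ : WithConv (A →ₗ[R] R) => ψ.ofConv a) (h g f)
    simp only [LinearMap.convMul_apply] at h1
    have e1 : ∀ t : A ⊗[R] A, CartDual.ev₂ R A (f ⊗ₜ g) (TensorProduct.comm R A A t) =
        LinearMap.mul' R R (TensorProduct.map g.ofConv f.ofConv t) := by
      intro t
      induction t using TensorProduct.induction_on with
      | zero => simp
      | add x y hx hy => simp only [map_add, hx, hy]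
      | tmul x y => simp [CartDual.coe_apply, mul_comm]
    have e2 : ∀ t : A ⊗[R] A, CartDual.ev₂ R A (f ⊗ₜ g) t =
        LinearMap.mul' R R (TensorProduct.map f.ofConv g.ofConv t) := by
      intro t
      induction t using TensorProduct.induction_on with
      | zero => simp
      | add x y hx hy => simp only [map_add, hx, hy]
      | tmul x y => simp [CartDual.coe_apply]
    rw [e1, e2, h1]

end DualComm

section Theta

variable {R : Type u} [CommRing R] {A : Type v} [CommRing A] [Bialgebra R A]
  (K : Type w) [Field K] [Algebra R K]

/-- Restriction of a functional on the base change to `A`. -/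
noncomputable def theta (F : WithConv ((K ⊗[R] A) →ₗ[K] K)) : WithConv (A →ₗ[R] K) :=
  toConv ((F.ofConv.restrictScalars R) ∘ₗ (incR (k := R) (K := K) (A := A)).toLinearMap)

theorem theta_apply (F : WithConv ((K ⊗[R] A) →ₗ[K] K)) (a : A) :
    (theta K F).ofConv a = F.ofConv ((1 : K) ⊗ₜ[R] a) := rfl

theorem theta_one : theta K (1 : WithConv ((K ⊗[R] A) →ₗ[K] K)) = 1 := by
  apply WithConv.ofConv_injective
  apply LinearMap.ext
  intro a
  rw [theta_apply]
  show algebraMap K K (Coalgebra.counit (R := K) ((1 : K) ⊗ₜ[R] a)) =
    algebraMap R K (Coalgebra.counit (R := R) a)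
  rw [TensorProduct.counit_tmul]
  simp [Algebra.algebraMap_eq_smul_one]

theorem theta_mul (F G : WithConv ((K ⊗[R] A) →ₗ[K] K)) :
    theta K (F * G) = theta K F * theta K G := by
  apply WithConv.ofConv_injective
  apply LinearMap.ext
  intro a
  rw [theta_apply, LinearMap.convMul_apply, LinearMap.convMul_apply]
  have h3 := RingHom.congr_fun (Bialgebra.comul_includeRight (R := R) (A := K) (B := A)) a
  simp only [RingHom.coe_comp, Function.comp_apply, RingHom.coe_coe,
    Bialgebra.comulAlgHom_apply] at h3
  have h4 : Coalgebra.comul (R := K) ((1 : K) ⊗ₜ[R] a) =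
      Coalgebra.comul (R := K) ((Algebra.TensorProduct.includeRight : A →ₐ[R] K ⊗[R] A) a) := rfl
  rw [h4, h3]
  generalize Coalgebra.comul (R := R) a = t
  induction t using TensorProduct.induction_on with
  | zero => simp
  | add s t hs ht => simp only [map_add, hs, ht]
  | tmul x y =>
    rw [Algebra.TensorProduct.mapRingHom_tmul]
    simp only [RingHom.coe_coe, TensorProduct.map_tmul, LinearMap.mul'_apply]
    rfl

theorem theta_pow (F : WithConv ((K ⊗[R] A) →ₗ[K] K)) (j : ℕ) :
    theta K (F ^ j) = (theta K F) ^ j := by
  induction j with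
  | zero => rw [pow_zero, pow_zero, theta_one]
  | succ j ih => rw [pow_succ, pow_succ, theta_mul, ih]

variable {n : ℕ} (a : Basis (Fin n) R A)

theorem beta_eq_theta (F : WithConv ((K ⊗[R] A) →ₗ[K] K)) :
    beta a K (fun i => F.ofConv ((1 : K) ⊗ₜ[R] a i)) = theta K F := by
  apply WithConv.ofConv_injective
  apply a.ext
  intro i
  rw [beta_apply, theta_apply]

/-- If the powers of a functional on the base change are independent, the corresponding
specialization of the generic matrix is nonsingular. -/
theorem det_powMat_ne_zero (F : WithConv ((K ⊗[R] A) →ₗ[K] K))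
    (hli : LinearIndependent K (fun j : Fin n => F ^ (j : ℕ))) :
    (powMat a K (fun i => F.ofConv ((1 : K) ⊗ₜ[R] a i))).det ≠ 0 := by
  classical
  intro hdet
  obtain ⟨c, hc0, hc⟩ := Matrix.exists_mulVec_eq_zero_iff.mpr hdet
  apply hc0
  have hsum : ∑ j : Fin n, c j • F ^ (j : ℕ) = 0 := by
    apply WithConv.ofConv_injective
    apply (Algebra.TensorProduct.basis K a).ext
    intro i
    have h1 := congrFun hc i
    rw [Matrix.mulVec, dotProduct, Pi.zero_apply] at h1
    simp only [WithConv.ofConv_sum, WithConv.ofConv_smul, LinearMap.sum_apply,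
      LinearMap.smul_apply, smul_eq_mul, Algebra.TensorProduct.basis_apply, WithConv.ofConv_zero,
      LinearMap.zero_apply]
    rw [← h1]
    apply Finset.sum_congr rfl
    intro j _
    rw [powMat, beta_eq_theta, ← theta_pow, theta_apply, mul_comm]
  funext j
  exact Fintype.linearIndependent_iff.mp hli c hsum j

end Theta


section Monogenic

variable {K : Type w} [Field K] [IsAlgClosed K] {B : Type v} [CommRing B] [HopfAlgebra K B]
  [Coalgebra.IsCocomm K B] [Module.Finite K B]

/-- A commutative cocommutative Hopf algebra of prime dimension over an algebraically closed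
field is generated by one element. -/
theorem exists_linearIndependent_pow (p : ℕ) [Fact p.Prime] (hB : finrank K B = p) :
    ∃ z : B, LinearIndependent K (fun j : Fin p => z ^ (j : ℕ)) := by
  classical
  have hprime : p.Prime := Fact.out
  haveI : IsArtinianRing B := IsArtinianRing.of_finite K B
  obtain ⟨N, hN⟩ := IsArtinianRing.isNilpotent_jacobson_bot (R := B)
  have hcard := finrank_eq_card_mul (k := K) (A := B) N hN
  rw [hB] at hcard
  have hdvd : Nat.card (WithConv (B →ₐ[K] K)) ∣ p := ⟨_, hcard⟩
  have : Finite (B →ₐ[K] K) := inferInstance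
  have : Finite (WithConv (B →ₐ[K] K)) := Finite.of_equiv _ (WithConv.equiv _).symm
  rcases (Nat.dvd_prime hprime).1 hdvd with h1 | hG
  · -- local case
    haveI : Subsingleton (WithConv (B →ₐ[K] K)) := (Nat.card_eq_one_iff_unique.1 h1).1
    haveI hmax : (RingHom.ker (Bialgebra.counitAlgHom K B)).IsMaximal :=
      ker_isMaximal (Bialgebra.counitAlgHom K B)
    haveI : IsLocalRing B := by
      refine IsLocalRing.of_unique_max_ideal ⟨_, hmax, fun m hm => ?_⟩
      haveI := hm
      obtain ⟨γ, hγ⟩ := exists_algHom_ker_eq (k := K) m
      have h2 : toConv γ = toConv (Bialgebra.counitAlgHom K B) := Subsingleton.elim _ _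
      rw [← hγ, WithConv.toConv_injective h2]
    have hnil : IsNilpotent (RingHom.ker (Bialgebra.counitAlgHom K B)) :=
      isNilpotent_ker_of_isLocalRing _
    haveI : CharP K p := by
      obtain ⟨ℓ, hℓ⟩ := CharP.exists K
      rcases CharP.char_is_prime_or_zero K ℓ with hℓp | hℓ0
      · haveI : Fact ℓ.Prime := ⟨hℓp⟩
        obtain ⟨m, hm⟩ := exists_finrank_eq_prime_pow ℓ (k := K) (finrank K B) B hnil le_rfl
        rw [hB] at hm
        obtain ⟨rfl, -⟩ := (Nat.Prime.pow_eq_iff hprime).1 hm.symm
        exact hℓ
      · subst hℓ0
        haveI : CharZero K := CharP.charP_to_charZero K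
        have hbot := ker_counit_eq_bot_of_charZero B hnil
        exfalso
        have hinj : Function.Injective (Bialgebra.counitAlgHom K B) :=
          (RingHom.injective_iff_ker_eq_bot (Bialgebra.counitAlgHom K B).toRingHom).2 hbot
        have hsurj : Function.Surjective (Bialgebra.counitAlgHom K B) :=
          fun c => ⟨algebraMap K B c, by simp⟩
        have e : B ≃ₗ[K] K :=
          LinearEquiv.ofBijective (Bialgebra.counitAlgHom K B).toLinearMap ⟨hinj, hsurj⟩
        rw [e.finrank_eq, Module.finrank_self] at hB
        exact hprime.one_lt.ne hB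
    have hp1 : 1 < finrank K B := by rw [hB]; exact hprime.one_lt
    have hsimple := simple_of_finrank_eq_prime_of_isLocalRing p hB
    have hpz := pow_eq_zero_of_simple p hp1 hsimple
    by_cases hD : IsLocalRing (WithConv (B →ₗ[K] K))
    · obtain ⟨x, hx0, hx⟩ := exists_primitive_of_isLocalRing_dual hD hp1
      have hspan : RingHom.ker (Bialgebra.counitAlgHom K B) = Ideal.span {x} := by
        rcases hsimple _ (isHopfIdeal_span_primitive x hx) with h | h
        · exfalso
          apply hx0
          have h1 := Ideal.mem_span_singleton_self x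
          rw [h] at h1
          exact h1
        · exact h.symm
      exact ⟨x, (finrank_eq_prime_of_span_singleton p hp1 hpz x hspan).2⟩
    · obtain ⟨g, hg1, hg⟩ := exists_groupLike_of_not_isLocalRing_dual hD
      have hspan : RingHom.ker (Bialgebra.counitAlgHom K B) = Ideal.span {g - 1} := by
        rcases hsimple _ (isHopfIdeal_span_groupLike_sub_one g hg) with h | h
        · exfalso
          apply hg1
          have h1 := Ideal.mem_span_singleton_self (g - 1)
          rw [h] at h1
          exact sub_eq_zero.1 h1
        · exact h.symm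
      exact ⟨g - 1, (finrank_eq_prime_of_span_singleton p hp1 hpz (g - 1) hspan).2⟩
  · -- étale case: `p` points
    cases nonempty_fintype (WithConv (B →ₐ[K] K))
    have hcardp : Fintype.card (WithConv (B →ₐ[K] K)) = p := by
      rw [← Nat.card_eq_fintype_card]; exact hG
    let ε : Fin p ≃ WithConv (B →ₐ[K] K) := (Fintype.equivFinOfCardEq hcardp).symm
    let L : B →ₗ[K] (WithConv (B →ₐ[K] K) → K) :=
      LinearMap.pi (fun γ => γ.ofConv.toLinearMap)
    have hLinj : Function.Injective L := by
      rw [injective_iff_map_eq_zero]
      intro b hb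
      have hinj := evalPts_injective (k := K) (A := B) (G := WithConv (B →ₐ[K] K))
        (Equiv.refl _) (hG.trans hB.symm)
      apply hinj
      rw [map_zero]
      funext γ
      rw [evalPts_apply]
      exact congrFun hb γ
    have hdim : finrank K B = finrank K (WithConv (B →ₐ[K] K) → K) := by
      rw [Module.finrank_fintype_fun_eq_card, hcardp, hB]
    have hLsurj : Function.Surjective L :=
      (LinearMap.injective_iff_surjective_of_finrank_eq_finrank hdim).1 hLinj
    let v : Fin p → K := fun i => Infinite.natEmbedding K (i : ℕ)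
    have hv : Function.Injective v := fun i j h =>
      Fin.ext ((Infinite.natEmbedding K).injective h)
    obtain ⟨z, hz⟩ := hLsurj (fun γ => v (ε.symm γ))
    refine ⟨z, ?_⟩
    rw [Fintype.linearIndependent_iff]
    intro c hc
    have hV : (Matrix.vandermonde v).mulVec c = 0 := by
      funext i
      rw [Matrix.mulVec, dotProduct, Pi.zero_apply]
      have h1 := congrArg (ε i).ofConv hc
      rw [map_sum, map_zero] at h1
      rw [← h1]
      apply Finset.sum_congr rfl
      intro j _
      rw [Matrix.vandermonde_apply, map_smul, map_pow, smul_eq_mul, mul_comm]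
      congr 2
      have h2 := congrFun hz (ε i)
      simp only [Equiv.symm_apply_apply] at h2
      rw [← h2]
      rfl
    have hdet : (Matrix.vandermonde v).det ≠ 0 := Matrix.det_vandermonde_ne_zero_iff.mpr hv
    have := Matrix.eq_zero_of_mulVec_eq_zero hdet hV
    intro j
    exact congrFun this j

end Monogenic


section Local

variable {R : Type u} [CommRing R] [IsLocalRing R] {A : Type v} [CommRing A] [HopfAlgebra R A]
  [Module.Finite R A] [Module.Free R A]

/-- A free Hopf algebra of prime rank over a local ring is cocommutative. -/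
theorem isCocomm_of_isLocalRing (p : ℕ) [Fact p.Prime] (hA : finrank R A = p) :
    Coalgebra.IsCocomm R A := by
  classical
  have hprime : p.Prime := Fact.out
  set K := AlgebraicClosure (IsLocalRing.ResidueField R) with hK
  have hH : finrank K (K ⊗[R] A) = p := by rw [Module.finrank_baseChange, hA]
  haveI : Coalgebra.IsCocomm K (K ⊗[R] A) := isCocomm_of_finrank_eq_prime p hprime hH
  have hD : finrank K (CartDual.D K (K ⊗[R] A)) = p := by
    rw [← hH]
    exact finrank_dual_eq
  obtain ⟨G, hli⟩ := exists_linearIndependent_pow (K := K) (B := CartDual.D K (K ⊗[R] A)) p hD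
  let a : Basis (Fin p) R A := Module.finBasisOfFinrankEq R A hA
  have hdet := det_powMat_ne_zero K a G hli
  have hunit : ∀ r : R, algebraMap R K r ≠ 0 → IsUnit r := by
    intro r hr
    by_contra hnu
    apply hr
    have h1 : r ∈ IsLocalRing.maximalIdeal R := (IsLocalRing.mem_maximalIdeal r).mpr hnu
    rw [IsScalarTower.algebraMap_apply R (IsLocalRing.ResidueField R) K]
    have h2 : algebraMap R (IsLocalRing.ResidueField R) r = 0 :=
      (IsLocalRing.residue_eq_zero_iff r).mpr h1
    rw [h2, map_zero]
  exact isCocomm_of_dual_comm' (dual_comm_of_exists_point a K hunit _ hdet)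

end Local

section Global

variable {R : Type u} [CommRing R] {A : Type v} [CommRing A] [HopfAlgebra R A]
  [Module.Finite R A] [Module.Projective R A]

/-- **A finite locally free group scheme of prime order is commutative.** -/
theorem isCocomm_of_rankAtStalk_eq_prime (p : ℕ) [Fact p.Prime]
    (hrk : ∀ q : PrimeSpectrum R, Module.rankAtStalk A q = p) : Coalgebra.IsCocomm R A := by
  constructor
  apply LinearMap.ext
  intro a
  refine Module.eq_of_localization_maximal (R := R) (M := A ⊗[R] A)
    (Mₚ := fun P _ => Localization.AtPrime P ⊗[R] (A ⊗[R] A))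
    (f := fun P _ => TensorProduct.mk R (Localization.AtPrime P) (A ⊗[R] A) 1) _ _ ?_
  intro P hP
  have hfree : Module.Free (Localization.AtPrime P) (Localization.AtPrime P ⊗[R] A) :=
    Module.free_of_flat_of_isLocalRing
  have hrank : Module.finrank (Localization.AtPrime P) (Localization.AtPrime P ⊗[R] A) = p := by
    rw [← hrk ⟨P, hP.isPrime⟩, Module.rankAtStalk_eq_finrank_tensorProduct]
  haveI hcc : Coalgebra.IsCocomm (Localization.AtPrime P) (Localization.AtPrime P ⊗[R] A) :=
    isCocomm_of_isLocalRing p hrank
  set S := Localization.AtPrime P with hS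
  apply (TensorProduct.AlgebraTensorModule.distribBaseChange R S A A).injective
  -- the comparison map
  set J : A ⊗[R] A →+* (S ⊗[R] A) ⊗[S] (S ⊗[R] A) :=
    Algebra.TensorProduct.mapRingHom (algebraMap R S)
      (RingHomClass.toRingHom (Algebra.TensorProduct.includeRight (R := R) (A := S) (B := A)))
      (RingHomClass.toRingHom (Algebra.TensorProduct.includeRight (R := R) (A := S) (B := A)))
      (by simp [← IsScalarTower.algebraMap_eq])
      (by simp [← IsScalarTower.algebraMap_eq]) with hJ
  have hdist : ∀ t : A ⊗[R] A,
      TensorProduct.AlgebraTensorModule.distribBaseChange R S A A ((1 : S) ⊗ₜ[R] t) = J t := by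
    intro t
    induction t using TensorProduct.induction_on with
    | zero => simp
    | add x y hx hy => rw [TensorProduct.tmul_add, map_add, map_add, hx, hy]
    | tmul x y =>
      rw [hJ, Algebra.TensorProduct.mapRingHom_tmul]
      simp [TensorProduct.AlgebraTensorModule.distribBaseChange]
  have hJcomm : ∀ t : A ⊗[R] A, J (TensorProduct.comm R A A t) =
      TensorProduct.comm S (S ⊗[R] A) (S ⊗[R] A) (J t) := by
    intro t
    induction t using TensorProduct.induction_on with
    | zero => simp
    | add x y hx hy => rw [map_add, map_add, hx, hy, map_add, map_add]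
    | tmul x y =>
      rw [TensorProduct.comm_tmul, hJ, Algebra.TensorProduct.mapRingHom_tmul,
        Algebra.TensorProduct.mapRingHom_tmul, TensorProduct.comm_tmul]
  have hJcomul : J (Coalgebra.comul (R := R) a) =
      Coalgebra.comul (R := S) ((1 : S) ⊗ₜ[R] a) := by
    have h3 := RingHom.congr_fun (Bialgebra.comul_includeRight (R := R) (A := S) (B := A)) a
    simp only [RingHom.coe_comp, Function.comp_apply, RingHom.coe_coe,
      Bialgebra.comulAlgHom_apply] at h3
    exact h3.symm
  simp only [TensorProduct.mk_apply, LinearMap.comp_apply, LinearEquiv.coe_coe]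
  rw [hdist, hdist, hJcomm, hJcomul]
  exact LinearMap.congr_fun (Coalgebra.IsCocomm.comm_comp_comul (R := S) (A := S ⊗[R] A)) _

end Global

end Groth.Agent.Lib.Helper16.OTC
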