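import Groth.Agent.Lib.Helper16.OTClassify
import Mathlib

/-!
# Injectivity of the Oort–Tate classification, free case (helper16)
-/

set_option autoImplicit false

namespace Groth.Agent.Lib.Helper16.OT

open WithConv TensorProduct CartDual Module

universe u

section Gen

variable {R : Type u} [CommRing R] {A : Type u} [CommRing A] [HopfAlgebra R A]
  [Coalgebra.IsCocomm R A] [Module.Finite R A] [Module.Projective R A]
  {p : ℕ} [Fact p.Prime]
  (hrk : ∀ q : PrimeSpectrum R, Module.rankAtStalk A q = p) {u : R}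
  (hu : u * ((p - 1 : ℕ) : R) = 1) {χ : (ZMod p)ˣ →* Rˣ}
  (hχ : ∀ m : (ZMod p)ˣ, m ≠ 1 → IsUnit ((χ m : R) - 1))
  (hχp : ∀ m : (ZMod p)ˣ, ((χ m : Rˣ) : R) - (((m : ZMod p).val : ℕ) : R) ∈
      Ideal.span ({(p : R)} : Set R))

include hrk hu hχ hχp

/-- A generator of `I_1` is a basis. -/
theorem exists_equiv_of_span (x : A) (hx : Submodule.span R {x} = OortTate.eigenAug R A p χ 1) :
    ∃ e : R ≃ₗ[R] OortTate.eigenAug R A p χ 1, ∀ r : R, (e r : A) = r • x := by
  have hxmem : x ∈ OortTate.eigenAug R A p χ 1 := by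
    rw [← hx]
    exact Submodule.subset_span rfl
  haveI := invertible_eigenAug hrk hu hχ hχp 1
  set t : R →ₗ[R] OortTate.eigenAug R A p χ 1 :=
    LinearMap.toSpanSingleton R _ ⟨x, hxmem⟩ with ht
  have hsurj : Function.Surjective t := by
    intro y
    have hy : (y : A) ∈ Submodule.span R {x} := by
      rw [hx]
      exact y.2
    obtain ⟨r, hr⟩ := Submodule.mem_span_singleton.mp hy
    exact ⟨r, Subtype.ext hr⟩
  have hbij : Function.Bijective t := Module.Invertible.bijective_of_surjective hsurj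
  exact ⟨LinearEquiv.ofBijective t hbij, fun r => rfl⟩

end Gen

section Free

variable {R : Type u} [CommRing R] {A : Type u} [CommRing A] [HopfAlgebra R A]
  [Coalgebra.IsCocomm R A] [Module.Finite R A] [Module.Projective R A]
  {A' : Type u} [CommRing A'] [HopfAlgebra R A']
  [Coalgebra.IsCocomm R A'] [Module.Finite R A'] [Module.Projective R A']
  {p : ℕ} [Fact p.Prime]

theorem nonempty_bialgEquiv_of_generators
    (hrk : ∀ q : PrimeSpectrum R, Module.rankAtStalk A q = p)
    (hrk' : ∀ q : PrimeSpectrum R, Module.rankAtStalk A' q = p) {u : R}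
    (hu : u * ((p - 1 : ℕ) : R) = 1) {χ : (ZMod p)ˣ →* Rˣ}
    (hχ : ∀ m : (ZMod p)ˣ, m ≠ 1 → IsUnit ((χ m : R) - 1))
    (hχp : ∀ m : (ZMod p)ˣ, ((χ m : Rˣ) : R) - (((m : ZMod p).val : ℕ) : R) ∈
      Ideal.span ({(p : R)} : Set R))
    (x : A) (hx : Submodule.span R {x} = OortTate.eigenAug R A p χ 1)
    (ξ : CartDual.D R A) (hξ : Submodule.span R {ξ} = OortTate.eigenAug R (CartDual.D R A) p χ 1)
    (hxξ : CartDual.toDual R A ξ x = 1)
    (x' : A') (hx' : Submodule.span R {x'} = OortTate.eigenAug R A' p χ 1)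
    (ξ' : CartDual.D R A') (hξ' : Submodule.span R {ξ'} = OortTate.eigenAug R (CartDual.D R A') p χ 1)
    (hxξ' : CartDual.toDual R A' ξ' x' = 1)
    (α β α' β' : R) (hα : x ^ p = α • x) (hβ : ξ ^ p = β • ξ) (hα' : x' ^ p = α' • x')
    (hβ' : ξ' ^ p = β' • ξ')
    (v : Rˣ) (hαv : α' = ((v ^ (p - 1) : Rˣ) : R) * α) (hβv : β' = ((v⁻¹ ^ (p - 1) : Rˣ) : R) * β) :
    Nonempty (A ≃ₐc[R] A') := by
  have hp1 : 1 ≤ p := (Fact.out : p.Prime).one_le
  obtain ⟨e, he⟩ := exists_equiv_of_span hrk hu hχ hχp x hx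
  obtain ⟨e', he'⟩ := exists_equiv_of_span hrk' hu hχ hχp x' hx'
  set c : R := ((v⁻¹ : Rˣ) : R) with hc
  set d : R := ((v : Rˣ) : R) with hd
  have hcd : c * d = 1 := by rw [hc, hd, ← Units.val_mul, inv_mul_cancel, Units.val_one]
  have hcp : c ^ p = c ^ (p - 1) * c := by
    conv_lhs => rw [← Nat.sub_add_cancel hp1]
    exact pow_succ c (p - 1)
  have hα'' : α' = d ^ (p - 1) * α := by rw [hαv, Units.val_pow_eq_pow_val]
  have hβ'' : β' = c ^ (p - 1) * β := by rw [hβv, Units.val_pow_eq_pow_val]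
  set θ : OortTate.eigenAug R A p χ 1 ≃ₗ[R] OortTate.eigenAug R A' p χ 1 :=
    (e.symm.trans (LinearEquiv.smulOfUnit v⁻¹)).trans e' with hθdef
  have hθe : ∀ r : R, ((θ (e r) : OortTate.eigenAug R A' p χ 1) : A') = (c * r) • x' := by
    intro r
    rw [hθdef, LinearEquiv.trans_apply, LinearEquiv.trans_apply, LinearEquiv.symm_apply_apply, he']
    rfl
  have hy : ∀ y : OortTate.eigenAug R A p χ 1, y = e (e.symm y) :=
    fun y => (e.apply_symm_apply y).symm
  have hθy : ∀ y : OortTate.eigenAug R A p χ 1,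
      ((θ y : OortTate.eigenAug R A' p χ 1) : A') = (c * e.symm y) • x' := by
    intro y
    conv_lhs => rw [hy y]
    exact hθe _
  have hyx : ∀ y : OortTate.eigenAug R A p χ 1, (y : A) = (e.symm y) • x := by
    intro y
    conv_lhs => rw [hy y]
    exact he _
  apply nonempty_bialgEquiv hrk hrk' hu hχ hχp θ
  · -- compatibility with `p`-fold products
    intro f g hg
    have h1 : (g : A) = ((∏ i, e.symm (f i)) * α) • x := by
      rw [hg]
      simp only [hyx]
      rw [Finset.prod_smul, Finset.prod_const, Finset.card_univ, Fintype.card_fin, hα, smul_smul]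
    have h2 : g = e ((∏ i, e.symm (f i)) * α) := by
      apply Subtype.ext
      rw [h1, he]
    rw [h2, hθe]
    simp only [hθy]
    rw [Finset.prod_smul, Finset.prod_const, Finset.card_univ, Fintype.card_fin, hα', smul_smul,
      Finset.prod_mul_distrib, Finset.prod_const, Finset.card_univ, Fintype.card_fin, hα'', hcp]
    congr 1
    have : c ^ (p - 1) * d ^ (p - 1) = 1 := by rw [← mul_pow, hcd, one_pow]
    calc c * ((∏ i, e.symm (f i)) * α)
        = (c ^ (p - 1) * d ^ (p - 1)) * (c * ((∏ i, e.symm (f i)) * α)) := by rw [this, one_mul]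
      _ = (c ^ (p - 1) * c * (∏ i, e.symm (f i))) * (d ^ (p - 1) * α) := by ring
  · -- compatibility of the transposes
    intro φ φ' ψ ψ' hcomp hψ hψ' y
    have hs : ∀ i, ∃ s : R, s • ξ = (φ i : D R A) := by
      intro i
      apply Submodule.mem_span_singleton.mp
      rw [hξ]
      exact (φ i).2
    have hs' : ∀ i, ∃ s : R, s • ξ' = (φ' i : D R A') := by
      intro i
      apply Submodule.mem_span_singleton.mp
      rw [hξ']
      exact (φ' i).2
    choose s hs using hs
    choose s' hs' using hs'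
    have hxξ1 : ξ x = 1 := hxξ
    have hxξ1' : ξ' x' = 1 := hxξ'
    have hξsmul : ∀ (r t : R), (t • ξ) (r • x) = t * r := by
      intro r t
      rw [dual_smul_apply, coe_apply, map_smul, ← coe_apply, hxξ1, smul_eq_mul, mul_one]
    have hξsmul' : ∀ (r t : R), (t • ξ') (r • x') = t * r := by
      intro r t
      rw [dual_smul_apply, coe_apply, map_smul, ← coe_apply, hxξ1', smul_eq_mul, mul_one]
    have hss : ∀ i, s i = s' i * c := by
      intro i
      have h1 := hcomp i (e 1)
      have h2 : (φ i : D R A) ((e 1 : OortTate.eigenAug R A p χ 1) : A) = s i := by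
        rw [← hs i, he, hξsmul, mul_one]
      have h3 : (φ' i : D R A') ((θ (e 1) : OortTate.eigenAug R A' p χ 1) : A') = s' i * c := by
        rw [← hs' i, hθe, hξsmul', mul_one]
      exact h2.symm.trans (h1.trans h3)
    have hψ1 : (ψ : D R A) = ((∏ i, s i) * β) • ξ := by
      rw [hψ]
      simp only [← hs]
      rw [Finset.prod_smul, Finset.prod_const, Finset.card_univ, Fintype.card_fin, hβ, smul_smul]
    have hψ1' : (ψ' : D R A') = ((∏ i, s' i) * β') • ξ' := by
      rw [hψ']
      simp only [← hs']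
      rw [Finset.prod_smul, Finset.prod_const, Finset.card_univ, Fintype.card_fin, hβ', smul_smul]
    show (ψ : D R A) (y : A) = (ψ' : D R A') ((θ y : OortTate.eigenAug R A' p χ 1) : A')
    rw [hψ1, hψ1', hyx y, hθy y, hξsmul, hξsmul', hβ'']
    simp only [hss]
    rw [Finset.prod_mul_distrib, Finset.prod_const, Finset.card_univ, Fintype.card_fin, hcp]
    ring

end Free

end Groth.Agent.Lib.Helper16.OT
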