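import Groth.Agent.Lib.Helper16.FinHopfDeligne
import Mathlib

/-!
# The generic-element argument: commutativity of convolution algebras of a free coalgebra
(helper16; used for "order `p` implies commutative")
-/

set_option autoImplicit false

namespace Groth.Agent.Lib.Helper16.OTG

open WithConv Module Groth.Agent.Lib.Helper16.FinHopf

universe u v w

section Generic

variable {R : Type u} [CommRing R] {A : Type v} [AddCommGroup A] [Module R A] [Coalgebra R A]
  {n : ℕ} (a : Basis (Fin n) R A)

/-- The element of the convolution algebra with prescribed values on the basis. -/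
noncomputable def beta (S : Type w) [CommRing S] [Algebra R S] (v : Fin n → S) :
    WithConv (A →ₗ[R] S) := toConv (a.constr S v)

theorem beta_apply (S : Type w) [CommRing S] [Algebra R S] (v : Fin n → S) (i : Fin n) :
    (beta a S v).ofConv (a i) = v i := by
  simp [beta]

/-- The matrix of the powers of `beta`. -/
noncomputable def powMat (S : Type w) [CommRing S] [Algebra R S] (v : Fin n → S) :
    Matrix (Fin n) (Fin n) S := fun i j => ((beta a S v) ^ (j : ℕ)).ofConv (a i)

theorem postCompLin_beta {S : Type w} [CommRing S] [Algebra R S] {S' : Type*} [CommRing S']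
    [Algebra R S'] (φ : S →ₐ[R] S') (v : Fin n → S) :
    postCompLin φ (beta a S v) = beta a S' (fun i => φ (v i)) := by
  apply WithConv.ofConv_injective
  apply a.ext
  intro i
  rw [postCompLin_apply, ofConv_toConv, LinearMap.comp_apply, beta_apply, beta_apply]
  rfl

theorem powMat_map {S : Type w} [CommRing S] [Algebra R S] {S' : Type*} [CommRing S']
    [Algebra R S'] (φ : S →ₐ[R] S') (v : Fin n → S) :
    powMat a S' (fun i => φ (v i)) = (powMat a S v).map φ := by
  ext i j
  rw [Matrix.map_apply, powMat, powMat, ← postCompLin_beta a φ v, ← map_pow]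
  rfl

theorem det_powMat_map {S : Type w} [CommRing S] [Algebra R S] {S' : Type*} [CommRing S']
    [Algebra R S'] (φ : S →ₐ[R] S') (v : Fin n → S) :
    (powMat a S' (fun i => φ (v i))).det = φ ((powMat a S v).det) := by
  rw [powMat_map, ← AlgHom.coe_toRingHom, RingHom.map_det]
  rfl

/-- If the matrix of powers is invertible, the powers of `beta` span. -/
theorem mem_span_pow_of_isUnit_det (S : Type w) [CommRing S] [Algebra R S] (v : Fin n → S)
    (hdet : IsUnit (powMat a S v).det) (f : WithConv (A →ₗ[R] S)) :
    f ∈ Submodule.span S (Set.range fun j : Fin n => (beta a S v) ^ (j : ℕ)) := by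
  classical
  set Mx := powMat a S v with hMx
  set c : Fin n → S := Mx⁻¹.mulVec (fun i => f.ofConv (a i)) with hc
  have hMc : Mx.mulVec c = fun i => f.ofConv (a i) := by
    rw [hc, Matrix.mulVec_mulVec, Matrix.mul_nonsing_inv _ hdet, Matrix.one_mulVec]
  have hf : f = ∑ j : Fin n, c j • (beta a S v) ^ (j : ℕ) := by
    apply WithConv.ofConv_injective
    apply a.ext
    intro i
    have h1 := congrFun hMc i
    rw [Matrix.mulVec, dotProduct] at h1
    rw [← h1]
    simp only [WithConv.ofConv_sum, WithConv.ofConv_smul, LinearMap.sum_apply,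
      LinearMap.smul_apply, smul_eq_mul]
    apply Finset.sum_congr rfl
    intro j _
    rw [mul_comm]
    rfl
  rw [hf]
  exact Submodule.sum_mem _ fun j _ =>
    Submodule.smul_mem _ _ (Submodule.subset_span ⟨j, rfl⟩)

theorem mul_comm_of_isUnit_det (S : Type w) [CommRing S] [Algebra R S] (v : Fin n → S)
    (hdet : IsUnit (powMat a S v).det) (f g : WithConv (A →ₗ[R] S)) : f * g = g * f := by
  have hf := mem_span_pow_of_isUnit_det a S v hdet f
  have hg := mem_span_pow_of_isUnit_det a S v hdet g
  induction hf using Submodule.span_induction with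
  | mem x hx =>
    obtain ⟨i, rfl⟩ := hx
    induction hg using Submodule.span_induction with
    | mem y hy =>
      obtain ⟨j, rfl⟩ := hy
      exact (Commute.pow_pow (Commute.refl _) _ _)
    | zero => rw [mul_zero, zero_mul]
    | add y z _ _ hy hz => rw [mul_add, add_mul, hy, hz]
    | smul s y _ hy => rw [mul_smul_comm, smul_mul_assoc, hy]
  | zero => rw [mul_zero, zero_mul]
  | add y z _ _ hy hz => rw [mul_add, add_mul, hy, hz]
  | smul s y _ hy => rw [mul_smul_comm, smul_mul_assoc, hy]


/-- If some specialization of the generic element to a field has independent powers, and the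
elements of `R` not killed in the field are units, then the dual algebra is commutative. -/
theorem dual_comm_of_exists_point (K : Type w) [Field K] [Algebra R K]
    (hunit : ∀ r : R, algebraMap R K r ≠ 0 → IsUnit r) (x : Fin n → K)
    (hx : (powMat a K x).det ≠ 0) (f g : WithConv (A →ₗ[R] R)) : f * g = g * f := by
  classical
  set S₀ := MvPolynomial (Fin n) R with hS₀
  set D : S₀ := (powMat a S₀ MvPolynomial.X).det with hD
  have hevD : MvPolynomial.aeval x D = (powMat a K x).det := by
    have := det_powMat_map a (MvPolynomial.aeval x : S₀ →ₐ[R] K) MvPolynomial.X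
    rw [← this]
    congr 2
    funext i
    rw [MvPolynomial.aeval_X]
  set S₁ := Localization.Away D with hS₁
  set φ₁ : S₀ →ₐ[R] S₁ := IsScalarTower.toAlgHom R S₀ S₁ with hφ₁
  have hdet1 : IsUnit (powMat a S₁ (fun i => φ₁ (MvPolynomial.X i))).det := by
    rw [det_powMat_map a φ₁ MvPolynomial.X]
    exact IsLocalization.Away.algebraMap_isUnit D
  have hcomm := mul_comm_of_isUnit_det a S₁ _ hdet1
  -- injectivity of `R → S₁`
  have hinj : Function.Injective (algebraMap R S₁) := by
    rw [injective_iff_map_eq_zero]
    intro r hr
    rw [IsScalarTower.algebraMap_apply R S₀ S₁,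
      IsLocalization.map_eq_zero_iff (Submonoid.powers D)] at hr
    obtain ⟨⟨_, N, rfl⟩, hN⟩ := hr
    simp only at hN
    rw [MvPolynomial.algebraMap_eq] at hN
    have hne : MvPolynomial.aeval x (D ^ N) ≠ 0 := by
      rw [map_pow, hevD]
      exact pow_ne_zero _ hx
    have hex : ∃ m, algebraMap R K (MvPolynomial.coeff m (D ^ N)) ≠ 0 := by
      by_contra hall
      push Not at hall
      apply hne
      rw [MvPolynomial.aeval_def, MvPolynomial.eval₂_eq]
      apply Finset.sum_eq_zero
      intro m _
      rw [hall m, zero_mul]
    obtain ⟨m, hm⟩ := hex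
    have hu := hunit _ hm
    have h1 := congrArg (MvPolynomial.coeff m) hN
    rw [mul_comm, MvPolynomial.coeff_C_mul, MvPolynomial.coeff_zero] at h1
    exact (hu.mul_left_eq_zero).mp h1
  have hpc : Function.Injective (postCompLin (A := A) (Algebra.ofId R S₁)) := by
    intro f g hfg
    apply WithConv.ofConv_injective
    apply LinearMap.ext
    intro b
    apply hinj
    have := congrArg (fun h => h.ofConv b) hfg
    simpa using this
  apply hpc
  rw [map_mul, map_mul]
  exact hcomm _ _

end Generic

end Groth.Agent.Lib.Helper16.OTG
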