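import Groth.Agent.Lib.Helper16.OTBaseChange
import Groth.Agent.Lib.Helper16.InvRank
import Mathlib

/-!
# The elements `y_i` of the Hopf algebra of `μ_p` (helper16; Oort–Tate)
-/

set_option autoImplicit false

namespace Groth.Agent.Lib.Helper16.OT

open WithConv Module TensorProduct Groth.Agent.Lib.Helper16.FinHopf

universe u

section GroupLike

variable {R : Type u} [CommRing R] {A : Type u} [CommRing A] [HopfAlgebra R A]

theorem powConv_groupLike {g : A} (hg : IsGroupLikeElem R g) (n : ℕ) :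
    SGA3b.powConv R A n g = g ^ n := by
  induction n with
  | zero =>
    rw [powConv_zero, pow_zero]
    show algebraMap R A (Coalgebra.counit g) = 1
    rw [hg.counit_eq_one, map_one]
  | succ n ih =>
    have h1 : SGA3b.powConv R A (n + 1) g =
        ((toConv (AlgHom.id R A)) ^ n * toConv (AlgHom.id R A)).ofConv g := by
      rw [powConv_def, pow_succ]
    rw [h1, AlgHom.convMul_apply, hg.comul_eq_tmul_self, Algebra.TensorProduct.lift_tmul, pow_succ]
    congr 1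

end GroupLike

section Mu

variable (R : Type u) [CommRing R] (p : ℕ) [Fact p.Prime]

local notation "𝔸" => MonoidAlgebra R (Multiplicative (ZMod p))

theorem rankAtStalk_mu (q : PrimeSpectrum R) : Module.rankAtStalk 𝔸 q = p := by
  rcases subsingleton_or_nontrivial R with h | h
  · exact (PrimeSpectrum.instIsEmptyOfSubsingleton.false q).elim
  · rw [Module.rankAtStalk_eq_finrank_of_free]
    simp only [Pi.natCast_def, Nat.cast_id]
    rw [Module.finrank_eq_card_basis (MonoidAlgebra.basis _ R)]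
    simp [ZMod.card]

theorem convPow_id_mu : (toConv (AlgHom.id R 𝔸)) ^ p = 1 :=
  convPow_id_eq_one (rankAtStalk_mu R p)

theorem isGroupLike_muT : IsGroupLikeElem R (OortTate.muT R p) :=
  MonoidAlgebra.isGroupLikeElem_of _

theorem muT_sub_one_mem_ker :
    Bialgebra.counitAlgHom R 𝔸 (OortTate.muT R p - 1) = 0 := by
  rw [map_sub, map_one]
  show Coalgebra.counit (OortTate.muT R p) - 1 = 0
  rw [(isGroupLike_muT R p).counit_eq_one, sub_self]

variable {R p}

theorem ygen_eq (u : R) (χ : (ZMod p)ˣ →* Rˣ) (i : ℕ) :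
    OortTate.ygen R p u χ i =
      avg p u χ (rho R 𝔸 p (convPow_id_mu R p)) i (OortTate.muT R p - 1) := rfl

theorem ygen_mem_eigenAug (u : R) (χ : (ZMod p)ˣ →* Rˣ) (i : ℕ) :
    OortTate.ygen R p u χ i ∈ OortTate.eigenAug R 𝔸 p χ i :=
  avg_mem_eigenAug (convPow_id_mu R p) u χ i (muT_sub_one_mem_ker R p)

theorem rho_ygen (u : R) (χ : (ZMod p)ˣ →* Rˣ) (i : ℕ) (m : (ZMod p)ˣ) :
    rho R 𝔸 p (convPow_id_mu R p) m (OortTate.ygen R p u χ i) =
      (((χ m : Rˣ) : R) ^ i) • OortTate.ygen R p u χ i :=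
  rho_avg p u χ _ m i _

theorem rho_muT_sub_one (m : (ZMod p)ˣ) :
    rho R 𝔸 p (convPow_id_mu R p) m (OortTate.muT R p - 1) =
      OortTate.muT R p ^ (m : ZMod p).val - 1 := by
  rw [map_sub, rho_apply, rho_apply, powConv_groupLike (isGroupLike_muT R p), map_one]


theorem of_eq_muT_pow (m : (ZMod p)ˣ) :
    MonoidAlgebra.of R (Multiplicative (ZMod p)) (Multiplicative.ofAdd (m : ZMod p)) =
      OortTate.muT R p ^ (m : ZMod p).val := by
  rw [OortTate.muT, ← map_pow, ← ofAdd_nsmul, nsmul_one, ZMod.natCast_zmod_val]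

theorem sub_algebraMap_counit_mem_span (x : 𝔸) :
    x - algebraMap R 𝔸 (Bialgebra.counitAlgHom R 𝔸 x) ∈
      Submodule.span R (Set.range fun g : Multiplicative (ZMod p) =>
        MonoidAlgebra.of R (Multiplicative (ZMod p)) g - 1) := by
  induction x using MonoidAlgebra.induction_linear with
  | zero => simp
  | add x y hx hy =>
    have : x + y - algebraMap R 𝔸 (Bialgebra.counitAlgHom R 𝔸 (x + y)) =
        (x - algebraMap R 𝔸 (Bialgebra.counitAlgHom R 𝔸 x)) +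
          (y - algebraMap R 𝔸 (Bialgebra.counitAlgHom R 𝔸 y)) := by
      rw [map_add, map_add]; ring
    rw [this]
    exact Submodule.add_mem _ hx hy
  | single g r =>
    have h1 : Bialgebra.counitAlgHom R 𝔸 (MonoidAlgebra.single g r) = r := by
      show Coalgebra.counit (MonoidAlgebra.single g r) = r
      rw [MonoidAlgebra.counit_single]
      rfl
    have h2 : MonoidAlgebra.single g r - algebraMap R 𝔸 r =
        r • (MonoidAlgebra.of R (Multiplicative (ZMod p)) g - 1) := by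
      rw [smul_sub, Algebra.algebraMap_eq_smul_one, MonoidAlgebra.of_apply,
        MonoidAlgebra.smul_single, smul_eq_mul, mul_one]
    rw [h1, h2]
    exact Submodule.smul_mem _ _ (Submodule.subset_span ⟨g, rfl⟩)

theorem of_sub_one_mem_span {u : R} (hu : u * ((p - 1 : ℕ) : R) = 1) {χ : (ZMod p)ˣ →* Rˣ}
    (hχ : ∀ m : (ZMod p)ˣ, m ≠ 1 → IsUnit ((χ m : R) - 1)) (g : Multiplicative (ZMod p)) :
    MonoidAlgebra.of R (Multiplicative (ZMod p)) g - 1 ∈
      Submodule.span R (Set.range fun i : Fin (p - 1) => OortTate.ygen R p u χ (i : ℕ)) := by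
  obtain ⟨z, rfl⟩ : ∃ z : ZMod p, Multiplicative.ofAdd z = g := ⟨Multiplicative.toAdd g, rfl⟩
  by_cases hz : z = 0
  · subst hz
    rw [ofAdd_zero, map_one, sub_self]
    exact Submodule.zero_mem _
  · set m : (ZMod p)ˣ := Units.mk0 z hz with hm
    have hzm : z = (m : ZMod p) := rfl
    rw [hzm, of_eq_muT_pow, ← rho_muT_sub_one]
    have hsum := sum_avg (ρ := rho R 𝔸 p (convPow_id_mu R p)) hu hχ (map_one _)
      (OortTate.muT R p - 1)
    rw [Finset.sum_range] at hsum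
    rw [← hsum, map_sum]
    apply Submodule.sum_mem
    intro i _
    rw [← ygen_eq, rho_ygen]
    exact Submodule.smul_mem _ _ (Submodule.subset_span ⟨i, rfl⟩)

theorem span_ygen_eq_ker {u : R} (hu : u * ((p - 1 : ℕ) : R) = 1) {χ : (ZMod p)ˣ →* Rˣ}
    (hχ : ∀ m : (ZMod p)ˣ, m ≠ 1 → IsUnit ((χ m : R) - 1)) :
    Submodule.span R (Set.range fun i : Fin (p - 1) => OortTate.ygen R p u χ (i : ℕ)) =
      LinearMap.ker (Bialgebra.counitAlgHom R 𝔸).toLinearMap := by
  apply le_antisymm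
  · rw [Submodule.span_le]
    rintro _ ⟨i, rfl⟩
    have := ((mem_eigenAug (convPow_id_mu R p)).mp (ygen_mem_eigenAug u χ (i : ℕ))).1
    exact LinearMap.mem_ker.mpr this
  · intro x hx
    have h1 := sub_algebraMap_counit_mem_span (R := R) (p := p) x
    have hx' : Bialgebra.counitAlgHom R 𝔸 x = 0 := LinearMap.mem_ker.mp hx
    rw [hx', map_zero, sub_zero] at h1
    refine Submodule.span_le.mpr ?_ h1
    rintro _ ⟨g, rfl⟩
    exact of_sub_one_mem_span hu hχ g

/-- `I_i = R y_i`. -/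
theorem eigenAug_mu_le_span {u : R} (hu : u * ((p - 1 : ℕ) : R) = 1) {χ : (ZMod p)ˣ →* Rˣ}
    (hχ : ∀ m : (ZMod p)ˣ, m ≠ 1 → IsUnit ((χ m : R) - 1)) (i : ℕ) :
    OortTate.eigenAug R 𝔸 p χ i ≤ Submodule.span R {OortTate.ygen R p u χ i} := by
  intro f hf
  have hf' := (mem_eigenAug (convPow_id_mu R p)).mp hf
  have h1 := sub_algebraMap_counit_mem_span (R := R) (p := p) f
  rw [hf'.1, map_zero, sub_zero] at h1
  have h2 : f = avg p u χ (rho R 𝔸 p (convPow_id_mu R p)) i f := (avg_apply_self hu hχ hf'.2).symm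
  rw [h2]
  have h3 : ∀ x ∈ Submodule.span R (Set.range fun g : Multiplicative (ZMod p) =>
      MonoidAlgebra.of R (Multiplicative (ZMod p)) g - 1),
      avg p u χ (rho R 𝔸 p (convPow_id_mu R p)) i x ∈
        Submodule.span R {OortTate.ygen R p u χ i} := by
    intro x hx
    induction hx using Submodule.span_induction with
    | mem y hy =>
      obtain ⟨g, rfl⟩ := hy
      obtain ⟨z, rfl⟩ : ∃ z : ZMod p, Multiplicative.ofAdd z = g := ⟨Multiplicative.toAdd g, rfl⟩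
      show avg p u χ (rho R 𝔸 p (convPow_id_mu R p)) i
        (MonoidAlgebra.of R (Multiplicative (ZMod p)) (Multiplicative.ofAdd z) - 1) ∈ _
      by_cases hz : z = 0
      · subst hz
        rw [ofAdd_zero, map_one, sub_self, map_zero]
        exact Submodule.zero_mem _
      · set m : (ZMod p)ˣ := Units.mk0 z hz with hm
        have hzm : z = (m : ZMod p) := rfl
        rw [hzm, of_eq_muT_pow, ← rho_muT_sub_one, avg_rho_comm, ← ygen_eq, rho_ygen]
        exact Submodule.smul_mem _ _ (Submodule.subset_span rfl)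
    | zero => rw [map_zero]; exact Submodule.zero_mem _
    | add x y _ _ hx hy => rw [map_add]; exact Submodule.add_mem _ hx hy
    | smul r x _ hx => rw [map_smul]; exact Submodule.smul_mem _ _ hx
  exact h3 f h1

/-- `y_i` is not a torsion element. -/
theorem smul_ygen_eq_zero {u : R} (hu : u * ((p - 1 : ℕ) : R) = 1) {χ : (ZMod p)ˣ →* Rˣ}
    (hχ : ∀ m : (ZMod p)ˣ, m ≠ 1 → IsUnit ((χ m : R) - 1))
    (hχp : ∀ m : (ZMod p)ˣ, ((χ m : Rˣ) : R) - (((m : ZMod p).val : ℕ) : R) ∈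
      Ideal.span ({(p : R)} : Set R)) (i : ℕ) {c : R}
    (hc : c • OortTate.ygen R p u χ i = 0) : c = 0 := by
  have hp := convPow_id_mu R p
  haveI := finite_eigenAug hp hu hχ i
  haveI := projective_eigenAug hp hu hχ i
  haveI : Module.Invertible R (OortTate.eigenAug R 𝔸 p χ i) :=
    InvRank.invertible_of_rankAtStalk_eq_one
      (rankAtStalk_eigenAug (rankAtStalk_mu R p) hu hχ hχp i)
  have h0 : ∀ f : OortTate.eigenAug R 𝔸 p χ i, c • f = (0 : R) • f := by
    intro f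
    obtain ⟨r, hr⟩ := Submodule.mem_span_singleton.mp (eigenAug_mu_le_span hu hχ i f.2)
    apply Subtype.ext
    rw [zero_smul]
    show c • (f : 𝔸) = 0
    rw [← hr, smul_comm, hc, smul_zero]
  exact FaithfulSMul.eq_of_smul_eq_smul (M := R) (α := OortTate.eigenAug R 𝔸 p χ i) h0

theorem linearIndependent_ygen {u : R} (hu : u * ((p - 1 : ℕ) : R) = 1) {χ : (ZMod p)ˣ →* Rˣ}
    (hχ : ∀ m : (ZMod p)ˣ, m ≠ 1 → IsUnit ((χ m : R) - 1))
    (hχp : ∀ m : (ZMod p)ˣ, ((χ m : Rˣ) : R) - (((m : ZMod p).val : ℕ) : R) ∈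
      Ideal.span ({(p : R)} : Set R)) :
    LinearIndependent R (fun i : Fin (p - 1) => OortTate.ygen R p u χ (i : ℕ)) := by
  have hp := convPow_id_mu R p
  rw [Fintype.linearIndependent_iff]
  intro c hc j
  have h1 := congrArg (avg p u χ (rho R 𝔸 p hp) (j : ℕ)) hc
  rw [map_sum, map_zero] at h1
  rw [Finset.sum_eq_single j] at h1
  · rw [map_smul, avg_apply_self hu hχ
      ((mem_eigenAug hp).mp (ygen_mem_eigenAug u χ (j : ℕ))).2] at h1
    exact smul_ygen_eq_zero hu hχ hχp _ h1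
  · intro i _ hij
    rw [map_smul, avg_apply_of_ne hu hχ
      ((mem_eigenAug hp).mp (ygen_mem_eigenAug u χ (i : ℕ))).2 (not_dvd_sub_of_fin_ne hij),
      smul_zero]
  · intro h; exact absurd (Finset.mem_univ j) h

/-- `y_1 ^ t` spans `I_t` for `1 ≤ t ≤ p - 1`. -/
theorem eigenAug_mu_le_span_pow {u : R} (hu : u * ((p - 1 : ℕ) : R) = 1) {χ : (ZMod p)ˣ →* Rˣ}
    (hχ : ∀ m : (ZMod p)ˣ, m ≠ 1 → IsUnit ((χ m : R) - 1))
    (hχp : ∀ m : (ZMod p)ˣ, ((χ m : Rˣ) : R) - (((m : ZMod p).val : ℕ) : R) ∈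
      Ideal.span ({(p : R)} : Set R)) (t : ℕ) (ht1 : 1 ≤ t) (htp : t ≤ p - 1) :
    OortTate.eigenAug R 𝔸 p χ t ≤ Submodule.span R {OortTate.ygen R p u χ 1 ^ t} := by
  refine (eigenAug_le_pow (rankAtStalk_mu R p) hu hχ hχp t ht1 htp).trans ?_
  refine (pow_le_pow_left' (eigenAug_mu_le_span hu hχ 1) t).trans ?_
  rw [Submodule.span_pow, Set.singleton_pow]

theorem ygen_mem_adjoin {u : R} (hu : u * ((p - 1 : ℕ) : R) = 1) {χ : (ZMod p)ˣ →* Rˣ}
    (hχ : ∀ m : (ZMod p)ˣ, m ≠ 1 → IsUnit ((χ m : R) - 1))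
    (hχp : ∀ m : (ZMod p)ˣ, ((χ m : Rˣ) : R) - (((m : ZMod p).val : ℕ) : R) ∈
      Ideal.span ({(p : R)} : Set R)) (i : Fin (p - 1)) :
    OortTate.ygen R p u χ (i : ℕ) ∈
      Algebra.adjoin R ({OortTate.ygen R p u χ 1} : Set 𝔸) := by
  have hp := convPow_id_mu R p
  have hp1 : 1 ≤ p - 1 := by
    have := (Fact.out : p.Prime).two_le
    omega
  have key : ∀ t : ℕ, 1 ≤ t → t ≤ p - 1 → ∀ f ∈ OortTate.eigenAug R 𝔸 p χ t,
      f ∈ Algebra.adjoin R ({OortTate.ygen R p u χ 1} : Set 𝔸) := by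
    intro t ht1 htp f hf
    obtain ⟨r, hr⟩ := Submodule.mem_span_singleton.mp
      (eigenAug_mu_le_span_pow hu hχ hχp t ht1 htp hf)
    rw [← hr]
    have hy : OortTate.ygen R p u χ 1 ∈ Algebra.adjoin R ({OortTate.ygen R p u χ 1} : Set 𝔸) :=
      Algebra.subset_adjoin (Set.mem_singleton _)
    exact Subalgebra.smul_mem _ (pow_mem hy t) r
  by_cases hi : (i : ℕ) = 0
  · have h1 : OortTate.eigenAug R 𝔸 p χ (i : ℕ) = OortTate.eigenAug R 𝔸 p χ (p - 1) := by
      apply eigenAug_congr hp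
      rw [hi]
      simp
    have h2 := ygen_mem_eigenAug u χ (i : ℕ)
    rw [h1] at h2
    exact key (p - 1) hp1 le_rfl _ h2
  · exact key (i : ℕ) (Nat.one_le_iff_ne_zero.mpr hi) (by have := i.2; omega) _
      (ygen_mem_eigenAug u χ (i : ℕ))

theorem adjoin_ygen_one {u : R} (hu : u * ((p - 1 : ℕ) : R) = 1) {χ : (ZMod p)ˣ →* Rˣ}
    (hχ : ∀ m : (ZMod p)ˣ, m ≠ 1 → IsUnit ((χ m : R) - 1))
    (hχp : ∀ m : (ZMod p)ˣ, ((χ m : Rˣ) : R) - (((m : ZMod p).val : ℕ) : R) ∈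
      Ideal.span ({(p : R)} : Set R)) :
    Algebra.adjoin R ({OortTate.ygen R p u χ 1} : Set 𝔸) = ⊤ := by
  rw [eq_top_iff]
  intro x _
  have h1 : x - algebraMap R 𝔸 (Bialgebra.counitAlgHom R 𝔸 x) ∈
      LinearMap.ker (Bialgebra.counitAlgHom R 𝔸).toLinearMap := by
    rw [LinearMap.mem_ker]
    show Bialgebra.counitAlgHom R 𝔸 (x - algebraMap R 𝔸 (Bialgebra.counitAlgHom R 𝔸 x)) = 0
    rw [map_sub, AlgHom.commutes]
    exact sub_self _
  rw [← span_ygen_eq_ker hu hχ] at h1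
  have h2 : x - algebraMap R 𝔸 (Bialgebra.counitAlgHom R 𝔸 x) ∈
      Algebra.adjoin R ({OortTate.ygen R p u χ 1} : Set 𝔸) := by
    refine (Submodule.span_le (p := Subalgebra.toSubmodule
      (Algebra.adjoin R ({OortTate.ygen R p u χ 1} : Set 𝔸)))).mpr ?_ h1
    rintro _ ⟨i, rfl⟩
    exact ygen_mem_adjoin hu hχ hχp i
  have h3 := Subalgebra.add_mem _ h2 (Subalgebra.algebraMap_mem _ (Bialgebra.counitAlgHom R 𝔸 x))
  rwa [sub_add_cancel] at h3

theorem ygen_one_pow_prime {u : R} (hu : u * ((p - 1 : ℕ) : R) = 1) {χ : (ZMod p)ˣ →* Rˣ}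
    (hχ : ∀ m : (ZMod p)ˣ, m ≠ 1 → IsUnit ((χ m : R) - 1))
    (hχp : ∀ m : (ZMod p)ˣ, ((χ m : Rˣ) : R) - (((m : ZMod p).val : ℕ) : R) ∈
      Ideal.span ({(p : R)} : Set R)) :
    ∃! w : R, OortTate.ygen R p u χ 1 ^ p = w • OortTate.ygen R p u χ 1 := by
  have hp := convPow_id_mu R p
  have hp1 : 1 ≤ p := (Fact.out : p.Prime).one_le
  have h1 : OortTate.ygen R p u χ 1 ^ p ∈ OortTate.eigenAug R 𝔸 p χ p :=
    eigenAug_one_pow_le hp χ p hp1 (Submodule.pow_mem_pow _ (ygen_mem_eigenAug u χ 1) p)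
  have h2 : OortTate.eigenAug R 𝔸 p χ p = OortTate.eigenAug R 𝔸 p χ 1 := by
    apply eigenAug_congr hp
    rw [Nat.cast_sub hp1]
    exact ⟨-1, by push_cast; ring⟩
  rw [h2] at h1
  obtain ⟨w, hw⟩ := Submodule.mem_span_singleton.mp (eigenAug_mu_le_span hu hχ 1 h1)
  refine ⟨w, hw.symm, ?_⟩
  intro w' hw'
  have h3 : (w' - w) • OortTate.ygen R p u χ 1 = 0 := by
    rw [sub_smul, ← hw', hw, sub_self]
  exact sub_eq_zero.mp (smul_ygen_eq_zero hu hχ hχp 1 h3)

end Mu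

end Groth.Agent.Lib.Helper16.OT
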