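import Groth.Agent.Lib.Helper16.OTWConst
import Mathlib

/-!
# The pairing between monomials of `I_1(A^D)` and of `I_1(A)` (helper16; Oort–Tate)
-/

set_option autoImplicit false

namespace Groth.Agent.Lib.Helper16.OT

open WithConv TensorProduct CartDual Module

universe u v

theorem rankAtStalk_dual {R : Type u} [CommRing R] {M : Type v} [AddCommGroup M] [Module R M]
    [Module.Finite R M] [Module.Projective R M] (q : PrimeSpectrum R) :
    Module.rankAtStalk (Module.Dual R M) q = Module.rankAtStalk M q := by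
  have : Module.FinitePresentation R M := Module.finitePresentation_of_projective R M
  have hbc : IsBaseChange (Localization.AtPrime q.asIdeal)
      (LinearMap.baseChangeHom R (Localization.AtPrime q.asIdeal) M R) :=
    Module.FinitePresentation.isBaseChange_map R M R (Localization.AtPrime q.asIdeal)
  have hfree : Module.Free (Localization.AtPrime q.asIdeal)
      ((Localization.AtPrime q.asIdeal) ⊗[R] M) := Module.free_of_flat_of_isLocalRing
  have hfree' : Module.Free (Localization.AtPrime q.asIdeal)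
      ((Localization.AtPrime q.asIdeal) ⊗[R] R) := Module.free_of_flat_of_isLocalRing
  have h3 : Module.finrank (Localization.AtPrime q.asIdeal)
      ((Localization.AtPrime q.asIdeal) ⊗[R] R) = 1 := by
    rw [(TensorProduct.AlgebraTensorModule.rid R (Localization.AtPrime q.asIdeal)
      (Localization.AtPrime q.asIdeal)).finrank_eq]
    exact Module.finrank_self _
  rw [Module.rankAtStalk_eq_finrank_tensorProduct, Module.rankAtStalk_eq_finrank_tensorProduct]
  have h4 := hbc.equiv.finrank_eq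
  have h5 : Module.finrank (Localization.AtPrime q.asIdeal)
      (Localization.AtPrime q.asIdeal ⊗[R] M →ₗ[Localization.AtPrime q.asIdeal]
        Localization.AtPrime q.asIdeal ⊗[R] R) = _ := Module.finrank_linearMap _ _ _ _
  rw [h3, mul_one] at h5
  rw [← h5, ← h4]

section Pair

variable {R : Type u} [CommRing R] {A : Type u} [CommRing A] [HopfAlgebra R A]
  [Coalgebra.IsCocomm R A] [Module.Finite R A] [Module.Projective R A]
  {p : ℕ} [Fact p.Prime]

theorem rankAtStalk_cartDual (hrk : ∀ q : PrimeSpectrum R, Module.rankAtStalk A q = p)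
    (q : PrimeSpectrum R) : Module.rankAtStalk (D R A) q = p := by
  rw [Module.rankAtStalk_eq_of_equiv (toDual R A), rankAtStalk_dual, hrk]

/-- Orthogonality of eigenspaces of `A^D` and `A`. -/
theorem dual_eigen_apply_eq_zero (hp : (toConv (AlgHom.id R A)) ^ p = 1) {u : R}
    (hu : u * ((p - 1 : ℕ) : R) = 1) {χ : (ZMod p)ˣ →* Rˣ}
    (hχ : ∀ m : (ZMod p)ˣ, m ≠ 1 → IsUnit ((χ m : R) - 1)) {i n : ℕ} {Ψ : D R A}
    (hΨ : Ψ ∈ OortTate.eigenAug R (D R A) p χ i) {Y : A} (hY : Y ∈ OortTate.eigenAug R A p χ n)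
    (hin : ¬ ((p - 1 : ℕ) : ℤ) ∣ ((i : ℤ) - n)) : Ψ Y = 0 := by
  have h1 := dual_eigen_apply_avg hp hu hχ hΨ n Y
  rw [if_neg hin, avg_apply_self hu hχ ((mem_eigenAug hp).mp hY).2] at h1
  exact h1

theorem finProd_mem (hp : (toConv (AlgHom.id R A)) ^ p = 1) (χ : (ZMod p)ˣ →* Rˣ)
    (i : ℕ) (hi : 1 ≤ i) (x : Fin i → OortTate.eigenAug R A p χ 1) :
    ∏ a, (x a : A) ∈ OortTate.eigenAug R A p χ i := by
  have hne : List.ofFn x ≠ [] := by
    intro h0
    have := congrArg List.length h0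
    simp at this
    omega
  have h1 := listProd_mem hp χ (List.ofFn x) hne
  rw [List.length_ofFn, List.map_ofFn, List.prod_ofFn] at h1
  exact h1

theorem psi_finProd (i : ℕ) (x : Fin i → A) (ψ : Fin i → D R A) :
    toConv (psi ((∏ a, x a) ⊗ₜ[R] (∏ a, ψ a))) = ∏ a, toConv (psi (x a ⊗ₜ[R] ψ a)) := by
  induction i with
  | zero =>
    simp only [Finset.univ_eq_empty, Finset.prod_empty]
    rw [← Algebra.TensorProduct.one_def, psi_one, toConv_ofConv]
  | succ i ih =>
    rw [Fin.prod_univ_succ, Fin.prod_univ_succ, Fin.prod_univ_succ,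
      ← Algebra.TensorProduct.tmul_mul_tmul, psi_mul, toConv_ofConv, ih]

variable (hrk : ∀ q : PrimeSpectrum R, Module.rankAtStalk A q = p) {u : R}
  (hu : u * ((p - 1 : ℕ) : R) = 1) {χ : (ZMod p)ˣ →* Rˣ}
  (hχ : ∀ m : (ZMod p)ˣ, m ≠ 1 → IsUnit ((χ m : R) - 1))
  (hχp : ∀ m : (ZMod p)ˣ, ((χ m : Rˣ) : R) - (((m : ZMod p).val : ℕ) : R) ∈
      Ideal.span ({(p : R)} : Set R))

include hrk hu hχ hχp

/-- `ψ(b) = ψ(e_1 b)` for `ψ ∈ I_1(A^D)`. -/
theorem dual_apply_projAug (ψ : OortTate.eigenAug R (D R A) p χ 1) (b : A) :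
    (ψ : D R A) (projAug (convPow_id_eq_one hrk) u χ 1 b : A) = (ψ : D R A) b := by
  have hp := convPow_id_eq_one hrk
  have h1 := dual_eigen_apply_avg hp hu hχ ψ.2 1
    (b - algebraMap R A (Bialgebra.counitAlgHom R A b))
  rw [if_pos (by simp)] at h1
  have h2 : (ψ : D R A) (b - algebraMap R A (Bialgebra.counitAlgHom R A b)) =
      (ψ : D R A) b := by
    have hf1 := ((mem_eigenAug_dual hp).mp ψ.2).1
    rw [coe_apply, map_sub, Algebra.algebraMap_eq_smul_one, map_smul, ← coe_apply,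
      ← coe_apply, hf1, smul_zero, sub_zero]
  rw [projAug_apply, h1, h2]

/-- Rank one: `ψ(x) y = ψ(y) x` for `x, y ∈ I_1(A)`. -/
theorem dual_smul_comm_eigenAug (ψ : D R A) (x y : OortTate.eigenAug R A p χ 1) :
    (ψ (x : A)) • (y : A) = (ψ (y : A)) • (x : A) := by
  have hp := convPow_id_eq_one hrk
  haveI := finite_eigenAug hp hu hχ 1
  haveI := projective_eigenAug hp hu hχ 1
  have h1 := InvRank.dual_smul_comm (rankAtStalk_eigenAug hrk hu hχ hχp 1)
    (((toDual R A) ψ).comp (OortTate.eigenAug R A p χ 1).subtype) x y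
  exact congrArg (fun z : OortTate.eigenAug R A p χ 1 => (z : A)) h1

theorem psi_tmul_eigen (x : OortTate.eigenAug R A p χ 1)
    (ψ : OortTate.eigenAug R (D R A) p χ 1) :
    psi ((x : A) ⊗ₜ[R] (ψ : D R A)) =
      ((ψ : D R A) (x : A)) • eProj (convPow_id_eq_one hrk) u χ 1 := by
  apply LinearMap.ext
  intro b
  rw [psi_tmul, LinearMap.smul_apply, eProj_apply, ← dual_apply_projAug hrk hu hχ hχp ψ b]
  exact dual_smul_comm_eigenAug hrk hu hχ hχp (ψ : D R A) _ x

theorem psi_finProd_eigen {w : ℕ → R}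
    (hw : ∀ i : ℕ, 1 ≤ i → OortTate.ygen R p u χ 1 ^ i = w i • OortTate.ygen R p u χ i)
    (i : ℕ) (hi : 1 ≤ i) (x : Fin i → OortTate.eigenAug R A p χ 1)
    (ψ : Fin i → OortTate.eigenAug R (D R A) p χ 1) :
    psi ((∏ a, (x a : A)) ⊗ₜ[R] (∏ a, (ψ a : D R A))) =
      ((∏ a, (ψ a : D R A) (x a : A)) * w i) • eProj (convPow_id_eq_one hrk) u χ i := by
  have hp := convPow_id_eq_one hrk
  apply WithConv.toConv_injective
  rw [psi_finProd]
  have h1 : ∀ a : Fin i, toConv (psi ((x a : A) ⊗ₜ[R] (ψ a : D R A))) =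
      ((ψ a : D R A) (x a : A)) • toConv (eProj hp u χ 1) := by
    intro a
    rw [psi_tmul_eigen hrk hu hχ hχp, toConv_smul]
  simp only [h1]
  rw [Finset.prod_smul, Finset.prod_const, Finset.card_univ, Fintype.card_fin,
    eProj_convPow hp hw i hi, smul_smul, toConv_smul]

/-- If `c` kills all `i`-fold products of elements of `I_1`, then `c = 0`. -/
theorem eq_zero_of_smul_finProd (i : ℕ) (hi1 : 1 ≤ i) (hi : i ≤ p - 1) {c : R}
    (h : ∀ x : Fin i → OortTate.eigenAug R A p χ 1, c • ∏ a, (x a : A) = 0) : c = 0 := by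
  apply eq_zero_of_smul_eigenAug hrk hu hχ hχp i
  intro z hz
  have hz' := eigenAug_le_pow hrk hu hχ hχp i hi1 hi hz
  rw [Submodule.pow_eq_span_pow_set] at hz'
  clear hz
  induction hz' using Submodule.span_induction with
  | mem y hy =>
    obtain ⟨f, rfl⟩ := Set.mem_pow.mp hy
    rw [List.prod_ofFn]
    exact h fun a => ⟨(f a : A), (f a).2⟩
  | zero => rw [smul_zero]
  | add a b _ _ ha hb => rw [smul_add, ha, hb, add_zero]
  | smul r a _ ha => rw [smul_comm, ha, smul_zero]

/-- **The pairing of monomials of the same degree.** -/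
theorem finProd_apply_finProd {w : ℕ → R}
    (hw : ∀ i : ℕ, 1 ≤ i → OortTate.ygen R p u χ 1 ^ i = w i • OortTate.ygen R p u χ i)
    (i : ℕ) (hi1 : 1 ≤ i) (hi : i ≤ p - 1) (ψ : Fin i → OortTate.eigenAug R (D R A) p χ 1)
    (y : Fin i → OortTate.eigenAug R A p χ 1) :
    (∏ a, (ψ a : D R A)) (∏ a, (y a : A)) = w i * ∏ a, (ψ a : D R A) (y a : A) := by
  have hp := convPow_id_eq_one hrk
  rw [← sub_eq_zero]
  apply eq_zero_of_smul_finProd hrk hu hχ hχp i hi1 hi
  intro x
  have h1 := LinearMap.congr_fun (psi_finProd_eigen hrk hu hχ hχp hw i hi1 x ψ)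
    (∏ a, (y a : A))
  rw [psi_tmul, LinearMap.smul_apply, eProj_apply,
    projAug_of_mem hp hu hχ i ⟨_, finProd_mem hp χ i hi1 y⟩] at h1
  have h2 : (∏ a, (ψ a : D R A) (x a : A)) • ∏ a, (y a : A) =
      (∏ a, (ψ a : D R A) (y a : A)) • ∏ a, (x a : A) := by
    rw [← Finset.prod_smul, ← Finset.prod_smul]
    apply Finset.prod_congr rfl
    intro a _
    exact dual_smul_comm_eigenAug hrk hu hχ hχp (ψ a : D R A) (x a) (y a)
  rw [sub_smul, h1, mul_comm, mul_smul, h2, smul_smul, sub_self]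

/-- `A` is spanned by the products of at most `p - 1` elements of `I_1`. -/
theorem span_finProd_eq_top :
    Submodule.span R {b : A | ∃ (i : ℕ) (_ : i ≤ p - 1) (y : Fin i → OortTate.eigenAug R A p χ 1),
      b = ∏ a, (y a : A)} = ⊤ := by
  have hp := convPow_id_eq_one hrk
  have hp1 : 1 ≤ p - 1 := by
    have := (Fact.out : p.Prime).two_le
    omega
  set N := Submodule.span R {b : A | ∃ (i : ℕ) (_ : i ≤ p - 1)
    (y : Fin i → OortTate.eigenAug R A p χ 1), b = ∏ a, (y a : A)} with hN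
  have key : ∀ t : ℕ, 1 ≤ t → t ≤ p - 1 → OortTate.eigenAug R A p χ t ≤ N := by
    intro t ht1 htp
    refine (eigenAug_le_pow hrk hu hχ hχp t ht1 htp).trans ?_
    rw [Submodule.pow_eq_span_pow_set]
    apply Submodule.span_mono
    intro z hz
    obtain ⟨f, rfl⟩ := Set.mem_pow.mp hz
    rw [List.prod_ofFn]
    exact ⟨t, htp, fun a => ⟨(f a : A), (f a).2⟩, rfl⟩
  have key' : ∀ i : Fin (p - 1), OortTate.eigenAug R A p χ (i : ℕ) ≤ N := by
    intro i
    by_cases hi : (i : ℕ) = 0
    · have h2 : OortTate.eigenAug R A p χ (i : ℕ) = OortTate.eigenAug R A p χ (p - 1) := by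
        apply eigenAug_congr hp
        rw [hi]
        simp
      rw [h2]
      exact key (p - 1) hp1 le_rfl
    · exact key (i : ℕ) (Nat.one_le_iff_ne_zero.mpr hi) (by have := i.2; omega)
  rw [eq_top_iff]
  intro a _
  have h2 : a - algebraMap R A (Bialgebra.counitAlgHom R A a) ∈
      LinearMap.ker (Bialgebra.counitAlgHom R A).toLinearMap := by
    rw [LinearMap.mem_ker]
    show Bialgebra.counitAlgHom R A (a - algebraMap R A (Bialgebra.counitAlgHom R A a)) = 0
    rw [map_sub, AlgHom.commutes]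
    exact sub_self _
  rw [← iSup_eigenAug hp hu hχ] at h2
  have h3 : a - algebraMap R A (Bialgebra.counitAlgHom R A a) ∈ N := (iSup_le key') h2
  have h4 : algebraMap R A (Bialgebra.counitAlgHom R A a) ∈ N := by
    rw [Algebra.algebraMap_eq_smul_one]
    apply Submodule.smul_mem
    exact Submodule.subset_span ⟨0, Nat.zero_le _, fun a => a.elim0, by simp⟩
  have h5 := Submodule.add_mem _ h3 h4
  rwa [sub_add_cancel] at h5

end Pair

end Groth.Agent.Lib.Helper16.OT
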