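import Groth.Agent.Lib.Helper16.OTMu
import Groth.Agent.Lib.Helper16.OTDual
import Mathlib

/-!
# The Cartier pairing `R[μ_p] → A ⊗ A^D` in terms of endomorphisms of `A` (helper16; Oort–Tate)
-/

set_option autoImplicit false

namespace Groth.Agent.Lib.Helper16.OT

open WithConv TensorProduct CartDual Module

universe u

section

variable {R : Type u} [CommRing R] {A : Type u} [CommRing A] [HopfAlgebra R A]
  [Coalgebra.IsCocomm R A] [Module.Finite R A] [Module.Projective R A]

instance instRightDistribClassTensorAD : RightDistribClass (A ⊗[R] D R A) := by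
  let _ : Semiring (A ⊗[R] D R A) := inferInstance
  infer_instance

instance instLeftDistribClassTensorAD : LeftDistribClass (A ⊗[R] D R A) := by
  let _ : Semiring (A ⊗[R] D R A) := inferInstance
  infer_instance

noncomputable instance instMulZeroClassTensorAD : MulZeroClass (A ⊗[R] D R A) := by
  let _ : Semiring (A ⊗[R] D R A) := inferInstance
  infer_instance

/-- `A ⊗ A^D → End_R(A)`, `a ⊗ f ↦ (b ↦ f(b) a)`. -/
noncomputable def psi : A ⊗[R] D R A →ₗ[R] (A →ₗ[R] A) :=
  dualTensorHom R A A ∘ₗ (TensorProduct.map (toDual R A).toLinearMap LinearMap.id) ∘ₗ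
    (TensorProduct.comm R A (D R A)).toLinearMap

theorem psi_tmul (a : A) (f : D R A) (b : A) : psi (a ⊗ₜ[R] f) b = f b • a := by
  simp only [psi, LinearMap.comp_apply, LinearEquiv.coe_coe, TensorProduct.comm_tmul,
    TensorProduct.map_tmul, LinearMap.id_apply, dualTensorHom_apply]
  rfl

theorem psi_injective : Function.Injective (psi (R := R) (A := A)) := by
  have h1 : Function.Injective (dualTensorHom R A A) := (dualTensorHom_bijective (R := R) (M := A) (N := A)).1
  have h2 : Function.Injective (TensorProduct.map (toDual R A).toLinearMap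
      (LinearMap.id : A →ₗ[R] A)) := by
    have : TensorProduct.map (toDual R A).toLinearMap (LinearMap.id : A →ₗ[R] A) =
        (TensorProduct.congr (toDual R A) (LinearEquiv.refl R A)).toLinearMap := rfl
    rw [this]
    exact (TensorProduct.congr (toDual R A) (LinearEquiv.refl R A)).injective
  have h3 : Function.Injective (TensorProduct.comm R A (D R A)).toLinearMap :=
    (TensorProduct.comm R A (D R A)).injective
  exact h1.comp (h2.comp h3)

theorem psi_eq_rid (t : A ⊗[R] D R A) (a : A) :
    TensorProduct.rid R A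
      (LinearMap.lTensor A ((Module.Dual.eval R A a) ∘ₗ (toDual R A).toLinearMap) t) =
      psi t a := by
  induction t using TensorProduct.induction_on with
  | zero => simp
  | add s t hs ht => simp only [map_add, hs, ht, LinearMap.add_apply]
  | tmul x f =>
    rw [psi_tmul, LinearMap.lTensor_tmul, TensorProduct.rid_tmul]
    rfl

theorem psi_one : psi (1 : A ⊗[R] D R A) = (1 : WithConv (A →ₗ[R] A)).ofConv := by
  apply LinearMap.ext
  intro b
  rw [Algebra.TensorProduct.one_def, psi_tmul]
  show ((1 : D R A) b) • (1 : A) = algebraMap R A (Coalgebra.counit b)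
  rw [Algebra.algebraMap_eq_smul_one]
  rfl

theorem psi_mul (s t : A ⊗[R] D R A) :
    psi (s * t) = (toConv (psi s) * toConv (psi t)).ofConv := by
  induction s using TensorProduct.induction_on with
  | zero => rw [zero_mul, map_zero, toConv_zero, zero_mul, ofConv_zero]
  | add s₁ s₂ h₁ h₂ => rw [add_mul, map_add, h₁, h₂, map_add, toConv_add, add_mul, ofConv_add]
  | tmul a f =>
    induction t using TensorProduct.induction_on with
    | zero => rw [mul_zero, map_zero, toConv_zero, mul_zero, ofConv_zero]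
    | add t₁ t₂ h₁ h₂ => rw [mul_add, map_add, h₁, h₂, map_add, toConv_add, mul_add, ofConv_add]
    | tmul a' f' =>
      apply LinearMap.ext
      intro b
      rw [Algebra.TensorProduct.tmul_mul_tmul, psi_tmul, LinearMap.convMul_apply, ofConv_toConv,
        ofConv_toConv, coe_apply, LinearMap.convMul_apply]
      generalize Coalgebra.comul (R := R) b = c
      induction c using TensorProduct.induction_on with
      | zero => simp
      | add c₁ c₂ h₁ h₂ => simp only [map_add, add_smul, h₁, h₂]
      | tmul b₁ b₂ =>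
        simp only [TensorProduct.map_tmul, LinearMap.mul'_apply, psi_tmul]
        rw [smul_mul_smul_comm]

theorem psi_pow_of_id {δ : A ⊗[R] D R A} (hδ : psi δ = LinearMap.id) (n : ℕ) :
    psi (δ ^ n) = (SGA3b.powConv R A n).toLinearMap := by
  induction n with
  | zero =>
    rw [pow_zero, psi_one, powConv_zero]
    rfl
  | succ n ih =>
    have h2 : (SGA3b.powConv R A (n + 1)).toLinearMap =
        (toConv (SGA3b.powConv R A n).toLinearMap * toConv (LinearMap.id)).ofConv := by
      rw [powConv_def, pow_succ]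
      rfl
    rw [pow_succ, psi_mul, ih, hδ, h2]

end

section Pairing

variable {R : Type u} [CommRing R] {A : Type u} [CommRing A] [HopfAlgebra R A]
  [Coalgebra.IsCocomm R A] [Module.Finite R A] [Module.Projective R A]
  {p : ℕ} [Fact p.Prime]

theorem muT_pow_val (m : (ZMod p)ˣ) (δ : A ⊗[R] D R A)
    (ϕ : MonoidAlgebra R (Multiplicative (ZMod p)) →ₐ[R] A ⊗[R] D R A)
    (hϕ : ϕ (OortTate.muT R p) = δ) :
    ϕ (OortTate.muT R p ^ (m : ZMod p).val - 1) = δ ^ (m : ZMod p).val - 1 := by
  have h1 : ϕ (OortTate.muT R p ^ (m : ZMod p).val) = ϕ (OortTate.muT R p) ^ (m : ZMod p).val :=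
    map_pow ϕ.toRingHom _ _
  have h2 : ϕ 1 = 1 := map_one ϕ.toRingHom
  rw [map_sub, h1, h2, hϕ]

theorem phi_ygen (u : R) (χ : (ZMod p)ˣ →* Rˣ) (i : ℕ) (δ : A ⊗[R] D R A)
    (ϕ : MonoidAlgebra R (Multiplicative (ZMod p)) →ₐ[R] A ⊗[R] D R A)
    (hϕ : ϕ (OortTate.muT R p) = δ) :
    ϕ (OortTate.ygen R p u χ i) =
      u • ∑ m : (ZMod p)ˣ, (((χ m⁻¹ : Rˣ) : R) ^ i) • (δ ^ (m : ZMod p).val - 1) := by
  rw [ygen_eq, avg_apply, map_smul, map_sum]
  congr 1
  apply Finset.sum_congr rfl
  intro m _
  rw [map_smul, rho_muT_sub_one, muT_pow_val m δ ϕ hϕ]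

theorem psi_phi_ygen (hp : (toConv (AlgHom.id R A)) ^ p = 1) (u : R) (χ : (ZMod p)ˣ →* Rˣ) (i : ℕ)
    (δ : A ⊗[R] D R A) (hδ : psi δ = LinearMap.id)
    (ϕ : MonoidAlgebra R (Multiplicative (ZMod p)) →ₐ[R] A ⊗[R] D R A)
    (hϕ : ϕ (OortTate.muT R p) = δ) (b : A) :
    psi (ϕ (OortTate.ygen R p u χ i)) b = (projAug hp u χ i b : A) := by
  rw [phi_ygen u χ i δ ϕ hϕ, projAug_apply, avg_apply, map_smul, map_sum, LinearMap.smul_apply,
    LinearMap.sum_apply]
  congr 1
  apply Finset.sum_congr rfl
  intro m _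
  rw [map_smul, LinearMap.smul_apply, map_sub, psi_pow_of_id hδ, psi_one, LinearMap.sub_apply,
    map_sub, rho_apply, rho_apply, AlgHom.commutes]
  rfl

variable (hrk : ∀ q : PrimeSpectrum R, Module.rankAtStalk A q = p) {u : R}
  (hu : u * ((p - 1 : ℕ) : R) = 1) {χ : (ZMod p)ˣ →* Rˣ}
  (hχ : ∀ m : (ZMod p)ˣ, m ≠ 1 → IsUnit ((χ m : R) - 1))
  (hχp : ∀ m : (ZMod p)ˣ, ((χ m : Rˣ) : R) - (((m : ZMod p).val : ℕ) : R) ∈
      Ideal.span ({(p : R)} : Set R))

include hrk hu hχ hχp

theorem invertible_eigenAug (i : ℕ) : Module.Invertible R (OortTate.eigenAug R A p χ i) := by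
  have hp := convPow_id_eq_one hrk
  haveI := finite_eigenAug hp hu hχ i
  haveI := projective_eigenAug hp hu hχ i
  exact InvRank.invertible_of_rankAtStalk_eq_one (rankAtStalk_eigenAug hrk hu hχ hχp i)

/-- If `r` kills `I_i` then `r = 0`. -/
theorem eq_zero_of_smul_eigenAug (i : ℕ) {r : R}
    (h : ∀ x ∈ OortTate.eigenAug R A p χ i, r • x = 0) : r = 0 := by
  haveI := invertible_eigenAug hrk hu hχ hχp i
  have h0 : ∀ f : OortTate.eigenAug R A p χ i, r • f = (0 : R) • f := by
    intro f
    apply Subtype.ext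
    rw [zero_smul]
    exact h f f.2
  exact FaithfulSMul.eq_of_smul_eq_smul (M := R) (α := OortTate.eigenAug R A p χ i) h0

theorem phi_ygen_smul_eq_zero (i : ℕ) (δ : A ⊗[R] D R A) (hδ : psi δ = LinearMap.id)
    (ϕ : MonoidAlgebra R (Multiplicative (ZMod p)) →ₐ[R] A ⊗[R] D R A)
    (hϕ : ϕ (OortTate.muT R p) = δ) {r : R} (hr : r • ϕ (OortTate.ygen R p u χ i) = 0) :
    r = 0 := by
  have hp := convPow_id_eq_one hrk
  apply eq_zero_of_smul_eigenAug hrk hu hχ hχp i
  intro x hx
  have h1 := congrArg (fun t => psi t x) hr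
  simp only [map_smul, LinearMap.smul_apply, map_zero, LinearMap.zero_apply] at h1
  rw [psi_phi_ygen hp u χ i δ hδ ϕ hϕ, projAug_of_mem hp hu hχ i ⟨x, hx⟩] at h1
  exact h1

theorem phi_ygen_mem_range (i : ℕ) (δ : A ⊗[R] D R A) (hδ : psi δ = LinearMap.id)
    (ϕ : MonoidAlgebra R (Multiplicative (ZMod p)) →ₐ[R] A ⊗[R] D R A)
    (hϕ : ϕ (OortTate.muT R p) = δ) :
    ϕ (OortTate.ygen R p u χ i) ∈
      LinearMap.range (TensorProduct.map (OortTate.eigenAug R A p χ i).subtype
          (OortTate.eigenAug R (D R A) p χ i).subtype) := by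
  have hp := convPow_id_eq_one hrk
  haveI := finite_eigenAug hp hu hχ i
  haveI := projective_eigenAug hp hu hχ i
  obtain ⟨n, f, g, -, -, hfg⟩ :=
    Module.Finite.exists_comp_eq_id_of_projective R (OortTate.eigenAug R A p χ i)
  -- the functionals
  have hmem : ∀ k : Fin n, toConv ((LinearMap.proj k ∘ₗ g) ∘ₗ projAug hp u χ i) ∈
      OortTate.eigenAug R (D R A) p χ i := by
    intro k
    rw [mem_eigenAug_dual hp]
    refine ⟨?_, fun m a => ?_⟩
    · show (LinearMap.proj k ∘ₗ g) (projAug hp u χ i 1) = 0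
      have : projAug hp u χ i (1 : A) = 0 := by
        apply Subtype.ext
        rw [projAug_apply, map_one, map_one, sub_self, map_zero]; rfl
      rw [this, map_zero]
    · show (LinearMap.proj k ∘ₗ g) (projAug hp u χ i (rho R A p hp m a)) =
        _ * (LinearMap.proj k ∘ₗ g) (projAug hp u χ i a)
      rw [projAug_rho, map_smul, smul_eq_mul]
  have key : ϕ (OortTate.ygen R p u χ i) =
      ∑ k : Fin n, ((f (Pi.single k 1) : OortTate.eigenAug R A p χ i) : A) ⊗ₜ[R]
        (toConv ((LinearMap.proj k ∘ₗ g) ∘ₗ projAug hp u χ i) : D R A) := by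
    apply psi_injective
    apply LinearMap.ext
    intro b
    rw [psi_phi_ygen hp u χ i δ hδ ϕ hϕ, map_sum, LinearMap.sum_apply]
    simp only [psi_tmul]
    have h1 : ∀ k : Fin n, (toConv ((LinearMap.proj k ∘ₗ g) ∘ₗ projAug hp u χ i) : D R A) b =
        g (projAug hp u χ i b) k := fun k => rfl
    simp only [h1]
    have h2 : projAug hp u χ i b = f (g (projAug hp u χ i b)) :=
      (LinearMap.congr_fun hfg _).symm
    conv_lhs => rw [h2]
    have h3 : g (projAug hp u χ i b) =
        ∑ k : Fin n, (g (projAug hp u χ i b) k) • (Pi.single k (1 : R) : Fin n → R) := by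
      ext j
      simp [Finset.sum_apply, Pi.single_apply]
    conv_lhs => rw [h3]
    rw [map_sum, AddSubmonoidClass.coe_finset_sum]
    apply Finset.sum_congr rfl
    intro k _
    rw [map_smul, Submodule.coe_smul]
  rw [key]
  apply Submodule.sum_mem
  intro k _
  exact ⟨(f (Pi.single k 1)) ⊗ₜ[R] ⟨_, hmem k⟩, by rw [TensorProduct.map_tmul]; rfl⟩

theorem range_le_span_phi_ygen (i : ℕ) (δ : A ⊗[R] D R A) (hδ : psi δ = LinearMap.id)
    (ϕ : MonoidAlgebra R (Multiplicative (ZMod p)) →ₐ[R] A ⊗[R] D R A)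
    (hϕ : ϕ (OortTate.muT R p) = δ) :
    LinearMap.range (TensorProduct.map (OortTate.eigenAug R A p χ i).subtype
          (OortTate.eigenAug R (D R A) p χ i).subtype) ≤
      Submodule.span R {ϕ (OortTate.ygen R p u χ i)} := by
  have hp := convPow_id_eq_one hrk
  haveI := invertible_eigenAug hrk hu hχ hχp i
  rintro _ ⟨t, rfl⟩
  induction t using TensorProduct.induction_on with
  | zero => rw [map_zero]; exact Submodule.zero_mem _
  | add s t hs ht => rw [map_add]; exact Submodule.add_mem _ hs ht
  | tmul a f =>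
    rw [TensorProduct.map_tmul]
    -- the endomorphism `x ↦ f(x) a` of `I_i`
    set g : Module.End R (OortTate.eigenAug R A p χ i) :=
      (((toDual R A) (f : D R A)).comp (OortTate.eigenAug R A p χ i).subtype).smulRight a with hg
    obtain ⟨r, hr⟩ := (Module.Invertible.toModuleEnd_bijective R
      (OortTate.eigenAug R A p χ i)).2 g
    have hr' : ∀ x : OortTate.eigenAug R A p χ i, r • x = (f : D R A) (x : A) • a := by
      intro x
      have := LinearMap.congr_fun hr x
      rw [hg] at this
      exact this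
    have key : (OortTate.eigenAug R A p χ i).subtype a ⊗ₜ[R]
        (OortTate.eigenAug R (D R A) p χ i).subtype f = r • ϕ (OortTate.ygen R p u χ i) := by
      apply psi_injective
      apply LinearMap.ext
      intro b
      rw [map_smul, LinearMap.smul_apply, psi_phi_ygen hp u χ i δ hδ ϕ hϕ, psi_tmul]
      have h1 := dual_eigen_apply_avg hp hu hχ f.2 i
        (b - algebraMap R A (Bialgebra.counitAlgHom R A b))
      rw [if_pos (by simp)] at h1
      have h2 : (f : D R A) (b - algebraMap R A (Bialgebra.counitAlgHom R A b)) =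
          (f : D R A) b := by
        have hf1 := ((mem_eigenAug_dual hp).mp f.2).1
        rw [coe_apply, map_sub, Algebra.algebraMap_eq_smul_one, map_smul, ← coe_apply,
          ← coe_apply, hf1, smul_zero, sub_zero]
      rw [h2] at h1
      have h3 := congrArg (fun x : OortTate.eigenAug R A p χ i => (x : A))
        (hr' (projAug hp u χ i b))
      simp only [Submodule.coe_smul] at h3
      rw [h3, projAug_apply, h1]
      rfl
    rw [key]
    exact Submodule.smul_mem _ _ (Submodule.subset_span rfl)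

end Pairing

end Groth.Agent.Lib.Helper16.OT
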