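import Groth.Agent.Lib.Helper16.OTPairing
import Groth.Agent.Lib.Helper16.OTComm
import Mathlib

/-!
# `A` as a quotient of the tensor algebra of `I_1` (helper16; Oort–Tate)
-/

set_option autoImplicit false

namespace Groth.Agent.Lib.Helper16.OT

open WithConv TensorProduct Module

universe u

theorem ofFn_get_cast {α β : Type*} (l : List α) (φ : α → β) {n : ℕ} (h : l.length = n) :
    List.ofFn (fun i : Fin n => φ (l.get (Fin.cast h.symm i))) = l.map φ := by
  subst h
  apply List.ext_getElem
  · simp
  · intro i h1 h2
    simp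

theorem span_monomials_eq_top (R : Type*) [CommRing R] (M : Type*) [AddCommGroup M] [Module R M] :
    Submodule.span R {x : TensorAlgebra R M | ∃ l : List M,
      x = (l.map (TensorAlgebra.ι R)).prod} = ⊤ := by
  rw [eq_top_iff]
  intro x _
  have h1 : x ∈ Subalgebra.toSubmodule (Algebra.adjoin R (Set.range (TensorAlgebra.ι R (M := M)))) := by
    rw [TensorAlgebra.adjoin_range_ι]
    trivial
  rw [Algebra.adjoin_eq_span] at h1
  refine Submodule.span_mono ?_ h1
  intro y hy
  obtain ⟨l, hl, rfl⟩ := Submonoid.exists_list_of_mem_closure hy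
  have hl' : l ∈ Set.range (List.map (TensorAlgebra.ι R (M := M))) := by
    rw [Set.range_list_map]
    exact hl
  obtain ⟨l', rfl⟩ := hl'
  exact ⟨l', rfl⟩

section TA

variable {R : Type u} [CommRing R] {A : Type u} [CommRing A] [HopfAlgebra R A]
  [Coalgebra.IsCocomm R A] [Module.Finite R A] [Module.Projective R A]
  {p : ℕ} [Fact p.Prime]

theorem projAug_one (hp : (toConv (AlgHom.id R A)) ^ p = 1) (u : R) (χ : (ZMod p)ˣ →* Rˣ)
    (i : ℕ) : projAug hp u χ i (1 : A) = 0 := by
  apply Subtype.ext
  rw [projAug_apply, map_one, map_one, sub_self, map_zero]; rfl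

/-- Multiplication `I_1 ⊗ I_n → I_{n+1}`. -/
noncomputable def mulMap (hp : (toConv (AlgHom.id R A)) ^ p = 1) (χ : (ZMod p)ˣ →* Rˣ) (n : ℕ) :
    (OortTate.eigenAug R A p χ 1) ⊗[R] (OortTate.eigenAug R A p χ n) →ₗ[R]
      OortTate.eigenAug R A p χ (n + 1) :=
  LinearMap.codRestrict _ (LinearMap.mul' R A ∘ₗ
    TensorProduct.map (OortTate.eigenAug R A p χ 1).subtype (OortTate.eigenAug R A p χ n).subtype)
    (by
      intro t
      induction t using TensorProduct.induction_on with
      | zero => rw [map_zero]; exact Submodule.zero_mem _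
      | add s t hs ht => rw [map_add]; exact Submodule.add_mem _ hs ht
      | tmul y x =>
        have := mul_mem_eigenAug hp y.2 x.2
        rw [add_comm] at this
        exact this)

theorem mulMap_tmul (hp : (toConv (AlgHom.id R A)) ^ p = 1) (χ : (ZMod p)ˣ →* Rˣ) (n : ℕ)
    (y : OortTate.eigenAug R A p χ 1) (x : OortTate.eigenAug R A p χ n) :
    (mulMap hp χ n (y ⊗ₜ[R] x) : A) = (y : A) * (x : A) := rfl

theorem listProd_mem (hp : (toConv (AlgHom.id R A)) ^ p = 1) (χ : (ZMod p)ˣ →* Rˣ)
    (l : List (OortTate.eigenAug R A p χ 1)) (hl : l ≠ []) :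
    (l.map (fun y : OortTate.eigenAug R A p χ 1 => (y : A))).prod ∈ OortTate.eigenAug R A p χ l.length := by
  induction l with
  | nil => exact absurd rfl hl
  | cons y l ih =>
    by_cases hl' : l = []
    · subst hl'
      simp only [List.map_cons, List.map_nil, List.prod_cons, List.prod_nil, mul_one,
        List.length_cons, List.length_nil, zero_add]
      exact y.2
    · have := mul_mem_eigenAug hp y.2 (ih hl')
      rw [add_comm] at this
      simpa using this

variable (hrk : ∀ q : PrimeSpectrum R, Module.rankAtStalk A q = p) {u : R}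
  (hu : u * ((p - 1 : ℕ) : R) = 1) {χ : (ZMod p)ˣ →* Rˣ}
  (hχ : ∀ m : (ZMod p)ˣ, m ≠ 1 → IsUnit ((χ m : R) - 1))
  (hχp : ∀ m : (ZMod p)ˣ, ((χ m : Rˣ) : R) - (((m : ZMod p).val : ℕ) : R) ∈
      Ideal.span ({(p : R)} : Set R))

include hrk hu hχ hχp

theorem mulMap_surjective (n : ℕ) (hn1 : 1 ≤ n) (hn : n + 1 ≤ p - 1) :
    Function.Surjective (mulMap (convPow_id_eq_one hrk) χ n) := by
  have hp := convPow_id_eq_one hrk
  have key : ∀ a ∈ OortTate.eigenAug R A p χ 1 * (OortTate.eigenAug R A p χ 1) ^ n,
      ∃ t, (mulMap hp χ n t : A) = a := by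
    intro a ha
    induction ha using Submodule.mul_induction_on' with
    | mem_mul_mem y hy x hx =>
      exact ⟨⟨y, hy⟩ ⊗ₜ[R] ⟨x, eigenAug_one_pow_le hp χ n hn1 hx⟩, rfl⟩
    | add a _ b _ ha hb =>
      obtain ⟨s, hs⟩ := ha
      obtain ⟨t, ht⟩ := hb
      exact ⟨s + t, by rw [map_add, Submodule.coe_add, hs, ht]⟩
  intro z
  have hz := eigenAug_le_pow hrk hu hχ hχp (n + 1) (by omega) hn z.2
  rw [pow_succ'] at hz
  obtain ⟨t, ht⟩ := key _ hz
  exact ⟨t, Subtype.ext ht⟩

theorem exists_sigma (n : ℕ) (hn1 : 1 ≤ n) (hn : n ≤ p - 1) :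
    ∃ σ : OortTate.eigenAug R A p χ n →ₗ[R] TensorAlgebra R (OortTate.eigenAug R A p χ 1),
      ∀ (l : List (OortTate.eigenAug R A p χ 1))
        (h : (l.map (fun y : OortTate.eigenAug R A p χ 1 => (y : A))).prod ∈ OortTate.eigenAug R A p χ n), l.length = n →
        σ ⟨_, h⟩ = (l.map (TensorAlgebra.ι R)).prod := by
  have hp := convPow_id_eq_one hrk
  induction n, hn1 using Nat.le_induction with
  | base =>
    refine ⟨TensorAlgebra.ι R, ?_⟩
    intro l h hl
    obtain ⟨y, rfl⟩ := List.length_eq_one_iff.mp hl
    simp only [List.map_cons, List.map_nil, List.prod_cons, List.prod_nil, mul_one]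
  | succ n hn1 ih =>
    obtain ⟨σ, hσ⟩ := ih (by omega)
    haveI := invertible_eigenAug hrk hu hχ hχp 1
    haveI := invertible_eigenAug hrk hu hχ hχp n
    haveI := invertible_eigenAug hrk hu hχ hχp (n + 1)
    have hbij : Function.Bijective (mulMap hp χ n) :=
      Module.Invertible.bijective_of_surjective (mulMap_surjective hrk hu hχ hχp n hn1 hn)
    set e := LinearEquiv.ofBijective (mulMap hp χ n) hbij with he
    set B : OortTate.eigenAug R A p χ 1 →ₗ[R] OortTate.eigenAug R A p χ n →ₗ[R]
        TensorAlgebra R (OortTate.eigenAug R A p χ 1) :=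
      ((LinearMap.mul R (TensorAlgebra R (OortTate.eigenAug R A p χ 1))).comp
        (TensorAlgebra.ι R)).compl₂ σ with hB
    refine ⟨(TensorProduct.lift B) ∘ₗ e.symm.toLinearMap, ?_⟩
    intro l h hl
    match l, h, hl with
    | [], _, hl => simp at hl
    | y :: l', h, hl =>
      have hl' : l'.length = n := by simpa using hl
      have hne : l' ≠ [] := by
        intro h0
        rw [h0] at hl'
        simp at hl'
        omega
      have h' : (l'.map (fun y : OortTate.eigenAug R A p χ 1 => (y : A))).prod ∈ OortTate.eigenAug R A p χ n := by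
        have := listProd_mem hp χ l' hne
        rwa [hl'] at this
      have h1 : e.symm ⟨((y :: l').map (fun y : OortTate.eigenAug R A p χ 1 => (y : A))).prod, h⟩ =
          y ⊗ₜ[R] ⟨(l'.map (fun y : OortTate.eigenAug R A p χ 1 => (y : A))).prod, h'⟩ := by
        rw [LinearEquiv.symm_apply_eq]
        apply Subtype.ext
        rw [he, LinearEquiv.ofBijective_apply, mulMap_tmul]
        simp only [List.map_cons, List.prod_cons]
      rw [LinearMap.comp_apply, LinearEquiv.coe_coe, h1, TensorProduct.lift.tmul, hB]
      simp only [LinearMap.compl₂_apply, LinearMap.comp_apply, LinearMap.mul_apply']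
      rw [hσ l' h' hl', List.map_cons, List.prod_cons]

theorem lift_listProd (l : List (OortTate.eigenAug R A p χ 1)) :
    TensorAlgebra.lift R (OortTate.eigenAug R A p χ 1).subtype
      ((l.map (TensorAlgebra.ι R)).prod) =
      (l.map (fun y : OortTate.eigenAug R A p χ 1 => (y : A))).prod := by
  induction l with
  | nil => simp
  | cons y l ih =>
    rw [List.map_cons, List.prod_cons, map_mul, ih, TensorAlgebra.lift_ι_apply, List.map_cons,
      List.prod_cons]
    rfl

theorem list_sub_mem (l : List (OortTate.eigenAug R A p χ 1)) (hl : l.length = p)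
    (g : OortTate.eigenAug R A p χ 1)
    (hg : (g : A) = (l.map (fun y : OortTate.eigenAug R A p χ 1 => (y : A))).prod) :
    (l.map (TensorAlgebra.ι R)).prod - TensorAlgebra.ι R g ∈
      {x : TensorAlgebra R (OortTate.eigenAug R A p χ 1) |
          ∃ (f : Fin p → OortTate.eigenAug R A p χ 1) (g : OortTate.eigenAug R A p χ 1),
            (g : A) = ∏ i, (f i : A) ∧
            x = (List.ofFn fun i => TensorAlgebra.ι R (f i)).prod - TensorAlgebra.ι R g} := by
  refine ⟨fun i => l.get (Fin.cast hl.symm i), g, ?_, ?_⟩
  · rw [hg, ← List.prod_ofFn, ofFn_get_cast l (fun y : OortTate.eigenAug R A p χ 1 => (y : A)) hl]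
  · rw [ofFn_get_cast l (TensorAlgebra.ι R) hl]

/-- The kernel of `T(I_1) → A` is contained in the left ideal generated by the relations. -/
theorem ker_lift_le :
    RingHom.ker (TensorAlgebra.lift R (OortTate.eigenAug R A p χ 1).subtype) ≤
        Ideal.span {x : TensorAlgebra R (OortTate.eigenAug R A p χ 1) |
          ∃ (f : Fin p → OortTate.eigenAug R A p χ 1) (g : OortTate.eigenAug R A p χ 1),
            (g : A) = ∏ i, (f i : A) ∧
            x = (List.ofFn fun i => TensorAlgebra.ι R (f i)).prod - TensorAlgebra.ι R g} := by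
  classical
  have hp := convPow_id_eq_one hrk
  have hp2 : 2 ≤ p := (Fact.out : p.Prime).two_le
  set J := Ideal.span {x : TensorAlgebra R (OortTate.eigenAug R A p χ 1) |
          ∃ (f : Fin p → OortTate.eigenAug R A p χ 1) (g : OortTate.eigenAug R A p χ 1),
            (g : A) = ∏ i, (f i : A) ∧
            x = (List.ofFn fun i => TensorAlgebra.ι R (f i)).prod - TensorAlgebra.ι R g} with hJ
  have hσ : ∀ k : Fin (p - 1), ∃ σ : OortTate.eigenAug R A p χ ((k : ℕ) + 1) →ₗ[R]
      TensorAlgebra R (OortTate.eigenAug R A p χ 1),
      ∀ (l : List (OortTate.eigenAug R A p χ 1))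
        (h : (l.map (fun y : OortTate.eigenAug R A p χ 1 => (y : A))).prod ∈
          OortTate.eigenAug R A p χ ((k : ℕ) + 1)), l.length = (k : ℕ) + 1 →
        σ ⟨_, h⟩ = (l.map (TensorAlgebra.ι R)).prod :=
    fun k => exists_sigma hrk hu hχ hχp ((k : ℕ) + 1) (by omega) (by have := k.2; omega)
  choose σ hσ using hσ
  set Φ := TensorAlgebra.lift R (OortTate.eigenAug R A p χ 1).subtype with hΦ
  -- the section
  set S : A →ₗ[R] TensorAlgebra R (OortTate.eigenAug R A p χ 1) :=
    (Algebra.linearMap R _) ∘ₗ (Bialgebra.counitAlgHom R A).toLinearMap +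
      ∑ k : Fin (p - 1), (σ k) ∘ₗ projAug hp u χ ((k : ℕ) + 1) with hS
  have hS_apply : ∀ a : A, S a = algebraMap R _ (Bialgebra.counitAlgHom R A a) +
      ∑ k : Fin (p - 1), σ k (projAug hp u χ ((k : ℕ) + 1) a) := by
    intro a
    rw [hS, LinearMap.add_apply, LinearMap.sum_apply]
    rfl
  -- main claim on monomials
  have main : ∀ (N : ℕ) (l : List (OortTate.eigenAug R A p χ 1)), l.length = N →
      (l.map (TensorAlgebra.ι R)).prod -
        S ((l.map (fun y : OortTate.eigenAug R A p χ 1 => (y : A))).prod) ∈ J := by
    intro N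
    induction N using Nat.strong_induction_on with
    | _ N ih =>
      intro l hl
      rcases Nat.eq_zero_or_pos N with hN0 | hNpos
      · -- empty monomial
        rw [hN0, List.length_eq_zero_iff] at hl
        subst hl
        simp only [List.map_nil, List.prod_nil]
        rw [hS_apply, map_one, map_one]
        simp only [projAug_one, map_zero, Finset.sum_const_zero, add_zero, sub_self]
        exact Submodule.zero_mem _
      · rcases Nat.lt_or_ge N p with hNp | hNp
        · -- short monomial: `S` inverts the product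
          have hne : l ≠ [] := by
            intro h0
            rw [h0] at hl
            simp at hl
            omega
          set z := (l.map (fun y : OortTate.eigenAug R A p χ 1 => (y : A))).prod with hz
          have hzmem : z ∈ OortTate.eigenAug R A p χ N := by
            have := listProd_mem hp χ l hne
            rwa [hl] at this
          have hz' := (mem_eigenAug hp).mp hzmem
          set k₀ : Fin (p - 1) := ⟨N - 1, by omega⟩ with hk₀
          have hk₀N : (k₀ : ℕ) + 1 = N := by
            rw [hk₀]
            simp only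
            omega
          have hzmem' : z ∈ OortTate.eigenAug R A p χ ((k₀ : ℕ) + 1) := by rwa [hk₀N]
          rw [hS_apply, hz'.1, map_zero, zero_add, Finset.sum_eq_single k₀]
          · rw [projAug_of_mem hp hu hχ _ ⟨z, hzmem'⟩, hσ k₀ l hzmem' (by rw [hk₀N]; exact hl),
              sub_self]
            exact Submodule.zero_mem _
          · intro k _ hk
            have h0 : projAug hp u χ ((k : ℕ) + 1) z = 0 := by
              apply Subtype.ext
              rw [projAug_apply, hz'.1, map_zero, sub_zero]
              have hnd : ¬ ((p - 1 : ℕ) : ℤ) ∣ ((N : ℤ) - ((k : ℕ) + 1 : ℕ)) := by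
                have := not_dvd_sub_of_fin_ne (Ne.symm hk)
                rw [← hk₀N]
                push_cast
                have e1 : ((k₀ : ℕ) : ℤ) + 1 - (((k : ℕ) : ℤ) + 1) = ((k₀ : ℕ) : ℤ) - (k : ℕ) := by
                  ring
                rw [e1]
                exact this
              rw [avg_apply_of_ne hu hχ hz'.2 hnd]
              rfl
            rw [h0, map_zero]
          · intro h; exact absurd (Finset.mem_univ k₀) h
        · -- long monomial: reduce the last `p` factors
          set l₁ := l.take (N - p) with hl₁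
          set l₂ := l.drop (N - p) with hl₂
          have hl12 : l = l₁ ++ l₂ := (List.take_append_drop _ _).symm
          have hlen₂ : l₂.length = p := by
            rw [hl₂, List.length_drop, hl]
            omega
          have hlen₁ : l₁.length = N - p := by
            rw [hl₁, List.length_take, hl]
            omega
          have hne₂ : l₂ ≠ [] := by
            intro h0
            rw [h0] at hlen₂
            simp at hlen₂
            omega
          have hg0 : (l₂.map (fun y : OortTate.eigenAug R A p χ 1 => (y : A))).prod ∈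
              OortTate.eigenAug R A p χ 1 := by
            have h1 := listProd_mem hp χ l₂ hne₂
            rw [hlen₂] at h1
            have h2 : OortTate.eigenAug R A p χ p = OortTate.eigenAug R A p χ 1 := by
              apply eigenAug_congr hp
              rw [Nat.cast_sub (by omega : 1 ≤ p)]
              exact ⟨-1, by push_cast; ring⟩
            rwa [h2] at h1
          set g : OortTate.eigenAug R A p χ 1 := ⟨_, hg0⟩ with hg
          set l' := l₁ ++ [g] with hl'
          have hlen' : l'.length = N - p + 1 := by
            rw [hl', List.length_append, hlen₁]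
            rfl
          have h1 := ih (N - p + 1) (by omega) l' hlen'
          have hprod : (l'.map (fun y : OortTate.eigenAug R A p χ 1 => (y : A))).prod =
              (l.map (fun y : OortTate.eigenAug R A p χ 1 => (y : A))).prod := by
            rw [hl', hl12, List.map_append, List.map_append, List.prod_append, List.prod_append]
            simp only [List.map_cons, List.map_nil, List.prod_cons, List.prod_nil, mul_one]
            rfl
          rw [hprod] at h1
          have h2 : (l.map (TensorAlgebra.ι R)).prod - (l'.map (TensorAlgebra.ι R)).prod =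
              (l₁.map (TensorAlgebra.ι R)).prod *
                ((l₂.map (TensorAlgebra.ι R)).prod - TensorAlgebra.ι R g) := by
            rw [hl', hl12, List.map_append, List.map_append, List.prod_append, List.prod_append]
            simp only [List.map_cons, List.map_nil, List.prod_cons, List.prod_nil, mul_one]
            rw [mul_sub]
          have h3 : (l.map (TensorAlgebra.ι R)).prod - (l'.map (TensorAlgebra.ι R)).prod ∈ J := by
            rw [h2]
            apply Ideal.mul_mem_left
            exact Ideal.subset_span (list_sub_mem hrk hu hχ hχp l₂ hlen₂ g rfl)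
          have h4 := Submodule.add_mem _ h3 h1
          rwa [sub_add_sub_cancel] at h4
  -- conclude by linearity
  have hall : ∀ x : TensorAlgebra R (OortTate.eigenAug R A p χ 1),
      x - S (Φ x) ∈ J := by
    intro x
    have hx : x ∈ (⊤ : Submodule R (TensorAlgebra R (OortTate.eigenAug R A p χ 1))) := trivial
    rw [← span_monomials_eq_top] at hx
    induction hx using Submodule.span_induction with
    | mem y hy =>
      obtain ⟨l, rfl⟩ := hy
      rw [hΦ, lift_listProd hrk hu hχ hχp]
      exact main l.length l rfl
    | zero => simp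
    | add a b _ _ ha hb =>
      have : a + b - S (Φ (a + b)) = (a - S (Φ a)) + (b - S (Φ b)) := by
        rw [map_add, map_add]; abel
      rw [this]
      exact Submodule.add_mem _ ha hb
    | smul r a _ ha =>
      have h1 : r • a - S (Φ (r • a)) = algebraMap R _ r * (a - S (Φ a)) := by
        rw [map_smul, map_smul, Algebra.smul_def, Algebra.smul_def, mul_sub]
      rw [h1]
      exact Ideal.mul_mem_left _ _ ha
  intro x hx
  have h1 := hall x
  rw [RingHom.mem_ker] at hx
  have hx' : Φ x = 0 := hx
  rwa [hx', map_zero, sub_zero] at h1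

omit hrk hu hχ hχp in
theorem span_le_ker_lift :
    Ideal.span {x : TensorAlgebra R (OortTate.eigenAug R A p χ 1) |
          ∃ (f : Fin p → OortTate.eigenAug R A p χ 1) (g : OortTate.eigenAug R A p χ 1),
            (g : A) = ∏ i, (f i : A) ∧
            x = (List.ofFn fun i => TensorAlgebra.ι R (f i)).prod - TensorAlgebra.ι R g} ≤
      RingHom.ker (TensorAlgebra.lift R (OortTate.eigenAug R A p χ 1).subtype) := by
  rw [Ideal.span_le]
  rintro x ⟨f, g, hg, rfl⟩
  rw [SetLike.mem_coe, RingHom.mem_ker, map_sub, TensorAlgebra.lift_ι_apply, map_list_prod,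
    List.map_ofFn]
  have h1 : ((TensorAlgebra.lift R (OortTate.eigenAug R A p χ 1).subtype) ∘
      fun i => TensorAlgebra.ι R (f i)) = fun i => (f i : A) := by
    funext i
    simp
  rw [h1, List.prod_ofFn, ← hg]
  exact sub_self _

theorem lift_surjective :
    Function.Surjective (TensorAlgebra.lift R (OortTate.eigenAug R A p χ 1).subtype) := by
  have hp := convPow_id_eq_one hrk
  have hp1 : 1 ≤ p - 1 := by
    have := (Fact.out : p.Prime).two_le
    omega
  set Φ := TensorAlgebra.lift R (OortTate.eigenAug R A p χ 1).subtype with hΦ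
  have h1 : OortTate.eigenAug R A p χ 1 ≤ Subalgebra.toSubmodule Φ.range := by
    intro y hy
    exact ⟨TensorAlgebra.ι R ⟨y, hy⟩, TensorAlgebra.lift_ι_apply _ _⟩
  have hpow : ∀ n : ℕ, (OortTate.eigenAug R A p χ 1) ^ n ≤ Subalgebra.toSubmodule Φ.range := by
    intro n
    induction n with
    | zero =>
      rw [pow_zero, Submodule.one_le]
      exact Subalgebra.one_mem _
    | succ n ih =>
      rw [pow_succ]
      exact Submodule.mul_le.mpr fun a ha b hb => Subalgebra.mul_mem _ (ih ha) (h1 hb)
  have key : ∀ t : ℕ, 1 ≤ t → t ≤ p - 1 →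
      OortTate.eigenAug R A p χ t ≤ Subalgebra.toSubmodule Φ.range :=
    fun t ht1 htp => (eigenAug_le_pow hrk hu hχ hχp t ht1 htp).trans (hpow t)
  have key' : ∀ i : Fin (p - 1),
      OortTate.eigenAug R A p χ (i : ℕ) ≤ Subalgebra.toSubmodule Φ.range := by
    intro i
    by_cases hi : (i : ℕ) = 0
    · have h2 : OortTate.eigenAug R A p χ (i : ℕ) = OortTate.eigenAug R A p χ (p - 1) := by
        apply eigenAug_congr hp
        rw [hi]
        simp
      rw [h2]
      exact key (p - 1) hp1 le_rfl
    · exact key (i : ℕ) (Nat.one_le_iff_ne_zero.mpr hi) (by have := i.2; omega)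
  intro a
  have h2 : a - algebraMap R A (Bialgebra.counitAlgHom R A a) ∈
      LinearMap.ker (Bialgebra.counitAlgHom R A).toLinearMap := by
    rw [LinearMap.mem_ker]
    show Bialgebra.counitAlgHom R A (a - algebraMap R A (Bialgebra.counitAlgHom R A a)) = 0
    rw [map_sub, AlgHom.commutes]
    exact sub_self _
  rw [← iSup_eigenAug hp hu hχ] at h2
  have h3 : a - algebraMap R A (Bialgebra.counitAlgHom R A a) ∈
      Subalgebra.toSubmodule Φ.range := (iSup_le key') h2
  have h4 := Subalgebra.add_mem _ h3
    (Subalgebra.algebraMap_mem Φ.range (Bialgebra.counitAlgHom R A a))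
  rw [sub_add_cancel] at h4
  exact h4

end TA

end Groth.Agent.Lib.Helper16.OT
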