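import Groth.Agent.Lib.Helper16.OTTensorAlg
import Mathlib

/-!
# The universal constants `w_i` and the convolution powers of the projector `e_1`
(helper16; Oort–Tate)
-/

set_option autoImplicit false

namespace Groth.Agent.Lib.Helper16.OT

open WithConv TensorProduct CartDual Module

universe u

section W

variable {R : Type u} [CommRing R] {A : Type u} [CommRing A] [HopfAlgebra R A]
  [Coalgebra.IsCocomm R A] [Module.Finite R A] [Module.Projective R A]
  {p : ℕ} [Fact p.Prime]

/-- Linear-level convolution powers of the identity are the power maps. -/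
theorem linConvPow_id (n : ℕ) :
    (toConv (LinearMap.id : A →ₗ[R] A)) ^ n = toConv (SGA3b.powConv R A n).toLinearMap := by
  induction n with
  | zero =>
    rw [pow_zero, powConv_zero]
    rfl
  | succ n ih =>
    have h2 : (SGA3b.powConv R A (n + 1)).toLinearMap =
        (toConv (SGA3b.powConv R A n).toLinearMap * toConv (LinearMap.id)).ofConv := by
      rw [powConv_def, pow_succ]
      rfl
    rw [pow_succ, ih, h2, toConv_ofConv]

theorem linConvPow_id_prime (hp : (toConv (AlgHom.id R A)) ^ p = 1) :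
    (toConv (LinearMap.id : A →ₗ[R] A)) ^ p = 1 := by
  rw [linConvPow_id, powConv_def, hp]
  rfl

/-- The monoid homomorphism `ℤ/p → W`, `z ↦ t ^ z` for `t ^ p = 1`. -/
noncomputable def powHom {W : Type*} [Monoid W] (t : W) (ht : t ^ p = 1) :
    Multiplicative (ZMod p) →* W where
  toFun g := t ^ (Multiplicative.toAdd g).val
  map_one' := by
    show t ^ (0 : ZMod p).val = 1
    rw [ZMod.val_zero, pow_zero]
  map_mul' g h := by
    show t ^ (Multiplicative.toAdd g + Multiplicative.toAdd h).val = _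
    rw [ZMod.val_add, ← pow_add, ← pow_eq_pow_mod _ ht]

/-- The algebra map `R[μ_p] → (End_R A, *)`, `T ↦ id`. -/
noncomputable def phiW (hp : (toConv (AlgHom.id R A)) ^ p = 1) :
    MonoidAlgebra R (Multiplicative (ZMod p)) →ₐ[R] WithConv (A →ₗ[R] A) :=
  MonoidAlgebra.lift R (WithConv (A →ₗ[R] A)) (Multiplicative (ZMod p))
    (powHom (toConv (LinearMap.id : A →ₗ[R] A)) (linConvPow_id_prime hp))

theorem phiW_muT (hp : (toConv (AlgHom.id R A)) ^ p = 1) :
    phiW hp (OortTate.muT R p) = toConv (LinearMap.id : A →ₗ[R] A) := by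
  rw [phiW, OortTate.muT, MonoidAlgebra.lift_of]
  show toConv (LinearMap.id : A →ₗ[R] A) ^ (1 : ZMod p).val = _
  rw [ZMod.val_one, pow_one]

/-- The projector `e_i` of `A` onto `I_i`. -/
noncomputable def eProj (hp : (toConv (AlgHom.id R A)) ^ p = 1) (u : R) (χ : (ZMod p)ˣ →* Rˣ)
    (i : ℕ) : A →ₗ[R] A :=
  (OortTate.eigenAug R A p χ i).subtype ∘ₗ projAug hp u χ i

theorem eProj_apply (hp : (toConv (AlgHom.id R A)) ^ p = 1) (u : R) (χ : (ZMod p)ˣ →* Rˣ)
    (i : ℕ) (a : A) : eProj hp u χ i a = (projAug hp u χ i a : A) := rfl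

theorem phiW_ygen (hp : (toConv (AlgHom.id R A)) ^ p = 1) (u : R) (χ : (ZMod p)ˣ →* Rˣ) (i : ℕ) :
    phiW hp (OortTate.ygen R p u χ i) = toConv (eProj hp u χ i) := by
  rw [ygen_eq, avg_apply, map_smul, map_sum]
  apply WithConv.ofConv_injective
  apply LinearMap.ext
  intro b
  rw [ofConv_toConv, eProj_apply, projAug_apply, avg_apply, ofConv_smul, LinearMap.smul_apply,
    ofConv_sum, LinearMap.sum_apply]
  congr 1
  apply Finset.sum_congr rfl
  intro m _
  rw [map_smul, rho_muT_sub_one, map_sub, map_pow, map_one, phiW_muT, linConvPow_id, ofConv_smul,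
    LinearMap.smul_apply, ofConv_sub, LinearMap.sub_apply, ofConv_toConv, map_sub, rho_apply,
    rho_apply, AlgHom.commutes]
  rfl

end W

section Const

variable {R : Type u} [CommRing R] {p : ℕ} [Fact p.Prime]

/-- The constants `w_i`: `y_1 ^ i = w_i y_i` in `R[μ_p]`. -/
theorem exists_w {u : R} (hu : u * ((p - 1 : ℕ) : R) = 1) {χ : (ZMod p)ˣ →* Rˣ}
    (hχ : ∀ m : (ZMod p)ˣ, m ≠ 1 → IsUnit ((χ m : R) - 1)) :
    ∃ w : ℕ → R, ∀ i : ℕ, 1 ≤ i →
      OortTate.ygen R p u χ 1 ^ i = w i • OortTate.ygen R p u χ i := by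
  have hp := convPow_id_mu R p
  have key : ∀ i : ℕ, 1 ≤ i → ∃ w : R,
      OortTate.ygen R p u χ 1 ^ i = w • OortTate.ygen R p u χ i := by
    intro i hi
    have h1 : OortTate.ygen R p u χ 1 ^ i ∈
        OortTate.eigenAug R (MonoidAlgebra R (Multiplicative (ZMod p))) p χ i :=
      eigenAug_one_pow_le hp χ i hi (Submodule.pow_mem_pow _ (ygen_mem_eigenAug u χ 1) i)
    obtain ⟨w, hw⟩ := Submodule.mem_span_singleton.mp (eigenAug_mu_le_span hu hχ i h1)
    exact ⟨w, hw.symm⟩
  classical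
  refine ⟨fun i => if hi : 1 ≤ i then Classical.choose (key i hi) else 0, ?_⟩
  intro i hi
  simp only [dif_pos hi]
  exact Classical.choose_spec (key i hi)

end Const

section EPow

variable {R : Type u} [CommRing R] {A : Type u} [CommRing A] [HopfAlgebra R A]
  [Coalgebra.IsCocomm R A] [Module.Finite R A] [Module.Projective R A]
  {p : ℕ} [Fact p.Prime]

theorem eProj_convPow (hp : (toConv (AlgHom.id R A)) ^ p = 1) {u : R} {χ : (ZMod p)ˣ →* Rˣ}
    {w : ℕ → R}
    (hw : ∀ i : ℕ, 1 ≤ i → OortTate.ygen R p u χ 1 ^ i = w i • OortTate.ygen R p u χ i)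
    (i : ℕ) (hi : 1 ≤ i) :
    (toConv (eProj hp u χ 1)) ^ i = w i • toConv (eProj hp u χ i) := by
  rw [← phiW_ygen, ← map_pow, hw i hi, map_smul, phiW_ygen]

end EPow

end Groth.Agent.Lib.Helper16.OT
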