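import Groth.Agent.Lib.Helper16.RestrEnv
import Groth.Agent.Lib.Helper16.FinHopfNilAntipode
import Groth.Agent.Lib.Helper16.FinHopfHeightOne
import Groth.Prelude.Def_CartDual
import Mathlib.RingTheory.Derivation.Lie

/-!
# The dual of the restricted enveloping algebra: the height-one group scheme attached to a
restricted Lie algebra (helper16)
-/

set_option autoImplicit false
set_option linter.unusedSectionVars false

namespace Groth.Agent.Lib.Helper16.UEA

open TensorProduct WithConv Coalgebra

universe u v

section Coder

variable {k : Type u} [Field k] {H : Type v} [Ring H] [Bialgebra k H] [Coalgebra.IsCocomm k H]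

/-- Coderivations of a coalgebra. -/
def IsCoder (T : H →ₗ[k] H) : Prop :=
  comul (R := k) (A := H) ∘ₗ T =
    (LinearMap.rTensor H T + LinearMap.lTensor H T) ∘ₗ comul (R := k) (A := H)

theorem mul'_map_coder (T : H →ₗ[k] H) (f g : H →ₗ[k] k) (t : H ⊗[k] H) :
    LinearMap.mul' k k (TensorProduct.map f g ((LinearMap.rTensor H T + LinearMap.lTensor H T) t)) =
      LinearMap.mul' k k (TensorProduct.map f (g ∘ₗ T) t) +
        LinearMap.mul' k k (TensorProduct.map (f ∘ₗ T) g t) := by
  induction t using TensorProduct.induction_on with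
  | zero => simp
  | add s t hs ht =>
    simp only [map_add, hs, ht]
    ring
  | tmul a b =>
    simp only [LinearMap.add_apply, LinearMap.rTensor_tmul, LinearMap.lTensor_tmul, map_add,
      TensorProduct.map_tmul, LinearMap.mul'_apply, LinearMap.comp_apply]
    ring

/-- The transpose of a coderivation is a derivation of the convolution algebra. -/
noncomputable def coderDer (T : H →ₗ[k] H) (hT : IsCoder T) :
    Derivation k (WithConv (H →ₗ[k] k)) (WithConv (H →ₗ[k] k)) :=
  Derivation.mk'
    { toFun := fun f => toConv (f.ofConv ∘ₗ T)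
      map_add' := by
        intro f g
        apply WithConv.ofConv_injective
        simp [LinearMap.add_comp]
      map_smul' := by
        intro c f
        apply WithConv.ofConv_injective
        simp [LinearMap.smul_comp] }
    (by
      intro f g
      simp only [LinearMap.coe_mk, AddHom.coe_mk, smul_eq_mul]
      rw [mul_comm g]
      apply WithConv.ofConv_injective
      apply LinearMap.ext
      intro v
      simp only [LinearMap.comp_apply, WithConv.ofConv_add,
        LinearMap.add_apply, LinearMap.convMul_apply]
      have h := congrArg (fun F => F v) hT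
      simp only [LinearMap.comp_apply] at h
      rw [h]
      exact mul'_map_coder T f.ofConv g.ofConv _)

@[simp] theorem coderDer_apply (T : H →ₗ[k] H) (hT : IsCoder T) (f : WithConv (H →ₗ[k] k)) (v : H) :
    (coderDer T hT f).ofConv v = f.ofConv (T v) := rfl

theorem isCoder_mulLeft (x : H) (hx : comul (R := k) x = x ⊗ₜ[k] 1 + 1 ⊗ₜ[k] x) :
    IsCoder (LinearMap.mulLeft k x) := by
  apply LinearMap.ext
  intro v
  simp only [LinearMap.comp_apply, LinearMap.mulLeft_apply, Bialgebra.comul_mul, hx]
  generalize comul (R := k) v = t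
  induction t using TensorProduct.induction_on with
  | zero => simp
  | add s t hs ht => simp only [mul_add, map_add, hs, ht]
  | tmul a b =>
    simp [add_mul, Algebra.TensorProduct.tmul_mul_tmul]

theorem isCoder_mulRight (x : H) (hx : comul (R := k) x = x ⊗ₜ[k] 1 + 1 ⊗ₜ[k] x) :
    IsCoder (LinearMap.mulRight k x) := by
  apply LinearMap.ext
  intro v
  simp only [LinearMap.comp_apply, LinearMap.mulRight_apply, Bialgebra.comul_mul, hx]
  generalize comul (R := k) v = t
  induction t using TensorProduct.induction_on with
  | zero => simp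
  | add s t hs ht => simp only [add_mul, map_add, hs, ht]
  | tmul a b =>
    simp [mul_add, Algebra.TensorProduct.tmul_mul_tmul]

end Coder

section Dual

variable {k : Type u} [Field k] (p : ℕ) [Fact p.Prime] [CharP k p]
  {L : Type v} [LieRing L] [LieAlgebra k L] (φ : PLie.PMap k p L)
  {n : ℕ} (b : Module.Basis (Fin n) k L) [Module.Finite k (RestrEnv p φ)]

/-- The coordinate ring of the height-one group attached to `(L, φ)`. -/
abbrev DualR : Type (max u v) := CartDual.D k (RestrEnv p φ)

theorem counit_dualR (f : DualR p φ) :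
    Bialgebra.counitAlgHom k (DualR p φ) f = f.ofConv 1 := rfl

include b in
/-- The Frobenius kills the augmentation ideal of the dual. -/
theorem pow_p_eq_zero (f : DualR p φ) (hf : Bialgebra.counitAlgHom k (DualR p φ) f = 0) :
    f ^ p = 0 := by
  apply WithConv.ofConv_injective
  refine linearMap_eq_zero p φ b (f ^ p).ofConv ?_ ?_
  · rw [← counit_dualR, map_pow, hf, zero_pow (Fact.out : p.Prime).ne_zero]
  · intro x v
    have h1 := coderDer_apply (LinearMap.mulLeft k (uι p φ x))
      (isCoder_mulLeft _ (comul_uι p φ x)) (f ^ p) v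
    rw [LinearMap.mulLeft_apply] at h1
    rw [← h1, Derivation.leibniz_pow]
    have h2 : (p : k) = 0 := CharP.cast_eq_zero k p
    rw [← Nat.cast_smul_eq_nsmul k p, h2, zero_smul]
    rfl

include b in
theorem isNilpotent_ker_counit_dualR :
    IsNilpotent (RingHom.ker (Bialgebra.counitAlgHom k (DualR p φ))) := by
  have : IsNoetherianRing (DualR p φ) :=
    isNoetherian_of_tower k (inferInstance : IsNoetherian k (DualR p φ))
  rw [Ideal.FG.isNilpotent_iff_le_nilradical (IsNoetherian.noetherian _)]
  intro f hf
  exact ⟨p, pow_p_eq_zero p φ b f hf⟩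

/-- The derivation of the dual attached to `x ∈ L` (transpose of right multiplication). -/
noncomputable def derOf : L →ₗ[k] Derivation k (DualR p φ) (DualR p φ) where
  toFun x := coderDer (LinearMap.mulRight k (uι p φ x)) (isCoder_mulRight _ (comul_uι p φ x))
  map_add' := by
    intro x y
    apply Derivation.ext
    intro f
    apply WithConv.ofConv_injective
    apply LinearMap.ext
    intro v
    simp [mul_add]
  map_smul' := by
    intro c x
    apply Derivation.ext
    intro f
    apply WithConv.ofConv_injective
    apply LinearMap.ext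
    intro v
    simp

@[simp] theorem derOf_apply (x : L) (f : DualR p φ) (v : RestrEnv p φ) :
    (derOf p φ x f).ofConv v = f.ofConv (v * uι p φ x) := rfl

theorem derOf_injective (hinj : Function.Injective (uι p φ)) :
    Function.Injective (derOf p φ) := by
  rw [injective_iff_map_eq_zero]
  intro x hx
  apply hinj
  rw [map_zero, ← Module.forall_dual_apply_eq_zero_iff k]
  intro g
  have h1 := derOf_apply p φ x (toConv g) 1
  rw [hx, one_mul] at h1
  exact h1.symm

theorem ev₂_lTensor_coderDer (T : RestrEnv p φ →ₗ[k] RestrEnv p φ) (hT : IsCoder T)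
    (y : DualR p φ ⊗[k] DualR p φ) (v w : RestrEnv p φ) :
    CartDual.ev₂ k (RestrEnv p φ)
      (LinearMap.lTensor (DualR p φ) (coderDer T hT).toLinearMap y) (v ⊗ₜ[k] w) =
      CartDual.ev₂ k (RestrEnv p φ) y (v ⊗ₜ[k] T w) := by
  induction y using TensorProduct.induction_on with
  | zero => simp
  | add y z hy hz => simp only [map_add, LinearMap.add_apply, hy, hz]
  | tmul g h =>
    rw [LinearMap.lTensor_tmul, CartDual.ev₂_tmul, CartDual.ev₂_tmul]
    rfl

/-- The derivations `derOf x` are left-invariant. -/
theorem derOf_invariant (x : L) :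
    comul (R := k) (A := DualR p φ) ∘ₗ (derOf p φ x).toLinearMap =
      LinearMap.lTensor (DualR p φ) (derOf p φ x).toLinearMap ∘ₗ
        comul (R := k) (A := DualR p φ) := by
  apply LinearMap.ext
  intro f
  apply (CartDual.ev₂ k (RestrEnv p φ)).injective
  apply TensorProduct.ext'
  intro v w
  have h1 : CartDual.ev₂ k (RestrEnv p φ)
      (LinearMap.lTensor (DualR p φ) (derOf p φ x).toLinearMap (comul (R := k) f)) (v ⊗ₜ[k] w) =
      CartDual.ev₂ k (RestrEnv p φ) (comul (R := k) f)
        (v ⊗ₜ[k] (LinearMap.mulRight k (uι p φ x)) w) :=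
    ev₂_lTensor_coderDer p φ _ (isCoder_mulRight _ (comul_uι p φ x)) _ v w
  change CartDual.ev₂ k (RestrEnv p φ) (comul (R := k) ((derOf p φ x) f)) (v ⊗ₜ[k] w) =
    CartDual.ev₂ k (RestrEnv p φ)
      (LinearMap.lTensor (DualR p φ) (derOf p φ x).toLinearMap (comul (R := k) f)) (v ⊗ₜ[k] w)
  rw [h1, CartDual.ev₂_coalgebra_comul_tmul, CartDual.ev₂_coalgebra_comul_tmul,
    LinearMap.mulRight_apply, ← mul_assoc]
  rfl

theorem derOf_lie (x y : L) : derOf p φ ⁅x, y⁆ = ⁅derOf p φ x, derOf p φ y⁆ := by
  apply Derivation.ext
  intro f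
  rw [Derivation.commutator_apply]
  apply WithConv.ofConv_injective
  apply LinearMap.ext
  intro v
  rw [WithConv.ofConv_sub, LinearMap.sub_apply, derOf_apply, derOf_apply, derOf_apply,
    derOf_apply, derOf_apply, uι_lie, mul_sub, map_sub, mul_assoc, mul_assoc]

theorem derOf_pow_apply (x : L) (m : ℕ) (f : DualR p φ) (v : RestrEnv p φ) :
    (((derOf p φ x).toLinearMap ^ m) f).ofConv v = f.ofConv (v * uι p φ x ^ m) := by
  induction m generalizing f v with
  | zero => simp
  | succ m ih =>
    rw [pow_succ, Module.End.mul_apply, ih, pow_succ, ← mul_assoc]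
    rfl

theorem derOf_pmap (x : L) :
    (derOf p φ (φ x)).toLinearMap = (derOf p φ x).toLinearMap ^ p := by
  apply LinearMap.ext
  intro f
  apply WithConv.ofConv_injective
  apply LinearMap.ext
  intro v
  rw [derOf_pow_apply, ← uι_pmap]
  rfl

end Dual

section Main

/-- A finite-dimensional restricted Lie algebra (with a faithful restricted representation)
is the Lie algebra of a height-one group scheme. -/
theorem exists_heightOne_group (k : Type u) [Field k] (p : ℕ) [Fact p.Prime] [CharP k p]
    (L : Type u) [LieRing L] [LieAlgebra k L] [Module.Finite k L] (φ : PLie.PMap k p L)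
    {B : Type u} [Ring B] [Algebra k B] (e₀ : L →ₗ[k] B) (he₀ : PLie.IsPSubOfAssoc φ e₀) :
    ∃ (A : Type u) (_ : CommRing A) (_ : HopfAlgebra k A), Module.Finite k A ∧
      (∀ f : A, Bialgebra.counitAlgHom k A f = 0 → f ^ p = 0) ∧
      ∃ e : L →ₗ[k] Derivation k A A, Function.Injective e ∧
        Set.range e = {D : Derivation k A A |
          CoalgebraStruct.comul (R := k) (A := A) ∘ₗ D.toLinearMap =
          LinearMap.lTensor A D.toLinearMap ∘ₗ CoalgebraStruct.comul (R := k) (A := A)} ∧
        (∀ x y : L, e ⁅x, y⁆ = ⁅e x, e y⁆) ∧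
        (∀ x : L, (e (φ x)).toLinearMap = (e x).toLinearMap ^ p) := by
  classical
  let b := Module.finBasis k L
  have : Module.Finite k (RestrEnv p φ) := finite_restrEnv p φ b
  have hnil := isNilpotent_ker_counit_dualR p φ b
  have hinj : Function.Injective (derOf p φ) :=
    derOf_injective p φ (uι_injective_of p φ e₀ he₀)
  refine ⟨DualR p φ, inferInstance, FinHopf.hopfOfNilpotent hnil, inferInstance, ?_,
    derOf p φ, hinj, ?_, ?_, ?_⟩
  · exact pow_p_eq_zero p φ b
  · apply Set.Subset.antisymm
    · rintro _ ⟨x, rfl⟩
      exact derOf_invariant p φ x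
    · intro D hD
      obtain ⟨x, hx, -, hfr⟩ := FinHopf.bialgebra_exists_gens_finrank_eq_pow p (DualR p φ)
        (pow_p_eq_zero p φ b)
      obtain ⟨hfin, hle⟩ := FinHopf.finrank_invDerSubmodule_le x hx
      let e' : L →ₗ[k] FinHopf.invDerSubmodule k (DualR p φ) :=
        LinearMap.codRestrict _ (derOf p φ) (fun x => derOf_invariant p φ x)
      have he' : Function.Injective e' := by
        intro x y hxy
        apply hinj
        exact congrArg Subtype.val hxy
      have h1 := LinearMap.finrank_le_finrank_of_injective he'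
      have h2 : Module.finrank k (DualR p φ) = Module.finrank k (RestrEnv p φ) := by
        rw [(CartDual.toDual k (RestrEnv p φ)).finrank_eq, Subspace.dual_finrank_eq]
      have h3 := finrank_restrEnv_le p φ b
      rw [← h2, hfr] at h3
      have h4 := (Nat.pow_le_pow_iff_right (Fact.out : p.Prime).one_lt).1 h3
      have h5 : Module.finrank k L = Module.finrank k (FinHopf.invDerSubmodule k (DualR p φ)) :=
        le_antisymm h1 (hle.trans h4)
      have hsurj := (LinearMap.injective_iff_surjective_of_finrank_eq_finrank h5).1 he'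
      obtain ⟨y, hy⟩ := hsurj ⟨D, hD⟩
      exact ⟨y, congrArg Subtype.val hy⟩
  · exact derOf_lie p φ
  · exact derOf_pmap p φ

end Main

end Groth.Agent.Lib.Helper16.UEA
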