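import Groth.Agent.Lib.Helper16.UEABialgebra
import Groth.Agent.Lib.Helper26.PBW
import Groth.Prelude.Def_PLie
import Mathlib.RingTheory.Bialgebra.Quotient
import Mathlib.RingTheory.TwoSidedIdeal.Operations
import Mathlib.RingTheory.TwoSidedIdeal.Kernel

/-!
# The restricted enveloping algebra `u(L) = U(L)/(x^p - x^[p])` as a cocommutative bialgebra
(helper16)
-/

set_option autoImplicit false
set_option linter.unusedSectionVars false

namespace Groth.Agent.Lib.Helper16.UEA

open TensorProduct UniversalEnvelopingAlgebra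

universe u v w

attribute [local instance 100] LieRing.ofAssociativeRing

section Def

variable {k : Type u} [Field k] (p : ℕ) [Fact p.Prime] [CharP k p]
  {L : Type v} [LieRing L] [LieAlgebra k L] (φ : PLie.PMap k p L)

/-- The relations `x^p - x^[p]`. -/
def relSet : Set (UniversalEnvelopingAlgebra k L) :=
  Set.range (fun x : L => ι k x ^ p - ι k (φ x))

/-- The two-sided ideal generated by the relations `x^p - x^[p]`. -/
def relIdeal : Ideal (UniversalEnvelopingAlgebra k L) :=
  (TwoSidedIdeal.span (relSet p φ)).asIdeal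

instance : (relIdeal p φ).IsTwoSided := by
  unfold relIdeal
  infer_instance

theorem rel_mem (x : L) : ι k x ^ p - ι k (φ x) ∈ relIdeal p φ := by
  unfold relIdeal
  rw [TwoSidedIdeal.mem_asIdeal]
  exact TwoSidedIdeal.subset_span ⟨x, rfl⟩

/-- A ring homomorphism killing the relations kills the ideal. -/
theorem eq_zero_of_mem_relIdeal {S : Type w} [Ring S] (f : UniversalEnvelopingAlgebra k L →+* S)
    (hf : ∀ x : L, f (ι k x ^ p - ι k (φ x)) = 0) {a : UniversalEnvelopingAlgebra k L}
    (ha : a ∈ relIdeal p φ) : f a = 0 := by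
  unfold relIdeal at ha
  rw [TwoSidedIdeal.mem_asIdeal, TwoSidedIdeal.mem_span_iff] at ha
  have := ha (TwoSidedIdeal.ker f) (by
    rintro _ ⟨x, rfl⟩
    exact (TwoSidedIdeal.mem_ker f).2 (hf x))
  exact (TwoSidedIdeal.mem_ker f).1 this

/-- `x^p - x^[p]` is primitive. -/
theorem comul_rel (x : L) :
    Coalgebra.comul (R := k) (ι k x ^ p - ι k (φ x)) =
      (ι k x ^ p - ι k (φ x)) ⊗ₜ[k] 1 + 1 ⊗ₜ[k] (ι k x ^ p - ι k (φ x)) := by
  have : Nontrivial (UniversalEnvelopingAlgebra k L ⊗[k] UniversalEnvelopingAlgebra k L) := by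
    let g : UniversalEnvelopingAlgebra k L ⊗[k] UniversalEnvelopingAlgebra k L →ₐ[k] k :=
      Algebra.TensorProduct.lift (counitAlgHom k L) (counitAlgHom k L) (fun _ _ => Commute.all _ _)
    exact RingHom.domain_nontrivial g.toRingHom
  have : CharP (UniversalEnvelopingAlgebra k L ⊗[k] UniversalEnvelopingAlgebra k L) p :=
    charP_of_injective_algebraMap (algebraMap k _).injective p
  have hc : Commute (ι k x ⊗ₜ[k] (1 : UniversalEnvelopingAlgebra k L))
      ((1 : UniversalEnvelopingAlgebra k L) ⊗ₜ[k] ι k x) := by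
    rw [Commute, SemiconjBy, Algebra.TensorProduct.tmul_mul_tmul,
      Algebra.TensorProduct.tmul_mul_tmul, mul_one, one_mul]
  have h1 : Coalgebra.comul (R := k) (ι k x ^ p) =
      (ι k x ^ p) ⊗ₜ[k] 1 + 1 ⊗ₜ[k] (ι k x ^ p) := by
    have := map_pow (Bialgebra.comulAlgHom k (UniversalEnvelopingAlgebra k L)) (ι k x) p
    rw [Bialgebra.comulAlgHom_apply, Bialgebra.comulAlgHom_apply, comul_ι,
      add_pow_char_of_commute _ hc, Algebra.TensorProduct.tmul_pow,
      Algebra.TensorProduct.tmul_pow, one_pow] at this
    exact this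
  rw [map_sub, h1, comul_ι, TensorProduct.sub_tmul, TensorProduct.tmul_sub]
  abel

theorem counit_rel (x : L) : Coalgebra.counit (R := k) (ι k x ^ p - ι k (φ x)) = 0 := by
  have h1 : Coalgebra.counit (R := k) (ι k x ^ p) = 0 := by
    have := map_pow (Bialgebra.counitAlgHom k (UniversalEnvelopingAlgebra k L)) (ι k x) p
    rw [Bialgebra.counitAlgHom_apply, Bialgebra.counitAlgHom_apply, counit_ι,
      zero_pow (Fact.out : p.Prime).ne_zero] at this
    exact this
  rw [map_sub, h1, counit_ι, sub_zero]

instance instIsCoideal : ((relIdeal p φ).restrictScalars k).IsCoideal where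
  counit_eq_zero := by
    intro a ha
    exact eq_zero_of_mem_relIdeal p φ
      (Bialgebra.counitAlgHom k (UniversalEnvelopingAlgebra k L)).toRingHom
      (fun x => counit_rel p φ x) ha
  map_mkQ_comul_eq_zero := by
    intro a ha
    let F : UniversalEnvelopingAlgebra k L →ₐ[k] (UniversalEnvelopingAlgebra k L ⧸ relIdeal p φ) ⊗[k]
        (UniversalEnvelopingAlgebra k L ⧸ relIdeal p φ) :=
      (Algebra.TensorProduct.map (Ideal.Quotient.mkₐ k (relIdeal p φ))
        (Ideal.Quotient.mkₐ k (relIdeal p φ))).comp
        (Bialgebra.comulAlgHom k (UniversalEnvelopingAlgebra k L))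
    have hF : ∀ x : L, F (ι k x ^ p - ι k (φ x)) = 0 := by
      intro x
      have h0 : Ideal.Quotient.mkₐ k (relIdeal p φ) (ι k x ^ p - ι k (φ x)) = 0 :=
        Ideal.Quotient.eq_zero_iff_mem.2 (rel_mem p φ x)
      change Algebra.TensorProduct.map (Ideal.Quotient.mkₐ k (relIdeal p φ))
        (Ideal.Quotient.mkₐ k (relIdeal p φ)) (Coalgebra.comul (R := k) _) = 0
      rw [comul_rel, map_add, Algebra.TensorProduct.map_tmul, Algebra.TensorProduct.map_tmul, h0,
        TensorProduct.zero_tmul, TensorProduct.tmul_zero, add_zero]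
    exact eq_zero_of_mem_relIdeal p φ F.toRingHom hF ha

/-- The restricted enveloping algebra. -/
abbrev RestrEnv : Type (max u v) := UniversalEnvelopingAlgebra k L ⧸ relIdeal p φ

/-- The quotient map. -/
noncomputable abbrev mkR : UniversalEnvelopingAlgebra k L →ₐ[k] RestrEnv p φ :=
  Ideal.Quotient.mkₐ k (relIdeal p φ)

/-- `L → u(L)`. -/
noncomputable def uι : L →ₗ[k] RestrEnv p φ :=
  (mkR p φ).toLinearMap ∘ₗ (ι k : L →ₗ⁅k⁆ UniversalEnvelopingAlgebra k L).toLinearMap

theorem uι_apply (x : L) : uι p φ x = mkR p φ (ι k x) := rfl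

theorem uι_lie (x y : L) : uι p φ ⁅x, y⁆ = uι p φ x * uι p φ y - uι p φ y * uι p φ x := by
  simp only [uι_apply, LieHom.map_lie, LieRing.of_associative_ring_bracket, map_sub, map_mul]

theorem uι_pmap (x : L) : uι p φ (φ x) = uι p φ x ^ p := by
  have h0 : mkR p φ (ι k x ^ p - ι k (φ x)) = 0 :=
    Ideal.Quotient.eq_zero_iff_mem.2 (rel_mem p φ x)
  rw [map_sub, sub_eq_zero, map_pow] at h0
  exact h0.symm

theorem comul_uι (x : L) :
    Coalgebra.comul (R := k) (uι p φ x) = uι p φ x ⊗ₜ[k] 1 + 1 ⊗ₜ[k] uι p φ x := by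
  change Coalgebra.comul (R := k) (Ideal.Quotient.mk (relIdeal p φ) (ι k x)) = _
  rw [Bialgebra.Quotient.comul_mk, comul_ι, map_add, TensorProduct.map_tmul,
    TensorProduct.map_tmul]
  simp only [AlgHom.toLinearMap_apply, map_one]
  rfl

theorem counit_uι (x : L) : Coalgebra.counit (R := k) (uι p φ x) = 0 := by
  change Coalgebra.counit (R := k) (Ideal.Quotient.mk (relIdeal p φ) (ι k x)) = _
  rw [Bialgebra.Quotient.counit_mk, counit_ι]

instance instIsCocommRestr : Coalgebra.IsCocomm k (RestrEnv p φ) where
  comm_comp_comul := by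
    apply LinearMap.ext
    intro a
    obtain ⟨a, rfl⟩ := Ideal.Quotient.mk_surjective a
    rw [LinearMap.comp_apply, Bialgebra.Quotient.comul_mk]
    have h := Coalgebra.comm_comul k a
    conv_rhs => rw [← h]
    generalize Coalgebra.comul (R := k) a = t
    induction t using TensorProduct.induction_on with
    | zero => simp
    | add s t hs ht => simp only [map_add, hs, ht]
    | tmul s t => simp

/-- `L → u(L)` is injective as soon as `L` has a faithful restricted representation. -/
theorem uι_injective_of {A : Type w} [Ring A] [Algebra k A] (e : L →ₗ[k] A)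
    (he : PLie.IsPSubOfAssoc φ e) : Function.Injective (uι p φ) := by
  obtain ⟨hinj, hlie, hp⟩ := he
  let eL : L →ₗ⁅k⁆ A :=
    { toLinearMap := e
      map_lie' := by
        intro x y
        simp only [AddHom.toFun_eq_coe, LinearMap.coe_toAddHom, hlie,
          LieRing.of_associative_ring_bracket] }
  let E : UniversalEnvelopingAlgebra k L →ₐ[k] A := lift k eL
  have hE : ∀ x : L, E (ι k x) = e x := fun x => lift_ι_apply k eL x
  rw [← LinearMap.ker_eq_bot, LinearMap.ker_eq_bot']
  intro x hx
  have hmem : ι k x ∈ relIdeal p φ := Ideal.Quotient.eq_zero_iff_mem.1 hx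
  have h0 := eq_zero_of_mem_relIdeal p φ E.toRingHom (by
    intro y
    change E (ι k y ^ p - ι k (φ y)) = 0
    rw [map_sub, map_pow, hE, hE, hp, sub_self]) hmem
  change E (ι k x) = 0 at h0
  rw [hE] at h0
  exact hinj (by rw [h0, map_zero])

end Def

section Span

open Groth.Agent.Lib.Helper26.PBW

variable {k : Type u} [Field k] (p : ℕ) [Fact p.Prime] [CharP k p]
  {L : Type v} [LieRing L] [LieAlgebra k L] (φ : PLie.PMap k p L)
  {n : ℕ} (b : Module.Basis (Fin n) k L)

/-- The list with `a i` copies of `i`, in increasing order. -/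
def listOf (a : Fin n → Fin p) : List (Fin n) :=
  (List.finRange n).flatMap (fun i => List.replicate (a i) i)

theorem count_listOf (a : Fin n → Fin p) (i : Fin n) : (listOf p a).count i = a i := by
  unfold listOf
  rw [List.count_flatMap]
  have : ∀ j : Fin n, List.count i (List.replicate (a j) j) = if j = i then (a j : ℕ) else 0 := by
    intro j
    rw [List.count_replicate]
    by_cases h : j = i
    · simp [h]
    · simp [h]
  simp only [Function.comp_def, this]
  rw [← Fin.sum_univ_def]
  simp

/-- Monomials in `u(L)`. -/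
noncomputable def umon (l : List (Fin n)) : RestrEnv p φ := mkR p φ (mon b l)

/-- The span of the restricted monomials. -/
noncomputable def restrSpan : Submodule k (RestrEnv p φ) :=
  Submodule.span k (Set.range (fun a : Fin n → Fin p => umon p φ b (listOf p a)))

theorem mon_replicate (i : Fin n) (m : ℕ) : mon b (List.replicate m i) = ι k (b i) ^ m := by
  simp [mon]

theorem map_Mlt_le (d : ℕ) : (Mlt b d).map (mkR p φ).toLinearMap ≤ restrSpan p φ b := by
  induction d with
  | zero =>
    unfold Mlt
    simp
  | succ d ih =>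
    have ih' : ∀ w ∈ Mlt b d, mkR p φ w ∈ restrSpan p φ b := fun w hw =>
      ih (Submodule.mem_map_of_mem hw)
    rw [Submodule.map_le_iff_le_comap]
    unfold Mlt
    rw [Submodule.span_le]
    rintro _ ⟨l, hl, rfl⟩
    have hl' : l.length ≤ d := Nat.lt_succ_iff.mp hl
    change mkR p φ (mon b l) ∈ restrSpan p φ b
    by_cases hc : ∃ i, p ≤ l.count i
    · obtain ⟨i, hi⟩ := hc
      -- `l` is a permutation of `replicate p i ++ l'`
      have hle : Multiset.replicate p i ≤ (l : Multiset (Fin n)) := by
        rw [← Multiset.le_count_iff_replicate_le]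
        simpa using hi
      obtain ⟨t, ht⟩ := Multiset.le_iff_exists_add.1 hle
      obtain ⟨l', rfl⟩ := Quot.exists_rep t
      have hperm : l.Perm (List.replicate p i ++ l') := by
        rw [← Multiset.coe_eq_coe, ht]
        rfl
      have hlen : l.length = p + l'.length := by
        rw [hperm.length_eq]
        simp
      have h1 := perm_sub_mem b hperm
      have h2 : mkR p φ (mon b l - mon b (List.replicate p i ++ l')) ∈ restrSpan p φ b :=
        ih' _ (Mlt_mono b hl' h1)
      have h3 : mkR p φ (mon b (List.replicate p i ++ l')) ∈ restrSpan p φ b := by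
        rw [mon_append, mon_replicate, map_mul, map_pow]
        have : mkR p φ (ι k (b i)) ^ p = mkR p φ (ι k (φ (b i))) := (uι_pmap p φ (b i)).symm
        rw [this, ← map_mul]
        apply ih'
        have hp2 : 2 ≤ p := (Fact.out : p.Prime).two_le
        exact Mlt_mono b (by omega) (ι_mul_mon_mem b (φ (b i)) l')
      have := Submodule.add_mem _ h2 h3
      rwa [← map_add, sub_add_cancel] at this
    · push Not at hc
      let a : Fin n → Fin p := fun i => ⟨l.count i, hc i⟩
      have hperm : l.Perm (listOf p a) := by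
        rw [List.perm_iff_count]
        intro i
        rw [count_listOf]
      have h1 := perm_sub_mem b hperm
      have h2 : mkR p φ (mon b l - mon b (listOf p a)) ∈ restrSpan p φ b :=
        ih' _ (Mlt_mono b hl' h1)
      have h3 : mkR p φ (mon b (listOf p a)) ∈ restrSpan p φ b :=
        Submodule.subset_span ⟨a, rfl⟩
      have := Submodule.add_mem _ h2 h3
      rwa [← map_add, sub_add_cancel] at this

theorem span_umon_eq_top :
    Submodule.span k (Set.range (fun l : List (Fin n) => umon p φ b l)) = ⊤ := by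
  have h := span_mon_eq_top b
  have h2 : (⊤ : Submodule k (UniversalEnvelopingAlgebra k L)).map (mkR p φ).toLinearMap = ⊤ := by
    rw [Submodule.map_top, LinearMap.range_eq_top]
    exact Ideal.Quotient.mk_surjective
  rw [← h2, ← h, Submodule.map_span, ← Set.range_comp]
  rfl

theorem restrSpan_eq_top : restrSpan p φ b = ⊤ := by
  rw [eq_top_iff, ← span_umon_eq_top p φ b, Submodule.span_le]
  rintro _ ⟨l, rfl⟩
  exact map_Mlt_le p φ b (l.length + 1)
    (Submodule.mem_map_of_mem (mon_mem_Mlt b (Nat.lt_succ_self _)))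

include b in
theorem finite_restrEnv : Module.Finite k (RestrEnv p φ) := by
  rw [Module.finite_def, ← restrSpan_eq_top p φ b]
  exact Submodule.fg_span (Set.finite_range _)

include b in
theorem finrank_restrEnv_le : Module.finrank k (RestrEnv p φ) ≤ p ^ n := by
  have h1 := finrank_range_le_card (R := k) (fun a : Fin n → Fin p => umon p φ b (listOf p a))
  have h2 : Set.finrank k (Set.range (fun a : Fin n → Fin p => umon p φ b (listOf p a))) =
      Module.finrank k (RestrEnv p φ) := by
    unfold Set.finrank
    have := restrSpan_eq_top p φ b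
    unfold restrSpan at this
    rw [this, finrank_top]
  rw [h2] at h1
  simpa using h1

theorem umon_nil : umon p φ b [] = 1 := by
  rw [umon, mon_nil, map_one]

theorem umon_cons (i : Fin n) (l : List (Fin n)) :
    umon p φ b (i :: l) = uι p φ (b i) * umon p φ b l := by
  rw [umon, mon_cons, map_mul]
  rfl

include b in
/-- A linear form vanishing at `1` and on `L · u(L)` vanishes. -/
theorem linearMap_eq_zero {M : Type*} [AddCommGroup M] [Module k M]
    (ψ : RestrEnv p φ →ₗ[k] M) (h1 : ψ 1 = 0)
    (h2 : ∀ (x : L) (v : RestrEnv p φ), ψ (uι p φ x * v) = 0) : ψ = 0 := by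
  have : Submodule.span k (Set.range (fun l : List (Fin n) => umon p φ b l)) ≤ LinearMap.ker ψ := by
    rw [Submodule.span_le]
    rintro _ ⟨l, rfl⟩
    cases l with
    | nil => simpa [umon_nil] using h1
    | cons i l => simpa [umon_cons] using h2 (b i) _
  rw [span_umon_eq_top, top_le_iff, LinearMap.ker_eq_top] at this
  exact this

end Span

end Groth.Agent.Lib.Helper16.UEA
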