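import Mathlib
import Groth.Agent.Lib.Helper16.FixFinite
import Groth.Agent.Lib.Helper16.RingCoeffDescent
import Groth.Agent.Lib.Helper16.ExtAlg

/-!
# Scheme-theoretically dominant maps over a field stay so after products (helper16)

No quasi-compactness is assumed: the argument uses coefficient ideals (`FixCore`).
-/

set_option autoImplicit false

namespace Groth.Agent.Lib.Helper16.StdField

universe u
open CategoryTheory Limits MonoidalCategory CartesianMonoidalCategory AlgebraicGeometry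
open Groth.Agent.Lib.Helper16.RingCoeff Groth.Agent.Lib.Helper16.FixCore
  Groth.Agent.Lib.Helper16.FixApp

theorem hasCoeff_of_isPushout_of_isField {K A0 R B : CommRingCat.{u}} (κ : K ⟶ A0) (ρ : K ⟶ R)
    (β : A0 ⟶ B) (φ : R ⟶ B) (H : IsPushout κ ρ β φ) (hK : IsField K) : HasCoeff φ := by
  apply hasCoeff_of_projective
  letI := κ.hom.toAlgebra
  letI := ρ.hom.toAlgebra
  letI := φ.hom.toAlgebra
  haveI : Module.Projective K A0 := Groth.Agent.Lib.Helper16.ExtAlg.projective_of_isField hK
  exact Groth.Agent.Lib.Helper16.RingCoeffDescent.projective_of_isPushout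
    (K := K) (A0 := A0) (R := R) (B := B) β H

variable {k : Type u} [Field k] {M G T X : Over (Spec (CommRingCat.of k))} (i : G ⟶ M)

theorem isField_Γ : IsField Γ(Spec (CommRingCat.of k), ⊤) :=
  MulEquiv.isField (Field.toIsField k)
    (Scheme.ΓSpecIso (CommRingCat.of k)).commRingCatIsoToRingEquiv.toMulEquiv

instance isAffineHom_fst_left [IsAffine T.left] : IsAffineHom (fst M T).left :=
  MorphismProperty.of_isPullback (P := @IsAffineHom) (IsPullback.of_hasPullback M.hom T.hom).flip
    (inferInstance : IsAffineHom T.hom)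

theorem hasCoeff_fst [IsAffine T.left] (U : M.left.affineOpens) :
    HasCoeff ((fst M T).left.app U.1) := by
  have hpb : IsPullback (fst M T).left (snd M T).left M.hom T.hom :=
    IsPullback.of_hasPullback M.hom T.hom
  have hUY : (fst M T).left ⁻¹ᵁ U.1 =
      (fst M T).left ⁻¹ᵁ U.1 ⊓ (snd M T).left ⁻¹ᵁ (⊤ : T.left.Opens) := by
    rw [Scheme.Hom.preimage_top, inf_top_eq]
  have hiso := isIso_pushoutSection_of_isAffineOpen hpb (US := ⊤) (UT := ⊤) (UX := U.1)
    le_top le_top hUY (isAffineOpen_top _) (isAffineOpen_top _) U.2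
  have hpo := (isIso_pushoutSection_iff hpb le_top le_top hUY).1 hiso
  rw [← Scheme.Hom.app_eq_appLE] at hpo
  exact hasCoeff_of_isPushout_of_isField _ _ _ _ hpo.flip (isField_Γ (k := k))

theorem std_whiskerRight_of_isAffine [IsSchemeTheoreticallyDominant i.left] [IsAffine T.left] :
    IsSchemeTheoreticallyDominant (i ▷ T).left := by
  rw [isSchemeTheoreticallyDominant_iff]
  set 𝓔 := (i ▷ T).left.ker with h𝓔
  have hc : ∀ U : M.left.affineOpens, HasCoeff ((fst M T).left.app U.1) :=
    fun U => hasCoeff_fst (M := M) (T := T) U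
  have h1 : 𝓔.comap (i ▷ T).left = ⊥ := by
    rw [comap_eq_bot_iff_le_ker]
  have sq := Groth.Agent.Lib.Helper16.FixFinite.isPullback_whiskerRight i T
  have h2 := (comap_eq_bot_iff (fst M T).left 𝓔 hc sq).1 h1
  rw [comap_eq_bot_iff_le_ker, i.left.ker_eq_bot, le_bot_iff] at h2
  have sq2 : IsPullback (𝟙 (M ⊗ T).left) (fst M T).left (fst M T).left (𝟙 M.left) :=
    IsPullback.of_horiz_isIso ⟨by simp⟩
  have h3 := (comap_eq_bot_iff (fst M T).left 𝓔 hc sq2).2 (by rw [h2]; simp)
  rwa [Scheme.IdealSheafData.comap_id] at h3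

theorem eq_of_isAffine [IsSeparated X.hom] [IsSchemeTheoreticallyDominant i.left]
    [IsAffine T.left] (f₁ f₂ : M ⊗ T ⟶ X) (h : (i ▷ T) ≫ f₁ = (i ▷ T) ≫ f₂) : f₁ = f₂ := by
  haveI := std_whiskerRight_of_isAffine (T := T) i
  haveI : IsClosedImmersion (equalizer.ι f₁ f₂).left := inferInstance
  have hl : (equalizer.lift (i ▷ T) h).left ≫ (equalizer.ι f₁ f₂).left = (i ▷ T).left := by
    rw [← Over.comp_left, equalizer.lift_ι]
  have hk : (equalizer.ι f₁ f₂).left.ker = ⊥ := by
    rw [← le_bot_iff, ← (i ▷ T).left.ker_eq_bot, ← hl]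
    exact Scheme.Hom.le_ker_comp _ _
  apply Over.OverMorphism.ext
  have := (comp_eq_iff_of_isClosedImmersion f₁ f₂ (𝟙 (M ⊗ T).left)).2
    (by rw [hk]; simp)
  simpa using this

theorem eq_of_whiskerRight_comp_eq [IsSeparated X.hom] [IsSchemeTheoreticallyDominant i.left]
    (f₁ f₂ : M ⊗ T ⟶ X) (h : (i ▷ T) ≫ f₁ = (i ▷ T) ≫ f₂) : f₁ = f₂ := by
  apply Over.OverMorphism.ext
  let 𝒰 := Scheme.Pullback.openCoverOfRight T.left.affineCover M.hom T.hom
  refine Scheme.Cover.hom_ext 𝒰 _ _ ?_
  intro (j : T.left.affineCover.I₀)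
  let Tj : Over (Spec (CommRingCat.of k)) := Over.mk (T.left.affineCover.f j ≫ T.hom)
  let ιj : Tj ⟶ T := Over.homMk (T.left.affineCover.f j) rfl
  haveI : IsAffine Tj.left := inferInstanceAs (IsAffine (T.left.affineCover.X j))
  have e1 : 𝒰.f j = (M ◁ ιj).left := by
    apply pullback.hom_ext
    · have h3 : (M ◁ ιj).left ≫ pullback.fst M.hom T.hom = pullback.fst M.hom Tj.hom :=
        congrArg (fun m => m.left) (whiskerLeft_fst M ιj)
      refine Eq.trans ?_ h3.symm
      exact (pullback.lift_fst _ _ _).trans (Category.comp_id _)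
    · have h3 : (M ◁ ιj).left ≫ pullback.snd M.hom T.hom =
          pullback.snd M.hom Tj.hom ≫ ιj.left :=
        congrArg (fun m => m.left) (whiskerLeft_snd M ιj)
      refine Eq.trans ?_ h3.symm
      exact pullback.lift_snd _ _ _
  have h2 : (M ◁ ιj) ≫ f₁ = (M ◁ ιj) ≫ f₂ := by
    apply eq_of_isAffine i
    rw [← whisker_exchange_assoc, ← whisker_exchange_assoc, h]
  rw [e1]
  exact congrArg (fun m => m.left) h2

end Groth.Agent.Lib.Helper16.StdField
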