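import Mathlib

/-!
# The unit group of a monoid scheme of finite type over a field is of finite type (helper16)
-/

set_option autoImplicit false

namespace Groth.Agent.Lib.Helper16.UnitGroup

universe u
open CategoryTheory Limits MonoidalCategory CartesianMonoidalCategory MonObj AlgebraicGeometry

variable {k : Type u} [Field k] {M G : Over (Spec (CommRingCat.of k))} [MonObj M]

/-- `(m, m') ↦ (m m', m' m)` -/
noncomputable def c (M : Over (Spec (CommRingCat.of k))) [MonObj M] : M ⊗ M ⟶ M ⊗ M :=
  lift (fst M M * snd M M) (snd M M * fst M M)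

/-- the point `(1, 1)` -/
noncomputable def e' (M : Over (Spec (CommRingCat.of k))) [MonObj M] :
    𝟙_ (Over (Spec (CommRingCat.of k))) ⟶ M ⊗ M :=
  lift (1 : _ ⟶ M) (1 : _ ⟶ M)

theorem lift_c {T : Over (Spec (CommRingCat.of k))} (m m' : T ⟶ M) :
    lift m m' ≫ c M = lift (m * m') (m' * m) := by
  unfold c
  apply CartesianMonoidalCategory.hom_ext
  · rw [Category.assoc, lift_fst, lift_fst, MonObj.comp_mul, lift_fst, lift_snd]
  · rw [Category.assoc, lift_snd, lift_snd, MonObj.comp_mul, lift_fst, lift_snd]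

theorem comp_e' {T : Over (Spec (CommRingCat.of k))} (t : T ⟶ 𝟙_ _) :
    t ≫ e' M = lift (1 : T ⟶ M) (1 : T ⟶ M) := by
  unfold e'
  apply CartesianMonoidalCategory.hom_ext
  · rw [Category.assoc, lift_fst, lift_fst, MonObj.comp_one]
  · rw [Category.assoc, lift_snd, lift_snd, MonObj.comp_one]

theorem props_e' :
    QuasiCompact (e' M).left ∧ LocallyOfFiniteType (e' M).left := by
  constructor
  · haveI : TopologicalSpace.NoetherianSpace ((𝟙_ (Over (Spec (CommRingCat.of k)))).left) :=
      inferInstanceAs (TopologicalSpace.NoetherianSpace (Spec (CommRingCat.of k)))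
    infer_instance
  · haveI : LocallyOfFiniteType ((e' M).left ≫ (M ⊗ M).hom) := by
      rw [Over.w (e' M)]
      exact inferInstanceAs (LocallyOfFiniteType (𝟙 (Spec (CommRingCat.of k))))
    exact locallyOfFiniteType_of_comp (e' M).left (M ⊗ M).hom

theorem props_tensor [LocallyOfFiniteType M.hom] [QuasiCompact M.hom] :
    QuasiCompact (M ⊗ M).hom ∧ LocallyOfFiniteType (M ⊗ M).hom := by
  have sq : IsPullback (snd M M).left (fst M M).left M.hom M.hom :=
    (IsPullback.of_hasPullback M.hom M.hom).flip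
  haveI : QuasiCompact (fst M M).left :=
    MorphismProperty.of_isPullback (P := @QuasiCompact) sq (inferInstance : QuasiCompact M.hom)
  haveI : LocallyOfFiniteType (fst M M).left :=
    MorphismProperty.of_isPullback (P := @LocallyOfFiniteType) sq
      (inferInstance : LocallyOfFiniteType M.hom)
  rw [← Over.w (fst M M)]
  exact ⟨inferInstance, inferInstance⟩

/-- The scheme of pairs of mutually inverse elements is of finite type. -/
theorem props_E [LocallyOfFiniteType M.hom] [QuasiCompact M.hom] :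
    QuasiCompact (pullback (c M) (e' M)).hom ∧ LocallyOfFiniteType (pullback (c M) (e' M)).hom := by
  obtain ⟨h1, h2⟩ := props_e' (M := M)
  obtain ⟨h3, h4⟩ := props_tensor (M := M)
  have sq := ((IsPullback.of_hasPullback (c M) (e' M)).map (Over.forget _)).flip
  haveI : QuasiCompact (pullback.fst (c M) (e' M)).left :=
    MorphismProperty.of_isPullback (P := @QuasiCompact) sq h1
  haveI : LocallyOfFiniteType (pullback.fst (c M) (e' M)).left :=
    MorphismProperty.of_isPullback (P := @LocallyOfFiniteType) sq h2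
  rw [← Over.w (pullback.fst (c M) (e' M))]
  exact ⟨inferInstance, inferInstance⟩

/-- The unit group is isomorphic to the scheme of pairs of mutually inverse elements. -/
theorem exists_iso (i : G ⟶ M) [Mono i]
    (hi : ∀ (T : Over (Spec (CommRingCat.of k))) (m : T ⟶ M),
      (∃ g : T ⟶ G, g ≫ i = m) ↔ IsUnit m) :
    Nonempty (G ≅ pullback (c M) (e' M)) := by
  obtain ⟨u, hu⟩ := (hi G i).1 ⟨𝟙 G, Category.id_comp i⟩
  let i' : G ⟶ M := ↑u⁻¹
  have h1 : i * i' = 1 := by rw [← hu]; exact u.mul_inv
  have h2 : i' * i = 1 := by rw [← hu]; exact u.inv_mul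
  let s : G ⟶ M ⊗ M := lift i i'
  have hs : s ≫ c M = toUnit G ≫ e' M := by
    rw [lift_c, comp_e', h1, h2]
  let gE : G ⟶ pullback (c M) (e' M) := pullback.lift s (toUnit G) hs
  let p := pullback.fst (c M) (e' M)
  let m₁ : pullback (c M) (e' M) ⟶ M := p ≫ fst M M
  let m₂ : pullback (c M) (e' M) ⟶ M := p ≫ snd M M
  have hp : p = lift m₁ m₂ := by
    apply CartesianMonoidalCategory.hom_ext
    · rw [lift_fst]
    · rw [lift_snd]
  have hcond : lift (m₁ * m₂) (m₂ * m₁) = lift (1 : _ ⟶ M) (1 : _ ⟶ M) := by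
    rw [← lift_c, ← hp, ← comp_e' (pullback.snd (c M) (e' M))]
    exact pullback.condition
  have h3 : m₁ * m₂ = 1 := by
    have := congrArg (fun f => f ≫ fst M M) hcond
    simpa using this
  have h4 : m₂ * m₁ = 1 := by
    have := congrArg (fun f => f ≫ snd M M) hcond
    simpa using this
  have hunit : IsUnit m₁ := ⟨⟨m₁, m₂, h3, h4⟩, rfl⟩
  obtain ⟨g, hg⟩ := (hi _ m₁).2 hunit
  refine ⟨⟨gE, g, ?_, ?_⟩⟩
  · rw [← cancel_mono i, Category.assoc, hg, Category.id_comp]
    show gE ≫ p ≫ fst M M = i
    rw [← Category.assoc, pullback.lift_fst, lift_fst]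
  · apply pullback.hom_ext
    · rw [Category.assoc, pullback.lift_fst, Category.id_comp]
      show g ≫ lift i i' = p
      rw [hp, comp_lift, hg]
      congr 1
      have h5 : (g ≫ i) * (g ≫ i') = 1 := by
        rw [← MonObj.comp_mul, h1, MonObj.comp_one]
      rw [hg] at h5
      exact (left_inv_eq_right_inv h4 h5).symm
    · exact toUnit_unique _ _

theorem main [LocallyOfFiniteType M.hom] [QuasiCompact M.hom] (i : G ⟶ M) [Mono i]
    (hi : ∀ (T : Over (Spec (CommRingCat.of k))) (m : T ⟶ M),
      (∃ g : T ⟶ G, g ≫ i = m) ↔ IsUnit m) :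
    LocallyOfFiniteType G.hom ∧ QuasiCompact G.hom := by
  obtain ⟨φ⟩ := exists_iso i hi
  obtain ⟨h1, h2⟩ := props_E (M := M)
  haveI : IsIso φ.hom.left := inferInstanceAs (IsIso ((Over.forget _).map φ.hom))
  rw [← Over.w φ.hom]
  exact ⟨inferInstance, inferInstance⟩

end Groth.Agent.Lib.Helper16.UnitGroup
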